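import Mathlib

set_option autoImplicit false

namespace Cfsg.Agent.Helper21

open scoped commutatorElement
open Subgroup

variable {G : Type*} [Group G]

/-- The three subgroups lemma modulo a normal subgroup `N`. -/
theorem three_subgroups_normal {A B C N : Subgroup G} [hN : N.Normal]
    (h1 : ⁅⁅B, C⁆, A⁆ ≤ N) (h2 : ⁅⁅C, A⁆, B⁆ ≤ N) : ⁅⁅A, B⁆, C⁆ ≤ N := by
  have key : ∀ X : Subgroup G, X ≤ N ↔ X.map (QuotientGroup.mk' N) = ⊥ := by
    intro X
    rw [Subgroup.map_eq_bot_iff, QuotientGroup.ker_mk']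
  rw [key] at h1 h2 ⊢
  rw [Subgroup.map_commutator, Subgroup.map_commutator] at h1 h2 ⊢
  exact Subgroup.commutator_commutator_eq_bot_of_rotate h1 h2

end Cfsg.Agent.Helper21
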