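import Mathlib
import Cfsg.Agent.Lib.Helper21.ThreeSubgroups

set_option autoImplicit false

/-! Polynomial sequences in a filtered group (Lazard, Leibman) and a weak form of the
Hall--Petrescu identity: in a group of class less than `p`,
`(ab)^p ≡ a^p b^p` modulo the subgroup generated by `p`-th powers of the derived subgroup. -/

namespace Cfsg.Agent.Helper21.PolySeq

open scoped commutatorElement

variable {G : Type*} [Group G]

/-- Forward difference of a sequence. -/
def D (g : ℕ → G) : ℕ → G := fun n => g (n + 1) * (g n)⁻¹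

/-- `g` is polynomial to order `r` at level `k`, relative to the filtration `F`. -/
def IsPoly (F : ℕ → Subgroup G) : ℕ → ℕ → (ℕ → G) → Prop
  | 0, k, g => ∀ n, g n ∈ F k
  | r + 1, k, g => (∀ n, g n ∈ F k) ∧ IsPoly F r (k + 1) (D g)

variable {F : ℕ → Subgroup G}

theorem IsPoly.mem {r k : ℕ} {g : ℕ → G} (h : IsPoly F r k g) (n : ℕ) : g n ∈ F k := by
  cases r with
  | zero => exact h n
  | succ r => exact h.1 n

theorem IsPoly.mono (hF : Antitone F) : ∀ {r k k' : ℕ} {g : ℕ → G}, k' ≤ k →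
    IsPoly F r k g → IsPoly F r k' g := by
  intro r
  induction r with
  | zero =>
    intro k k' g hk h n
    exact hF hk (h n)
  | succ r ih =>
    intro k k' g hk h
    exact ⟨fun n => hF hk (h.1 n), ih (Nat.succ_le_succ hk) h.2⟩

theorem IsPoly.of_succ : ∀ {r k : ℕ} {g : ℕ → G}, IsPoly F (r + 1) k g → IsPoly F r k g := by
  intro r
  induction r with
  | zero =>
    intro k g h
    exact h.1
  | succ r ih =>
    intro k g h
    exact ⟨h.1, ih h.2⟩

theorem D_one : D (1 : ℕ → G) = 1 := by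
  funext n
  simp [D]

theorem isPoly_one : ∀ (r k : ℕ), IsPoly F r k (1 : ℕ → G) := by
  intro r
  induction r with
  | zero =>
    intro k n
    exact one_mem _
  | succ r ih =>
    intro k
    refine ⟨fun n => one_mem _, ?_⟩
    rw [D_one]
    exact ih _

theorem D_mul (g h : ℕ → G) : D (g * h) = D g * ⁅g, D h⁆ * D h := by
  funext n
  simp only [D, Pi.mul_apply, commutatorElement_def, Pi.inv_apply]
  group

theorem D_inv (g : ℕ → G) : D g⁻¹ = ⁅g⁻¹, (D g)⁻¹⁆ * (D g)⁻¹ := by
  funext n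
  simp only [D, Pi.mul_apply, commutatorElement_def, Pi.inv_apply]
  group

theorem D_comm (g h : ℕ → G) :
    D ⁅g, h⁆ = (D g * ⁅g, D h⁆ * (D g)⁻¹) * ⁅D g * D h, ⁅g, h⁆⁆ *
      ⁅⁅g, h⁆, ⁅D g, D h⁆ * (D h * ⁅D g, h⁆ * (D h)⁻¹)⁆ *
      (⁅D g, D h⁆ * (D h * ⁅D g, h⁆ * (D h)⁻¹)) := by
  funext n
  simp only [D, Pi.mul_apply, commutatorElement_def, Pi.inv_apply]
  group

/-- Closure properties of polynomial sequences of order `r`. -/
structure Good (F : ℕ → Subgroup G) (r : ℕ) : Prop where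
  mul : ∀ (k : ℕ) (g h : ℕ → G), IsPoly F r k g → IsPoly F r k h → IsPoly F r k (g * h)
  inv : ∀ (k : ℕ) (g : ℕ → G), IsPoly F r k g → IsPoly F r k g⁻¹
  comm : ∀ (k l : ℕ) (g h : ℕ → G), IsPoly F r k g → IsPoly F r l h →
    IsPoly F r (k + l) ⁅g, h⁆

theorem Good.conj {r : ℕ} (hF : Antitone F) (H : Good F r) {k l : ℕ} {g u : ℕ → G}
    (hg : IsPoly F r k g) (hu : IsPoly F r l u) : IsPoly F r l (g * u * g⁻¹) := by
  have h1 : g * u * g⁻¹ = ⁅g, u⁆ * u := by
    simp only [commutatorElement_def]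
    group
  rw [h1]
  exact H.mul _ _ _ ((H.comm _ _ _ _ hg hu).mono hF (Nat.le_add_left _ _)) hu

theorem good (hF : Antitone F) (hc : ∀ i j, ⁅F i, F j⁆ ≤ F (i + j)) : ∀ r, Good F r := by
  intro r
  induction r with
  | zero =>
    refine ⟨?_, ?_, ?_⟩
    · intro k g h hg hh n
      exact mul_mem (hg n) (hh n)
    · intro k g hg n
      exact inv_mem (hg n)
    · intro k l g h hg hh n
      exact hc k l (Subgroup.commutator_mem_commutator (hg n) (hh n))
  | succ r ih =>
    refine ⟨?_, ?_, ?_⟩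
    · intro k g h hg hh
      refine ⟨fun n => mul_mem (hg.1 n) (hh.1 n), ?_⟩
      rw [D_mul]
      have h1 : IsPoly F r (k + 1) ⁅g, D h⁆ :=
        (ih.comm _ _ _ _ hg.of_succ hh.2).mono hF (by omega)
      exact ih.mul _ _ _ (ih.mul _ _ _ hg.2 h1) hh.2
    · intro k g hg
      refine ⟨fun n => inv_mem (hg.1 n), ?_⟩
      rw [D_inv]
      have h0 : IsPoly F r (k + 1) (D g)⁻¹ := ih.inv _ _ hg.2
      have h1 : IsPoly F r (k + 1) ⁅g⁻¹, (D g)⁻¹⁆ :=
        (ih.comm _ _ _ _ (ih.inv _ _ hg.of_succ) h0).mono hF (by omega)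
      exact ih.mul _ _ _ h1 h0
    · intro k l g h hg hh
      refine ⟨fun n => hc k l (Subgroup.commutator_mem_commutator (hg.1 n) (hh.1 n)), ?_⟩
      rw [D_comm]
      have hw : IsPoly F r (k + l) ⁅g, h⁆ := ih.comm _ _ _ _ hg.of_succ hh.of_succ
      have hT1 : IsPoly F r (k + l + 1) (D g * ⁅g, D h⁆ * (D g)⁻¹) :=
        ih.conj hF hg.2 ((ih.comm _ _ _ _ hg.of_succ hh.2).mono hF (by omega))
      have hab : IsPoly F r (k + l + 1) ⁅D g, D h⁆ :=
        (ih.comm _ _ _ _ hg.2 hh.2).mono hF (by omega)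
      have hay : IsPoly F r (k + l + 1) (D h * ⁅D g, h⁆ * (D h)⁻¹) :=
        ih.conj hF hh.2 ((ih.comm _ _ _ _ hg.2 hh.of_succ).mono hF (by omega))
      have hT3 : IsPoly F r (k + l + 1) (⁅D g, D h⁆ * (D h * ⁅D g, h⁆ * (D h)⁻¹)) :=
        ih.mul _ _ _ hab hay
      have hcc : IsPoly F r 1 (D g * D h) :=
        ih.mul _ _ _ (hg.2.mono hF (by omega)) (hh.2.mono hF (by omega))
      have hcw : IsPoly F r (k + l + 1) ⁅D g * D h, ⁅g, h⁆⁆ :=
        (ih.comm _ _ _ _ hcc hw).mono hF (by omega)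
      have hwT : IsPoly F r (k + l + 1)
          ⁅⁅g, h⁆, ⁅D g, D h⁆ * (D h * ⁅D g, h⁆ * (D h)⁻¹)⁆ :=
        (ih.comm _ _ _ _ hw hT3).mono hF (by omega)
      exact ih.mul _ _ _ (ih.mul _ _ _ (ih.mul _ _ _ hT1 hcw) hwT) hT3

/-- Iterated differences of a polynomial sequence lie deep in the filtration. -/
theorem IsPoly.iterate_mem : ∀ {r k : ℕ} {g : ℕ → G}, IsPoly F r k g →
    ∀ i, i ≤ r → ∀ n, (D^[i] g) n ∈ F (i + k) := by
  intro r
  induction r with
  | zero =>
    intro k g h i hi n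
    obtain rfl : i = 0 := by omega
    simpa using h n
  | succ r ih =>
    intro k g h i hi n
    cases i with
    | zero => simpa using h.1 n
    | succ i =>
      rw [Function.iterate_succ_apply]
      have := ih h.2 i (by omega) n
      rwa [show i + (k + 1) = i + 1 + k by omega] at this

theorem iterate_D_zero : ∀ (j : ℕ) (g : ℕ → G), (∀ i, i < j → g i = 1) → (D^[j] g) 0 = g j := by
  intro j
  induction j with
  | zero =>
    intro g _
    rfl
  | succ j ih =>
    intro g hg
    rw [Function.iterate_succ_apply, ih]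
    · simp [D, hg j (Nat.lt_succ_self j)]
    · intro i hi
      simp [D, hg i (by omega), hg (i + 1) (by omega)]

theorem isPoly_choose (hF : Antitone F) : ∀ (r j k : ℕ) (x : G), x ∈ F (j + k) →
    IsPoly F r k (fun n => x ^ (n.choose j)) := by
  intro r
  induction r with
  | zero =>
    intro j k x hx n
    exact hF (Nat.le_add_left _ _) (pow_mem hx _)
  | succ r ih =>
    intro j k x hx
    refine ⟨fun n => hF (Nat.le_add_left _ _) (pow_mem hx _), ?_⟩
    cases j with
    | zero =>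
      have : D (fun n => x ^ (n.choose 0)) = 1 := by
        funext n
        simp [D]
      rw [this]
      exact isPoly_one _ _
    | succ j =>
      have : D (fun n => x ^ (n.choose (j + 1))) = fun n => x ^ (n.choose j) := by
        funext n
        simp only [D]
        rw [Nat.choose_succ_succ, pow_add, mul_inv_cancel_right]
      rw [this]
      exact ih j (k + 1) x (by rwa [show j + (k + 1) = j + 1 + k by omega])

/-- Full polynomial sequences. -/
def Poly (F : ℕ → Subgroup G) (g : ℕ → G) : Prop := ∀ r, IsPoly F r 0 g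

theorem Poly.mul (hF : Antitone F) (hc : ∀ i j, ⁅F i, F j⁆ ≤ F (i + j)) {g h : ℕ → G}
    (hg : Poly F g) (hh : Poly F h) : Poly F (g * h) :=
  fun r => (good hF hc r).mul _ _ _ (hg r) (hh r)

theorem Poly.inv (hF : Antitone F) (hc : ∀ i j, ⁅F i, F j⁆ ≤ F (i + j)) {g : ℕ → G}
    (hg : Poly F g) : Poly F g⁻¹ :=
  fun r => (good hF hc r).inv _ _ (hg r)

theorem poly_pow (hF : Antitone F) {a : G} (ha : a ∈ F 1) : Poly F (fun n => a ^ n) := by
  intro r
  have := isPoly_choose hF r 1 0 a ha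
  simpa using this

/-- Peeling off Taylor coefficients. -/
theorem peel (hF : Antitone F) (hc : ∀ i j, ⁅F i, F j⁆ ≤ F (i + j)) {p : ℕ} (hp : p.Prime)
    (hFp : F p = ⊥) (M : Subgroup G) (hM : ∀ x ∈ F 2, x ^ p ∈ M) :
    ∀ (d j : ℕ), j + d = p → 2 ≤ j → ∀ g : ℕ → G, Poly F g → (∀ i, i < j → g i = 1) →
      g p ∈ M := by
  intro d
  induction d with
  | zero =>
    intro j hj _ g hg hv
    obtain rfl : j = p := by omega
    have h1 := (hg j).iterate_mem j le_rfl 0
    rw [iterate_D_zero j g hv, Nat.add_zero, hFp, Subgroup.mem_bot] at h1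
    rw [h1]
    exact one_mem _
  | succ d ih =>
    intro j hj hj2 g hg hv
    have hx : g j ∈ F j := by
      have h1 := (hg j).iterate_mem j le_rfl 0
      rwa [iterate_D_zero j g hv, Nat.add_zero] at h1
    set x := g j with hxdef
    set e : ℕ → G := fun n => x ^ (n.choose j) with hedef
    have he : Poly F e := fun r => isPoly_choose hF r j 0 x hx
    have hg' : Poly F (g * e⁻¹) := hg.mul hF hc (he.inv hF hc)
    have hv' : ∀ i, i < j + 1 → (g * e⁻¹) i = 1 := by
      intro i hi
      rcases Nat.lt_succ_iff_lt_or_eq.1 hi with h | h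
      · simp [hedef, hv i h, Nat.choose_eq_zero_of_lt h]
      · subst h
        simp [hedef, hxdef]
    have h2 := ih (j + 1) (by omega) (by omega) _ hg' hv'
    have h3 : g p = (g * e⁻¹) p * x ^ (p.choose j) := by
      simp [hedef]
    rw [h3]
    refine mul_mem h2 ?_
    obtain ⟨m, hm⟩ := hp.dvd_choose_self (by omega : j ≠ 0) (by omega : j < p)
    rw [hm, mul_comm, pow_mul]
    exact hM _ (pow_mem (hF hj2 hx) _)

/-- Weak Hall--Petrescu for an abstract filtration. -/
theorem pow_mul_pow_mem (hF : Antitone F) (hc : ∀ i j, ⁅F i, F j⁆ ≤ F (i + j)) {p : ℕ}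
    (hp : p.Prime) (hFp : F p = ⊥) (M : Subgroup G) (hM : ∀ x ∈ F 2, x ^ p ∈ M)
    {a b : G} (ha : a ∈ F 1) (hb : b ∈ F 1) :
    (b⁻¹) ^ p * (a⁻¹) ^ p * (a * b) ^ p ∈ M := by
  have h1 : Poly F (fun n => (b⁻¹) ^ n) := poly_pow hF (inv_mem hb)
  have h2 : Poly F (fun n => (a⁻¹) ^ n) := poly_pow hF (inv_mem ha)
  have h3 : Poly F (fun n => (a * b) ^ n) := poly_pow hF (mul_mem ha hb)
  have h4 := (h1.mul hF hc h2).mul hF hc h3
  have h5 := peel hF hc hp hFp M hM (p - 2) 2 (by have := hp.two_le; omega) le_rfl _ h4 (by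
    intro i hi
    interval_cases i
    · simp
    · simp)
  simpa using h5

/-! ### The lower central series as a filtration -/

theorem commutator_lcs_le (i j : ℕ) :
    ⁅(⊤ : Subgroup G).lowerCentralSeries i, (⊤ : Subgroup G).lowerCentralSeries j⁆ ≤
      (⊤ : Subgroup G).lowerCentralSeries (i + j + 1) := by
  induction j generalizing i with
  | zero =>
    rw [Subgroup.lowerCentralSeries_zero, Nat.add_zero, Subgroup.lowerCentralSeries_succ]
  | succ j ih =>
    rw [Subgroup.lowerCentralSeries_succ, Subgroup.commutator_comm]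
    apply Cfsg.Agent.Helper21.three_subgroups_normal
    · have h1 : ⁅(⊤ : Subgroup G), (⊤ : Subgroup G).lowerCentralSeries i⁆ ≤
          (⊤ : Subgroup G).lowerCentralSeries (i + 1) := by
        rw [Subgroup.commutator_comm, Subgroup.lowerCentralSeries_succ]
      refine le_trans (Subgroup.commutator_mono h1 le_rfl) ?_
      have := ih (i + 1)
      rwa [show i + 1 + j + 1 = i + (j + 1) + 1 by ring] at this
    · refine le_trans (Subgroup.commutator_mono (ih i) le_rfl) ?_
      rw [← Subgroup.lowerCentralSeries_succ, show i + j + 1 + 1 = i + (j + 1) + 1 by ring]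

/-- The lower central series, reindexed so that `lcsF 0 = lcsF 1 = ⊤` and `lcsF 2 = G'`. -/
def lcsF (G : Type*) [Group G] (k : ℕ) : Subgroup G := (⊤ : Subgroup G).lowerCentralSeries (k - 1)

theorem lcsF_antitone : Antitone (lcsF G) := by
  intro i j hij
  exact Subgroup.lowerCentralSeries_antitone _ (Nat.sub_le_sub_right hij 1)

theorem lcsF_comm (i j : ℕ) : ⁅lcsF G i, lcsF G j⁆ ≤ lcsF G (i + j) := by
  unfold lcsF
  rcases Nat.eq_zero_or_pos i with rfl | hi
  · rw [Nat.zero_add]
    exact Subgroup.commutator_le_right _ _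
  rcases Nat.eq_zero_or_pos j with rfl | hj
  · rw [Nat.add_zero]
    exact Subgroup.commutator_le_left _ _
  · have := commutator_lcs_le (G := G) (i - 1) (j - 1)
    rwa [show i - 1 + (j - 1) + 1 = i + j - 1 by omega] at this

/-- Weak Hall--Petrescu: in a group with `γ_p(G) = 1`, the element
`b^{-p} a^{-p} (ab)^p` is a product of `p`-th powers of elements of the derived subgroup. -/
theorem weak_hall_petrescu {p : ℕ} (hp : p.Prime)
    (hcl : (⊤ : Subgroup G).lowerCentralSeries (p - 1) = ⊥) (a b : G) :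
    (b⁻¹) ^ p * (a⁻¹) ^ p * (a * b) ^ p ∈
      Subgroup.closure {y : G | ∃ x ∈ commutator G, y = x ^ p} := by
  refine pow_mul_pow_mem (F := lcsF G) lcsF_antitone lcsF_comm hp hcl _ ?_ ?_ ?_
  · intro x hx
    exact Subgroup.subset_closure ⟨x, hx, rfl⟩
  · exact Subgroup.mem_top a
  · exact Subgroup.mem_top b

end Cfsg.Agent.Helper21.PolySeq
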