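import Mathlib
import Cfsg.Agent.Lib.Helper23.HKKDefs

/-!
# S3779 piece HKK-KKP (helper23's farm-out): left-normed products and permutations
-/

set_option autoImplicit false
set_option linter.unusedSectionVars false
set_option linter.unusedVariables false

namespace Cfsg.Agent.Helper23.HKK

section K

variable {L : Type*} [LieRing L]

theorem lnc_nil (v : L) : lnc v [] = v := rfl

theorem lnc_cons (v y : L) (l : List L) : lnc v (y :: l) = lnc ⁅v, y⁆ l := rfl

theorem lnc_append (v : L) (l₁ l₂ : List L) : lnc v (l₁ ++ l₂) = lnc (lnc v l₁) l₂ := by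
  unfold lnc
  rw [List.foldl_append]

theorem lnc_add (v v' : L) (l : List L) : lnc (v + v') l = lnc v l + lnc v' l := by
  induction l generalizing v v' with
  | nil => rfl
  | cons y l ih => rw [lnc_cons, lnc_cons, lnc_cons, add_lie, ih]

theorem lnc_zero (l : List L) : lnc (0 : L) l = 0 := by
  induction l with
  | nil => rfl
  | cons y l ih => rw [lnc_cons, zero_lie, ih]

theorem lnc_neg (v : L) (l : List L) : lnc (-v) l = - lnc v l := by
  induction l generalizing v with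
  | nil => rfl
  | cons y l ih => rw [lnc_cons, lnc_cons, neg_lie, ih]

theorem kkp_lnc_sub (v v' : L) (l : List L) : lnc (v - v') l = lnc v l - lnc v' l := by
  rw [sub_eq_add_neg, lnc_add, lnc_neg, ← sub_eq_add_neg]

/-- additivity in a middle entry -/
theorem lnc_add_mid (v y y' : L) (l₁ l₂ : List L) :
    lnc v (l₁ ++ (y + y') :: l₂) = lnc v (l₁ ++ y :: l₂) + lnc v (l₁ ++ y' :: l₂) := by
  rw [lnc_append, lnc_append, lnc_append, lnc_cons, lnc_cons, lnc_cons, lie_add, lnc_add]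

/-- a zero entry kills the product -/
theorem kkp_lnc_zero_mid (v : L) (l₁ l₂ : List L) : lnc v (l₁ ++ (0 : L) :: l₂) = 0 := by
  rw [lnc_append, lnc_cons, lie_zero, lnc_zero]

/-- sign in a middle entry -/
theorem kkp_lnc_neg_mid (v y : L) (l₁ l₂ : List L) :
    lnc v (l₁ ++ (-y) :: l₂) = - lnc v (l₁ ++ y :: l₂) := by
  rw [lnc_append, lnc_append, lnc_cons, lnc_cons, lie_neg, lnc_neg]

theorem lnc_mem (V N : AddSubgroup L) (hVN : ∀ v ∈ V, ∀ y ∈ N, ⁅v, y⁆ ∈ V) (v : L) (hv : v ∈ V) (l : List L)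
    (hl : ∀ y ∈ l, y ∈ N) : lnc v l ∈ V := by
  induction l generalizing v with
  | nil => exact hv
  | cons y l ih =>
    rw [lnc_cons]
    exact ih _ (hVN v hv y (hl y List.mem_cons_self)) (fun z hz => hl z (List.mem_cons_of_mem _ hz))

theorem lnc_perm (V V' N : AddSubgroup L)
    (hVN : ∀ v ∈ V, ∀ y ∈ N, ⁅v, y⁆ ∈ V) (hV'N : ∀ v ∈ V', ∀ y ∈ N, ⁅v, y⁆ ∈ V')
    (hsw : ∀ v ∈ V, ∀ x ∈ N, ∀ y ∈ N, ⁅⁅v, x⁆, y⁆ - ⁅⁅v, y⁆, x⁆ ∈ V')
    (l₁ l₂ : List L) (hperm : l₁.Perm l₂) (hl : ∀ y ∈ l₁, y ∈ N) (v : L) (hv : v ∈ V) :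
    lnc v l₁ - lnc v l₂ ∈ V' := by
  induction hperm generalizing v with
  | nil => rw [sub_self]; exact V'.zero_mem
  | cons x _ ih =>
    rw [lnc_cons, lnc_cons]
    exact ih (fun z hz => hl z (List.mem_cons_of_mem _ hz)) _ (hVN v hv x (hl x List.mem_cons_self))
  | swap x y l =>
    rw [lnc_cons, lnc_cons, lnc_cons, lnc_cons, ← kkp_lnc_sub]
    have hy : y ∈ N := hl y List.mem_cons_self
    have hx : x ∈ N := hl x (List.mem_cons_of_mem _ List.mem_cons_self)
    exact lnc_mem V' N hV'N _ (hsw v hv y hy x hx) l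
      (fun z hz => hl z (List.mem_cons_of_mem _ (List.mem_cons_of_mem _ hz)))
  | trans h₁ _ ih₁ ih₂ =>
    have h := V'.add_mem (ih₁ hl v hv) (ih₂ (fun z hz => hl z ((h₁.mem_iff).2 hz)) v hv)
    rwa [sub_add_sub_cancel] at h

/-- the degree of a left-normed product of homogeneous elements -/
theorem lnc_deg {n : ℕ} (gr : ZMod n → AddSubgroup L) (hG : Grading n gr) (a : ZMod n) (v : L) (hv : v ∈ gr a)
    (l : List (ZMod n × L)) (hl : ∀ y ∈ l, y.2 ∈ gr y.1) :
    lnc v (l.map Prod.snd) ∈ gr (a + (l.map Prod.fst).sum) := by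
  induction l generalizing a v with
  | nil =>
    rw [List.map_nil, List.map_nil, List.sum_nil, add_zero, lnc_nil]
    exact hv
  | cons y l ih =>
    rw [List.map_cons, List.map_cons, lnc_cons, List.sum_cons, ← add_assoc]
    exact ih (a + y.1) _ (hG.br a y.1 v y.2 hv (hl y List.mem_cons_self))
      (fun z hz => hl z (List.mem_cons_of_mem _ hz))

end K

end Cfsg.Agent.Helper23.HKK
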