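import Mathlib
import Cfsg.Agent.Lib.Helper23.HKKDefs
import Cfsg.Agent.Lib.Helper21.HKKKKP

/-!
# S3779 piece HKK-KKT (helper23's farm-out): the Kostrikin–Kreknin step, core version

The statements of the pieces KKS (`subset_sum`) and KKI (`lcs_der_ideal`, `lcs_der_swap`, `lcs_der_homog`) are
hypotheses here.
-/

set_option autoImplicit false
set_option linter.unusedSectionVars false
set_option linter.unusedVariables false

namespace Cfsg.Agent.Helper23.HKK

section K

variable {L : Type*} [LieRing L]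

/-- the homogeneous case -/
theorem kkt_homog {p : ℕ} (hp : p.Prime) (gr : ZMod p → AddSubgroup L) (hG : Grading p gr)
    (hKKS : ∀ (deg : L → ZMod p) (l : List L), (∀ y ∈ l, deg y ≠ 0) → l.length = p - 1 → ∀ a : ZMod p,
      ∃ l₁ l₂ : List L, l.Perm (l₁ ++ l₂) ∧ (l₁.map deg).sum = a)
    (V V' N : AddSubgroup L)
    (hVN : ∀ v ∈ V, ∀ y ∈ N, ⁅v, y⁆ ∈ V) (hV'N : ∀ v ∈ V', ∀ y ∈ N, ⁅v, y⁆ ∈ V')
    (hsw : ∀ v ∈ V, ∀ x ∈ N, ∀ y ∈ N, ⁅⁅v, x⁆, y⁆ - ⁅⁅v, y⁆, x⁆ ∈ V')
    (v : L) (hv : v ∈ V) (a : ZMod p) (hva : v ∈ gr a)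
    (l : List L) (hl : ∀ y ∈ l, y ∈ N) (hlh : ∀ y ∈ l, ∃ i, y ∈ gr i) (hlen : l.length = p - 1) :
    lnc v l ∈ V' := by
  classical
  -- a degree function
  let deg : L → ZMod p := fun y => if h : ∃ i, y ∈ gr i then Classical.choose h else 0
  have hdeg : ∀ y ∈ l, y ∈ gr (deg y) := by
    intro y hy
    have h := hlh y hy
    simp only [deg, dif_pos h]
    exact Classical.choose_spec h
  by_cases hz : ∃ y ∈ l, deg y = 0
  · -- a zero entry
    obtain ⟨y, hy, hy0⟩ := hz
    have hy1 : y = 0 := by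
      have := hdeg y hy
      rw [hy0, hG.zero, AddSubgroup.mem_bot] at this
      exact this
    obtain ⟨s, t, rfl⟩ := List.append_of_mem hy
    rw [hy1, kkp_lnc_zero_mid]
    exact V'.zero_mem
  · push Not at hz
    obtain ⟨l₁, l₂, hperm, hsum⟩ := hKKS deg l hz hlen (-a)
    have h1 := lnc_perm V V' N hVN hV'N hsw l (l₁ ++ l₂) hperm hl v hv
    have hl₁ : ∀ y ∈ l₁, y ∈ l := fun y hy => (hperm.mem_iff).2 (List.mem_append_left _ hy)
    have h2 : lnc v l₁ = 0 := by
      have h3 := lnc_deg gr hG a v hva (l₁.map (fun y => (deg y, y))) (by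
        intro y hy
        obtain ⟨z, hz1, rfl⟩ := List.mem_map.1 hy
        exact hdeg z (hl₁ z hz1))
      have e1 : (l₁.map (fun y => (deg y, y))).map Prod.snd = l₁ := by
        rw [List.map_map]
        exact List.map_id' l₁
      have e2 : (l₁.map (fun y => (deg y, y))).map Prod.fst = l₁.map deg := by
        rw [List.map_map]
        rfl
      rw [e1, e2, hsum, add_neg_cancel, hG.zero, AddSubgroup.mem_bot] at h3
      exact h3
    rw [lnc_append, h2, lnc_zero, sub_zero] at h1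
    exact h1

/-- reduction of the entries of the list to homogeneous ones -/
theorem kkt_list {p : ℕ} (gr : ZMod p → AddSubgroup L) (N V' : AddSubgroup L) (hNh : IsHomog gr N) (v : L) (m : ℕ)
    (hcore : ∀ l : List L, (∀ y ∈ l, y ∈ N) → (∀ y ∈ l, ∃ i, y ∈ gr i) → l.length = m → lnc v l ∈ V') :
    ∀ (l₂ l₁ : List L), (∀ y ∈ l₁, y ∈ N) → (∀ y ∈ l₁, ∃ i, y ∈ gr i) → (∀ y ∈ l₂, y ∈ N) →
      l₁.length + l₂.length = m → lnc v (l₁ ++ l₂) ∈ V' := by
  intro l₂
  induction l₂ with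
  | nil =>
    intro l₁ h1 h2 _ hlen
    rw [List.append_nil]
    exact hcore l₁ h1 h2 (by simpa using hlen)
  | cons y l₂ ih =>
    intro l₁ h1 h2 h3 hlen
    have hyN : y ∈ N := h3 y List.mem_cons_self
    have h3' : ∀ z ∈ l₂, z ∈ N := fun z hz => h3 z (List.mem_cons_of_mem _ hz)
    have hlen' : l₁.length + 1 + l₂.length = m := by
      rw [List.length_cons] at hlen
      omega
    have key : ∀ y' ∈ AddSubgroup.closure {x | x ∈ N ∧ ∃ i, x ∈ gr i}, lnc v (l₁ ++ y' :: l₂) ∈ V' := by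
      intro y' hy'
      induction hy' using AddSubgroup.closure_induction with
      | mem x hx =>
        have e : l₁ ++ x :: l₂ = (l₁ ++ [x]) ++ l₂ := by simp
        rw [e]
        refine ih (l₁ ++ [x]) ?_ ?_ h3' ?_
        · intro z hz
          rcases List.mem_append.1 hz with hz | hz
          · exact h1 z hz
          · rw [List.mem_singleton.1 hz]; exact hx.1
        · intro z hz
          rcases List.mem_append.1 hz with hz | hz
          · exact h2 z hz
          · rw [List.mem_singleton.1 hz]; exact hx.2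
        · rw [List.length_append, List.length_singleton]
          exact hlen'
      | zero =>
        rw [kkp_lnc_zero_mid]
        exact V'.zero_mem
      | add x x' _ _ hx hx' =>
        rw [lnc_add_mid]
        exact V'.add_mem hx hx'
      | neg x _ hx =>
        rw [kkp_lnc_neg_mid]
        exact V'.neg_mem hx
    exact key y (hNh hyN)

/-- the Kostrikin–Kreknin step, with the other pieces as hypotheses -/
theorem kk_step_core {p : ℕ} (hp : p.Prime) (gr : ZMod p → AddSubgroup L) (hG : Grading p gr)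
    (hKKS : ∀ (deg : L → ZMod p) (l : List L), (∀ y ∈ l, deg y ≠ 0) → l.length = p - 1 → ∀ a : ZMod p,
      ∃ l₁ l₂ : List L, l.Perm (l₁ ++ l₂) ∧ (l₁.map deg).sum = a)
    (V V' N : AddSubgroup L) (hNh : IsHomog gr N) (hVh : IsHomog gr V)
    (hVN : ∀ v ∈ V, ∀ y ∈ N, ⁅v, y⁆ ∈ V) (hV'N : ∀ v ∈ V', ∀ y ∈ N, ⁅v, y⁆ ∈ V')
    (hsw : ∀ v ∈ V, ∀ x ∈ N, ∀ y ∈ N, ⁅⁅v, x⁆, y⁆ - ⁅⁅v, y⁆, x⁆ ∈ V')
    (v : L) (hv : v ∈ V) (l : List L) (hl : ∀ y ∈ l, y ∈ N) (hlen : l.length = p - 1) :
    lnc v l ∈ V' := by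
  have key : ∀ x ∈ AddSubgroup.closure {x | x ∈ V ∧ ∃ i, x ∈ gr i}, lnc x l ∈ V' := by
    intro x hx'
    induction hx' using AddSubgroup.closure_induction with
    | mem x hx =>
      obtain ⟨hxV, a, hxa⟩ := hx
      have h := kkt_list gr N V' hNh x (p - 1)
        (fun l' h1 h2 h3 => kkt_homog hp gr hG hKKS V V' N hVN hV'N hsw x hxV a hxa l' h1 h2 h3)
        l [] (by simp) (by simp) hl (by simpa using hlen)
      simpa using h
    | zero =>
      rw [lnc_zero]
      exact V'.zero_mem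
    | add x x' _ _ hx hx' =>
      rw [lnc_add]
      exact V'.add_mem hx hx'
    | neg x _ hx =>
      rw [lnc_neg]
      exact V'.neg_mem hx
  exact key v (hVh hv)

end K

end Cfsg.Agent.Helper23.HKK
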