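import Mathlib

set_option autoImplicit false

namespace Cfsg.Agent.Helper21

variable {P : Type*} [Group P] [Finite P] {p : ℕ} [Fact p.Prime]

/-- A maximal subgroup of a finite `p`-group is normal. -/
theorem coatom_normal_of_isPGroup (hP : IsPGroup p P) (M : Subgroup P) (hM : IsCoatom M) :
    M.Normal := by
  haveI : Group.IsNilpotent P := hP.isNilpotent
  exact Subgroup.NormalizerCondition.normal_of_coatom _
    (Group.normalizerCondition_of_isNilpotent (G := P)) hM

/-- A maximal subgroup of a finite `p`-group has index `p`. -/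
theorem coatom_index_of_isPGroup (hP : IsPGroup p P) (M : Subgroup P) (hM : IsCoatom M) :
    M.index = p := by
  haveI := coatom_normal_of_isPGroup hP M hM
  have hQ : IsPGroup p (P ⧸ M) := hP.to_quotient M
  -- the quotient is nontrivial
  have hne : Nat.card (P ⧸ M) ≠ 1 := by
    intro h
    have : M.index = 1 := h
    rw [Subgroup.index_eq_one] at this
    exact hM.1 this
  obtain ⟨k, hk⟩ := hQ.exists_card_eq
  have hk0 : k ≠ 0 := by
    rintro rfl
    rw [pow_zero] at hk
    exact hne hk
  have hdvd : p ∣ Nat.card (P ⧸ M) := by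
    rw [hk]; exact dvd_pow_self p hk0
  obtain ⟨g, hg⟩ := exists_prime_orderOf_dvd_card' p hdvd
  -- the subgroup generated by g is everything
  have hz : Subgroup.zpowers g = ⊤ := by
    set K := Subgroup.zpowers g with hK
    have h1 : M ≤ K.comap (QuotientGroup.mk' M) := by
      intro m hm
      rw [Subgroup.mem_comap]
      have : (QuotientGroup.mk' M) m = 1 := (QuotientGroup.eq_one_iff m).mpr hm
      rw [this]; exact K.one_mem
    rcases eq_or_lt_of_le h1 with h2 | h2
    · exfalso
      have h3 : K = ⊥ := by
        have := Subgroup.map_comap_eq_self_of_surjective (QuotientGroup.mk'_surjective M) K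
        rw [← this, ← h2, QuotientGroup.map_mk'_self]
      have h4 : g = 1 := by
        have : g ∈ K := Subgroup.mem_zpowers g
        rw [h3, Subgroup.mem_bot] at this
        exact this
      rw [h4, orderOf_one] at hg
      exact (Fact.out : p.Prime).one_lt.ne hg
    · have h3 := hM.2 _ h2
      have := Subgroup.map_comap_eq_self_of_surjective (QuotientGroup.mk'_surjective M) K
      rw [← this, h3]
      exact Subgroup.map_top_of_surjective _ (QuotientGroup.mk'_surjective M)
  show Nat.card (P ⧸ M) = p
  rw [← hg, ← Nat.card_zpowers, hz, Subgroup.card_top]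

/-- In a finite `p`-group, `p`-th powers lie in the Frattini subgroup. -/
theorem pow_mem_frattini_of_isPGroup (hP : IsPGroup p P) (x : P) : x ^ p ∈ frattini P := by
  rw [frattini, Order.radical, Subgroup.mem_iInf]
  intro M
  rw [Subgroup.mem_iInf]
  intro hM
  have hM' : IsCoatom (M : Subgroup P) := hM
  haveI := coatom_normal_of_isPGroup hP M hM'
  have hidx := coatom_index_of_isPGroup hP M hM'
  rw [← hidx]
  exact Subgroup.pow_index_mem M x

/-- In a finite `p`-group, commutators lie in the Frattini subgroup. -/
theorem commutator_mem_frattini_of_isPGroup (hP : IsPGroup p P) (x y : P) :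
    x * y * x⁻¹ * y⁻¹ ∈ frattini P := by
  rw [frattini, Order.radical, Subgroup.mem_iInf]
  intro M
  rw [Subgroup.mem_iInf]
  intro hM
  have hM' : IsCoatom (M : Subgroup P) := hM
  haveI := coatom_normal_of_isPGroup hP M hM'
  have hidx := coatom_index_of_isPGroup hP M hM'
  have hcard : Nat.card (P ⧸ M) = p := hidx
  haveI : IsCyclic (P ⧸ M) := isCyclic_of_prime_card hcard
  rw [← QuotientGroup.eq_one_iff]
  have hc : ∀ a b : P ⧸ M, a * b = b * a :=
    isMulCommutative_iff.mp IsCyclic.isMulCommutative
  rw [QuotientGroup.mk_mul, QuotientGroup.mk_mul, QuotientGroup.mk_mul, QuotientGroup.mk_inv,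
    QuotientGroup.mk_inv, hc (x : P ⧸ M) (y : P ⧸ M)]
  group

end Cfsg.Agent.Helper21
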