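import Mathlib

set_option autoImplicit false

namespace Cfsg.Agent.Helper21

open scoped commutatorElement
open Subgroup

variable {G : Type*} [Group G]

/-- If `Y` is normal, `⁅X, H⁆ ≤ Y` and `⁅X, K⁆ ≤ Y` then `⁅X, H ⊔ K⁆ ≤ Y`. -/
theorem commutator_sup_right_le {X H K Y : Subgroup G} [hY : Y.Normal]
    (h1 : ⁅X, H⁆ ≤ Y) (h2 : ⁅X, K⁆ ≤ Y) : ⁅X, H ⊔ K⁆ ≤ Y := by
  let S : Subgroup G :=
    { carrier := {g | ∀ x ∈ X, ⁅x, g⁆ ∈ Y}
      one_mem' := by
        intro x _
        simp
      mul_mem' := by
        intro a b ha hb x hx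
        rw [commutatorElement_mul_right_eq_mul_conj, mul_assoc, mul_assoc]
        refine Y.mul_mem (ha x hx) ?_
        rw [← mul_assoc]
        exact hY.conj_mem _ (hb x hx) a
      inv_mem' := by
        intro a ha x hx
        rw [commutatorElement_inv_right]
        have h := ha x hx
        have h' : ⁅a, x⁆ ∈ Y := by
          rw [← commutatorElement_inv]; exact Y.inv_mem h
        have := hY.conj_mem _ h' a⁻¹
        simpa using this }
  have hH : H ≤ S := fun h hh x hx => h1 (commutator_mem_commutator hx hh)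
  have hK : K ≤ S := fun k hk x hx => h2 (commutator_mem_commutator hx hk)
  rw [commutator_le]
  intro x hx g hg
  exact (sup_le hH hK) hg x hx

/-- If `Y` is normal, `⁅H, X⁆ ≤ Y` and `⁅K, X⁆ ≤ Y` then `⁅H ⊔ K, X⁆ ≤ Y`. -/
theorem commutator_sup_left_le {X H K Y : Subgroup G} [hY : Y.Normal]
    (h1 : ⁅H, X⁆ ≤ Y) (h2 : ⁅K, X⁆ ≤ Y) : ⁅H ⊔ K, X⁆ ≤ Y := by
  rw [commutator_comm] at h1 h2 ⊢
  exact commutator_sup_right_le h1 h2

/-- Shifted lower central series: `lcsShift H 0 = ⊤`, `lcsShift H (i+1) = H.lowerCentralSeries i`. -/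
def lcsShift (H : Subgroup G) : ℕ → Subgroup G
  | 0 => ⊤
  | (i + 1) => H.lowerCentralSeries i

theorem lcsShift_normal (H : Subgroup G) [H.Normal] (i : ℕ) : (lcsShift H i).Normal := by
  cases i with
  | zero => exact Subgroup.normal_top
  | succ i => exact Subgroup.lowerCentralSeries_normal H i

theorem lcsShift_commutator_le (H : Subgroup G) [H.Normal] (i : ℕ) :
    ⁅lcsShift H i, H⁆ ≤ lcsShift H (i + 1) := by
  cases i with
  | zero => exact Subgroup.commutator_le_right _ _
  | succ i => exact le_rfl

/-- Key bound for Fitting's theorem. -/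
theorem lowerCentralSeries_sup_le (H K : Subgroup G) [hH : H.Normal] [hK : K.Normal] (n : ℕ) :
    (H ⊔ K).lowerCentralSeries n ≤
      ⨆ (i : ℕ) (j : ℕ) (_ : i + j = n + 1), lcsShift H i ⊓ lcsShift K j := by
  induction n with
  | zero =>
    rw [Subgroup.lowerCentralSeries_zero]
    apply sup_le
    · refine le_trans ?_ (le_iSup₂_of_le 1 0 (le_iSup_of_le (by norm_num) le_rfl))
      simp [lcsShift]
    · refine le_trans ?_ (le_iSup₂_of_le 0 1 (le_iSup_of_le (by norm_num) le_rfl))
      simp [lcsShift]
  | succ n ih =>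
    rw [Subgroup.lowerCentralSeries_succ]
    set T := ⨆ (i : ℕ) (j : ℕ) (_ : i + j = n + 1 + 1), lcsShift H i ⊓ lcsShift K j with hT
    have hTn : T.Normal := by
      rw [hT]
      have h1 : ∀ i j : ℕ, (lcsShift H i ⊓ lcsShift K j).Normal := fun i j => by
        have := lcsShift_normal H i
        have := lcsShift_normal K j
        infer_instance
      have h2 : ∀ (i j : ℕ), (⨆ (_ : i + j = n + 1 + 1), lcsShift H i ⊓ lcsShift K j).Normal :=
        fun i j => Subgroup.iSup_normal _
      have h3 : ∀ (i : ℕ), (⨆ (j : ℕ) (_ : i + j = n + 1 + 1), lcsShift H i ⊓ lcsShift K j).Normal :=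
        fun i => Subgroup.iSup_normal _
      exact Subgroup.iSup_normal _
    refine le_trans (Subgroup.commutator_mono ih le_rfl) ?_
    rw [Subgroup.commutator_le]
    intro x hx g hg
    -- x is in the iSup; use induction on membership
    revert g
    suffices h : x ∈ (Subgroup.comap (MonoidHom.id G) ⊤ : Subgroup G) ⊓
        { carrier := {x | ∀ g ∈ H ⊔ K, ⁅x, g⁆ ∈ T}
          one_mem' := by intro g _; simp
          mul_mem' := by
            intro a b ha hb g hg
            rw [commutatorElement_mul_left_eq_conj_mul]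
            exact T.mul_mem (hTn.conj_mem _ (hb g hg) a) (ha g hg)
          inv_mem' := by
            intro a ha g hg
            rw [commutatorElement_inv_left]
            have h1 : ⁅g, a⁆ ∈ T := by
              rw [← commutatorElement_inv]; exact T.inv_mem (ha g hg)
            have := hTn.conj_mem _ h1 a⁻¹
            simpa using this } from h.2
    refine ⟨trivial, ?_⟩
    revert x
    show (⨆ (i : ℕ) (j : ℕ) (_ : i + j = n + 1), lcsShift H i ⊓ lcsShift K j) ≤ _
    refine iSup_le fun i => iSup_le fun j => iSup_le fun hij => ?_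
    intro x hx g hg
    have hNi := lcsShift_normal H i
    have hNj := lcsShift_normal K j
    have hNi1 := lcsShift_normal H (i + 1)
    have hNj1 := lcsShift_normal K (j + 1)
    -- commutator with H lands in lcsShift H (i+1) ⊓ lcsShift K j
    have c1 : ⁅lcsShift H i ⊓ lcsShift K j, H⁆ ≤ T := by
      refine le_trans ?_ (le_iSup₂_of_le (i + 1) j (le_iSup_of_le (by omega) le_rfl))
      apply le_inf
      · exact le_trans (Subgroup.commutator_mono inf_le_left le_rfl) (lcsShift_commutator_le H i)
      · exact le_trans (Subgroup.commutator_mono inf_le_right le_rfl) (Subgroup.commutator_le_left _ _)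
    have c2 : ⁅lcsShift H i ⊓ lcsShift K j, K⁆ ≤ T := by
      refine le_trans ?_ (le_iSup₂_of_le i (j + 1) (le_iSup_of_le (by omega) le_rfl))
      apply le_inf
      · exact le_trans (Subgroup.commutator_mono inf_le_left le_rfl) (Subgroup.commutator_le_left _ _)
      · exact le_trans (Subgroup.commutator_mono inf_le_right le_rfl) (lcsShift_commutator_le K j)
    have c3 := commutator_sup_right_le c1 c2
    exact c3 (Subgroup.commutator_mem_commutator hx hg)

/-- **Fitting's theorem** with class bound. -/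
theorem lowerCentralSeries_sup_eq_bot (H K : Subgroup G) [H.Normal] [K.Normal] (c d : ℕ)
    (hH : H.lowerCentralSeries c = ⊥) (hK : K.lowerCentralSeries d = ⊥) :
    (H ⊔ K).lowerCentralSeries (c + d) = ⊥ := by
  rw [eq_bot_iff]
  refine le_trans (lowerCentralSeries_sup_le H K (c + d)) ?_
  refine iSup_le fun i => iSup_le fun j => iSup_le fun hij => ?_
  by_cases hi : c + 1 ≤ i
  · obtain ⟨i', rfl⟩ : ∃ i', i = i' + 1 := ⟨i - 1, by omega⟩
    refine le_trans inf_le_left ?_
    show H.lowerCentralSeries i' ≤ ⊥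
    rw [← hH]
    exact H.lowerCentralSeries_antitone (by omega)
  · have hj : d + 1 ≤ j := by omega
    obtain ⟨j', rfl⟩ : ∃ j', j = j' + 1 := ⟨j - 1, by omega⟩
    refine le_trans inf_le_right ?_
    show K.lowerCentralSeries j' ≤ ⊥
    rw [← hK]
    exact K.lowerCentralSeries_antitone (by omega)

/-- **Fitting's theorem**: the join of two normal nilpotent subgroups is nilpotent. -/
theorem isNilpotent_sup (H K : Subgroup G) [H.Normal] [K.Normal]
    (hH : Group.IsNilpotent H) (hK : Group.IsNilpotent K) : Group.IsNilpotent (H ⊔ K : Subgroup G) := by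
  obtain ⟨c, hc⟩ := (Subgroup.isNilpotent_iff_lowerCentralSeries H).mp hH
  obtain ⟨d, hd⟩ := (Subgroup.isNilpotent_iff_lowerCentralSeries K).mp hK
  exact (Subgroup.isNilpotent_iff_lowerCentralSeries _).mpr
    ⟨c + d, lowerCentralSeries_sup_eq_bot H K c d hc hd⟩

end Cfsg.Agent.Helper21
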