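import Mathlib
import Cfsg.Prelude.Def_Solvable
import Cfsg.Agent.Lib.Helper21.Fitting

set_option autoImplicit false

namespace Cfsg.Agent.Helper21

open Subgroup

variable {G : Type*} [Group G]

theorem card_inf_mul_relIndex (K L : Subgroup G) :
    Nat.card (K ⊓ L : Subgroup G) * K.relIndex L = Nat.card L := by
  have := Subgroup.relIndex_inf_mul_relIndex (⊥ : Subgroup G) K L
  rwa [Subgroup.relIndex_bot_left, bot_inf_eq, Subgroup.relIndex_bot_left] at this

/-- If `F` is normal, then `|F : H ⊓ F| = |H ⊔ F : H|`. -/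
theorem relIndex_sup_eq_of_normal [Finite G] (H F : Subgroup G) [F.Normal] :
    H.relIndex (H ⊔ F) = H.relIndex F := by
  set L := H ⊔ F with hL
  have e1 := card_inf_mul_relIndex H F
  have e2 := card_inf_mul_relIndex F H
  have e3 := card_inf_mul_relIndex H L
  have e4 := card_inf_mul_relIndex F L
  rw [inf_of_le_left (le_sup_left : H ≤ L)] at e3
  rw [inf_of_le_left (le_sup_right : F ≤ L), hL, Subgroup.relIndex_sup_right, ← hL] at e4
  rw [inf_comm] at e2
  have hpos : 0 < Nat.card (H ⊓ F : Subgroup G) := Nat.card_pos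
  have hposH : 0 < Nat.card H := Nat.card_pos
  have key : Nat.card (H ⊓ F : Subgroup G) * (Nat.card H * H.relIndex L) =
      Nat.card (H ⊓ F : Subgroup G) * (Nat.card H * H.relIndex F) := by
    rw [e3, ← e4]
    calc Nat.card (H ⊓ F : Subgroup G) * (Nat.card F * F.relIndex H)
        = Nat.card F * (Nat.card (H ⊓ F : Subgroup G) * F.relIndex H) := by ring
      _ = Nat.card F * Nat.card H := by rw [e2]
      _ = (Nat.card (H ⊓ F : Subgroup G) * H.relIndex F) * Nat.card H := by rw [e1]
      _ = Nat.card (H ⊓ F : Subgroup G) * (Nat.card H * H.relIndex F) := by ring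
  exact Nat.eq_of_mul_eq_mul_left hposH (Nat.eq_of_mul_eq_mul_left hpos key)

theorem relIndex_dvd_index_of_normal_right [Finite G] (H F : Subgroup G) [F.Normal] :
    H.relIndex F ∣ H.index := by
  rw [← relIndex_sup_eq_of_normal H F]
  exact Subgroup.relIndex_dvd_index_of_le le_sup_left

/-- In a finite nilpotent group, `y ^ [N : K] ∈ K` for every subgroup `K`. -/
theorem pow_index_mem_of_isNilpotent {N : Type*} [Group N] [Finite N] [hN : Group.IsNilpotent N]
    (K : Subgroup N) (y : N) : y ^ K.index ∈ K := by
  induction h : K.index using Nat.strong_induction_on generalizing K with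
  | _ n ih =>
    by_cases hK : K = ⊤
    · rw [hK]; trivial
    · have hlt : K < Subgroup.normalizer (K : Set N) :=
        Group.normalizerCondition_of_isNilpotent K (lt_top_iff_ne_top.mpr hK)
      set K₁ := Subgroup.normalizer (K : Set N) with hK₁
      have hidx : K₁.index < n := by
        rw [← h]; exact Subgroup.index_strictAnti hlt
      have h1 : y ^ K₁.index ∈ K₁ := ih _ hidx K₁ rfl
      have hnorm : (K.subgroupOf K₁).Normal := Subgroup.normal_in_normalizer
      have h2 := Subgroup.pow_index_mem (K.subgroupOf K₁) ⟨y ^ K₁.index, h1⟩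
      rw [Subgroup.mem_subgroupOf] at h2
      simp only [Subgroup.coe_pow] at h2
      have h3 : K.relIndex K₁ * K₁.index = K.index := Subgroup.relIndex_mul_index hlt.le
      rw [← h, ← h3, mul_comm, pow_mul]
      exact h2

theorem fittingSubgroup_normal (G : Type*) [Group G] : (Cfsg.fittingSubgroup G).Normal :=
  Subgroup.sSup_normal _ (fun _ h => h.1)

/-- The Fitting subgroup of a finite group is nilpotent. -/
theorem fittingSubgroup_isNilpotent (G : Type*) [Group G] [Finite G] :
    Group.IsNilpotent (Cfsg.fittingSubgroup G) := by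
  set S : Set (Subgroup G) := {N : Subgroup G | N.Normal ∧ Group.IsNilpotent N} with hS
  have hfin : S.Finite := Set.toFinite S
  have hne : S.Nonempty := ⟨⊥, Subgroup.normal_bot, inferInstance⟩
  obtain ⟨M, hM⟩ := hfin.exists_maximal hne
  have hMS : M ∈ S := hM.1
  have hle : ∀ N ∈ S, N ≤ M := by
    intro N hN
    have hMn : M.Normal := hMS.1
    have hNn : N.Normal := hN.1
    have hsup : M ⊔ N ∈ S := ⟨inferInstance, isNilpotent_sup M N hMS.2 hN.2⟩
    have := hM.2 hsup le_sup_left
    exact le_trans le_sup_right this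
  have heq : Cfsg.fittingSubgroup G = M :=
    le_antisymm (sSup_le hle) (le_sSup hMS)
  rw [heq]
  exact hMS.2

/-- Elements of the Fitting subgroup satisfy `x ^ [G : H] ∈ H` for all subgroups `H`. -/
theorem pow_index_mem_of_mem_fittingSubgroup [Finite G] {x : G} (hx : x ∈ Cfsg.fittingSubgroup G)
    (H : Subgroup G) : x ^ H.index ∈ H := by
  set F := Cfsg.fittingSubgroup G with hF
  have hFn : F.Normal := fittingSubgroup_normal G
  have hFnil : Group.IsNilpotent F := fittingSubgroup_isNilpotent G
  have h1 := pow_index_mem_of_isNilpotent (H.subgroupOf F) ⟨x, hx⟩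
  rw [Subgroup.mem_subgroupOf] at h1
  simp only [Subgroup.coe_pow] at h1
  obtain ⟨k, hk⟩ := relIndex_dvd_index_of_normal_right H F
  rw [hk, pow_mul]
  exact H.pow_mem h1 k

end Cfsg.Agent.Helper21
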