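import Mathlib
import Cfsg.Agent.S4347

set_option autoImplicit false

namespace Cfsg.Agent.Helper21

variable {G : Type*} [Group G] [Finite G]

/-- Elements of a Klein four Sylow subgroup. -/
theorem klein_sylow_setup (P : Sylow 2 G) (hP : IsKleinFour (P : Subgroup G)) :
    ∃ a b : G, a ∈ P ∧ b ∈ P ∧ a ≠ 1 ∧ b ≠ 1 ∧ a ≠ b ∧
      (∀ x ∈ P, x = 1 ∨ x = a ∨ x = b ∨ x = a * b) ∧
      (∀ x ∈ P, x * x = 1) ∧ (∀ x ∈ P, ∀ y ∈ P, x * y = y * x) := by
  classical
  haveI := hP
  have hcard : Nat.card (P : Subgroup G) = 4 := IsKleinFour.card_four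
  have := Fintype.ofFinite (P : Subgroup G)
  -- a nontrivial element
  have h1 : ∃ a : (P : Subgroup G), a ≠ 1 := by
    by_contra hcon
    push Not at hcon
    have : Nat.card (P : Subgroup G) ≤ 1 := by
      rw [Nat.card_eq_fintype_card]
      exact Fintype.card_le_one_iff.mpr (fun x y => by rw [hcon x, hcon y])
    omega
  obtain ⟨a, ha⟩ := h1
  have h2 : ∃ b : (P : Subgroup G), b ≠ 1 ∧ b ≠ a := by
    by_contra hcon
    push Not at hcon
    have hsub : (Finset.univ : Finset (P : Subgroup G)) ⊆ {1, a} := by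
      intro x _
      by_cases hx : x = 1
      · simp [hx]
      · simp [hcon x hx]
    have := Finset.card_le_card hsub
    rw [Finset.card_univ, ← Nat.card_eq_fintype_card, hcard] at this
    have h3 : ({1, a} : Finset (P : Subgroup G)).card ≤ 2 := Finset.card_le_two
    omega
  obtain ⟨b, hb, hba⟩ := h2
  have huniv := IsKleinFour.eq_finset_univ ha hb hba.symm
  refine ⟨a, b, a.2, b.2, ?_, ?_, ?_, ?_, ?_, ?_⟩
  · intro h; exact ha (Subtype.ext h)
  · intro h; exact hb (Subtype.ext h)
  · intro h; exact hba (Subtype.ext h.symm)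
  · intro x hx
    have hmem : (⟨x, hx⟩ : (P : Subgroup G)) ∈ ({a * b, a, b, 1} : Finset (P : Subgroup G)) := by
      rw [huniv]; exact Finset.mem_univ _
    simp only [Finset.mem_insert, Finset.mem_singleton] at hmem
    rcases hmem with h | h | h | h
    · right; right; right
      have := congrArg Subtype.val h
      simpa using this
    · right; left
      exact congrArg Subtype.val h
    · right; right; left
      exact congrArg Subtype.val h
    · left
      exact congrArg Subtype.val h
  · intro x hx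
    have := IsKleinFour.mul_self (⟨x, hx⟩ : (P : Subgroup G))
    exact congrArg Subtype.val this
  · intro x hx y hy
    have := isMulCommutative_iff.mp (IsKleinFour.isMulCommutative (G := (P : Subgroup G)))
      ⟨x, hx⟩ ⟨y, hy⟩
    exact congrArg Subtype.val this

/-- An involution is conjugate to an element of any Sylow 2-subgroup. -/
theorem involution_conj_into_sylow (P : Sylow 2 G) (t : G) (ht : orderOf t = 2) :
    ∃ g : G, g⁻¹ * t * g ∈ P := by
  have hz : IsPGroup 2 (Subgroup.zpowers t) := by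
    apply IsPGroup.of_card (n := 1)
    rw [Nat.card_zpowers, ht, pow_one]
  obtain ⟨Q, hQ⟩ := hz.exists_le_sylow
  obtain ⟨g, hg⟩ := MulAction.exists_smul_eq G P Q
  have hxQ : t ∈ Q := hQ (Subgroup.mem_zpowers _)
  rw [← hg, Cfsg.Agent.S4347.mem_smul_sylow] at hxQ
  exact ⟨g, hxQ⟩

/-- Key fusion claim: if two distinct involutions `x, y` of a Klein four Sylow subgroup are
conjugate, then `y` is conjugate to the third involution `x * y`. -/
theorem klein_fusion (P : Sylow 2 G) (hP : IsKleinFour (P : Subgroup G)) (x y : G)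
    (hx : x ∈ P) (hy : y ∈ P) (hx1 : x ≠ 1) (hy1 : y ≠ 1) (hxy : x ≠ y) (hconj : IsConj x y) :
    IsConj y (x * y) := by
  obtain ⟨a, b, ha, hb, ha1, hb1, hab, hall, hsq, hcomm⟩ := klein_sylow_setup P hP
  haveI : IsMulCommutative (P : Subgroup G) := by
    haveI := hP
    exact IsKleinFour.isMulCommutative
  obtain ⟨g, hg⟩ := isConj_iff.mp hconj
  have hy' : (g⁻¹)⁻¹ * x * g⁻¹ ∈ P := by rw [inv_inv, hg]; exact hy
  obtain ⟨n, hn, hnx⟩ := P.conj_eq_normalizer_conj_of_mem x g⁻¹ hx hy'
  rw [inv_inv, hg] at hnx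
  -- hnx : y = n⁻¹ * x * n
  have hnP : ∀ z ∈ P, n⁻¹ * z * n ∈ P := by
    intro z hz
    have := (Subgroup.mem_normalizer_iff''.mp hn z).mp hz
    exact this
  set w := n⁻¹ * y * n with hw
  have hwP : w ∈ P := hnP y hy
  have hw1 : w ≠ 1 := by
    intro h
    apply hy1
    have := congrArg (fun z => n * z * n⁻¹) h
    simpa [hw, mul_assoc] using this
  have hwy : w ≠ y := by
    intro h
    apply hxy
    rw [hnx] at h
    have := congrArg (fun z => n * z * n⁻¹) h
    simpa [hw, mul_assoc] using this.symm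
  have hxyP : x * y ∈ P := (P : Subgroup G).mul_mem hx hy
  -- the four elements of P are 1, x, y, x*y
  have hfour : ∀ z ∈ P, z = 1 ∨ z = x ∨ z = y ∨ z = x * y := by
    intro z hz
    by_contra hcon
    push Not at hcon
    obtain ⟨hz1, hzx, hzy, hzxy⟩ := hcon
    -- five distinct elements in a group of order four
    classical
    have := Fintype.ofFinite (P : Subgroup G)
    have hcard : Nat.card (P : Subgroup G) = 4 := by haveI := hP; exact IsKleinFour.card_four
    have hxxy : x * y ≠ x := by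
      intro h; exact hy1 (mul_left_cancel (a := x) (by rw [h, mul_one]))
    have hyxy : x * y ≠ y := by
      intro h; exact hx1 (mul_right_cancel (b := y) (by rw [h, one_mul]))
    have hxy1 : x * y ≠ 1 := by
      intro h
      have h2 := hsq x hx
      exact hxy (mul_left_cancel (a := x) (h2.trans h.symm))
    let S : Finset (P : Subgroup G) :=
      {⟨z, hz⟩, ⟨1, (P : Subgroup G).one_mem⟩, ⟨x, hx⟩, ⟨y, hy⟩, ⟨x * y, hxyP⟩}
    have hS : S.card = 5 := by
      simp only [S]
      rw [Finset.card_insert_of_notMem, Finset.card_insert_of_notMem,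
        Finset.card_insert_of_notMem, Finset.card_insert_of_notMem, Finset.card_singleton]
      · simp only [Finset.mem_singleton, Subtype.mk.injEq]; exact fun h => hyxy h.symm
      · simp only [Finset.mem_insert, Finset.mem_singleton, Subtype.mk.injEq, not_or]
        exact ⟨hxy, fun h => hxxy h.symm⟩
      · simp only [Finset.mem_insert, Finset.mem_singleton, Subtype.mk.injEq, not_or]
        exact ⟨fun h => hx1 h.symm, fun h => hy1 h.symm, fun h => hxy1 h.symm⟩
      · simp only [Finset.mem_insert, Finset.mem_singleton, Subtype.mk.injEq, not_or]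
        exact ⟨hz1, hzx, hzy, hzxy⟩
    have := Finset.card_le_univ S
    rw [hS, ← Nat.card_eq_fintype_card, hcard] at this
    omega
  rcases hfour w hwP with h | h | h | h
  · exact absurd h hw1
  · -- swap case: contradiction
    exfalso
    have hswap1 : n⁻¹ * x * n = y := hnx.symm
    have hswap2 : n⁻¹ * y * n = x := h
    have hpow : ∀ i : ℕ, (n ^ (2 * i))⁻¹ * x * n ^ (2 * i) = x ∧
        (n ^ (2 * i + 1))⁻¹ * x * n ^ (2 * i + 1) = y := by
      intro i
      induction i with
      | zero => simp [hswap1]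
      | succ i ih =>
        have e1 : (n ^ (2 * (i + 1)))⁻¹ * x * n ^ (2 * (i + 1)) =
            n⁻¹ * ((n ^ (2 * i + 1))⁻¹ * x * n ^ (2 * i + 1)) * n := by
          rw [show 2 * (i + 1) = (2 * i + 1) + 1 by ring, pow_succ]
          group
        have e2 : (n ^ (2 * (i + 1)))⁻¹ * x * n ^ (2 * (i + 1)) = x := by
          rw [e1, ih.2, hswap2]
        refine ⟨e2, ?_⟩
        have e3 : (n ^ (2 * (i + 1) + 1))⁻¹ * x * n ^ (2 * (i + 1) + 1) =
            n⁻¹ * ((n ^ (2 * (i + 1)))⁻¹ * x * n ^ (2 * (i + 1))) * n := by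
          rw [pow_succ]
          group
        rw [e3, e2, hswap1]
    obtain ⟨k, m, hm, hkm⟩ := Nat.exists_eq_two_pow_mul_odd (orderOf_pos n).ne'
    obtain ⟨i, rfl⟩ := hm
    set u := n ^ (2 * i + 1) with hu
    have huN : u ∈ Subgroup.normalizer (P : Set G) :=
      (Subgroup.normalizer (P : Set G)).pow_mem hn _
    have hupow : u ^ (2 ^ k) = 1 := by
      rw [hu, ← pow_mul, mul_comm, ← hkm, pow_orderOf_eq_one]
    have hz : IsPGroup 2 (Subgroup.zpowers u) := by
      have hdvd : orderOf u ∣ 2 ^ k := orderOf_dvd_of_pow_eq_one hupow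
      obtain ⟨j, _, hj⟩ := (Nat.dvd_prime_pow Nat.prime_two).mp hdvd
      apply IsPGroup.of_card (n := j)
      rw [Nat.card_zpowers, hj]
    have hinf := hz.inf_normalizer_sylow P
    have huP : u ∈ (P : Subgroup G) := by
      have : u ∈ Subgroup.zpowers u ⊓ Subgroup.normalizer (P : Set G) :=
        ⟨Subgroup.mem_zpowers u, huN⟩
      rw [hinf] at this
      exact this.2
    have h5 := (hpow i).2
    have h6 : u⁻¹ * x * u = x := by
      rw [mul_assoc, hcomm x hx u huP, inv_mul_cancel_left]
    rw [h6] at h5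
    exact hxy h5
  · exact absurd h hwy
  · rw [isConj_iff]
    refine ⟨n⁻¹, ?_⟩
    rw [inv_inv, ← h]

/-- The classes of involutions are the classes of the three involutions of a Klein four Sylow
2-subgroup. -/
theorem klein_involution_classes (P : Sylow 2 G) (hP : IsKleinFour (P : Subgroup G)) :
    ∃ a b : G, a ∈ P ∧ b ∈ P ∧ a ≠ 1 ∧ b ≠ 1 ∧ a ≠ b ∧
      (∀ x ∈ P, x = 1 ∨ x = a ∨ x = b ∨ x = a * b) ∧
      (∀ x ∈ P, x * x = 1) ∧ (∀ x ∈ P, ∀ y ∈ P, x * y = y * x) ∧
      {C : ConjClasses G | ∃ t : G, orderOf t = 2 ∧ ConjClasses.mk t = C} =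
        {ConjClasses.mk a, ConjClasses.mk b, ConjClasses.mk (a * b)} := by
  obtain ⟨a, b, ha, hb, ha1, hb1, hab, hall, hsq, hcomm⟩ := klein_sylow_setup P hP
  refine ⟨a, b, ha, hb, ha1, hb1, hab, hall, hsq, hcomm, ?_⟩
  haveI : Fact (Nat.Prime 2) := ⟨Nat.prime_two⟩
  have hord : ∀ x ∈ P, x ≠ 1 → orderOf x = 2 := by
    intro x hx hx1
    apply orderOf_eq_prime _ hx1
    rw [pow_two]; exact hsq x hx
  have habP : a * b ∈ P := (P : Subgroup G).mul_mem ha hb
  have hab1 : a * b ≠ 1 := by
    intro h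
    exact hab (mul_left_cancel (a := a) ((hsq a ha).trans h.symm))
  ext C
  simp only [Set.mem_ofPred_eq, Set.mem_insert_iff, Set.mem_singleton_iff]
  constructor
  · rintro ⟨t, ht, rfl⟩
    obtain ⟨g, hg⟩ := involution_conj_into_sylow P t ht
    have hne : g⁻¹ * t * g ≠ 1 := by
      intro h
      have h3 : t = 1 := by
        have := congrArg (fun z => g * z * g⁻¹) h
        simpa [mul_assoc] using this
      rw [h3, orderOf_one] at ht
      omega
    have hconj : ConjClasses.mk t = ConjClasses.mk (g⁻¹ * t * g) := by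
      rw [ConjClasses.mk_eq_mk_iff_isConj, isConj_iff]
      exact ⟨g⁻¹, by rw [inv_inv]⟩
    rw [hconj]
    rcases hall _ hg with h | h | h | h
    · exact absurd h hne
    · left; rw [h]
    · right; left; rw [h]
    · right; right; rw [h]
  · rintro (rfl | rfl | rfl)
    · exact ⟨a, hord a ha ha1, rfl⟩
    · exact ⟨b, hord b hb hb1, rfl⟩
    · exact ⟨a * b, hord _ habP hab1, rfl⟩

end Cfsg.Agent.Helper21
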