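import Mathlib

set_option autoImplicit false

namespace Cfsg.Agent.Helper21

variable {G : Type*} [Group G]

/-- In a finite `p`-group `P`, a proper subgroup `A` is properly contained in its normalizer
in `P`. -/
theorem exists_mem_normalizer_not_mem [Finite G] {p : ℕ} [Fact p.Prime] {P A : Subgroup G}
    (hP : IsPGroup p P) (hAP : A ≤ P) (hne : A ≠ P) :
    ∃ n ∈ P, n ∉ A ∧ n ∈ Subgroup.normalizer (A : Set G) := by
  have : Group.IsNilpotent P := hP.isNilpotent
  have hnc : NormalizerCondition P := Group.normalizerCondition_of_isNilpotent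
  have hlt : A.subgroupOf P < ⊤ := by
    rw [lt_top_iff_ne_top]
    intro h
    rw [Subgroup.subgroupOf_eq_top] at h
    exact hne (le_antisymm hAP h)
  have h2 := hnc _ hlt
  obtain ⟨n, hn1, hn2⟩ := SetLike.exists_of_lt h2
  refine ⟨(n : G), n.2, ?_, ?_⟩
  · intro h
    exact hn2 (Subgroup.mem_subgroupOf.mpr h)
  · apply Subgroup.mem_normalizer_fintype
    intro a ha
    have ha' : (⟨a, hAP ha⟩ : P) ∈ A.subgroupOf P := Subgroup.mem_subgroupOf.mpr ha
    have := (Subgroup.mem_normalizer_iff.mp hn1 ⟨a, hAP ha⟩).mp ha'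
    rw [Subgroup.mem_subgroupOf] at this
    simpa using this

/-- Alperin–Lyons key lemma: let `S` be a subset of a finite `p`-group `P` normalized by `P`,
and `Q` a subgroup not containing `S`.  Then some element of `S` outside `Q` normalizes the
subgroup generated by `S ∩ Q`. -/
theorem exists_mem_normalizer_closure_inter [Finite G] {p : ℕ} [Fact p.Prime] {P : Subgroup G}
    (hP : IsPGroup p P) (S : Set G) (hSP : S ⊆ P)
    (hnorm : ∀ g ∈ P, ∀ s ∈ S, g * s * g⁻¹ ∈ S) (Q : Subgroup G) (hSQ : ¬ S ⊆ Q) :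
    ∃ s ∈ S, s ∉ Q ∧ s ∈ Subgroup.normalizer (Subgroup.closure (S ∩ Q) : Set G) := by
  set D := Subgroup.closure (S ∩ (Q : Set G)) with hD
  have hDP : D ≤ P := (Subgroup.closure_le _).mpr (fun x hx => hSP hx.1)
  have hDQ : D ≤ Q := (Subgroup.closure_le _).mpr (fun x hx => hx.2)
  set F : Set (Subgroup G) := {A : Subgroup G | D ≤ A ∧ A ≤ P ∧ S ∩ (A : Set G) ⊆ Q} with hF
  have hfin : F.Finite := Set.toFinite F
  have hne : F.Nonempty := ⟨D, le_refl _, hDP, fun x hx => hDQ hx.2⟩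
  obtain ⟨A, hA⟩ := hfin.exists_maximal hne
  obtain ⟨hDA, hAP, hSA⟩ := hA.1
  have hAneP : A ≠ P := by
    intro h
    apply hSQ
    intro s hs
    exact hSA ⟨hs, h ▸ hSP hs⟩
  -- S ∩ A = S ∩ Q
  have hSAQ : S ∩ (A : Set G) = S ∩ (Q : Set G) := by
    apply Set.Subset.antisymm
    · intro x hx
      exact ⟨hx.1, hSA hx⟩
    · intro x hx
      exact ⟨hx.1, hDA (Subgroup.subset_closure hx)⟩
  -- N_P(A)
  set N : Subgroup G := Subgroup.normalizer (A : Set G) ⊓ P with hN
  have hAN : A ≤ N := le_inf Subgroup.le_normalizer hAP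
  have hNP : N ≤ P := inf_le_right
  obtain ⟨n, hnP, hnA, hnN⟩ := exists_mem_normalizer_not_mem hP hAP hAneP
  have hNnotF : N ∉ F := by
    intro hNF
    have := hA.2 hNF hAN
    exact hnA (this ⟨hnN, hnP⟩)
  have hSN : ¬ S ∩ (N : Set G) ⊆ Q := by
    intro h
    exact hNnotF ⟨hDA.trans hAN, hNP, h⟩
  rw [Set.not_subset] at hSN
  obtain ⟨s, ⟨hsS, hsN⟩, hsQ⟩ := hSN
  refine ⟨s, hsS, hsQ, ?_⟩
  -- s normalizes A and S, hence S ∩ A = S ∩ Q, hence D
  have hsP : s ∈ P := hNP hsN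
  have hsA : s ∈ Subgroup.normalizer (A : Set G) := hsN.1
  have key : ∀ g ∈ N, ∀ d ∈ D, g * d * g⁻¹ ∈ D := by
    intro g hg d hd
    have hgP : g ∈ P := hNP hg
    have hgA : g ∈ Subgroup.normalizer (A : Set G) := hg.1
    have : D ≤ D.comap (MulAut.conj g).toMonoidHom := by
      rw [hD, Subgroup.closure_le]
      intro x hx
      rw [← hSAQ] at hx
      show (MulAut.conj g) x ∈ D
      rw [MulAut.conj_apply]
      apply Subgroup.subset_closure
      rw [← hSAQ]
      refine ⟨hnorm g hgP x hx.1, ?_⟩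
      exact (Subgroup.mem_normalizer_iff.mp hgA x).mp hx.2
    have h2 := this hd
    simpa [MulAut.conj_apply] using h2
  apply Subgroup.mem_normalizer_fintype
  intro d hd
  exact key s hsN d hd

open Pointwise in
theorem mem_smul_sylow_iff {p : ℕ} (g x : G) (P : Sylow p G) :
    x ∈ g • P ↔ g⁻¹ * x * g ∈ P := by
  have h : x ∈ g • P ↔ x ∈ (MulAut.conj g • (P : Subgroup G)) := by
    rw [← Sylow.coe_subgroup_smul]; rfl
  rw [h, Subgroup.mem_pointwise_smul_iff_inv_smul_mem]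
  simp [MulAut.smul_def]
  rfl

/-- Cardinality of `K ∩ P` is invariant under conjugation of the Sylow subgroup `P`, for a
conjugation-invariant set `K`. -/
theorem ncard_inter_sylow_eq [Finite G] {p : ℕ} [Fact p.Prime] (K : Set G)
    (hconj : ∀ g x : G, x ∈ K → g * x * g⁻¹ ∈ K) (P Q : Sylow p G) :
    (K ∩ (P : Set G)).ncard = (K ∩ (Q : Set G)).ncard := by
  obtain ⟨g, rfl⟩ := MulAction.exists_smul_eq G P Q
  have himg : K ∩ ((g • P : Sylow p G) : Set G) = (fun x => g * x * g⁻¹) '' (K ∩ (P : Set G)) := by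
    ext y
    constructor
    · rintro ⟨hyK, hyP⟩
      refine ⟨g⁻¹ * y * g, ⟨?_, ?_⟩, ?_⟩
      · have := hconj g⁻¹ y hyK
        simpa using this
      · have h1 : y ∈ (g • P : Sylow p G) := hyP
        rw [mem_smul_sylow_iff] at h1
        exact h1
      · simp [mul_assoc]
    · rintro ⟨x, ⟨hxK, hxP⟩, rfl⟩
      refine ⟨hconj g x hxK, ?_⟩
      show g * x * g⁻¹ ∈ (g • P : Sylow p G)
      rw [mem_smul_sylow_iff]
      simpa [mul_assoc] using hxP
  rw [himg]
  apply (Set.ncard_image_of_injective _ _).symm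
  intro a b hab
  simpa using hab

/-- **Baer–Suzuki**, set form (Alperin–Lyons): if `K` is a conjugation-invariant subset of a
finite group such that any two elements of `K` generate a `p`-group, then `K` is contained in
every Sylow `p`-subgroup. -/
theorem subset_sylow_of_pairwise_isPGroup [Finite G] {p : ℕ} [Fact p.Prime] (K : Set G)
    (hconj : ∀ g x : G, x ∈ K → g * x * g⁻¹ ∈ K)
    (hpair : ∀ x ∈ K, ∀ y ∈ K, IsPGroup p (Subgroup.closure ({x, y} : Set G)))
    (P₀ : Sylow p G) : K ⊆ (P₀ : Set G) := by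
  by_contra hcon
  rw [Set.not_subset] at hcon
  obtain ⟨x₀, hx₀K, hx₀P⟩ := hcon
  -- a bad pair exists
  set B : Set (Sylow p G × Sylow p G) :=
    {PQ | K ∩ (PQ.1 : Set G) ≠ K ∩ (PQ.2 : Set G)} with hB
  have hBne : B.Nonempty := by
    obtain ⟨Q, hQ⟩ := (hpair x₀ hx₀K x₀ hx₀K).exists_le_sylow
    have hxQ : x₀ ∈ Q := hQ (Subgroup.subset_closure (by simp))
    refine ⟨(P₀, Q), ?_⟩
    intro h
    have : x₀ ∈ K ∩ (Q : Set G) := ⟨hx₀K, hxQ⟩
    rw [← h] at this
    exact hx₀P this.2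
  have hBfin : B.Finite := Set.toFinite B
  obtain ⟨⟨P, Q⟩, hPQ, hmax⟩ :=
    Set.exists_max_image B (fun PQ => (K ∩ (PQ.1 : Set G) ∩ (PQ.2 : Set G)).ncard) hBfin hBne
  have hPQ' : K ∩ (P : Set G) ≠ K ∩ (Q : Set G) := hPQ
  have hcard := ncard_inter_sylow_eq K hconj P Q
  have hKPQ : ¬ K ∩ (P : Set G) ⊆ (Q : Subgroup G) := by
    intro h
    apply hPQ'
    have hsub : K ∩ (P : Set G) ⊆ K ∩ (Q : Set G) := fun x hx => ⟨hx.1, h hx⟩
    exact Set.eq_of_subset_of_ncard_le hsub hcard.ge (Set.toFinite _)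
  have hKQP : ¬ K ∩ (Q : Set G) ⊆ (P : Subgroup G) := by
    intro h
    apply hPQ'
    have hsub : K ∩ (Q : Set G) ⊆ K ∩ (P : Set G) := fun x hx => ⟨hx.1, h hx⟩
    exact (Set.eq_of_subset_of_ncard_le hsub hcard.le (Set.toFinite _)).symm
  obtain ⟨x, hxS, hxQ, hxN⟩ := exists_mem_normalizer_closure_inter P.2 (K ∩ (P : Set G))
    (fun x hx => hx.2) (fun g hg s hs => ⟨hconj g s hs.1, (P : Subgroup G).mul_mem
      ((P : Subgroup G).mul_mem hg hs.2) ((P : Subgroup G).inv_mem hg)⟩) (Q : Subgroup G) hKPQ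
  obtain ⟨y, hyS, hyP, hyN⟩ := exists_mem_normalizer_closure_inter Q.2 (K ∩ (Q : Set G))
    (fun x hx => hx.2) (fun g hg s hs => ⟨hconj g s hs.1, (Q : Subgroup G).mul_mem
      ((Q : Subgroup G).mul_mem hg hs.2) ((Q : Subgroup G).inv_mem hg)⟩) (P : Subgroup G) hKQP
  have hset : K ∩ (Q : Set G) ∩ ((P : Subgroup G) : Set G) =
      K ∩ (P : Set G) ∩ ((Q : Subgroup G) : Set G) := Set.inter_right_comm _ _ _
  rw [hset] at hyN
  set D := Subgroup.closure (K ∩ (P : Set G) ∩ ((Q : Subgroup G) : Set G)) with hD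
  have hDP : D ≤ P := (Subgroup.closure_le _).mpr (fun z hz => hz.1.2)
  have hDp : IsPGroup p D := P.2.to_le hDP
  set T := Subgroup.closure ({x, y} : Set G) with hT
  have hTp : IsPGroup p T := hpair x hxS.1 y hyS.1
  have hTN : T ≤ Subgroup.normalizer (D : Set G) := by
    rw [hT, Subgroup.closure_le]
    intro z hz
    rcases hz with rfl | rfl
    · exact hxN
    · exact hyN
  have hDT : IsPGroup p (D ⊔ T : Subgroup G) := hDp.to_sup_of_normal_left' hTp hTN
  obtain ⟨R, hR⟩ := hDT.exists_le_sylow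
  have hDR : D ≤ R := le_sup_left.trans hR
  have hxR : x ∈ R := hR (Subgroup.mem_sup_right (Subgroup.subset_closure (by simp)))
  have hyR : y ∈ R := hR (Subgroup.mem_sup_right (Subgroup.subset_closure (by simp)))
  have hPR : K ∩ (P : Set G) = K ∩ (R : Set G) := by
    by_contra hne
    have hle := hmax (P, R) hne
    simp only at hle
    have hlt : (K ∩ (P : Set G) ∩ (Q : Set G)).ncard < (K ∩ (P : Set G) ∩ (R : Set G)).ncard := by
      apply Set.ncard_lt_ncard _ (Set.toFinite _)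
      refine ⟨fun z hz => ⟨hz.1, hDR (Subgroup.subset_closure hz)⟩, ?_⟩
      intro h
      exact hxQ (h ⟨hxS, hxR⟩).2
    omega
  have hQR : K ∩ (Q : Set G) = K ∩ (R : Set G) := by
    by_contra hne
    have hle := hmax (Q, R) hne
    simp only at hle
    have hlt : (K ∩ (P : Set G) ∩ (Q : Set G)).ncard < (K ∩ (Q : Set G) ∩ (R : Set G)).ncard := by
      apply Set.ncard_lt_ncard _ (Set.toFinite _)
      refine ⟨fun z hz => ⟨⟨hz.1.1, hz.2⟩, hDR (Subgroup.subset_closure hz)⟩, ?_⟩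
      intro h
      exact hyP (h ⟨hyS, hyR⟩).1.2
    omega
  exact hPQ' (hPR.trans hQR.symm)

/-- **Baer–Suzuki**: a `p`-subgroup `X` of a finite group such that `X` and any of its conjugates
generate a `p`-group is contained in a normal `p`-subgroup. -/
theorem baer_suzuki [Finite G] {p : ℕ} [Fact p.Prime] (X : Subgroup G)
    (h : ∀ g : G, IsPGroup p ↥(X ⊔ X.map (MulAut.conj g).toMonoidHom)) :
    ∃ N : Subgroup G, N.Normal ∧ IsPGroup p N ∧ X ≤ N := by
  set K : Set G := {y | ∃ g : G, ∃ x ∈ X, y = g * x * g⁻¹} with hK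
  have hconj : ∀ g x : G, x ∈ K → g * x * g⁻¹ ∈ K := by
    rintro g _ ⟨k, x, hx, rfl⟩
    exact ⟨g * k, x, hx, by group⟩
  have hpair : ∀ a ∈ K, ∀ b ∈ K, IsPGroup p (Subgroup.closure ({a, b} : Set G)) := by
    rintro _ ⟨g, x, hx, rfl⟩ _ ⟨k, y, hy, rfl⟩
    have h1 := h (g⁻¹ * k)
    have h2 : IsPGroup p ((X ⊔ X.map (MulAut.conj (g⁻¹ * k)).toMonoidHom).map
        (MulAut.conj g).toMonoidHom) := h1.map _
    apply h2.to_le
    rw [Subgroup.closure_le]
    intro z hz
    rcases hz with rfl | rfl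
    · refine ⟨x, Subgroup.mem_sup_left hx, ?_⟩
      simp [MulAut.conj_apply]
    · refine ⟨g⁻¹ * k * y * (g⁻¹ * k)⁻¹, Subgroup.mem_sup_right ⟨y, hy, ?_⟩, ?_⟩
      · simp only [MulEquiv.coe_toMonoidHom, MulAut.conj_apply]
      · simp only [MulEquiv.coe_toMonoidHom, MulAut.conj_apply]
        group
  obtain ⟨P⟩ : Nonempty (Sylow p G) := inferInstance
  have hKP := subset_sylow_of_pairwise_isPGroup K hconj hpair
  refine ⟨(P : Subgroup G).normalCore, Subgroup.normalCore_normal _,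
    P.2.to_le (Subgroup.normalCore_le _), ?_⟩
  intro x hx
  show ∀ b : G, b * x * b⁻¹ ∈ (P : Subgroup G)
  intro b
  exact hKP P ⟨b, x, hx, rfl⟩

end Cfsg.Agent.Helper21
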