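import Mathlib
import Cfsg.Agent.Lib.Helper21.FittingSubgroup
import Cfsg.Agent.Lib.Helper21.BaerSuzuki

set_option autoImplicit false

namespace Cfsg.Agent.Helper21

open Subgroup

variable {G : Type*} [Group G]

/-- Second isomorphism theorem for indices: if `H` normalizes `F` then
`[H ⊔ F : H] = [F : H ⊓ F]`. -/
theorem relIndex_sup_eq_of_le_normalizer [Finite G] (H F : Subgroup G)
    (h : H ≤ normalizer (F : Set G)) : H.relIndex (H ⊔ F) = H.relIndex F := by
  set L := H ⊔ F with hL
  have hHL : H ≤ L := le_sup_left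
  have hFL : F ≤ L := le_sup_right
  have hLn : L ≤ normalizer (F : Set G) := sup_le h le_normalizer
  haveI : (F.subgroupOf L).Normal := (normal_subgroupOf_iff_le_normalizer hFL).mpr hLn
  have h1 := relIndex_sup_eq_of_normal (H.subgroupOf L) (F.subgroupOf L)
  rw [← subgroupOf_sup hHL hFL, ← hL, subgroupOf_self, relIndex_top_right,
    relIndex_subgroupOf hFL] at h1
  exact h1

/-- Frattini-type identity: `N_G(PK) = K N_G(P)` for a Sylow subgroup `P` and normal `K`. -/
theorem normalizer_sylow_sup_normal [Finite G] {p : ℕ} [Fact p.Prime] (P : Sylow p G)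
    (K : Subgroup G) [K.Normal] :
    normalizer (((P : Subgroup G) ⊔ K : Subgroup G) : Set G) =
      K ⊔ normalizer ((P : Subgroup G) : Set G) := by
  apply le_antisymm
  · intro g hg
    -- g • P ≤ P ⊔ K
    have hPL : (P : Subgroup G) ≤ (P : Subgroup G) ⊔ K := le_sup_left
    have hgP : ((g • P : Sylow p G) : Subgroup G) ≤ (P : Subgroup G) ⊔ K := by
      intro x hx
      have hx' : x ∈ (g • P : Sylow p G) := hx
      rw [mem_smul_sylow_iff] at hx'
      have h1 : g⁻¹ * x * g ∈ (P : Subgroup G) ⊔ K := hPL hx'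
      have h2 := (mem_normalizer_iff.mp hg _).mp h1
      have h3 : g * (g⁻¹ * x * g) * g⁻¹ = x := by group
      rw [h3] at h2
      exact h2
    obtain ⟨l, hl⟩ := MulAction.exists_smul_eq ((P : Subgroup G) ⊔ K : Subgroup G)
      (P.subtype hPL) ((g • P).subtype hgP)
    rw [Sylow.smul_subtype] at hl
    have hl' : (l : G) • P = g • P := Sylow.subtype_injective hl
    have h2 : ((l : G)⁻¹ * g) • P = P := by
      rw [mul_smul, ← hl', smul_smul, inv_mul_cancel, one_smul]
    rw [Sylow.smul_eq_iff_mem_normalizer] at h2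
    have h3 : g = (l : G) * ((l : G)⁻¹ * g) := by group
    rw [h3]
    apply mul_mem
    · have : ((P : Subgroup G) ⊔ K : Subgroup G) ≤ K ⊔ normalizer ((P : Subgroup G) : Set G) :=
        sup_le (le_normalizer.trans le_sup_right) le_sup_left
      exact this l.2
    · exact mem_sup_right h2
  · apply sup_le
    · exact (le_sup_right : K ≤ (P : Subgroup G) ⊔ K).trans le_normalizer
    · intro g hg
      apply mem_normalizer_fintype
      intro x hx
      have hx' : x ∈ (P : Subgroup G) ⊔ K := hx
      rw [mem_sup_of_normal_right] at hx'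
      obtain ⟨y, hy, z, hz, rfl⟩ := hx'
      have : g * (y * z) * g⁻¹ = (g * y * g⁻¹) * (g * z * g⁻¹) := by group
      rw [SetLike.mem_coe, this]
      apply mul_mem
      · exact mem_sup_left ((mem_normalizer_iff.mp hg y).mp hy)
      · exact mem_sup_right (Normal.conj_mem inferInstance z hz g)

/-- The number of Sylow `p`-subgroups of `G ⧸ K` is `[G : K N_G(P)]`. -/
theorem card_sylow_quotient [Finite G] {p : ℕ} [Fact p.Prime] (P : Sylow p G)
    (K : Subgroup G) [K.Normal] :
    Nat.card (Sylow p (G ⧸ K)) = (K ⊔ normalizer ((P : Subgroup G) : Set G)).index := by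
  have hs := QuotientGroup.mk'_surjective K
  let Pb : Sylow p (G ⧸ K) := P.mapSurjective hs
  rw [Sylow.card_eq_index_normalizer Pb]
  have h1 : (normalizer ((Pb : Subgroup (G ⧸ K)) : Set (G ⧸ K))).index =
      ((normalizer ((Pb : Subgroup (G ⧸ K)) : Set (G ⧸ K))).comap (QuotientGroup.mk' K)).index :=
    (Subgroup.index_comap_of_surjective _ hs).symm
  have h2 : (Pb : Subgroup (G ⧸ K)).comap (QuotientGroup.mk' K) = (P : Subgroup G) ⊔ K := by
    rw [Sylow.coe_mapSurjective, comap_map_eq, QuotientGroup.ker_mk']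
  have h3 := comap_normalizer_eq_of_surjective (Pb : Subgroup (G ⧸ K)) hs
  rw [h2, normalizer_sylow_sup_normal] at h3
  rw [← h3]
  exact h1

/-- Factoring out a normal `p`-subgroup does not change the number of Sylow `p`-subgroups. -/
theorem card_sylow_quotient_of_le [Finite G] {p : ℕ} [Fact p.Prime] (P : Sylow p G)
    (R : Subgroup G) [R.Normal] (hR : R ≤ P) :
    Nat.card (Sylow p (G ⧸ R)) = Nat.card (Sylow p G) := by
  rw [card_sylow_quotient P R, sup_of_le_right (hR.trans le_normalizer),
    Sylow.card_eq_index_normalizer P]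
  rfl

/-- The number of Sylow `p`-subgroups of a normal subgroup `K` is `[K : N_K(P ∩ K)]`. -/
theorem card_sylow_normal [Finite G] {p : ℕ} [Fact p.Prime] (P : Sylow p G)
    (K : Subgroup G) [K.Normal] :
    Nat.card (Sylow p K) =
      (normalizer (((P : Subgroup G) ⊓ K : Subgroup G) : Set G)).relIndex K := by
  have hR : IsPGroup p (((P : Subgroup G) ⊓ K).subgroupOf K) :=
    (P.2.to_le inf_le_left).comap_subtype
  have hidx : ¬ p ∣ (((P : Subgroup G) ⊓ K).subgroupOf K).index := by
    have h1 : (((P : Subgroup G) ⊓ K).subgroupOf K).index = (P : Subgroup G).relIndex K :=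
      inf_relIndex_right _ _
    rw [h1]
    intro hdvd
    exact P.not_dvd_index (hdvd.trans (relIndex_dvd_index_of_normal_right (P : Subgroup G) K))
  rw [Sylow.card_eq_index_normalizer (hR.toSylow hidx)]
  show (normalizer ((((P : Subgroup G) ⊓ K).subgroupOf K : Subgroup K) : Set K)).index = _
  rw [← subgroupOf_normalizer_eq inf_le_right]
  rfl

end Cfsg.Agent.Helper21
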