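import Mathlib
import Cfsg.Prelude.Def_Blocks
import Cfsg.Agent.Lib.Helper24.CharLinear
import Cfsg.Agent.Lib.Helper24.CharInduced
import Cfsg.Agent.Lib.Helper10.BR996Defs

/-!
# S0997 (Brauer–Tuan): definitions for the farm-out

See `plans/S0997_proof.md` and the skeleton `plans/BT997_Skel.lean.txt`.
-/

set_option autoImplicit false

namespace Cfsg.Agent.Helper21.BT

open scoped ComplexConjugate
open Cfsg Cfsg.Agent.Helper24 Cfsg.Agent.Helper10.BR996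

universe u

/-- `BrauerData` (S0996) plus: the place of the principal character, the relation on `p`-regular elements, and the
inner products of the exceptional characters on `P ∖ 1`. -/
structure BTData {G : Type u} [Group G] [Fintype G] (p : ℕ) (P : Subgroup G) (w t : ℕ)
    extends BrauerData p P w t where
  one_memX : 2 ≤ t → principalChar G ∈ X
  orth : ∀ θ ∈ Y, ∀ g : G, ¬ p ∣ orderOf g →
    (d0 : ℂ) * (θ : G → ℂ) g + ∑ χ ∈ X, (sg χ : ℂ) * (χ : G → ℂ) g = 0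
  selfY : ∀ θ ∈ Y, dsum P (fun g => (θ : G → ℂ) g * conj ((θ : G → ℂ) g)) =
    (p : ℂ) * (w : ℂ) - (w : ℂ) ^ 2
  crossY : ∀ θ ∈ Y, ∀ θ' ∈ Y, θ ≠ θ' →
    dsum P (fun g => (θ : G → ℂ) g * conj ((θ' : G → ℂ) g)) = -(w : ℂ) ^ 2

/-- The numerical shadow of the principal `p`-block of a simple group of order `p q^b g0`, `g0 < p - 1`,
with `C_G(P) = P`: `ι` indexes the irreducible characters, `deg` the degrees, `a` the weights
`A(χ) = ⟨χ|_P, 1_P⟩`, `r = |G : N_G(P)|`. -/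
structure Num (ι : Type*) [Fintype ι] [DecidableEq ι] where
  deg : ι → ℕ
  a : ι → ℕ
  X : Finset ι
  Y : Finset ι
  sg : ι → ℤ
  d0 : ℤ
  one : ι
  p : ℕ
  q : ℕ
  b : ℕ
  g0 : ℕ
  w : ℕ
  t : ℕ
  r : ℕ
  hp : p.Prime
  hq : q.Prime
  hpq : p ≠ q
  hwt : p = w * t + 1
  hw : 2 ≤ w
  hcard : w * r = q ^ b * g0
  hg0 : g0 < p - 1
  hr : r % p = 1
  disj : Disjoint X Y
  cardX : X.card = w
  cardY : Y.card = t
  sg_pm : ∀ i ∈ X, sg i = 1 ∨ sg i = -1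
  d0_pm : d0 = 1 ∨ d0 = -1
  one_mem : one ∈ X ∪ Y
  one_memX : 2 ≤ t → one ∈ X
  sg_one : one ∈ X → sg one = 1
  deg_one : deg one = 1
  eq_one : ∀ i, deg i = 1 → i = one
  deg_pos : ∀ i, 0 < deg i
  hwX : ∀ i ∈ X, (p : ℤ) * a i = deg i + sg i * ((p : ℤ) - 1)
  hwY : ∀ i ∈ Y, (p : ℤ) * a i = deg i + d0 * w
  hwD : ∀ i, i ∉ X → i ∉ Y → p * a i = deg i
  degY : ∀ i ∈ Y, ∀ j ∈ Y, deg i = deg j
  hdvd : ∀ i, deg i ∣ p * q ^ b * g0
  degeq : ∀ j ∈ Y, ∑ i ∈ X, sg i * (deg i : ℤ) + d0 * deg j = 0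
  faith : ∀ i, i ≠ one → p ≤ 2 * deg i + 1

namespace Num

variable {ι : Type*} [Fintype ι] [DecidableEq ι] (N : Num ι)

/-- The output of the Delta trick (`Ξ = θ conj θ`, `Ξ' = θ conj θ'`, `θ ≠ θ'` exceptional): multiplicities
`m1`, `m2` of `Ξ`, `Ξ'`; `x0` is the degree of the exceptional characters. -/
def HasDelta (x0 : ℕ) : Prop :=
  ∃ m1 m2 : ι → ℕ, (∀ i ∈ N.X, (m1 i : ℤ) - (m2 i : ℤ) = N.sg i) ∧
    ∑ i, m1 i * N.deg i = x0 ^ 2 ∧ ∑ i, m2 i * N.deg i = x0 ^ 2 ∧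
    N.p * ∑ i, m1 i * N.a i + N.w ^ 2 = x0 ^ 2 + N.p * N.w ∧
    N.p * ∑ i, m2 i * N.a i + N.w ^ 2 = x0 ^ 2

/-- The output of the principal `2`-block step: `S` = the members of `X` in the principal `2`-block,
`c = 1` iff the exceptional characters are in it; `x0` is the degree of the exceptional characters. -/
def HasBlk (x0 : ℕ) : Prop :=
  ∃ (S : Finset ι) (c : ℤ), S ⊆ N.X ∧ (c = 0 ∨ c = 1) ∧ (N.one ∈ N.X → N.one ∈ S) ∧
    (∀ i ∈ S, i ≠ N.one → ∀ k : ℕ, N.deg i ≠ 2 ^ k) ∧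
    ∀ k : ℕ, 2 ^ k ∣ N.p * N.q ^ N.b * N.g0 →
      ((2 : ℤ) ^ k) ∣ ∑ i ∈ S, N.sg i * (N.deg i : ℤ) + c * N.d0 * (x0 : ℤ)

/-- The conclusions of the structure step (sections 1, 2 of the paper proof) common to both cases; `x0` is the degree
of the exceptional characters. -/
structure Struct (x0 : ℕ) : Prop where
  ht : 2 ≤ N.t
  hb : 1 ≤ N.b
  degY : ∀ j ∈ N.Y, N.deg j = x0
  hg : N.g0 = x0
  hqx : ¬ N.q ∣ x0
  hqX : ∀ i ∈ N.X, i ≠ N.one → N.q ∣ N.deg i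

end Num

end Cfsg.Agent.Helper21.BT
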