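import Mathlib
import Cfsg.Prelude.Def_Blocks
import Cfsg.Agent.Lib.Helper24.CharLinear
import Cfsg.Agent.Lib.Helper24.CharInduced
import Cfsg.Agent.Lib.Helper24.CharComplete
import Cfsg.Agent.Lib.Helper10.BR996Defs
import Cfsg.Agent.Lib.Helper21.BTDefs
import Cfsg.Agent.Lib.Helper10.BR996Asm
import Cfsg.Agent.Lib.Helper14.BRW1
import Cfsg.Agent.Lib.Helper17.BTRED
import Cfsg.Agent.Lib.Helper5.BTADAPT2
import Cfsg.Agent.Lib.Helper24.BTNUMDATA
import Cfsg.Agent.Lib.Helper12.BTDELTA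
import Cfsg.Agent.Lib.Helper23.BTBLKASM
import Cfsg.Agent.Lib.Helper7.BTNUMS
import Cfsg.Agent.Lib.Helper7.BTNUMA
import Cfsg.Agent.Lib.Helper2.BTNUMB0
import Cfsg.Agent.Lib.Helper2.BTNUMB1
import Cfsg.Agent.Lib.Helper25.BTNUMB2A
import Cfsg.Agent.Lib.Helper4.BTNUMB2B
import Cfsg.Agent.Lib.Helper4.BTNUMB2C

/-!
# S0997 (Brauer–Tuan): the assembly

Paper proof: `plans/S0997_proof.md`; skeleton: `plans/BT997_Skel.lean.txt`.  Pieces by helpers 2, 4, 5, 7, 12, 17, 18,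
23, 24, 25, 27; the endgame is `Cfsg.Agent.Helper10.BR996.Asm.main` (S0996).
-/

set_option autoImplicit false
set_option linter.unusedSectionVars false
set_option linter.unusedVariables false
set_option linter.style.haveILetI false

namespace Cfsg.Agent.Helper21.BT

open scoped ComplexConjugate
open Cfsg Cfsg.Agent.Helper24 Cfsg.Agent.Helper10.BR996

universe u

/-! ## ASSEMBLY -/

namespace Num

variable {ι : Type*} [Fintype ι] [DecidableEq ι] (N : Num ι)

theorem final (hΔ : ∀ x0, N.Struct x0 → N.HasDelta x0) (hB : ∀ x0, N.Struct x0 → N.HasBlk x0) :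
    (∃ m : ℕ, N.p = 2 ^ m + 1 ∨ N.p = 2 ^ m - 1) ∧ 2 * N.r < (N.p + 1) * (N.p + 2) := by
  obtain ⟨x0, hS, hcase⟩ := N.exists_struct
  have hD := hΔ x0 hS
  have hBk := hB x0 hS
  have hp2 : 2 ≤ N.p := N.hp.two_le
  rcases hcase with ⟨hd0, hxw, ht, haY⟩ | ⟨hd0, hxw, haY⟩
  · obtain ⟨hq2, ⟨m, hm⟩, hr⟩ := N.caseA hS hd0 hxw ht haY hD hBk
    refine ⟨⟨m, Or.inr (by omega)⟩, ?_⟩
    rw [hr]; nlinarith
  · obtain ⟨hq2, c, hc1, hwc⟩ := N.caseB_basic hS hd0 hxw haY
    rcases Nat.lt_or_ge c 2 with h | h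
    · have hc : c = 1 := by omega
      have hw2 : N.w = 2 := by rw [hwc, hc]; rfl
      obtain ⟨⟨m, hm⟩, hr⟩ := N.caseB1 hS hd0 hxw haY hq2 hw2 hBk
      refine ⟨⟨m, Or.inl hm⟩, ?_⟩
      rw [hr]
      have h1 : N.p - 1 ≤ N.p + 1 := by omega
      have h2 : N.p - 2 < N.p + 2 := by omega
      calc (N.p - 1) * (N.p - 2) ≤ (N.p + 1) * (N.p - 2) := Nat.mul_le_mul_right _ h1
        _ < (N.p + 1) * (N.p + 2) := Nat.mul_lt_mul_of_pos_left h2 (by omega)
    · have ht := N.caseB2_t hS hd0 hxw haY hq2 c h hwc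
      obtain ⟨hdeg, hE⟩ := N.caseB2_deg hS hd0 hxw haY hq2 c h hwc ht hD
      have hr := N.caseB2_r hS hd0 hxw hq2 c h hwc ht hdeg hE hBk
      refine ⟨⟨c + 1, Or.inl ?_⟩, ?_⟩
      · have := N.hwt
        rw [ht, hwc] at this
        rw [this, pow_succ]
      · rw [hr]; nlinarith

end Num


section

variable {G : Type u} [Group G] [Fintype G] [Fintype (IrrCharacter G)]

theorem main_aux [IsSimpleGroup G] (hG : ¬ IsCyclic G) (p q b g₀ : ℕ) [hpF : Fact p.Prime]
    (hq : q.Prime) (hpq : p ≠ q) (hG' : Nat.card G = p * q ^ b * g₀) (hg : g₀ < p - 1) :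
    ∃ P : Subgroup G, Nat.card P = p ∧ Subgroup.centralizer (P : Set G) ≤ P ∧
      (∃ m : ℕ, p = 2 ^ m + 1 ∨ p = 2 ^ m - 1) ∧
      2 * (Subgroup.normalizer (P : Set G)).index < (p + 1) * (p + 2) := by
  classical
  have hp : p.Prime := hpF.out
  obtain ⟨P, hcard, hcent⟩ := exists_selfCentralizing hG p q b g₀ hp hq hpq hG' hg
  refine ⟨P, hcard, hcent, ?_⟩
  have hg0pos : 0 < g₀ := by
    rcases Nat.eq_zero_or_pos g₀ with h | h
    · rw [h, mul_zero] at hG'
      have := Nat.card_pos (α := G)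
      omega
    · exact h
  have hp2 : p ≠ 2 := by omega
  obtain ⟨D⟩ := exists_btData p P hp2 hcard hcent
  obtain ⟨N, hNdeg, hNa, hNX, hNY, hNsg, hNd0, hNone, hNp, hNq, hNb, hNg0, hNw, hNt, hNr⟩ :=
    exists_num p P hG q b g₀ hq hpq hG' hg hcard hcent _ _ rfl rfl D
  have hdeg : ∀ χ : IrrCharacter G, N.deg χ = charDegree (χ : G → ℂ) := fun χ => congrFun hNdeg χ
  have hfin := N.final ?_ ?_
  · rw [hNp, hNr] at hfin
    exact hfin
  · -- the Delta trick
    intro x0 hS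
    have ht2 : 1 < D.Y.card := by
      rw [D.cardY, ← hNt]
      exact hS.ht
    obtain ⟨θ, hθ, θ', hθ', hne⟩ := Finset.one_lt_card.mp ht2
    obtain ⟨m1, m2, h1, h2, h3, h4, h5⟩ :=
      delta_mult p P hcard hcent _ _ rfl D θ θ' hθ hθ' hne N.a hNa
    have hx0 : charDegree (θ : G → ℂ) = x0 := by
      have := hS.degY θ (by rw [hNY]; exact hθ)
      rw [hdeg] at this
      exact this
    rw [hx0] at h2 h3 h4 h5
    refine ⟨m1, m2, ?_, ?_, ?_, ?_, ?_⟩
    · intro i hi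
      rw [hNsg]
      exact h1 i (by rw [← hNX]; exact hi)
    · simp only [hdeg]
      exact h2
    · simp only [hdeg]
      exact h3
    · rw [hNp, hNw]
      exact h4
    · rw [hNp, hNw]
      exact h5
  · -- the principal 2-block
    intro x0 hS
    have hYne : D.Y.Nonempty := by
      rw [← Finset.card_pos, D.cardY, ← hNt]
      have := hS.ht
      omega
    obtain ⟨θ₀, hθ₀⟩ := hYne
    obtain ⟨S, c, hSX, hc, hone, hpow, hdvd⟩ := exists_blk p P hG hp2 hcard hcent _ _ D θ₀ hθ₀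
    have hx0 : charDegree (θ₀ : G → ℂ) = x0 := by
      have := hS.degY θ₀ (by rw [hNY]; exact hθ₀)
      rw [hdeg] at this
      exact this
    refine ⟨S, c, by rw [hNX]; exact hSX, hc, ?_, ?_, ?_⟩
    · rw [hNone, hNX]
      exact hone
    · intro i hi hne k
      rw [hdeg]
      exact hpow i hi (by rw [← hNone]; exact hne) k
    · intro k hk
      have h := hdvd k (by rw [hG', ← hNp, ← hNq, ← hNb, ← hNg0]; exact hk)
      rw [hx0] at h
      simp only [hNsg, hdeg, hNd0]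
      exact h

end


/-- **Brauer–Tuan** (S0997). -/
theorem main {G : Type u} [Group G] [Finite G] [IsSimpleGroup G] (hG : ¬ IsCyclic G)
    (p q b g₀ : ℕ) (hp : p.Prime) (hq : q.Prime) (hpq : p ≠ q)
    (hG' : Nat.card G = p * q ^ b * g₀) (hg : g₀ < p - 1) :
    (∃ (m : ℕ) (F : Type) (_ : Field F) (_ : Fintype F), Fintype.card F = p ∧
        (p = 2 ^ m + 1 ∨ p = 2 ^ m - 1) ∧
        Nonempty (G ≃* Matrix.ProjectiveSpecialLinearGroup (Fin 2) F)) ∨
      (∃ (m : ℕ) (F : Type) (_ : Field F) (_ : Fintype F), Fintype.card F = 2 ^ m ∧ p = 2 ^ m + 1 ∧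
        3 < p ∧ Nonempty (G ≃* Matrix.ProjectiveSpecialLinearGroup (Fin 2) F)) := by
  classical
  haveI : Fintype G := Fintype.ofFinite G
  haveI : Fintype (IrrCharacter G) := Cfsg.Agent.Helper24.irrFintype
  haveI : Fact p.Prime := ⟨hp⟩
  have hperf : commutator G = ⊤ := Cfsg.Agent.Helper14.BRW.perfect_of_simple hG
  obtain ⟨P, hcard, hcent, ⟨m, hm⟩, hr⟩ := main_aux hG p q b g₀ hq hpq hG' hg
  obtain ⟨n, hidx⟩ := Cfsg.Agent.Helper10.BR996.exists_index_eq p P hcard hcent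
  have hn' : 2 * n ≤ p + 1 := by
    rw [hidx] at hr
    have h1 : 2 * n * p < (p + 3) * p := by nlinarith
    have h2 : 2 * n < p + 3 := lt_of_mul_lt_mul_right h1 (Nat.zero_le p)
    have hp2 : 2 ≤ p := hp.two_le
    have hg0pos : 0 < g₀ := by
      rcases Nat.eq_zero_or_pos g₀ with h | h
      · rw [h, mul_zero] at hG'
        have := Nat.card_pos (α := G)
        omega
      · exact h
    have hodd : p ≠ 2 := by omega
    have hodd' : ¬ 2 ∣ p := by
      intro h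
      have := (Nat.prime_dvd_prime_iff_eq Nat.prime_two hp).mp h
      omega
    omega
  rcases Cfsg.Agent.Helper10.BR996.Asm.main p P hperf hcard hcent n hidx hn' with
    ⟨F, iF, iF', hF, -, hiso⟩ | h
  · exact Or.inl ⟨m, F, iF, iF', hF, hm, hiso⟩
  · exact Or.inr h


end Cfsg.Agent.Helper21.BT
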