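import Mathlib

set_option autoImplicit false

namespace Cfsg.Agent.Helper21

/-- If a finite group acts freely on a finite set, its order divides the size of the set. -/
theorem card_dvd_of_free {A T : Type*} [Group A] [Finite A] [MulAction A T] [Finite T]
    (hfree : ∀ (a : A) (t : T), a • t = t → a = 1) : Nat.card A ∣ Nat.card T := by
  classical
  have e := MulAction.selfEquivSigmaOrbits A T
  have := Fintype.ofFinite (MulAction.orbitRel.Quotient A T)
  rw [Nat.card_congr e, Nat.card_sigma]
  apply Finset.dvd_sum
  intro ω _
  have h := Nat.card_congr (MulAction.orbitProdStabilizerEquivGroup A ω.out)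
  rw [Nat.card_prod] at h
  have hs : MulAction.stabilizer A ω.out = ⊥ := by
    rw [eq_bot_iff]
    intro a ha
    rw [Subgroup.mem_bot]
    exact hfree a _ ha
  rw [hs, Subgroup.card_bot, mul_one] at h
  rw [h]

/-- In a finite group, a subgroup whose index divides `p ^ j` can be completed to the whole
group by adjoining `j` elements. -/
theorem exists_tuple_sup_closure_eq_top {P : Type*} [Group P] [Finite P] {p : ℕ} [Fact p.Prime]
    (j : ℕ) (M : Subgroup P) (hM : M.index ∣ p ^ j) :
    ∃ x : Fin j → P, M ⊔ Subgroup.closure (Set.range x) = ⊤ := by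
  induction j generalizing M with
  | zero =>
    refine ⟨fun _ => 1, ?_⟩
    rw [pow_zero, Nat.dvd_one, Subgroup.index_eq_one] at hM
    rw [hM, top_sup_eq]
  | succ j ih =>
    by_cases hMt : M = ⊤
    · exact ⟨fun _ => 1, by rw [hMt, top_sup_eq]⟩
    · obtain ⟨y, -, hy⟩ := SetLike.exists_of_lt (lt_top_iff_ne_top.mpr hMt)
      set M' := M ⊔ Subgroup.zpowers y with hM'
      have hlt : M < M' := by
        refine lt_of_le_of_ne le_sup_left ?_
        intro h
        apply hy
        rw [h]
        exact (le_sup_right : Subgroup.zpowers y ≤ M') (Subgroup.mem_zpowers y)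
      have hidx : M'.index ∣ p ^ j := by
        have h1 : M'.index ∣ M.index := Subgroup.index_dvd_of_le hlt.le
        have h2 : M'.index < M.index := Subgroup.index_strictAnti hlt
        obtain ⟨a, ha, hMa⟩ := (Nat.dvd_prime_pow (Fact.out : p.Prime)).mp hM
        obtain ⟨b, hb, hMb⟩ := (Nat.dvd_prime_pow (Fact.out : p.Prime)).mp (h1.trans hM)
        rw [hMa, hMb] at h2
        have hba : b < a := (Nat.pow_lt_pow_iff_right (Fact.out : p.Prime).one_lt).mp h2
        rw [hMb]
        exact pow_dvd_pow p (by omega)
      obtain ⟨x', hx'⟩ := ih M' hidx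
      refine ⟨Fin.cons y x', ?_⟩
      rw [eq_top_iff, ← hx']
      apply sup_le
      · apply sup_le
        · exact le_sup_left
        · rw [Subgroup.zpowers_le]
          apply (le_sup_right : Subgroup.closure (Set.range (Fin.cons y x' : Fin (j + 1) → P)) ≤ _)
          apply Subgroup.subset_closure
          exact ⟨0, rfl⟩
      · apply le_trans _ (le_sup_right : Subgroup.closure
          (Set.range (Fin.cons y x' : Fin (j + 1) → P)) ≤ _)
        apply Subgroup.closure_mono
        rintro _ ⟨i, rfl⟩
        exact ⟨i.succ, rfl⟩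

end Cfsg.Agent.Helper21
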