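import Mathlib

set_option autoImplicit false

namespace Cfsg.Agent.Helper21

open Subgroup

/-- A finite group with a cyclic Sylow `p`-subgroup `S`, some element of which is not a product of
commutators, has a normal `p`-complement. -/
theorem exists_normal_complement_of_cyclic_sylow {X : Type*} [Group X] [Finite X] {p : ℕ}
    [Fact p.Prime] (S : Sylow p X) [IsCyclic S] (q : X) (hqS : q ∈ S) (hq : q ∉ commutator X) :
    ∃ K : Subgroup X, K.Normal ∧ K.IsComplement' S := by
  rcases Sylow.normalizer_le_centralizer_or_le_commutator S with h | h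
  · exact ⟨(MonoidHom.transferSylow S h).ker, inferInstance,
      MonoidHom.ker_transferSylow_isComplement' S h⟩
  · exact absurd (h hqS) hq

open scoped IsMulCommutative in
/-- Transfer into an abelian Sylow subgroup: a nontrivial element `q` of `S` all of whose
conjugates lying in `S` are trivial conjugates is not in the commutator subgroup. -/
theorem not_mem_commutator_of_conj_eq {X : Type*} [Group X] [Finite X] {p : ℕ} [Fact p.Prime]
    (S : Sylow p X) [hS : IsMulCommutative S] (q : X) (hqS : q ∈ S) (hq1 : q ≠ 1)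
    (key : ∀ (k : ℕ) (g₀ : X), g₀⁻¹ * q ^ k * g₀ ∈ (S : Subgroup X) → g₀⁻¹ * q ^ k * g₀ = q ^ k) :
    q ∉ commutator X := by
  intro hq
  have h1 := MonoidHom.transfer_eq_pow (MonoidHom.id (S : Subgroup X)) q key
  have h2 : MonoidHom.transfer (MonoidHom.id (S : Subgroup X)) q = 1 :=
    Abelianization.commutator_subset_ker _ hq
  rw [h2] at h1
  have h3 : q ^ (S : Subgroup X).index = 1 := by
    have := congrArg Subtype.val h1.symm
    simpa using this
  obtain ⟨j, hj⟩ := (IsPGroup.iff_orderOf.mp S.isPGroup') ⟨q, hqS⟩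
  rw [Subgroup.orderOf_mk] at hj
  have hj0 : j ≠ 0 := by
    rintro rfl
    rw [pow_zero, orderOf_eq_one_iff] at hj
    exact hq1 hj
  have hdvd : orderOf q ∣ (S : Subgroup X).index := orderOf_dvd_of_pow_eq_one h3
  rw [hj] at hdvd
  exact S.not_dvd_index ((dvd_pow_self p hj0).trans hdvd)

/-- A normal subgroup `K` of `C` of order prime to `p` and index a power of `p` consists exactly of
the elements of `C` of order prime to `p`. -/
theorem mem_iff_coprime_orderOf {C : Type*} [Group C] [Finite C] {p : ℕ} [Fact p.Prime]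
    (K : Subgroup C) [K.Normal] (hK : (Nat.card K).Coprime p) (m : ℕ) (hidx : K.index = p ^ m)
    (x : C) : x ∈ K ↔ (orderOf x).Coprime p := by
  constructor
  · intro hx
    have h1 : orderOf (⟨x, hx⟩ : K) ∣ Nat.card K := orderOf_dvd_natCard _
    rw [Subgroup.orderOf_mk] at h1
    exact Nat.Coprime.coprime_dvd_left h1 hK
  · intro hx
    have h1 : x ^ (p ^ m) ∈ K := by rw [← hidx]; exact Subgroup.pow_index_mem K x
    have h2 : (p ^ m).Coprime (orderOf x) := (Nat.Coprime.pow_right m hx).symm
    obtain ⟨j, hj⟩ := exists_pow_eq_self_of_coprime h2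
    rw [← hj]
    exact K.pow_mem h1 j

/-- The normal `p`-complement of a normal subgroup is normal in the whole group. -/
theorem map_subtype_normal_of_pPrime {G : Type*} [Group G] [Finite G] {p : ℕ} [Fact p.Prime]
    (C : Subgroup G) [C.Normal] (K : Subgroup C) [K.Normal] (hK : (Nat.card K).Coprime p)
    (m : ℕ) (hidx : K.index = p ^ m) : (K.map C.subtype).Normal := by
  constructor
  rintro _ ⟨x, hx, rfl⟩ g
  have hC : g * (x : G) * g⁻¹ ∈ C := ‹C.Normal›.conj_mem _ x.2 g
  refine ⟨⟨g * (x : G) * g⁻¹, hC⟩, ?_, rfl⟩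
  rw [SetLike.mem_coe, mem_iff_coprime_orderOf K hK m hidx]
  have h1 : (orderOf x).Coprime p := (mem_iff_coprime_orderOf K hK m hidx x).mp hx
  have h2 : orderOf (⟨g * (x : G) * g⁻¹, hC⟩ : C) = orderOf x := by
    rw [← Subgroup.orderOf_coe, ← Subgroup.orderOf_coe x]
    exact (MulAut.conj g).orderOf_eq (x : G)
  rw [h2]
  exact h1

/-- A normal subgroup of order prime to `p` and `p`-power index is a complement to every
Sylow `p`-subgroup. -/
theorem isComplement'_sylow_of_pPrime {H : Type*} [Group H] [Finite H] {p : ℕ} [Fact p.Prime]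
    (N : Subgroup H) (hN : (Nat.card N).Coprime p) (m : ℕ) (hidx : N.index = p ^ m)
    (Q : Sylow p H) : N.IsComplement' Q := by
  have hp : p.Prime := Fact.out
  have hH : Nat.card N * p ^ m = Nat.card H := by rw [← hidx]; exact N.card_mul_index
  obtain ⟨k, hk⟩ := IsPGroup.iff_card.mp Q.isPGroup'
  have hQ : Nat.card (Q : Subgroup H) * (Q : Subgroup H).index = Nat.card H :=
    (Q : Subgroup H).card_mul_index
  have hQi : ¬ p ∣ (Q : Subgroup H).index := Q.not_dvd_index
  have hkm : k = m := by
    apply le_antisymm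
    · have h1 : p ^ k ∣ Nat.card N * p ^ m := by
        rw [hH, ← hQ, hk]; exact dvd_mul_right _ _
      have h2 : (p ^ k).Coprime (Nat.card N) := (Nat.Coprime.pow_right k hN).symm
      exact (Nat.pow_dvd_pow_iff_le_right hp.one_lt).mp (h2.dvd_of_dvd_mul_left h1)
    · have h1 : p ^ m ∣ p ^ k * (Q : Subgroup H).index := by
        rw [← hk, hQ, ← hH]; exact dvd_mul_left _ _
      have h2 : (p ^ m).Coprime (Q : Subgroup H).index :=
        Nat.Coprime.pow_left m ((Nat.Prime.coprime_iff_not_dvd hp).mpr hQi)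
      exact (Nat.pow_dvd_pow_iff_le_right hp.one_lt).mp (h2.dvd_of_dvd_mul_right h1)
  apply isComplement'_of_coprime
  · rw [hk, hkm]; exact hH
  · rw [hk]; exact Nat.Coprime.pow_right k hN

end Cfsg.Agent.Helper21
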