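import Mathlib
import Cfsg.Agent.Lib.Helper3.HH.Defs
import Cfsg.Agent.Lib.Helper4.ThBField

/-!
# S3786 (helper3's farm-out), piece X-LIN (helper21)

The pairs `(z, k)` with `1 ≤ k` and `(z - 1) ^ (p ^ k - 1) = 0` form a tight system for any `q`-subgroup `Q` of
`GL(V)` in characteristic `p ≠ q` (`tightSys_linear`); with the abstract core this gives `linear_comm`
(`linear_comm_of_core` takes the core as a hypothesis).
-/

set_option autoImplicit false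

namespace Cfsg.Agent.Helper3.HHX

open Subgroup Cfsg.Agent.Helper4.ThB

section

variable {F : Type*} [Field F] {p : ℕ} [Fact p.Prime] [CharP F p] {V : Type*} [AddCommGroup V] [Module F V]

/-- a tight element has order dividing `p ^ k` -/
theorem xlin_pow_eq_one (z : V ≃ₗ[F] V) (k : ℕ) (h : (op z - 1) ^ (p ^ k - 1) = 0) : z ^ p ^ k = 1 := by
  have hpos : 0 < p ^ k := pow_pos (Fact.out : p.Prime).pos k
  have h1 : (op z - 1) ^ (p ^ k) = 0 := by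
    have e : p ^ k = (p ^ k - 1) + 1 := (Nat.sub_add_cancel hpos).symm
    rw [e, pow_succ, h, zero_mul]
  rw [sub_one_pow_char_pow F (op z) k, sub_eq_zero, ← op_pow] at h1
  apply LinearEquiv.toLinearMap_injective
  exact h1

/-- conjugation of `op z - 1` -/
theorem xlin_conj_pow (s z : V ≃ₗ[F] V) (r : ℕ) :
    (op (s * z * s⁻¹) - 1) ^ r = op s * (op z - 1) ^ r * op s⁻¹ := by
  have e : op (s * z * s⁻¹) - 1 = op s * (op z - 1) * op s⁻¹ := by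
    rw [op_mul, op_mul, mul_sub, sub_mul, mul_one, op_mul_inv]
  rw [e]
  induction r with
  | zero => rw [pow_zero, pow_zero, mul_one, op_mul_inv]
  | succ r ih =>
    rw [pow_succ, ih, pow_succ]
    calc op s * (op z - 1) ^ r * op s⁻¹ * (op s * (op z - 1) * op s⁻¹)
        = op s * (op z - 1) ^ r * (op s⁻¹ * op s) * (op z - 1) * op s⁻¹ := by noncomm_ring
      _ = op s * ((op z - 1) ^ r * (op z - 1)) * op s⁻¹ := by rw [op_inv_mul]; noncomm_ring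

end

/-- the tight system of a `q`-subgroup of `GL(V)` in characteristic `p ≠ q` -/
theorem tightSys_linear {F : Type*} [Field F] {p q : ℕ} [Fact p.Prime] [Fact q.Prime] (hpq : p ≠ q)
    [CharP F p] {V : Type*} [AddCommGroup V] [Module F V] [FiniteDimensional F V]
    [Finite (V ≃ₗ[F] V)]
    (Q S : Subgroup (V ≃ₗ[F] V)) (hQ : IsPGroup q Q) :
    TightSys p Q S (fun z k => 1 ≤ k ∧ (op z - 1) ^ (p ^ k - 1) = 0) := by
  refine ⟨fun z k h => h.1, fun z k h => xlin_pow_eq_one z k h.2, ?_, ?_⟩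
  · rintro z k ⟨hk, h⟩ s hs
    refine ⟨hk, ?_⟩
    rw [xlin_conj_pow, h, mul_zero, zero_mul]
  · rintro z k ⟨hk, h⟩ hzS A hAQ hAab hAz x hx
    by_contra hne
    have hyp : Hyp p q A z k :=
      ⟨inferInstance, hQ.to_le hAQ, hAz, hk, xlin_pow_eq_one z k h, ⟨x, hx, hne⟩⟩
    rcases thmB_field hpq A z k hyp (p ^ k - 1) h with
      h1 | ⟨n₀, m, -, -, -, -, ⟨g, hg, h', hh', hgh⟩, -⟩
    · have hpos : 0 < p ^ k := pow_pos (Fact.out : p.Prime).pos k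
      omega
    · exact hgh (hAab g hg h' hh')

/-- X-LIN, with the abstract core (piece X-CORE) as a hypothesis -/
theorem linear_comm_of_core {F : Type*} [Field F] {p q : ℕ} [Fact p.Prime] [Fact q.Prime] (hpq : p ≠ q)
    [CharP F p] {V : Type*} [AddCommGroup V] [Module F V] [FiniteDimensional F V]
    [Finite (V ≃ₗ[F] V)]
    (Q S : Subgroup (V ≃ₗ[F] V)) (hQ : IsPGroup q Q)
    (hcore : ∀ T : (V ≃ₗ[F] V) → ℕ → Prop, TightSys p Q S T →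
      ∀ z₁ z₂ : V ≃ₗ[F] V, z₁ ∈ S → z₂ ∈ S → ∀ k₁ k₂ : ℕ, T z₁ k₁ → T z₂ k₂ →
        z₁ ^ p ^ (k₁ - 1) * z₂ ^ p ^ (k₂ - 1) * (z₁ ^ p ^ (k₁ - 1))⁻¹ * (z₂ ^ p ^ (k₂ - 1))⁻¹ ∈
          centralizer (Q : Set (V ≃ₗ[F] V)))
    (z₁ z₂ : V ≃ₗ[F] V) (hz₁ : z₁ ∈ S) (hz₂ : z₂ ∈ S) (k₁ k₂ : ℕ) (hk₁ : 1 ≤ k₁) (hk₂ : 1 ≤ k₂)
    (h₁ : (op z₁ - 1) ^ (p ^ k₁ - 1) = 0) (h₂ : (op z₂ - 1) ^ (p ^ k₂ - 1) = 0) :
    ∀ g ∈ Q, (z₁ ^ p ^ (k₁ - 1) * z₂ ^ p ^ (k₂ - 1) * (z₁ ^ p ^ (k₁ - 1))⁻¹ *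
      (z₂ ^ p ^ (k₂ - 1))⁻¹) * g = g * (z₁ ^ p ^ (k₁ - 1) * z₂ ^ p ^ (k₂ - 1) *
      (z₁ ^ p ^ (k₁ - 1))⁻¹ * (z₂ ^ p ^ (k₂ - 1))⁻¹) := by
  intro g hg
  have h := hcore _ (tightSys_linear hpq Q S hQ) z₁ z₂ hz₁ hz₂ k₁ k₂ ⟨hk₁, h₁⟩ ⟨hk₂, h₂⟩
  exact (Subgroup.mem_centralizer_iff.mp h g hg).symm

end Cfsg.Agent.Helper3.HHX
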