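import Mathlib

set_option autoImplicit false

namespace Cfsg.Agent.Helper21

/-- If the fibres of `f : D → β` are exactly the left cosets of the subgroup `C`,
then `|D| = |C| * |range f|`. -/
theorem card_eq_card_mul_card_range {D : Type*} [Group D] (C : Subgroup D) {β : Type*}
    (f : D → β) (hf : ∀ x y : D, f x = f y ↔ x⁻¹ * y ∈ C) :
    Nat.card D = Nat.card C * Nat.card (Set.range f) := by
  let fbar : D ⧸ C → β := Quotient.lift (s := QuotientGroup.leftRel C) f
    (fun a b h => (hf a b).mpr (QuotientGroup.leftRel_apply.mp h))
  have hinj : Function.Injective fbar := by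
    intro a b
    induction a using QuotientGroup.induction_on with
    | H a =>
    induction b using QuotientGroup.induction_on with
    | H b =>
    intro h
    have h' : f a = f b := h
    exact QuotientGroup.eq.mpr ((hf a b).mp h')
  have hrange : Set.range fbar = Set.range f := by
    ext y
    constructor
    · rintro ⟨q, rfl⟩
      induction q using QuotientGroup.induction_on with
      | H a => exact ⟨a, rfl⟩
    · rintro ⟨a, rfl⟩
      exact ⟨QuotientGroup.mk a, rfl⟩
  have h1 : Nat.card (Set.range f) = Nat.card (D ⧸ C) := by
    rw [← hrange]
    exact (Nat.card_congr (Equiv.ofInjective fbar hinj)).symm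
  rw [h1, mul_comm]
  exact Subgroup.card_eq_card_quotient_mul_card_subgroup C

/-- A function between finite types is surjective iff its range has full cardinality. -/
theorem surjective_iff_card_range {α β : Type*} [Finite β] (f : α → β) :
    Function.Surjective f ↔ Nat.card (Set.range f) = Nat.card β := by
  rw [← Set.range_eq_univ, Set.eq_univ_iff_ncard, Nat.card_coe_set_eq]

end Cfsg.Agent.Helper21
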