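import Mathlib

set_option autoImplicit false

/-! Geometric sums `1 + u + ... + u^(k-1)` for `u ≡ 1 mod p`, `p` odd: divisibility by powers of `p`
is the same as for `k` (a form of the lifting-the-exponent lemma). -/

namespace Cfsg.Agent.Helper21

/-- the geometric sum `1 + u + ... + u^(k-1)` -/
def gs (u k : ℕ) : ℕ := ∑ i ∈ Finset.range k, u ^ i

@[simp] theorem gs_zero (u : ℕ) : gs u 0 = 0 := by simp [gs]

theorem gs_succ (u k : ℕ) : gs u (k + 1) = u * gs u k + 1 := by
  unfold gs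
  rw [Finset.sum_range_succ', Finset.mul_sum, pow_zero]
  congr 1
  apply Finset.sum_congr rfl
  intro i _
  rw [pow_succ, mul_comm]

theorem gs_one_left (k : ℕ) : gs 1 k = k := by
  simp [gs]

theorem gs_add (u k l : ℕ) : gs u (k + l) = gs u l + u ^ l * gs u k := by
  induction k with
  | zero => simp
  | succ k ih =>
    rw [Nat.add_right_comm, gs_succ, ih, gs_succ]
    have h2 : u * gs u l + 1 = gs u (l + 1) := (gs_succ u l).symm
    have h3 : gs u (l + 1) = gs u l + u ^ l := by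
      unfold gs
      rw [Finset.sum_range_succ]
    calc u * (gs u l + u ^ l * gs u k) + 1 = (u * gs u l + 1) + u ^ l * (u * gs u k) := by ring
      _ = gs u l + u ^ l + u ^ l * (u * gs u k) := by rw [h2, h3]
      _ = gs u l + u ^ l * (u * gs u k + 1) := by ring

theorem pow_dvd_gs_iff {p : ℕ} (hp : p.Prime) (hodd : p ≠ 2) {u : ℕ} (hu : u ≡ 1 [MOD p])
    (m k : ℕ) : p ^ m ∣ gs u k ↔ p ^ m ∣ k := by
  by_cases hu1 : u = 1
  · subst hu1
    rw [gs_one_left]
  have hoddp : Odd p := hp.odd_of_ne_two hodd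
  have hxy : (p : ℤ) ∣ (u : ℤ) - 1 := by
    have := (Nat.modEq_iff_dvd.mp hu.symm)
    simpa using this
  have hx : ¬ (p : ℤ) ∣ (u : ℤ) := by
    intro h
    have h1 : (p : ℤ) ∣ 1 := by
      have := dvd_sub h hxy
      simpa using this
    have h2 : p ∣ 1 := by exact_mod_cast h1
    exact hp.one_lt.ne' (Nat.dvd_one.mp h2)
  have hlte := Int.emultiplicity_pow_sub_pow hp hoddp hxy hx k
  have hfact : (u : ℤ) ^ k - 1 ^ k = ((u : ℤ) - 1) * (gs u k : ℤ) := by
    rw [one_pow, mul_comm]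
    unfold gs
    push_cast
    exact (geom_sum_mul (u : ℤ) k).symm
  have hpz : Prime (p : ℤ) := Nat.prime_iff_prime_int.mp hp
  rw [hfact, emultiplicity_mul hpz] at hlte
  have hne : (u : ℤ) - 1 ≠ 0 := by
    intro h
    apply hu1
    have : (u : ℤ) = 1 := by linarith
    exact_mod_cast this
  have hfin : emultiplicity (p : ℤ) ((u : ℤ) - 1) ≠ ⊤ := by
    rw [← finiteMultiplicity_iff_emultiplicity_ne_top, Int.finiteMultiplicity_iff]
    refine ⟨?_, hne⟩
    simp only [Int.natAbs_natCast]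
    exact hp.one_lt.ne'
  have hcancel : emultiplicity (p : ℤ) (gs u k : ℤ) = emultiplicity p k :=
    (ENat.add_right_injective_of_ne_top hfin) hlte
  rw [Int.natCast_emultiplicity] at hcancel
  rw [pow_dvd_iff_le_emultiplicity, pow_dvd_iff_le_emultiplicity, hcancel]


theorem gs_modEq_iff {p : ℕ} (hp : p.Prime) (hodd : p ≠ 2) {u : ℕ} (hu : u ≡ 1 [MOD p])
    (e k l : ℕ) : gs u k ≡ gs u l [MOD p ^ e] ↔ k ≡ l [MOD p ^ e] := by
  wlog h : l ≤ k generalizing k l
  · have := this l k (by omega)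
    constructor
    · intro h1; exact (this.mp h1.symm).symm
    · intro h1; exact (this.mpr h1.symm).symm
  obtain ⟨d, rfl⟩ := Nat.exists_eq_add_of_le h
  have hcop : Nat.Coprime (u ^ l) (p ^ e) := by
    apply Nat.Coprime.pow
    rw [Nat.coprime_comm, Nat.Prime.coprime_iff_not_dvd hp]
    intro hd
    have h1 : u % p = 0 := Nat.mod_eq_zero_of_dvd hd
    have h2 : u % p = 1 % p := hu
    rw [h1, Nat.mod_eq_of_lt hp.one_lt] at h2
    exact absurd h2 (by norm_num)
  rw [Nat.add_comm l d, gs_add u d l]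
  have e1 : gs u l + u ^ l * gs u d ≡ gs u l [MOD p ^ e] ↔ p ^ e ∣ u ^ l * gs u d := by
    constructor
    · intro h1
      have h2 : gs u l + u ^ l * gs u d ≡ gs u l + 0 [MOD p ^ e] := by simpa using h1
      have h3 := Nat.ModEq.add_left_cancel' (gs u l) h2
      exact (Nat.modEq_zero_iff_dvd).mp h3
    · intro h1
      have h3 : u ^ l * gs u d ≡ 0 [MOD p ^ e] := (Nat.modEq_zero_iff_dvd).mpr h1
      have := Nat.ModEq.add_left (gs u l) h3
      simpa using this
  have e2 : d + l ≡ l [MOD p ^ e] ↔ p ^ e ∣ d := by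
    constructor
    · intro h1
      have h2 : l + d ≡ l + 0 [MOD p ^ e] := by rw [Nat.add_comm]; simpa using h1
      have h3 := Nat.ModEq.add_left_cancel' l h2
      exact (Nat.modEq_zero_iff_dvd).mp h3
    · intro h1
      have h3 : d ≡ 0 [MOD p ^ e] := (Nat.modEq_zero_iff_dvd).mpr h1
      have := Nat.ModEq.add_right l h3
      simpa using this
  rw [e1, e2, Nat.Coprime.dvd_mul_left hcop.symm, pow_dvd_gs_iff hp hodd hu]


theorem gcd_pow_gs {p : ℕ} (hp : p.Prime) (hodd : p ≠ 2) {u : ℕ} (hu : u ≡ 1 [MOD p])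
    (n k : ℕ) : Nat.gcd (p ^ n) (gs u k) = Nat.gcd (p ^ n) k := by
  apply Nat.dvd_antisymm
  · obtain ⟨m, -, hm⟩ := (Nat.dvd_prime_pow hp).mp (Nat.gcd_dvd_left (p ^ n) (gs u k))
    rw [hm]
    apply Nat.dvd_gcd
    · rw [← hm]; exact Nat.gcd_dvd_left _ _
    · rw [← pow_dvd_gs_iff hp hodd hu, ← hm]; exact Nat.gcd_dvd_right _ _
  · obtain ⟨m, -, hm⟩ := (Nat.dvd_prime_pow hp).mp (Nat.gcd_dvd_left (p ^ n) k)
    rw [hm]
    apply Nat.dvd_gcd
    · rw [← hm]; exact Nat.gcd_dvd_left _ _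
    · rw [pow_dvd_gs_iff hp hodd hu, ← hm]; exact Nat.gcd_dvd_right _ _

end Cfsg.Agent.Helper21
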