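import Mathlib
import Cfsg.Agent.Lib.Helper21.GeomSum
import Cfsg.Agent.Lib.Helper21.CosetFiber

set_option autoImplicit false

/-! Metacyclic `p`-groups for odd `p`: commutator calculus and conjugacy class sizes. -/

namespace Cfsg.Agent.Helper21

open scoped commutatorElement

variable {G : Type*} [Group G]

/-! ### general commutator identities -/

theorem commutator_mul_left (x z y : G) : ⁅x * z, y⁆ = x * ⁅z, y⁆ * x⁻¹ * ⁅x, y⁆ := by
  simp only [commutatorElement_def]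
  group

theorem commutator_mul_right (x y z : G) : ⁅x, y * z⁆ = ⁅x, y⁆ * (y * ⁅x, z⁆ * y⁻¹) := by
  simp only [commutatorElement_def]
  group

theorem conj_eq_commutator_mul (y g : G) : y * g * y⁻¹ = ⁅y, g⁆ * g := by
  simp only [commutatorElement_def]
  group

theorem orderOf_conj_eq (x c : G) : orderOf (x * c * x⁻¹) = orderOf c := by
  have := orderOf_injective (MulAut.conj x).toMonoidHom (MulAut.conj x).injective c
  exact this

/-- if `x` acts on `c = [x, y]` as the `u`-th power map then `[x^k, y] = c^(1 + u + ... + u^(k-1))` -/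
theorem commutator_pow_left (x y : G) (u : ℕ) (hconj : x * ⁅x, y⁆ * x⁻¹ = ⁅x, y⁆ ^ u) (k : ℕ) :
    ⁅x ^ k, y⁆ = ⁅x, y⁆ ^ gs u k := by
  induction k with
  | zero => simp
  | succ k ih =>
    rw [pow_succ', commutator_mul_left, ih, ← conj_pow, hconj, ← pow_mul, ← pow_succ, gs_succ]

/-- in a finite cyclic group, an element killed by the order of `y` is a power of `y` -/
theorem mem_zpowers_of_pow_orderOf_eq_one {N : Type*} [Group N] [Finite N] [IsCyclic N]
    (x y : N) (h : x ^ orderOf y = 1) : x ∈ Subgroup.zpowers y := by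
  classical
  have := Fintype.ofFinite N
  have hpos : 0 < orderOf y := orderOf_pos y
  have h1 := IsCyclic.card_pow_eq_one_le (α := N) hpos
  have hsub : (Subgroup.zpowers y : Set N).toFinset ⊆
      Finset.univ.filter (fun a : N => a ^ orderOf y = 1) := by
    intro z hz
    rw [Set.mem_toFinset, SetLike.mem_coe, Subgroup.mem_zpowers_iff] at hz
    obtain ⟨k, rfl⟩ := hz
    rw [Finset.mem_filter]
    refine ⟨Finset.mem_univ _, ?_⟩
    rw [← zpow_natCast, ← zpow_mul, mul_comm, zpow_mul, zpow_natCast, pow_orderOf_eq_one, one_zpow]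
  have hcard : ((Subgroup.zpowers y : Set N).toFinset).card = orderOf y := by
    rw [Set.toFinset_card, ← Nat.card_eq_fintype_card]
    exact Nat.card_zpowers y
  have heq := Finset.eq_of_subset_of_card_le hsub (by rw [hcard]; exact h1)
  have hx : x ∈ Finset.univ.filter (fun a : N => a ^ orderOf y = 1) := by
    rw [Finset.mem_filter]; exact ⟨Finset.mem_univ _, h⟩
  rw [← heq, Set.mem_toFinset] at hx
  exact hx


theorem pow_gs_eq_iff {p : ℕ} (hp : p.Prime) (hodd : p ≠ 2) {u : ℕ} (hu : u ≡ 1 [MOD p])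
    (c : G) (e : ℕ) (hc : orderOf c = p ^ e) (k l : ℕ) :
    c ^ gs u k = c ^ gs u l ↔ c ^ k = c ^ l := by
  rw [pow_eq_pow_iff_modEq, pow_eq_pow_iff_modEq, hc]
  exact gs_modEq_iff hp hodd hu e k l

theorem pow_gs_eq_one_iff {p : ℕ} (hp : p.Prime) (hodd : p ≠ 2) {u : ℕ} (hu : u ≡ 1 [MOD p])
    (c : G) (e : ℕ) (hc : orderOf c = p ^ e) (k : ℕ) :
    c ^ gs u k = 1 ↔ c ^ k = 1 := by
  have := pow_gs_eq_iff hp hodd hu c e hc k 0
  simpa using this

/-- every power of `c` is of the form `c ^ gs u l` -/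
theorem exists_gs_pow_eq {p : ℕ} (hp : p.Prime) (hodd : p ≠ 2) {u : ℕ} (hu : u ≡ 1 [MOD p])
    (c : G) (e : ℕ) (hc : orderOf c = p ^ e) (m : ℕ) : ∃ l, c ^ gs u l = c ^ m := by
  let f : Fin (p ^ e) → Subgroup.zpowers c := fun l =>
    ⟨c ^ gs u (l : ℕ), Subgroup.npow_mem_zpowers c _⟩
  have hinj : Function.Injective f := by
    intro l l' hll
    have h1 : c ^ gs u (l : ℕ) = c ^ gs u (l' : ℕ) := congrArg Subtype.val hll
    rw [pow_gs_eq_iff hp hodd hu c e hc, pow_eq_pow_iff_modEq, hc] at h1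
    apply Fin.ext
    have h2 : (l : ℕ) % p ^ e = (l' : ℕ) % p ^ e := h1
    rwa [Nat.mod_eq_of_lt l.2, Nat.mod_eq_of_lt l'.2] at h2
  have hfin : Finite (Subgroup.zpowers c) := by
    have : 0 < Nat.card (Subgroup.zpowers c) := by
      rw [Nat.card_zpowers, hc]; exact pow_pos hp.pos e
    exact (Nat.card_pos_iff.mp this).2
  have hbij := hinj.bijective_of_nat_card_le (by
    rw [Nat.card_zpowers, hc, Nat.card_eq_fintype_card, Fintype.card_fin])
  obtain ⟨l, hl⟩ := hbij.2 ⟨c ^ m, Subgroup.npow_mem_zpowers c m⟩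
  exact ⟨l, congrArg Subtype.val hl⟩


/-- the set of commutators `[y, g]` -/
def commSet (g : G) : Set G := Set.range (fun y : G => ⁅y, g⁆)

theorem index_centralizer_eq_card_commSet [Finite G] (g : G) :
    (Subgroup.centralizer ({g} : Set G)).index = Nat.card (commSet g) := by
  have h1 := card_eq_card_mul_card_range (Subgroup.centralizer ({g} : Set G))
    (fun y : G => ⁅y, g⁆) (by
      intro x y
      rw [Subgroup.mem_centralizer_iff]
      simp only [Set.mem_singleton_iff, forall_eq, commutatorElement_def]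
      constructor
      · intro h
        have h' : x * g * x⁻¹ = y * g * y⁻¹ := mul_right_cancel h
        calc g * (x⁻¹ * y) = x⁻¹ * (x * g * x⁻¹) * y := by group
          _ = x⁻¹ * (y * g * y⁻¹) * y := by rw [h']
          _ = x⁻¹ * y * g := by group
      · intro h
        have h' : x * g * x⁻¹ = y * g * y⁻¹ := by
          calc x * g * x⁻¹ = x * (g * (x⁻¹ * y)) * y⁻¹ := by group
            _ = x * (x⁻¹ * y * g) * y⁻¹ := by rw [h]
            _ = y * g * y⁻¹ := by group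
        rw [h'])
  have h2 := Subgroup.card_mul_index (Subgroup.centralizer ({g} : Set G))
  rw [h1] at h2
  unfold commSet
  exact Nat.eq_of_mul_eq_mul_left
    (Nat.card_pos (α := ↥(Subgroup.centralizer ({g} : Set G)))) h2

/-! ### generators of a metacyclic group -/

/-- generators of a metacyclic group: `⟨a⟩` is normal and every element is `b^j a^i` -/
structure MCGen (G : Type*) [Group G] where
  a : G
  b : G
  normal : (Subgroup.zpowers a).Normal
  gen : ∀ g : G, ∃ j i : ℕ, g = b ^ j * a ^ i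

theorem exists_mcGen [Finite G] (N : Subgroup G) [hNn : N.Normal] (hN : IsCyclic N)
    (hQ : IsCyclic (G ⧸ N)) : Nonempty (MCGen G) := by
  obtain ⟨⟨a, haN⟩, ha⟩ := hN.exists_generator
  obtain ⟨q, hq⟩ := hQ.exists_generator
  obtain ⟨b, rfl⟩ := QuotientGroup.mk_surjective q
  have hNa : Subgroup.zpowers a = N := by
    apply le_antisymm
    · rw [Subgroup.zpowers_le]; exact haN
    · intro x hx
      have := ha ⟨x, hx⟩
      rw [Subgroup.mem_zpowers_iff] at this ⊢
      obtain ⟨k, hk⟩ := this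
      refine ⟨k, ?_⟩
      have := congrArg Subtype.val hk
      rwa [Subgroup.coe_zpow] at this
  refine ⟨⟨a, b, hNa ▸ hNn, ?_⟩⟩
  intro g
  have h1 := hq (QuotientGroup.mk g)
  rw [← (isOfFinOrder_of_finite _).mem_powers_iff_mem_zpowers, Submonoid.mem_powers_iff] at h1
  obtain ⟨j, hj⟩ := h1
  have h2 : (b ^ j)⁻¹ * g ∈ N := by
    rw [← QuotientGroup.eq, QuotientGroup.mk_pow]
    exact hj
  rw [← hNa, ← (isOfFinOrder_of_finite _).mem_powers_iff_mem_zpowers,
    Submonoid.mem_powers_iff] at h2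
  obtain ⟨i, hi⟩ := h2
  refine ⟨j, i, ?_⟩
  rw [hi]
  group

namespace MCGen

variable [Finite G] {p : ℕ} [hp : Fact p.Prime] (D : MCGen G)

theorem conj_mem (x : G) {c : G} (hc : c ∈ Subgroup.zpowers D.a) :
    x * c * x⁻¹ ∈ Subgroup.zpowers D.a :=
  D.normal.conj_mem c hc x

/-- conjugation acts on `⟨a⟩` as a power map with exponent `≡ 1 mod p` -/
theorem exists_conj (hG : IsPGroup p G) (x : G) :
    ∃ u : ℕ, u ≡ 1 [MOD p] ∧ ∀ c ∈ Subgroup.zpowers D.a, x * c * x⁻¹ = c ^ u := by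
  by_cases ha1 : D.a = 1
  · refine ⟨1, Nat.ModEq.refl _, ?_⟩
    intro c hc
    rw [ha1, Subgroup.zpowers_one_eq_bot, Subgroup.mem_bot] at hc
    rw [hc]; simp
  have h1 := D.conj_mem x (Subgroup.mem_zpowers D.a)
  rw [← (isOfFinOrder_of_finite _).mem_powers_iff_mem_zpowers, Submonoid.mem_powers_iff] at h1
  obtain ⟨u0, hu0⟩ := h1
  have hall : ∀ c ∈ Subgroup.zpowers D.a, x * c * x⁻¹ = c ^ u0 := by
    intro c hc
    rw [← (isOfFinOrder_of_finite _).mem_powers_iff_mem_zpowers, Submonoid.mem_powers_iff] at hc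
    obtain ⟨i, rfl⟩ := hc
    rw [← conj_pow, ← hu0, ← pow_mul, ← pow_mul, mul_comm]
  refine ⟨u0, ?_, hall⟩
  -- iterate
  have hiter : ∀ m : ℕ, x ^ m * D.a * (x ^ m)⁻¹ = D.a ^ (u0 ^ m) := by
    intro m
    induction m with
    | zero => simp
    | succ m ih =>
      rw [pow_succ', show x * x ^ m * D.a * (x * x ^ m)⁻¹ = x * (x ^ m * D.a * (x ^ m)⁻¹) * x⁻¹ by group,
        ih, hall _ (Subgroup.npow_mem_zpowers D.a _), ← pow_mul, ← pow_succ]
  obtain ⟨e, he⟩ := (IsPGroup.iff_orderOf.mp hG) x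
  have h2 := hiter (p ^ e)
  rw [← he, pow_orderOf_eq_one] at h2
  simp only [one_mul, inv_one, mul_one] at h2
  have h3 : D.a ^ 1 = D.a ^ (u0 ^ orderOf x) := by rw [pow_one]; exact h2
  rw [pow_eq_pow_iff_modEq] at h3
  obtain ⟨α, hα⟩ := (IsPGroup.iff_orderOf.mp hG) D.a
  have hα0 : α ≠ 0 := by
    rintro rfl
    rw [pow_zero, orderOf_eq_one_iff] at hα
    exact ha1 hα
  have h4 : 1 ≡ u0 ^ orderOf x [MOD p] := by
    apply Nat.ModEq.of_dvd _ h3
    rw [hα]
    exact dvd_pow_self p hα0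
  rw [he] at h4
  rw [← ZMod.natCast_eq_natCast_iff] at h4 ⊢
  rw [Nat.cast_pow, ZMod.pow_card_pow] at h4
  exact h4.symm


/-- every cyclic subgroup of `⟨a⟩` is normal in `G` -/
theorem zpowers_normal (hG : IsPGroup p G) {c : G} (hc : c ∈ Subgroup.zpowers D.a) :
    (Subgroup.zpowers c).Normal := by
  constructor
  intro z hz x
  obtain ⟨u, -, hu⟩ := D.exists_conj hG x
  have hzN : z ∈ Subgroup.zpowers D.a := (Subgroup.zpowers_le.mpr hc) hz
  rw [hu z hzN]
  exact Subgroup.pow_mem _ hz u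

theorem commutator_ba_mem : ⁅D.b, D.a⁆ ∈ Subgroup.zpowers D.a := by
  rw [commutatorElement_def]
  exact Subgroup.mul_mem _ (D.conj_mem D.b (Subgroup.mem_zpowers D.a))
    (Subgroup.inv_mem _ (Subgroup.mem_zpowers D.a))

/-- all commutators lie in `⟨[b, a]⟩` -/
theorem commutator_mem (hG : IsPGroup p G) (g₁ g₂ : G) :
    ⁅g₁, g₂⁆ ∈ Subgroup.zpowers ⁅D.b, D.a⁆ := by
  have hK : (Subgroup.zpowers ⁅D.b, D.a⁆).Normal := D.zpowers_normal hG D.commutator_ba_mem
  rw [← QuotientGroup.eq_one_iff, ← QuotientGroup.mk'_apply, map_commutatorElement,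
    commutatorElement_eq_one_iff_commute]
  have hab : Commute (QuotientGroup.mk' (Subgroup.zpowers ⁅D.b, D.a⁆) D.b)
      (QuotientGroup.mk' (Subgroup.zpowers ⁅D.b, D.a⁆) D.a) := by
    rw [← commutatorElement_eq_one_iff_commute, ← map_commutatorElement, QuotientGroup.mk'_apply,
      QuotientGroup.eq_one_iff]
    exact Subgroup.mem_zpowers _
  obtain ⟨j₁, i₁, rfl⟩ := D.gen g₁
  obtain ⟨j₂, i₂, rfl⟩ := D.gen g₂
  simp only [map_mul, map_pow]
  apply Commute.mul_left
  · apply Commute.mul_right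
    · exact Commute.pow_pow (Commute.refl _) _ _
    · exact Commute.pow_pow hab _ _
  · apply Commute.mul_right
    · exact Commute.pow_pow hab.symm _ _
    · exact Commute.pow_pow (Commute.refl _) _ _

theorem commutator_mem_zpowers_a (hG : IsPGroup p G) (g₁ g₂ : G) :
    ⁅g₁, g₂⁆ ∈ Subgroup.zpowers D.a :=
  (Subgroup.zpowers_le.mpr D.commutator_ba_mem) (D.commutator_mem hG g₁ g₂)

theorem commutator_eq (hG : IsPGroup p G) :
    commutator G = Subgroup.zpowers ⁅D.b, D.a⁆ := by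
  apply le_antisymm
  · rw [commutator_def, Subgroup.commutator_le]
    intro g₁ _ g₂ _
    exact D.commutator_mem hG g₁ g₂
  · rw [Subgroup.zpowers_le, commutator_def]
    exact Subgroup.commutator_mem_commutator (Subgroup.mem_top _) (Subgroup.mem_top _)

/-- `[a^k, g] = [a, g]^k` -/
theorem commutator_a_pow (hG : IsPGroup p G) (g : G) (k : ℕ) :
    ⁅D.a ^ k, g⁆ = ⁅D.a, g⁆ ^ k := by
  have hc := D.commutator_mem_zpowers_a hG D.a g
  have hcomm : D.a * ⁅D.a, g⁆ * D.a⁻¹ = ⁅D.a, g⁆ ^ 1 := by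
    rw [pow_one]
    rw [Subgroup.mem_zpowers_iff] at hc
    obtain ⟨m, hm⟩ := hc
    rw [← hm]
    group
  rw [commutator_pow_left D.a g 1 hcomm k, gs_one_left]


/-- subgroups of `⟨a⟩` are ordered by the orders of their generators -/
theorem mem_zpowers_of_orderOf_dvd {c₁ c₂ : G} (h₁ : c₁ ∈ Subgroup.zpowers D.a)
    (h₂ : c₂ ∈ Subgroup.zpowers D.a) (h : orderOf c₁ ∣ orderOf c₂) :
    c₁ ∈ Subgroup.zpowers c₂ := by
  have hpow : (⟨c₁, h₁⟩ : Subgroup.zpowers D.a) ^ orderOf (⟨c₂, h₂⟩ : Subgroup.zpowers D.a) = 1 := by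
    rw [Subgroup.orderOf_mk]
    apply Subtype.ext
    rw [Subgroup.coe_pow, Subgroup.coe_one]
    exact orderOf_dvd_iff_pow_eq_one.mp h
  have h3 := mem_zpowers_of_pow_orderOf_eq_one _ _ hpow
  rw [Subgroup.mem_zpowers_iff] at h3 ⊢
  obtain ⟨k, hk⟩ := h3
  refine ⟨k, ?_⟩
  have := congrArg Subtype.val hk
  rwa [Subgroup.coe_zpow] at this

theorem commutator_b_pow (hG : IsPGroup p G) (g : G) :
    ∃ u : ℕ, u ≡ 1 [MOD p] ∧ ∀ k : ℕ, ⁅D.b ^ k, g⁆ = ⁅D.b, g⁆ ^ gs u k := by
  obtain ⟨u, hu1, hu⟩ := D.exists_conj hG D.b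
  exact ⟨u, hu1, fun k => commutator_pow_left D.b g u
    (hu _ (D.commutator_mem_zpowers_a hG D.b g)) k⟩

theorem commutator_mem_sup (hG : IsPGroup p G) (g y : G) :
    ⁅y, g⁆ ∈ Subgroup.zpowers ⁅D.a, g⁆ ⊔ Subgroup.zpowers ⁅D.b, g⁆ := by
  obtain ⟨j, i, rfl⟩ := D.gen y
  obtain ⟨u, -, hu⟩ := D.commutator_b_pow hG g
  rw [commutator_mul_left]
  apply Subgroup.mul_mem
  · apply Subgroup.mem_sup_left
    have := D.zpowers_normal hG (D.commutator_mem_zpowers_a hG D.a g)
    apply Subgroup.Normal.conj_mem inferInstance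
    rw [D.commutator_a_pow hG]
    exact Subgroup.npow_mem_zpowers _ _
  · apply Subgroup.mem_sup_right
    rw [hu]
    exact Subgroup.npow_mem_zpowers _ _

theorem zpowers_a_subset (hG : IsPGroup p G) (g : G) :
    (Subgroup.zpowers ⁅D.a, g⁆ : Set G) ⊆ commSet g := by
  intro z hz
  rw [SetLike.mem_coe, ← (isOfFinOrder_of_finite _).mem_powers_iff_mem_zpowers,
    Submonoid.mem_powers_iff] at hz
  obtain ⟨m, rfl⟩ := hz
  exact ⟨D.a ^ m, D.commutator_a_pow hG g m⟩

theorem zpowers_b_subset (hodd : p ≠ 2) (hG : IsPGroup p G) (g : G) :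
    (Subgroup.zpowers ⁅D.b, g⁆ : Set G) ⊆ commSet g := by
  intro z hz
  rw [SetLike.mem_coe, ← (isOfFinOrder_of_finite _).mem_powers_iff_mem_zpowers,
    Submonoid.mem_powers_iff] at hz
  obtain ⟨m, rfl⟩ := hz
  obtain ⟨u, hu1, hu⟩ := D.commutator_b_pow hG g
  obtain ⟨e, he⟩ := (IsPGroup.iff_orderOf.mp hG) ⁅D.b, g⁆
  obtain ⟨l, hl⟩ := exists_gs_pow_eq hp.out hodd hu1 ⁅D.b, g⁆ e he m
  exact ⟨D.b ^ l, by rw [← hl]; exact hu l⟩

/-- the commutators `[y, g]` form a cyclic subgroup of `⟨a⟩` -/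
theorem exists_commSet_eq_zpowers (hodd : p ≠ 2) (hG : IsPGroup p G) (g : G) :
    ∃ c : G, c ∈ Subgroup.zpowers D.a ∧ commSet g = (Subgroup.zpowers c : Set G) := by
  have h1 := D.commutator_mem_zpowers_a hG D.a g
  have h2 := D.commutator_mem_zpowers_a hG D.b g
  have hsub : commSet g ⊆ (Subgroup.zpowers ⁅D.a, g⁆ ⊔ Subgroup.zpowers ⁅D.b, g⁆ : Subgroup G) := by
    rintro _ ⟨y, rfl⟩
    exact D.commutator_mem_sup hG g y
  obtain ⟨e₁, he₁⟩ := (IsPGroup.iff_orderOf.mp hG) ⁅D.a, g⁆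
  obtain ⟨e₂, he₂⟩ := (IsPGroup.iff_orderOf.mp hG) ⁅D.b, g⁆
  rcases le_total e₁ e₂ with hle | hle
  · have hdvd : orderOf ⁅D.a, g⁆ ∣ orderOf ⁅D.b, g⁆ := by
      rw [he₁, he₂]; exact pow_dvd_pow p hle
    have hmem := D.mem_zpowers_of_orderOf_dvd h1 h2 hdvd
    have hsup : Subgroup.zpowers ⁅D.a, g⁆ ⊔ Subgroup.zpowers ⁅D.b, g⁆ = Subgroup.zpowers ⁅D.b, g⁆ :=
      sup_eq_right.mpr (Subgroup.zpowers_le.mpr hmem)
    rw [hsup] at hsub
    exact ⟨_, h2, Set.Subset.antisymm hsub (D.zpowers_b_subset hodd hG g)⟩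
  · have hdvd : orderOf ⁅D.b, g⁆ ∣ orderOf ⁅D.a, g⁆ := by
      rw [he₁, he₂]; exact pow_dvd_pow p hle
    have hmem := D.mem_zpowers_of_orderOf_dvd h2 h1 hdvd
    have hsup : Subgroup.zpowers ⁅D.a, g⁆ ⊔ Subgroup.zpowers ⁅D.b, g⁆ = Subgroup.zpowers ⁅D.a, g⁆ :=
      sup_eq_left.mpr (Subgroup.zpowers_le.mpr hmem)
    rw [hsup] at hsub
    exact ⟨_, h1, Set.Subset.antisymm hsub (D.zpowers_a_subset hG g)⟩

/-- the size of the conjugacy class of `g` -/
theorem index_centralizer (hodd : p ≠ 2) (hG : IsPGroup p G) (g : G) :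
    (Subgroup.centralizer ({g} : Set G)).index = max (orderOf ⁅D.a, g⁆) (orderOf ⁅D.b, g⁆) := by
  rw [index_centralizer_eq_card_commSet]
  have h1 := D.commutator_mem_zpowers_a hG D.a g
  have h2 := D.commutator_mem_zpowers_a hG D.b g
  have hsub : commSet g ⊆ (Subgroup.zpowers ⁅D.a, g⁆ ⊔ Subgroup.zpowers ⁅D.b, g⁆ : Subgroup G) := by
    rintro _ ⟨y, rfl⟩
    exact D.commutator_mem_sup hG g y
  obtain ⟨e₁, he₁⟩ := (IsPGroup.iff_orderOf.mp hG) ⁅D.a, g⁆
  obtain ⟨e₂, he₂⟩ := (IsPGroup.iff_orderOf.mp hG) ⁅D.b, g⁆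
  rcases le_total e₁ e₂ with hle | hle
  · have hdvd : orderOf ⁅D.a, g⁆ ∣ orderOf ⁅D.b, g⁆ := by
      rw [he₁, he₂]; exact pow_dvd_pow p hle
    have hmem := D.mem_zpowers_of_orderOf_dvd h1 h2 hdvd
    have hsup : Subgroup.zpowers ⁅D.a, g⁆ ⊔ Subgroup.zpowers ⁅D.b, g⁆ = Subgroup.zpowers ⁅D.b, g⁆ :=
      sup_eq_right.mpr (Subgroup.zpowers_le.mpr hmem)
    rw [hsup] at hsub
    have heq : commSet g = (Subgroup.zpowers ⁅D.b, g⁆ : Set G) :=
      Set.Subset.antisymm hsub (D.zpowers_b_subset hodd hG g)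
    rw [heq, max_eq_right (Nat.le_of_dvd (orderOf_pos _) hdvd)]
    exact Nat.card_zpowers _
  · have hdvd : orderOf ⁅D.b, g⁆ ∣ orderOf ⁅D.a, g⁆ := by
      rw [he₁, he₂]; exact pow_dvd_pow p hle
    have hmem := D.mem_zpowers_of_orderOf_dvd h2 h1 hdvd
    have hsup : Subgroup.zpowers ⁅D.a, g⁆ ⊔ Subgroup.zpowers ⁅D.b, g⁆ = Subgroup.zpowers ⁅D.a, g⁆ :=
      sup_eq_left.mpr (Subgroup.zpowers_le.mpr hmem)
    rw [hsup] at hsub
    have heq : commSet g = (Subgroup.zpowers ⁅D.a, g⁆ : Set G) :=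
      Set.Subset.antisymm hsub (D.zpowers_a_subset hG g)
    rw [heq, max_eq_left (Nat.le_of_dvd (orderOf_pos _) hdvd)]
    exact Nat.card_zpowers _


theorem index_centralizer_a (hodd : p ≠ 2) (hG : IsPGroup p G) :
    (Subgroup.centralizer ({D.a} : Set G)).index = orderOf ⁅D.b, D.a⁆ := by
  rw [D.index_centralizer hodd hG, commutatorElement_self, orderOf_one]
  exact max_eq_right (orderOf_pos _)

theorem index_centralizer_b (hodd : p ≠ 2) (hG : IsPGroup p G) :
    (Subgroup.centralizer ({D.b} : Set G)).index = orderOf ⁅D.b, D.a⁆ := by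
  rw [D.index_centralizer hodd hG, commutatorElement_self, orderOf_one,
    ← commutatorElement_inv D.b D.a, orderOf_inv]
  exact max_eq_left (orderOf_pos _)

theorem card_commutator (hG : IsPGroup p G) :
    Nat.card (commutator G) = orderOf ⁅D.b, D.a⁆ := by
  rw [D.commutator_eq hG, Nat.card_zpowers]

theorem center_eq : Subgroup.center G =
    Subgroup.centralizer ({D.a} : Set G) ⊓ Subgroup.centralizer ({D.b} : Set G) := by
  apply le_antisymm
  · intro z hz
    rw [Subgroup.mem_center_iff] at hz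
    rw [Subgroup.mem_inf]
    refine ⟨?_, ?_⟩ <;>
    · rw [Subgroup.mem_centralizer_iff]
      intro h hh
      rw [Set.mem_singleton_iff] at hh
      rw [hh]
      exact hz _
  · intro z hz
    rw [Subgroup.mem_inf] at hz
    obtain ⟨h1, h2⟩ := hz
    rw [Subgroup.mem_centralizer_iff] at h1 h2
    have ha : Commute D.a z := h1 D.a rfl
    have hb : Commute D.b z := h2 D.b rfl
    rw [Subgroup.mem_center_iff]
    intro g
    obtain ⟨j, i, rfl⟩ := D.gen g
    exact ((hb.pow_left j).mul_left (ha.pow_left i)).eq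

include D in
/-- order of `[x^k, y]` when `x` acts on `[x, y]` as a power map `≡ 1 mod p` -/
theorem orderOf_commutator_pow (hodd : p ≠ 2) (hG : IsPGroup p G) (x y : G) (k : ℕ) :
    orderOf ⁅x ^ k, y⁆ = orderOf ⁅x, y⁆ / Nat.gcd (orderOf ⁅x, y⁆) k := by
  obtain ⟨u, hu1, hu⟩ := D.exists_conj hG x
  rw [commutator_pow_left x y u (hu _ (D.commutator_mem_zpowers_a hG x y)) k, orderOf_pow]
  obtain ⟨e, he⟩ := (IsPGroup.iff_orderOf.mp hG) ⁅x, y⁆
  rw [he, gcd_pow_gs hp.out hodd hu1]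

include D in
theorem orderOf_commutator_pow_right (hodd : p ≠ 2) (hG : IsPGroup p G) (x y : G) (k : ℕ) :
    orderOf ⁅y, x ^ k⁆ = orderOf ⁅y, x⁆ / Nat.gcd (orderOf ⁅y, x⁆) k := by
  rw [← commutatorElement_inv (x ^ k) y, orderOf_inv, D.orderOf_commutator_pow hodd hG,
    ← commutatorElement_inv x y, orderOf_inv]

/-- the class size of `b^j a^i` -/
theorem index_centralizer_gen (hodd : p ≠ 2) (hG : IsPGroup p G) (j i : ℕ) :
    (Subgroup.centralizer ({D.b ^ j * D.a ^ i} : Set G)).index =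
      max (orderOf ⁅D.b, D.a⁆ / Nat.gcd (orderOf ⁅D.b, D.a⁆) j)
        (orderOf ⁅D.b, D.a⁆ / Nat.gcd (orderOf ⁅D.b, D.a⁆) i) := by
  rw [D.index_centralizer hodd hG]
  have h1 : ⁅D.a, D.b ^ j * D.a ^ i⁆ = ⁅D.a, D.b ^ j⁆ := by
    rw [commutator_mul_right]
    have : ⁅D.a, D.a ^ i⁆ = 1 := by
      rw [commutatorElement_eq_one_iff_commute]
      exact Commute.pow_right (Commute.refl _) _
    rw [this]
    group
  have h2 : ⁅D.b, D.b ^ j * D.a ^ i⁆ = D.b ^ j * ⁅D.b, D.a ^ i⁆ * (D.b ^ j)⁻¹ := by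
    rw [commutator_mul_right]
    have : ⁅D.b, D.b ^ j⁆ = 1 := by
      rw [commutatorElement_eq_one_iff_commute]
      exact Commute.pow_right (Commute.refl _) _
    rw [this, one_mul]
  have h3 : orderOf ⁅D.a, D.b⁆ = orderOf ⁅D.b, D.a⁆ := by
    rw [← commutatorElement_inv D.b D.a, orderOf_inv]
  rw [h1, h2, D.orderOf_commutator_pow_right hodd hG, h3]
  have h4 : orderOf (D.b ^ j * ⁅D.b, D.a ^ i⁆ * (D.b ^ j)⁻¹) = orderOf ⁅D.b, D.a ^ i⁆ := by
    exact orderOf_conj_eq (D.b ^ j) _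
  rw [h4, D.orderOf_commutator_pow_right hodd hG, max_comm]

/-- elements whose commutators all have exponent dividing `t` -/
def W (t : ℕ) : Subgroup G where
  carrier := {g | ∀ y : G, ⁅y, g⁆ ^ t = 1 ∧ ⁅y, g⁆ ∈ Subgroup.zpowers D.a}
  one_mem' := by
    intro y
    rw [commutatorElement_one_right]
    exact ⟨one_pow _, Subgroup.one_mem _⟩
  mul_mem' := by
    intro g h hg hh y
    rw [commutator_mul_right]
    have h1 := hg y
    have h2 := hh y
    have h3 : g * ⁅y, h⁆ * g⁻¹ ∈ Subgroup.zpowers D.a := D.conj_mem g h2.2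
    refine ⟨?_, Subgroup.mul_mem _ h1.2 h3⟩
    have hcomm : Commute ⁅y, g⁆ (g * ⁅y, h⁆ * g⁻¹) := by
      have h4 := h1.2
      have h5 := h3
      rw [Subgroup.mem_zpowers_iff] at h4 h5
      obtain ⟨k₁, hk₁⟩ := h4
      obtain ⟨k₂, hk₂⟩ := h5
      rw [← hk₁, ← hk₂]
      exact Commute.zpow_zpow (Commute.refl _) _ _
    rw [hcomm.mul_pow, h1.1, one_mul, conj_pow, h2.1]
    group
  inv_mem' := by
    intro g hg y
    have h1 := hg y
    have hid : ⁅y, g⁻¹⁆ = g⁻¹ * ⁅y, g⁆⁻¹ * g⁻¹⁻¹ := by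
      simp only [commutatorElement_def]
      group
    rw [hid]
    refine ⟨?_, D.conj_mem g⁻¹ (Subgroup.inv_mem _ h1.2)⟩
    rw [conj_pow, inv_pow, h1.1]
    group

theorem mem_W_iff (hG : IsPGroup p G) (t : ℕ) (g : G) :
    g ∈ D.W t ↔ ∀ y : G, ⁅y, g⁆ ^ t = 1 := by
  constructor
  · intro h y
    exact (h y).1
  · intro h y
    exact ⟨h y, D.commutator_mem_zpowers_a hG y g⟩

/-- `W (p^m)` consists of the elements with class size at most `p^m` -/
theorem mem_W_pow_iff (hodd : p ≠ 2) (hG : IsPGroup p G) (m : ℕ) (g : G) :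
    g ∈ D.W (p ^ m) ↔ (Subgroup.centralizer ({g} : Set G)).index ≤ p ^ m := by
  rw [D.mem_W_iff hG, index_centralizer_eq_card_commSet]
  obtain ⟨c, -, hc⟩ := D.exists_commSet_eq_zpowers hodd hG g
  have hcard : Nat.card (commSet g) = orderOf c := by
    rw [hc]; exact Nat.card_zpowers c
  rw [hcard]
  obtain ⟨e, he⟩ := (IsPGroup.iff_orderOf.mp hG) c
  constructor
  · intro h
    have hcmem : c ∈ commSet g := by rw [hc]; exact Subgroup.mem_zpowers c
    obtain ⟨y, hy⟩ := hcmem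
    have h1 : c ^ (p ^ m) = 1 := by rw [← hy]; exact h y
    exact Nat.le_of_dvd (pow_pos hp.out.pos m) (orderOf_dvd_of_pow_eq_one h1)
  · intro h y
    have hy : ⁅y, g⁆ ∈ commSet g := ⟨y, rfl⟩
    rw [hc, SetLike.mem_coe, Subgroup.mem_zpowers_iff] at hy
    obtain ⟨k, hk⟩ := hy
    rw [← hk, ← zpow_natCast, ← zpow_mul, mul_comm, zpow_mul, zpow_natCast]
    have hdvd : orderOf c ∣ p ^ m := by
      rw [he] at h ⊢
      exact pow_dvd_pow p ((Nat.pow_le_pow_iff_right hp.out.one_lt).mp h)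
    rw [orderOf_dvd_iff_pow_eq_one.mp hdvd, one_zpow]

include D in
/-- `|G : Z(G)| = |G'|^2` -/
theorem index_center (hodd : p ≠ 2) (hG : IsPGroup p G) :
    (Subgroup.center G).index = Nat.card (commutator G) ^ 2 := by
  set Ca := Subgroup.centralizer ({D.a} : Set G) with hCa
  set Cb := Subgroup.centralizer ({D.b} : Set G) with hCb
  set q := orderOf ⁅D.b, D.a⁆ with hq
  have h1 : Nat.card Ca = Nat.card (Cb.subgroupOf Ca) *
      Nat.card (Set.range (fun x : Ca => (QuotientGroup.mk (x : G) : G ⧸ Cb))) :=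
    card_eq_card_mul_card_range (Cb.subgroupOf Ca)
      (fun x : Ca => (QuotientGroup.mk (x : G) : G ⧸ Cb)) (by
        intro x y
        rw [QuotientGroup.eq, Subgroup.mem_subgroupOf]
        rfl)
  have hrange : Set.range (fun x : Ca => (QuotientGroup.mk (x : G) : G ⧸ Cb)) = Set.univ := by
    rw [Set.eq_univ_iff_forall]
    intro t
    obtain ⟨g, rfl⟩ := QuotientGroup.mk_surjective t
    obtain ⟨j, i, hji⟩ := D.gen g⁻¹
    have hx : (D.a ^ i)⁻¹ ∈ Ca := by
      apply Subgroup.inv_mem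
      apply Subgroup.pow_mem
      rw [hCa, Subgroup.mem_centralizer_iff]
      intro h hh
      rw [Set.mem_singleton_iff] at hh
      rw [hh]
    have hy : (D.b ^ j)⁻¹ ∈ Cb := by
      apply Subgroup.inv_mem
      apply Subgroup.pow_mem
      rw [hCb, Subgroup.mem_centralizer_iff]
      intro h hh
      rw [Set.mem_singleton_iff] at hh
      rw [hh]
    refine ⟨⟨_, hx⟩, ?_⟩
    show (QuotientGroup.mk (D.a ^ i)⁻¹ : G ⧸ Cb) = QuotientGroup.mk g
    rw [QuotientGroup.eq]
    have : g = (D.a ^ i)⁻¹ * (D.b ^ j)⁻¹ := by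
      rw [← mul_inv_rev, ← hji, inv_inv]
    rw [this]
    simpa using hy
  rw [hrange, Nat.card_congr (Equiv.Set.univ _), ← Subgroup.index_eq_card,
    D.index_centralizer_b hodd hG] at h1
  have h2 : Nat.card (Cb.subgroupOf Ca) = Nat.card (Subgroup.center G) := by
    rw [D.center_eq, ← Subgroup.inf_subgroupOf_left]
    exact Nat.card_congr (Subgroup.subgroupOfEquivOfLe inf_le_left).toEquiv
  have h3 := Subgroup.card_mul_index Ca
  rw [D.index_centralizer_a hodd hG, h1, h2] at h3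
  have h4 := Subgroup.card_mul_index (Subgroup.center G)
  rw [← h3] at h4
  rw [D.card_commutator hG]
  have hpos : 0 < Nat.card (Subgroup.center G) := Nat.card_pos
  have : Nat.card (Subgroup.center G) * (Subgroup.center G).index =
      Nat.card (Subgroup.center G) * (q ^ 2) := by
    rw [h4]; ring
  exact Nat.eq_of_mul_eq_mul_left hpos this


/-- the image generators in a quotient -/
def quotient (K : Subgroup G) [K.Normal] : MCGen (G ⧸ K) where
  a := QuotientGroup.mk D.a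
  b := QuotientGroup.mk D.b
  normal := by
    have h : Subgroup.zpowers (QuotientGroup.mk D.a : G ⧸ K) =
        (Subgroup.zpowers D.a).map (QuotientGroup.mk' K) := by
      rw [MonoidHom.map_zpowers]; rfl
    rw [h]
    exact Subgroup.Normal.map D.normal _ (QuotientGroup.mk'_surjective K)
  gen := by
    intro t
    obtain ⟨g, rfl⟩ := QuotientGroup.mk_surjective t
    obtain ⟨j, i, rfl⟩ := D.gen g
    exact ⟨j, i, by simp⟩

/-- the order of `W (p^m)` -/
theorem card_W (hodd : p ≠ 2) (hG : IsPGroup p G) (n : ℕ) (hq : orderOf ⁅D.b, D.a⁆ = p ^ n)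
    (m : ℕ) (hm : m ≤ n) :
    Nat.card (D.W (p ^ m)) = Nat.card (Subgroup.center G) * p ^ (2 * m) := by
  set c₀ := ⁅D.b, D.a⁆ with hc₀
  set k := c₀ ^ (p ^ (n - m)) with hk
  have hkN : k ∈ Subgroup.zpowers D.a := Subgroup.pow_mem _ D.commutator_ba_mem _
  haveI hKn : (Subgroup.zpowers k).Normal := D.zpowers_normal hG hkN
  have hpos : p ^ (n - m) ≠ 0 := (pow_pos hp.out.pos _).ne'
  have hdvd : p ^ (n - m) ∣ orderOf c₀ := by rw [hq]; exact pow_dvd_pow p (Nat.sub_le n m)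
  have hko : orderOf k = p ^ m := by
    rw [hk, orderOf_pow_of_dvd hpos hdvd, hq, Nat.pow_div (Nat.sub_le n m) hp.out.pos]
    congr 1
    omega
  -- the quotient
  have hGq : IsPGroup p (G ⧸ Subgroup.zpowers k) := hG.to_quotient _
  have hqo : orderOf ⁅(D.quotient (Subgroup.zpowers k)).b, (D.quotient (Subgroup.zpowers k)).a⁆ =
      p ^ (n - m) := by
    have e1 : ⁅(D.quotient (Subgroup.zpowers k)).b, (D.quotient (Subgroup.zpowers k)).a⁆ =
        QuotientGroup.mk' (Subgroup.zpowers k) c₀ := by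
      rw [hc₀, map_commutatorElement]; rfl
    rw [e1]
    rcases Nat.eq_zero_or_pos (n - m) with h0 | h0
    · rw [h0, pow_zero, orderOf_eq_one_iff, QuotientGroup.mk'_apply, QuotientGroup.eq_one_iff]
      rw [hk, h0, pow_zero, pow_one]
      exact Subgroup.mem_zpowers _
    · obtain ⟨r, hr⟩ := Nat.exists_eq_succ_of_ne_zero h0.ne'
      rw [hr]
      apply orderOf_eq_prime_pow
      · rw [← map_pow, QuotientGroup.mk'_apply, QuotientGroup.eq_one_iff]
        intro hmem
        have h1 := orderOf_dvd_of_mem_zpowers hmem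
        have hr' : r ≤ n := by omega
        have hdvd' : p ^ r ∣ orderOf c₀ := by rw [hq]; exact pow_dvd_pow p hr'
        rw [orderOf_pow_of_dvd (pow_pos hp.out.pos _).ne' hdvd', hq, hko,
          Nat.pow_div hr' hp.out.pos] at h1
        have := (Nat.pow_dvd_pow_iff_le_right hp.out.one_lt).mp h1
        omega
      · rw [← map_pow, QuotientGroup.mk'_apply, QuotientGroup.eq_one_iff, ← Nat.succ_eq_add_one,
          ← hr]
        exact Subgroup.mem_zpowers _
  have hidx := (D.quotient (Subgroup.zpowers k)).index_center hodd hGq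
  rw [(D.quotient (Subgroup.zpowers k)).card_commutator hGq, hqo] at hidx
  -- W is the preimage of the center
  have hW : D.W (p ^ m) =
      (Subgroup.center (G ⧸ Subgroup.zpowers k)).comap (QuotientGroup.mk' (Subgroup.zpowers k)) := by
    ext g
    rw [D.mem_W_iff hG, Subgroup.mem_comap, Subgroup.mem_center_iff]
    constructor
    · intro h t
      obtain ⟨y, rfl⟩ := QuotientGroup.mk_surjective t
      have h1 := h y
      have h2 : ⁅y, g⁆ ∈ Subgroup.zpowers k := by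
        apply D.mem_zpowers_of_orderOf_dvd (D.commutator_mem_zpowers_a hG y g) hkN
        rw [hko]
        exact orderOf_dvd_of_pow_eq_one h1
      rw [← QuotientGroup.eq_one_iff, ← QuotientGroup.mk'_apply, map_commutatorElement,
        commutatorElement_eq_one_iff_commute] at h2
      exact h2.eq
    · intro h y
      have h1 : ⁅y, g⁆ ∈ Subgroup.zpowers k := by
        rw [← QuotientGroup.eq_one_iff, ← QuotientGroup.mk'_apply, map_commutatorElement,
          commutatorElement_eq_one_iff_commute]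
        exact h (QuotientGroup.mk' _ y)
      have h2 := orderOf_dvd_of_mem_zpowers h1
      rw [hko] at h2
      exact orderOf_dvd_iff_pow_eq_one.mp h2
  have hWidx : (D.W (p ^ m)).index = (p ^ (n - m)) ^ 2 := by
    rw [hW, Subgroup.index_comap_of_surjective _ (QuotientGroup.mk'_surjective _), hidx]
  have h3 := Subgroup.card_mul_index (D.W (p ^ m))
  have h4 := Subgroup.card_mul_index (Subgroup.center G)
  rw [D.index_center hodd hG, D.card_commutator hG, hq] at h4
  rw [hWidx, ← h4] at h3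
  have h5 : Nat.card (D.W (p ^ m)) * (p ^ (n - m)) ^ 2 =
      (Nat.card (Subgroup.center G) * p ^ (2 * m)) * (p ^ (n - m)) ^ 2 := by
    rw [h3, mul_assoc]
    congr 1
    rw [← pow_mul, ← pow_mul, ← pow_add]
    congr 1
    omega
  exact Nat.eq_of_mul_eq_mul_right (pow_pos (pow_pos hp.out.pos _) 2) h5

end MCGen

end Cfsg.Agent.Helper21
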