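import Mathlib
import Cfsg.Prelude.Def_HallClasses

/-!
# π-subgroups, Hall subgroups and conjugation (helper21)

Small toolbox: conjugates `MulAut.conj g • H`, membership by coprimality of order and index,
a relative Sylow theorem, maximality of Hall subgroups among π-subgroups, and commuting of elements
of coprime orders in a nilpotent subgroup.
-/

set_option autoImplicit false

namespace Cfsg.Agent.Helper21

open Subgroup Pointwise

variable {G : Type*} [Group G]

theorem card_conj_smul (g : G) (H : Subgroup G) : Nat.card ↥(MulAut.conj g • H) = Nat.card H :=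
  (Nat.card_congr (Subgroup.equivSMul (MulAut.conj g) H).toEquiv).symm

theorem index_conj_smul (g : G) (H : Subgroup G) : (MulAut.conj g • H).index = H.index :=
  Subgroup.index_map_equiv H (MulAut.conj g)

theorem mem_conj_smul' {g x : G} {H : Subgroup G} : x ∈ MulAut.conj g • H ↔ g⁻¹ * x * g ∈ H := by
  rw [Subgroup.mem_pointwise_smul_iff_inv_smul_mem, ← map_inv, MulAut.smul_def, MulAut.conj_apply,
    inv_inv]

theorem conj_mem_conj_smul {g x : G} {H : Subgroup G} (hx : x ∈ H) :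
    g * x * g⁻¹ ∈ MulAut.conj g • H := by
  rw [mem_conj_smul']
  have : g⁻¹ * (g * x * g⁻¹) * g = x := by group
  rw [this]; exact hx

theorem conj_smul_mono (g : G) {H K : Subgroup G} (h : H ≤ K) :
    MulAut.conj g • H ≤ MulAut.conj g • K :=
  Subgroup.pointwise_smul_le_pointwise_smul_iff.mpr h

theorem conj_smul_smul (g c : G) (H : Subgroup G) :
    MulAut.conj c • (MulAut.conj g • H) = MulAut.conj (c * g) • H := by
  rw [map_mul, mul_smul]

theorem isPiSubgroup_conj [Finite G] {π : Set ℕ} {H : Subgroup G} (h : Cfsg.IsPiSubgroup π H)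
    (g : G) : Cfsg.IsPiSubgroup π (MulAut.conj g • H) := by
  intro p hp hdvd
  rw [card_conj_smul] at hdvd
  exact h p hp hdvd

theorem isPiSubgroup_of_le [Finite G] {π : Set ℕ} {H K : Subgroup G} (h : Cfsg.IsPiSubgroup π H)
    (hKH : K ≤ H) : Cfsg.IsPiSubgroup π K := by
  intro p hp hdvd
  exact h p hp (hdvd.trans (Subgroup.card_dvd_of_le hKH))

/-- An element of `M` normalizing... : if `N ⊴ M` and the order of `x ∈ M` is prime to `|M : N|`
then `x ∈ N`. -/
theorem mem_of_coprime_relIndex [Finite G] (M N : Subgroup G) (hNM : N ≤ M)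
    (hnorm : M ≤ normalizer (N : Set G)) {x : G} (hx : x ∈ M)
    (hcop : (orderOf x).Coprime (N.relIndex M)) : x ∈ N := by
  haveI : (N.subgroupOf M).Normal := (Subgroup.normal_subgroupOf_iff_le_normalizer hNM).mpr hnorm
  set y : M ⧸ N.subgroupOf M := QuotientGroup.mk' (N.subgroupOf M) ⟨x, hx⟩ with hy
  have h1 : orderOf y ∣ orderOf x := by
    have := orderOf_map_dvd (QuotientGroup.mk' (N.subgroupOf M)) (⟨x, hx⟩ : M)
    rwa [Subgroup.orderOf_mk] at this
  have h2 : orderOf y ∣ N.relIndex M := orderOf_dvd_natCard y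
  have h3 : orderOf y = 1 := Nat.eq_one_of_dvd_coprimes hcop h1 h2
  have h4 : y = 1 := orderOf_eq_one_iff.mp h3
  rw [hy, QuotientGroup.mk'_apply, QuotientGroup.eq_one_iff, Subgroup.mem_subgroupOf] at h4
  exact h4

/-- Relative Sylow theorem: a `p`-subgroup `R` of `K` is `K`-conjugate into any `p`-subgroup `Q` of
`K` of index prime to `p` in `K`. -/
theorem exists_conj_mem_of_relIndex [Finite G] {p : ℕ} [Fact p.Prime] (K Q R : Subgroup G)
    (hQK : Q ≤ K) (hQ : IsPGroup p Q) (hidx : ¬ p ∣ Q.relIndex K) (hRK : R ≤ K)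
    (hR : IsPGroup p R) : ∃ c ∈ K, R ≤ MulAut.conj c • Q := by
  have hQ' : IsPGroup p (Q.subgroupOf K) := hQ.comap_subtype
  have hidx' : ¬ p ∣ (Q.subgroupOf K).index := hidx
  let Q'' : Sylow p K := hQ'.toSylow hidx'
  have hR' : IsPGroup p (R.subgroupOf K) := hR.comap_subtype
  obtain ⟨R1, hR1⟩ := hR'.exists_le_sylow
  obtain ⟨⟨c, hcK⟩, hc⟩ := MulAction.exists_smul_eq K Q'' R1
  refine ⟨c, hcK, fun y hy => ?_⟩
  have h1 : (⟨y, hRK hy⟩ : K) ∈ (R1 : Subgroup K) :=
    hR1 (by rw [Subgroup.mem_subgroupOf]; exact hy)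
  rw [← hc, Sylow.smul_def, Sylow.pointwise_smul_def,
    Subgroup.mem_pointwise_smul_iff_inv_smul_mem] at h1
  have h2 : (⟨c, hcK⟩ : K)⁻¹ * ⟨y, hRK hy⟩ * ⟨c, hcK⟩ ∈ Q.subgroupOf K := by
    have h3 : (MulAut.conj (⟨c, hcK⟩ : K))⁻¹ • (⟨y, hRK hy⟩ : K) =
        (⟨c, hcK⟩ : K)⁻¹ * ⟨y, hRK hy⟩ * ⟨c, hcK⟩ := by
      rw [← map_inv, MulAut.smul_def, MulAut.conj_apply, inv_inv]
    rw [h3] at h1
    exact h1
  rw [Subgroup.mem_subgroupOf] at h2
  rw [mem_conj_smul']
  exact h2

/-- A Hall `ρ`-subgroup is a maximal `ρ`-subgroup. -/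
theorem maximal_of_hall [Finite G] {ρ : Set ℕ} {T : Subgroup G} (hT : Cfsg.IsPiSubgroup ρ T)
    (hidx : ∀ q : ℕ, q.Prime → q ∈ ρ → ¬ q ∣ T.index) : Maximal (Cfsg.IsPiSubgroup ρ) T := by
  refine ⟨hT, fun L hL hTL => ?_⟩
  rw [← Subgroup.relIndex_eq_one]
  by_contra hne
  obtain ⟨q, hq, hqd⟩ := Nat.exists_prime_and_dvd hne
  have h1 : q ∣ Nat.card L := hqd.trans (Subgroup.relIndex_dvd_card T L)
  have h2 : q ∣ T.index := hqd.trans (Subgroup.relIndex_dvd_index_of_le hTL)
  exact hidx q hq (hL q hq h1) h2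

/-- every `ρ`-subgroup lies in a maximal one -/
theorem exists_le_maximal_piSubgroup [Finite G] {ρ : Set ℕ} {L : Subgroup G}
    (hL : Cfsg.IsPiSubgroup ρ L) : ∃ M : Subgroup G, L ≤ M ∧ Maximal (Cfsg.IsPiSubgroup ρ) M :=
  Finite.exists_le_maximal hL

/-- In a nilpotent group, elements of coprime finite orders commute. -/
theorem commute_of_coprime_of_nilpotent (N : Type*) [Group N] [Group.IsNilpotent N] :
    ∀ a b : N, IsOfFinOrder a → IsOfFinOrder b → (orderOf a).Coprime (orderOf b) → a * b = b * a := by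
  refine Group.nilpotent_center_quotient_ind
    (P := fun N _ _ => ∀ a b : N, IsOfFinOrder a → IsOfFinOrder b →
      (orderOf a).Coprime (orderOf b) → a * b = b * a) N ?_ ?_
  · intro N _ _ a b _ _ _
    exact Subsingleton.elim _ _
  · intro N _ _ ih a b ha hb hcop
    have h1 := ih (QuotientGroup.mk' (Subgroup.center N) a) (QuotientGroup.mk' (Subgroup.center N) b)
      (MonoidHom.isOfFinOrder _ ha) (MonoidHom.isOfFinOrder _ hb)
      (Nat.Coprime.coprime_dvd_left (orderOf_map_dvd _ a)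
        (Nat.Coprime.coprime_dvd_right (orderOf_map_dvd _ b) hcop))
    have hz : a * b * a⁻¹ * b⁻¹ ∈ Subgroup.center N := by
      rw [← QuotientGroup.eq_one_iff]
      change QuotientGroup.mk' (Subgroup.center N) (a * b * a⁻¹ * b⁻¹) = 1
      rw [map_mul, map_mul, map_mul, h1, map_inv, map_inv]
      group
    set z := a * b * a⁻¹ * b⁻¹ with hzdef
    have hzc : ∀ g : N, g * z = z * g := fun g => (Subgroup.mem_center_iff.mp hz g)
    have hab : a * b * a⁻¹ = z * b := by rw [hzdef]; group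
    have h2 : z ^ orderOf b = 1 := by
      have h3 : (z * b) ^ orderOf b = z ^ orderOf b * b ^ orderOf b :=
        (Commute.mul_pow (show Commute z b from (hzc b).symm) _)
      have h4 : (a * b * a⁻¹) ^ orderOf b = 1 := by
        rw [conj_pow, pow_orderOf_eq_one]; group
      rw [hab, h3, pow_orderOf_eq_one, mul_one] at h4
      exact h4
    have hba : b * a⁻¹ * b⁻¹ = a⁻¹ * z := by
      rw [hzdef]; group
    have h5 : z ^ orderOf a = 1 := by
      have h3 : (a⁻¹ * z) ^ orderOf a = a⁻¹ ^ orderOf a * z ^ orderOf a :=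
        (Commute.mul_pow (show Commute a⁻¹ z from hzc a⁻¹) _)
      have h4 : (b * a⁻¹ * b⁻¹) ^ orderOf a = 1 := by
        rw [conj_pow, inv_pow, pow_orderOf_eq_one]; group
      rw [hba, h3, inv_pow, pow_orderOf_eq_one, inv_one, one_mul] at h4
      exact h4
    have h6 : orderOf z ∣ 1 := by
      rw [← Nat.Coprime.gcd_eq_one hcop]
      exact Nat.dvd_gcd (orderOf_dvd_of_pow_eq_one h5) (orderOf_dvd_of_pow_eq_one h2)
    have h7 : z = 1 := orderOf_eq_one_iff.mp (Nat.dvd_one.mp h6)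
    calc a * b = (a * b * a⁻¹ * b⁻¹) * (b * a) := by group
      _ = b * a := by rw [← hzdef, h7, one_mul]

/-- Elements of coprime orders in a nilpotent subgroup commute. -/
theorem commute_of_mem_of_nilpotent [Finite G] {N : Subgroup G} (hN : Group.IsNilpotent N) {a b : G}
    (ha : a ∈ N) (hb : b ∈ N) (hcop : (orderOf a).Coprime (orderOf b)) : a * b = b * a := by
  have h1 := commute_of_coprime_of_nilpotent N ⟨a, ha⟩ ⟨b, hb⟩ (isOfFinOrder_of_finite _)
    (isOfFinOrder_of_finite _)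
    (by rw [Subgroup.orderOf_mk, Subgroup.orderOf_mk]; exact hcop)
  exact congrArg Subtype.val h1

end Cfsg.Agent.Helper21
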