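import Mathlib
import Cfsg.Agent.Lib.Helper3.HH.Core
import Cfsg.Agent.Lib.Helper21.HHXLIN

/-!
# S3786 (helper3's farm-out), piece X-LIN, exact-signature wrapper (helper21)
-/

set_option autoImplicit false

namespace Cfsg.Agent.Helper3.HHX

open Subgroup Cfsg.Agent.Helper4.ThB

/-- PIECE X-LIN: socles of tight elements commute, linear form. -/
theorem linear_comm {F : Type*} [Field F] {p q : ℕ} [Fact p.Prime] [Fact q.Prime] (hpq : p ≠ q)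
    [CharP F p] {V : Type*} [AddCommGroup V] [Module F V] [FiniteDimensional F V]
    [Finite (V ≃ₗ[F] V)]
    (Q S : Subgroup (V ≃ₗ[F] V)) (hQ : IsPGroup q Q) (hS : IsPGroup p S)
    (hSQ : S ≤ normalizer (Q : Set (V ≃ₗ[F] V)))
    (z₁ z₂ : V ≃ₗ[F] V) (hz₁ : z₁ ∈ S) (hz₂ : z₂ ∈ S) (k₁ k₂ : ℕ) (hk₁ : 1 ≤ k₁) (hk₂ : 1 ≤ k₂)
    (h₁ : (op z₁ - 1) ^ (p ^ k₁ - 1) = 0) (h₂ : (op z₂ - 1) ^ (p ^ k₂ - 1) = 0) :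
    ∀ g ∈ Q, (z₁ ^ p ^ (k₁ - 1) * z₂ ^ p ^ (k₂ - 1) * (z₁ ^ p ^ (k₁ - 1))⁻¹ *
      (z₂ ^ p ^ (k₂ - 1))⁻¹) * g = g * (z₁ ^ p ^ (k₁ - 1) * z₂ ^ p ^ (k₂ - 1) *
      (z₁ ^ p ^ (k₁ - 1))⁻¹ * (z₂ ^ p ^ (k₂ - 1))⁻¹) :=
  linear_comm_of_core hpq Q S hQ
    (fun T hT z₁ z₂ hz₁ hz₂ k₁ k₂ h₁ h₂ => core hpq Q S hQ hS hSQ T hT z₁ z₂ hz₁ hz₂ k₁ k₂ h₁ h₂)
    z₁ z₂ hz₁ hz₂ k₁ k₂ hk₁ hk₂ h₁ h₂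

end Cfsg.Agent.Helper3.HHX
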