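import Mathlib
import Cfsg.Prelude.Def_Solvable

/-!
# S4839 (helper21): definitions for the abstract "Gagola pair" setting.

`N` is a normal subgroup of `G`; `Setting p N` collects the purely group-theoretic facts that the
proved rows S4835 / S4837 / S4838 give for the support `N` of an irreducible character which is
nonzero on exactly two classes.
-/

set_option autoImplicit false

namespace Cfsg.Agent.Helper21.GAG39

variable {G : Type*} [Group G]

/-- the fixed points of (conjugation by) `a` on `N`, as a subgroup of `G` -/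
def fixN (N : Subgroup G) (a : G) : Subgroup G := N ⊓ Subgroup.centralizer ({a} : Set G)

theorem mem_fixN {N : Subgroup G} {a v : G} : v ∈ fixN N a ↔ v ∈ N ∧ a * v = v * a := by
  unfold fixN
  rw [Subgroup.mem_inf, Subgroup.mem_centralizer_iff]
  constructor
  · rintro ⟨h1, h2⟩
    exact ⟨h1, h2 a rfl⟩
  · rintro ⟨h1, h2⟩
    refine ⟨h1, ?_⟩
    intro b hb
    rw [Set.mem_singleton_iff] at hb
    subst hb
    exact h2

/-- the abstract setting -/
structure Setting (p : ℕ) (N : Subgroup G) [N.Normal] : Prop where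
  ne_bot : N ≠ ⊥
  comm : ∀ a ∈ N, ∀ b ∈ N, a * b = b * a
  pow_p : ∀ a ∈ N, a ^ p = 1
  cent : ∀ x ∈ N, x ≠ 1 → IsPGroup p (Subgroup.centralizer ({x} : Set G))
  camina : ∀ x : G, x ∉ N → Nat.card (Subgroup.centralizer ({x} : Set G)) =
      Nat.card (Subgroup.centralizer ({(x : G ⧸ N)} : Set (G ⧸ N)))
  trans : ∀ x ∈ N, ∀ y ∈ N, x ≠ 1 → y ≠ 1 → ∃ g : G, g * x * g⁻¹ = y

end Cfsg.Agent.Helper21.GAG39
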