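import Mathlib
import Cfsg.Prelude.Def_Characters
import Cfsg.Prelude.Def_Solvable
import Cfsg.Prelude.Def_TwoFusion

/-!
# S3702 (helper21): definitions for the `3³ : S₄` configuration (`H = N_{A₉}(3³)`).
See plans/S3702_proof.md, plans/S3702_Skel.lean.txt.

`K0 ≤ Sym(9)` is the group of the statement (order 648), `J0 = ⟨(012),(345),(678)⟩ = O₃(K0)`,
`p1 = (012)`, `p2 = (012)(345)`, `p3 = (012)(345)(678)` represent the three `K0`-classes of `J0 ∖ 1`
(sizes 6, 12, 8; centralizers of order 108, 54, 81).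
-/

set_option autoImplicit false
set_option linter.unusedSectionVars false
set_option linter.unusedVariables false

namespace Cfsg.Agent.Helper21.N9

open Cfsg

universe u

/-- the four generators of the statement -/
def c1 : Equiv.Perm (Fin 9) := Equiv.swap (0 : Fin 9) 1 * Equiv.swap 1 2
/-- the four generators of the statement -/
def c2 : Equiv.Perm (Fin 9) :=
  Equiv.swap (0 : Fin 9) 3 * Equiv.swap 3 6 * (Equiv.swap (1 : Fin 9) 4 * Equiv.swap 4 7) *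
    (Equiv.swap (2 : Fin 9) 5 * Equiv.swap 5 8)
/-- the four generators of the statement -/
def c3 : Equiv.Perm (Fin 9) := Equiv.swap (0 : Fin 9) 1 * Equiv.swap 3 4
/-- the four generators of the statement -/
def c4 : Equiv.Perm (Fin 9) :=
  Equiv.swap (0 : Fin 9) 3 * Equiv.swap 1 4 * Equiv.swap 2 5 * Equiv.swap 6 7

/-- the group of the statement, `3³ : S₄` of order 648 -/
def K0 : Subgroup (Equiv.Perm (Fin 9)) :=
  Subgroup.closure ({c1, c2, c3, c4} : Set (Equiv.Perm (Fin 9)))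

/-- `c1 = (0 1 2)` as an element of `K0` -/
def g1 : ↥K0 := ⟨c1, Subgroup.subset_closure (by simp)⟩
/-- `c2 = (0 3 6)(1 4 7)(2 5 8)` as an element of `K0` -/
def g2 : ↥K0 := ⟨c2, Subgroup.subset_closure (by simp)⟩
/-- `c3 = (0 1)(3 4)` as an element of `K0` -/
def g3 : ↥K0 := ⟨c3, Subgroup.subset_closure (by simp)⟩
/-- `c4 = (0 3)(1 4)(2 5)(6 7)` as an element of `K0` -/
def g4 : ↥K0 := ⟨c4, Subgroup.subset_closure (by simp)⟩

/-- `a1 = (0 1 2)` -/
def a1 : ↥K0 := g1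
/-- `a2 = (3 4 5) = c2 a1 c2⁻¹` -/
def a2 : ↥K0 := g2 * g1 * g2⁻¹
/-- `a3 = (6 7 8) = c2⁻¹ a1 c2` -/
def a3 : ↥K0 := g2⁻¹ * g1 * g2

/-- `J0 = ⟨a1, a2, a3⟩`, elementary abelian of order 27, `= O₃(K0)` -/
def J0 : Subgroup ↥K0 := Subgroup.closure ({a1, a2, a3} : Set ↥K0)

/-- representative of the weight 1 class of `J0` (6 elements) -/
def p1 : ↥K0 := a1
/-- representative of the weight 2 class of `J0` (12 elements) -/
def p2 : ↥K0 := a1 * a2
/-- representative of the weight 3 class of `J0` (8 elements) -/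
def p3 : ↥K0 := a1 * a2 * a3

/-- Gram matrix of the nine generalized characters `l_φ = φ - (φ|_{S₄})` of `K0`,
`φ = α₀ α₁ α₂ α₃` (degree 6), `β₀ β₁` (degree 12), `γ₀ γ₁ γ₂` (degree 8) -/
def gram : Fin 9 → Fin 9 → ℤ :=
  ![![4, 1, 1, 1, 3, 3, 2, 2, 2],
    ![1, 3, 1, 2, 3, 3, 2, 2, 2],
    ![1, 1, 4, 1, 3, 3, 2, 2, 2],
    ![1, 2, 1, 3, 3, 3, 2, 2, 2],
    ![3, 3, 3, 3, 8, 5, 4, 4, 4],
    ![3, 3, 3, 3, 5, 8, 4, 4, 4],
    ![2, 2, 2, 2, 4, 4, 5, 2, 2],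
    ![2, 2, 2, 2, 4, 4, 2, 4, 3],
    ![2, 2, 2, 2, 4, 4, 2, 3, 4]]

/-- multiplicity of the principal character in `l_φ` -/
def trivc : Fin 9 → ℤ := ![-1, 0, 0, 0, -1, 0, -1, 0, 0]

section Cfg

variable {G : Type u} [Group G]

/-- the configuration of S3702 inside `G` -/
structure Cfg (H J : Subgroup G) where
  /-- the isomorphism of the statement -/
  e : ↥H ≃* ↥K0
  hJH : J ≤ H
  hJ : ∀ x : ↥H, (x : G) ∈ J ↔ e x ∈ J0
  hC : ∀ j ∈ J, j ≠ 1 → Subgroup.centralizer ({j} : Set G) ≤ H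
  hsc : ∀ x ∈ J, ∀ g : G, g * x * g⁻¹ ∈ H → g * x * g⁻¹ ∈ J

variable {H J : Subgroup G}

/-- the element of `G` corresponding to `p1` -/
def Cfg.u1 (c : Cfg H J) : G := ((c.e.symm p1 : ↥H) : G)
/-- the element of `G` corresponding to `p2` -/
def Cfg.u2 (c : Cfg H J) : G := ((c.e.symm p2 : ↥H) : G)
/-- the element of `G` corresponding to `p3` -/
def Cfg.u3 (c : Cfg H J) : G := ((c.e.symm p3 : ↥H) : G)

/-- the TI-set `A = {x ∈ H : ⟨x⟩ ∩ J ≠ 1}` -/
def InA (H J : Subgroup G) (x : G) : Prop := x ∈ H ∧ ∃ k : ℕ, x ^ k ∈ J ∧ x ^ k ≠ 1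

end Cfg

end Cfsg.Agent.Helper21.N9
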