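import Mathlib
import Cfsg.Agent.Lib.Helper21.N9Defs

/-!
# S3702 (helper21): explicit enumeration of `K0` (order 648)

`W (i,j,k,e,f,m,n) = (012)^i (345)^j (678)^k ((01)(34))^e ((34)(67))^f c2^m c4^n` runs through `K0` exactly once:
`k0Equiv : Idx ≃ ↥K0`, `Wk q = k0Equiv q`.  Every statement `∀ x : ↥K0, P x` with decidable `P` reduces to
`∀ q : Idx, P (Wk q)` (`forall_K0`), which `decide +kernel` can do (648 cases, about 10 s for a simple `P`);
cardinalities of subsets of `K0` reduce to `Fintype.card {q : Idx // P (Wk q)}` (`card_subtype_K0`).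
-/

set_option autoImplicit false
set_option linter.unusedSectionVars false
set_option linter.unusedVariables false

namespace Cfsg.Agent.Helper21.N9

open Cfsg

/-- index type for the elements of `K0` -/
abbrev Idx : Type := Fin 3 × Fin 3 × Fin 3 × Fin 2 × Fin 2 × Fin 3 × Fin 2

/-- a permutation of `Fin 9` from two tables -/
def mkP (f g : Fin 9 → Fin 9) (h1 : ∀ x, g (f x) = x) (h2 : ∀ x, f (g x) = x) : Equiv.Perm (Fin 9) :=
  ⟨f, g, h1, h2⟩

/-- `(0 1 2)` -/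
def e1 : Equiv.Perm (Fin 9) := mkP ![1,2,0,3,4,5,6,7,8] ![2,0,1,3,4,5,6,7,8] (by decide) (by decide)
/-- `(3 4 5)` -/
def e2 : Equiv.Perm (Fin 9) := mkP ![0,1,2,4,5,3,6,7,8] ![0,1,2,5,3,4,6,7,8] (by decide) (by decide)
/-- `(6 7 8)` -/
def e3 : Equiv.Perm (Fin 9) := mkP ![0,1,2,3,4,5,7,8,6] ![0,1,2,3,4,5,8,6,7] (by decide) (by decide)
/-- `(0 1)(3 4)` -/
def f1 : Equiv.Perm (Fin 9) := mkP ![1,0,2,4,3,5,6,7,8] ![1,0,2,4,3,5,6,7,8] (by decide) (by decide)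
/-- `(3 4)(6 7)` -/
def f2 : Equiv.Perm (Fin 9) := mkP ![0,1,2,4,3,5,7,6,8] ![0,1,2,4,3,5,7,6,8] (by decide) (by decide)
/-- `(0 3 6)(1 4 7)(2 5 8)` -/
def h2 : Equiv.Perm (Fin 9) := mkP ![3,4,5,6,7,8,0,1,2] ![6,7,8,0,1,2,3,4,5] (by decide) (by decide)
/-- `(0 3)(1 4)(2 5)(6 7)` -/
def h4 : Equiv.Perm (Fin 9) := mkP ![3,4,5,0,1,2,7,6,8] ![3,4,5,0,1,2,7,6,8] (by decide) (by decide)

theorem e1_eq : e1 = c1 := by decide
theorem e2_eq : e2 = c2 * c1 * c2⁻¹ := by decide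
theorem e3_eq : e3 = c2⁻¹ * c1 * c2 := by decide
theorem f1_eq : f1 = c3 := by decide
theorem f2_eq : f2 = c2 * c3 * c2⁻¹ := by decide
theorem h2_eq : h2 = c2 := by decide
theorem h4_eq : h4 = c4 := by decide

/-- the normal form word -/
def W (q : Idx) : Equiv.Perm (Fin 9) :=
  e1 ^ (q.1 : ℕ) * e2 ^ (q.2.1 : ℕ) * e3 ^ (q.2.2.1 : ℕ) * f1 ^ (q.2.2.2.1 : ℕ) *
    f2 ^ (q.2.2.2.2.1 : ℕ) * h2 ^ (q.2.2.2.2.2.1 : ℕ) * h4 ^ (q.2.2.2.2.2.2 : ℕ)

/-- left multiplication by `c1` on indices -/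
def step1 (q : Idx) : Idx :=
  (q.1 + 1, q.2.1, q.2.2.1, q.2.2.2.1, q.2.2.2.2.1, q.2.2.2.2.2.1, q.2.2.2.2.2.2)
/-- left multiplication by `c2` on indices -/
def step2 (q : Idx) : Idx :=
  (q.2.2.1, q.1, q.2.1, q.2.2.2.2.1, q.2.2.2.1 + q.2.2.2.2.1, q.2.2.2.2.2.1 + 1, q.2.2.2.2.2.2)
/-- left multiplication by `c3` on indices -/
def step3 (q : Idx) : Idx :=
  (-q.1, -q.2.1, q.2.2.1, q.2.2.2.1 + 1, q.2.2.2.2.1, q.2.2.2.2.2.1, q.2.2.2.2.2.2)
/-- left multiplication by `c4` on indices -/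
def step4 (q : Idx) : Idx :=
  (q.2.1, q.1, -q.2.2.1,
    (if q.2.2.2.2.2.1 = 2 then q.2.2.2.1 + q.2.2.2.2.1 + 1 else q.2.2.2.1 + q.2.2.2.2.1),
    (if q.2.2.2.2.2.1 = 0 then q.2.2.2.2.1 else q.2.2.2.2.1 + 1),
    -q.2.2.2.2.2.1, q.2.2.2.2.2.2 + 1)

theorem enum_step1 : ∀ q : Idx, e1 * W q = W (step1 q) := by decide +kernel
theorem enum_step2 : ∀ q : Idx, h2 * W q = W (step2 q) := by decide +kernel
theorem enum_step3 : ∀ q : Idx, f1 * W q = W (step3 q) := by decide +kernel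
theorem enum_step4 : ∀ q : Idx, h4 * W q = W (step4 q) := by decide +kernel

/-- recover the index from the permutation -/
def idx (s : Equiv.Perm (Fin 9)) : Idx :=
  let m : Fin 3 := Fin.ofNat 3 ((s 8).val / 3 + 1)
  let n : Fin 2 := if (s 0).val / 3 = m.val then 0 else 1
  let sp : Equiv.Perm (Fin 9) := s * (h2 ^ (m : ℕ) * h4 ^ (n : ℕ))⁻¹
  let i : Fin 3 := Fin.ofNat 3 ((sp 2).val + 1)
  let j : Fin 3 := Fin.ofNat 3 ((sp 5).val + 1)
  let k : Fin 3 := Fin.ofNat 3 ((sp 8).val + 1)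
  let e : Fin 2 := if (sp 0).val % 3 = (1 + i.val) % 3 then 1 else 0
  let f : Fin 2 := if (sp 6).val % 3 = (1 + k.val) % 3 then 1 else 0
  (i, j, k, e, f, m, n)

theorem idx_W : ∀ q : Idx, idx (W q) = q := by decide +kernel

theorem c1_mem : c1 ∈ K0 := Subgroup.subset_closure (by simp)
theorem c2_mem : c2 ∈ K0 := Subgroup.subset_closure (by simp)
theorem c3_mem : c3 ∈ K0 := Subgroup.subset_closure (by simp)
theorem c4_mem : c4 ∈ K0 := Subgroup.subset_closure (by simp)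

theorem W_mem (q : Idx) : W q ∈ K0 := by
  unfold W
  rw [e1_eq, e2_eq, e3_eq, f1_eq, f2_eq, h2_eq, h4_eq]
  have i2 : c2⁻¹ ∈ K0 := K0.inv_mem c2_mem
  refine K0.mul_mem (K0.mul_mem (K0.mul_mem (K0.mul_mem (K0.mul_mem (K0.mul_mem ?_ ?_) ?_) ?_) ?_) ?_) ?_
  · exact K0.pow_mem c1_mem _
  · exact K0.pow_mem (K0.mul_mem (K0.mul_mem c2_mem c1_mem) i2) _
  · exact K0.pow_mem (K0.mul_mem (K0.mul_mem i2 c1_mem) c2_mem) _
  · exact K0.pow_mem c3_mem _
  · exact K0.pow_mem (K0.mul_mem (K0.mul_mem c2_mem c3_mem) i2) _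
  · exact K0.pow_mem c2_mem _
  · exact K0.pow_mem c4_mem _

theorem enum_inv1 : c1⁻¹ = c1 * c1 := by decide
theorem enum_inv2 : c2⁻¹ = c2 * c2 := by decide
theorem enum_inv3 : c3⁻¹ = c3 := by decide
theorem enum_inv4 : c4⁻¹ = c4 := by decide

theorem enum_mul_left {x : Equiv.Perm (Fin 9)}
    (hx : x ∈ ({c1, c2, c3, c4} : Set (Equiv.Perm (Fin 9)))) {y : Equiv.Perm (Fin 9)}
    (hy : ∃ q : Idx, y = W q) : ∃ q : Idx, x * y = W q := by
  obtain ⟨q, rfl⟩ := hy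
  simp only [Set.mem_insert_iff, Set.mem_singleton_iff] at hx
  rcases hx with rfl | rfl | rfl | rfl
  · exact ⟨_, by rw [← e1_eq]; exact enum_step1 q⟩
  · exact ⟨_, by rw [← h2_eq]; exact enum_step2 q⟩
  · exact ⟨_, by rw [← f1_eq]; exact enum_step3 q⟩
  · exact ⟨_, by rw [← h4_eq]; exact enum_step4 q⟩

theorem enum_inv_cases {x : Equiv.Perm (Fin 9)}
    (hx : x ∈ ({c1, c2, c3, c4} : Set (Equiv.Perm (Fin 9)))) : x⁻¹ = x ∨ x⁻¹ = x * x := by
  simp only [Set.mem_insert_iff, Set.mem_singleton_iff] at hx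
  rcases hx with rfl | rfl | rfl | rfl
  · exact Or.inr enum_inv1
  · exact Or.inr enum_inv2
  · exact Or.inl enum_inv3
  · exact Or.inl enum_inv4

/-- every element of `K0` is a word -/
theorem mem_K0_iff (x : Equiv.Perm (Fin 9)) : x ∈ K0 ↔ ∃ q : Idx, x = W q := by
  constructor
  · intro hx
    unfold K0 at hx
    induction hx using Subgroup.closure_induction_left with
    | one => exact ⟨(0, 0, 0, 0, 0, 0, 0), by decide⟩
    | mul_left x hx y hy ih => exact enum_mul_left hx ih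
    | inv_mul_cancel x hx y hy ih =>
      rcases enum_inv_cases hx with h | h
      · rw [h]; exact enum_mul_left hx ih
      · rw [h, mul_assoc]; exact enum_mul_left hx (enum_mul_left hx ih)
  · rintro ⟨q, rfl⟩
    exact W_mem q

/-- the word as an element of `K0` -/
def Wk (q : Idx) : ↥K0 := ⟨W q, W_mem q⟩

@[simp] theorem Wk_val (q : Idx) : ((Wk q : ↥K0) : Equiv.Perm (Fin 9)) = W q := rfl

/-- the enumeration of `K0` -/
def k0Equiv : Idx ≃ ↥K0 where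
  toFun := Wk
  invFun x := idx x.1
  left_inv q := idx_W q
  right_inv x := by
    obtain ⟨q, hq⟩ := (mem_K0_iff x.1).1 x.2
    apply Subtype.ext
    change W (idx x.1) = x.1
    rw [hq, idx_W]

@[simp] theorem k0Equiv_apply (q : Idx) : k0Equiv q = Wk q := rfl

theorem Wk_surjective : Function.Surjective Wk := k0Equiv.surjective
theorem Wk_injective : Function.Injective Wk := k0Equiv.injective

theorem forall_K0 {P : ↥K0 → Prop} : (∀ x : ↥K0, P x) ↔ ∀ q : Idx, P (Wk q) :=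
  ⟨fun h q => h _, fun h x => by obtain ⟨q, rfl⟩ := Wk_surjective x; exact h q⟩

theorem exists_K0 {P : ↥K0 → Prop} : (∃ x : ↥K0, P x) ↔ ∃ q : Idx, P (Wk q) :=
  ⟨fun ⟨x, hx⟩ => by obtain ⟨q, rfl⟩ := Wk_surjective x; exact ⟨q, hx⟩, fun ⟨q, hq⟩ => ⟨_, hq⟩⟩

theorem card_K0 : Nat.card ↥K0 = 648 := by
  rw [Nat.card_congr k0Equiv.symm, Nat.card_eq_fintype_card]
  simp only [Fintype.card_prod, Fintype.card_fin]

/-- cardinalities of subsets of `K0` by enumeration -/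
theorem card_subtype_K0 (P : ↥K0 → Prop) [DecidablePred P] :
    Nat.card {x : ↥K0 // P x} = Fintype.card {q : Idx // P (Wk q)} := by
  rw [← Nat.card_eq_fintype_card]
  exact Nat.card_congr (k0Equiv.subtypeEquiv (fun q => Iff.rfl)).symm

/-- the elements of `J0` -/
def Wj (i j k : Fin 3) : ↥K0 := Wk (i, j, k, 0, 0, 0, 0)

theorem Wj_mul : ∀ i j k i' j' k' : Fin 3, Wj i j k * Wj i' j' k' = Wj (i + i') (j + j') (k + k') := by
  decide +kernel

theorem Wj_inv : ∀ i j k : Fin 3, (Wj i j k)⁻¹ = Wj (-i) (-j) (-k) := by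
  decide +kernel

theorem Wj_eq : ∀ i j k : Fin 3, Wj i j k = a1 ^ (i : ℕ) * a2 ^ (j : ℕ) * a3 ^ (k : ℕ) := by
  decide +kernel

theorem mem_J0_iff (x : ↥K0) : x ∈ J0 ↔ ∃ i j k : Fin 3, x = Wj i j k := by
  constructor
  · intro hx
    unfold J0 at hx
    induction hx using Subgroup.closure_induction with
    | mem x hx =>
      simp only [Set.mem_insert_iff, Set.mem_singleton_iff] at hx
      rcases hx with rfl | rfl | rfl
      · exact ⟨1, 0, 0, by decide +kernel⟩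
      · exact ⟨0, 1, 0, by decide +kernel⟩
      · exact ⟨0, 0, 1, by decide +kernel⟩
    | one => exact ⟨0, 0, 0, by decide +kernel⟩
    | mul x y hx hy ihx ihy =>
      obtain ⟨i, j, k, rfl⟩ := ihx
      obtain ⟨i', j', k', rfl⟩ := ihy
      exact ⟨_, _, _, Wj_mul i j k i' j' k'⟩
    | inv x hx ih =>
      obtain ⟨i, j, k, rfl⟩ := ih
      exact ⟨_, _, _, Wj_inv i j k⟩
  · rintro ⟨i, j, k, rfl⟩
    rw [Wj_eq]
    have h1 : a1 ∈ J0 := Subgroup.subset_closure (by simp)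
    have h2 : a2 ∈ J0 := Subgroup.subset_closure (by simp)
    have h3 : a3 ∈ J0 := Subgroup.subset_closure (by simp)
    exact J0.mul_mem (J0.mul_mem (J0.pow_mem h1 _) (J0.pow_mem h2 _)) (J0.pow_mem h3 _)

/-- decidable membership in `J0` -/
theorem mem_J0_iff_idx (q : Idx) : Wk q ∈ J0 ↔
    q.2.2.2.1 = 0 ∧ q.2.2.2.2.1 = 0 ∧ q.2.2.2.2.2.1 = 0 ∧ q.2.2.2.2.2.2 = 0 := by
  rw [mem_J0_iff]
  constructor
  · rintro ⟨i, j, k, h⟩
    have := Wk_injective h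
    subst this
    exact ⟨rfl, rfl, rfl, rfl⟩
  · obtain ⟨i, j, k, e, f, m, n⟩ := q
    rintro ⟨h1, h2, h3, h4⟩
    simp only at h1 h2 h3 h4
    subst h1 h2 h3 h4
    exact ⟨i, j, k, rfl⟩

instance decMemJ0 (x : ↥K0) : Decidable (x ∈ J0) :=
  decidable_of_iff ((idx x.1).2.2.2.1 = 0 ∧ (idx x.1).2.2.2.2.1 = 0 ∧ (idx x.1).2.2.2.2.2.1 = 0 ∧
      (idx x.1).2.2.2.2.2.2 = 0) (by
    have h := mem_J0_iff_idx (k0Equiv.symm x)
    have h' : Wk (k0Equiv.symm x) = x := k0Equiv.apply_symm_apply x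
    rw [h'] at h
    exact h.symm)

theorem card_J0 : Nat.card ↥J0 = 27 := by
  have h : Nat.card ↥J0 = Nat.card {x : ↥K0 // x ∈ J0} := rfl
  rw [h, card_subtype_K0]
  decide +kernel

end Cfsg.Agent.Helper21.N9
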