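import Mathlib
import Cfsg.Agent.Lib.Helper21.N9Enum
import Cfsg.Agent.Lib.Helper16.TC648Defs

/-!
# S3702 (helper21): the configuration of helper16's `TC648.Cfg` inside `K0`, and its image in `G`

`CK : TC648.Cfg ↥K0` (with `m = 1`): `t1 = (012)`, `t2 = (345)`, `t3 = (678)`, `r = (36)(4758)`, `s = c4`, `c = c2`.
For `c : Cfg H J` (N9Defs), `c.ι : ↥K0 →* G` is the embedding with image `H`, and `c.toTC m hcard hm : TC648.Cfg G`
is the image configuration.
-/

set_option autoImplicit false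
set_option linter.unusedSectionVars false
set_option linter.unusedVariables false

namespace Cfsg.Agent.Helper21.N9

open Cfsg Cfsg.Agent.Helper16

universe u

/-- `(0 1 2)` -/
def tK1 : ↥K0 := Wj 1 0 0
/-- `(3 4 5)` -/
def tK2 : ↥K0 := Wj 0 1 0
/-- `(6 7 8)` -/
def tK3 : ↥K0 := Wj 0 0 1
/-- `(3 6)(4 7 5 8)` -/
def rK : ↥K0 := Wk (0, 2, 0, 0, 0, 2, 1)
/-- `(0 3)(1 4)(2 5)(6 7)` -/
def sK : ↥K0 := Wk (0, 0, 0, 0, 0, 0, 1)
/-- `(0 3 6)(1 4 7)(2 5 8)` -/
def cK : ↥K0 := Wk (0, 0, 0, 0, 0, 1, 0)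

theorem relK : TC648.Rel tK1 tK2 tK3 rK sK cK where
  o1 := by decide +kernel
  o2 := by decide +kernel
  o3 := by decide +kernel
  c12 := by decide +kernel
  c13 := by decide +kernel
  c23 := by decide +kernel
  r4 := by decide +kernel
  r1 := by decide +kernel
  r2 := by decide +kernel
  r3 := by decide +kernel
  s2 := by decide +kernel
  s1 := by decide +kernel
  s12 := by decide +kernel
  s3 := by decide +kernel
  c3 := by decide +kernel
  c1 := by decide +kernel
  c2 := by decide +kernel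
  c31 := by decide +kernel

/-- transport of the relations along a homomorphism -/
theorem rel_map {K : Type*} [Group K] {L : Type*} [Group L] {t1 t2 t3 r s c : K}
    (h : TC648.Rel t1 t2 t3 r s c) (f : K →* L) : TC648.Rel (f t1) (f t2) (f t3) (f r) (f s) (f c) where
  o1 := by rw [← map_pow, h.o1, map_one]
  o2 := by rw [← map_pow, h.o2, map_one]
  o3 := by rw [← map_pow, h.o3, map_one]
  c12 := by rw [← map_mul, h.c12, map_mul]
  c13 := by rw [← map_mul, h.c13, map_mul]
  c23 := by rw [← map_mul, h.c23, map_mul]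
  r4 := by rw [← map_pow, h.r4, map_one]
  r1 := by rw [← map_inv, ← map_mul, ← map_mul, h.r1]
  r2 := by rw [← map_inv, ← map_mul, ← map_mul, h.r2]
  r3 := by rw [← map_inv, ← map_mul, ← map_mul, h.r3, map_inv]
  s2 := by rw [← map_pow, h.s2, map_one]
  s1 := by rw [← map_inv, ← map_mul, ← map_mul, h.s1]
  s12 := by rw [← map_inv, ← map_mul, ← map_mul, h.s12]
  s3 := by rw [← map_inv, ← map_mul, ← map_mul, h.s3, map_inv]
  c3 := by rw [← map_pow, h.c3, map_one]
  c1 := by rw [← map_inv, ← map_mul, ← map_mul, h.c1]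
  c2 := by rw [← map_inv, ← map_mul, ← map_mul, h.c2]
  c31 := by rw [← map_inv, ← map_mul, ← map_mul, h.c31]

/-- the configuration inside `K0` itself (`m = 1`) -/
def CK : TC648.Cfg ↥K0 where
  t1 := tK1
  t2 := tK2
  t3 := tK3
  r := rK
  s := sK
  c := cK
  m := 1
  rel := relK
  card := by rw [card_K0]
  hm := by norm_num

/-- the image of the configuration `CK` under a homomorphism `f : ↥K0 →* G` -/
def mapCfg {G : Type u} [Group G] (f : ↥K0 →* G) (m : ℕ) (hcard : Nat.card G = 648 * m)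
    (hm : m % 27 = 1) : TC648.Cfg G where
  t1 := f tK1
  t2 := f tK2
  t3 := f tK3
  r := f rK
  s := f sK
  c := f cK
  m := m
  rel := rel_map relK f
  card := hcard
  hm := hm

section Map

variable {G : Type u} [Group G] (f : ↥K0 →* G) (m : ℕ) (hcard : Nat.card G = 648 * m) (hm : m % 27 = 1)

theorem mapCfg_z (a : Fin 9) : (mapCfg f m hcard hm).z a = f (CK.z a) := by
  fin_cases a <;>
    simp [TC648.Cfg.z, mapCfg, CK, map_mul, map_pow, map_inv]

theorem mapCfg_wJ (i j k : Fin 3) : (mapCfg f m hcard hm).wJ i j k = f (CK.wJ i j k) := by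
  simp [TC648.Cfg.wJ, mapCfg, CK, map_mul, map_pow]

@[simp] theorem mapCfg_r : (mapCfg f m hcard hm).r = f rK := rfl
@[simp] theorem mapCfg_s : (mapCfg f m hcard hm).s = f sK := rfl
@[simp] theorem mapCfg_c : (mapCfg f m hcard hm).c = f cK := rfl
@[simp] theorem mapCfg_m : (mapCfg f m hcard hm).m = m := rfl

end Map

theorem CK_wJ : ∀ i j k : Fin 3, CK.wJ i j k = Wj i j k := by
  decide +kernel

section Iota

variable {G : Type u} [Group G] {H J : Subgroup G}

/-- the embedding `K0 → G` with image `H` -/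
def Cfg.ι (c : Cfg H J) : ↥K0 →* G := H.subtype.comp c.e.symm.toMonoidHom

theorem Cfg.ι_apply (c : Cfg H J) (x : ↥K0) : c.ι x = ((c.e.symm x : ↥H) : G) := rfl

end Iota

end Cfsg.Agent.Helper21.N9
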