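import Mathlib

/-!
Generic lemmas about conjugacy class sizes (as indices of centralizers) in finite groups.
-/

namespace Cfsg.Agent.Helper21.ClassSize

open Subgroup

variable {G : Type*} [Group G]

/-- class size as the index of the centralizer -/
noncomputable def idx (g : G) : ℕ := (centralizer ({g} : Set G)).index

/-- the conjugacy class as a set -/
def cls (g : G) : Set G := {x | ∃ a : G, a * g * a⁻¹ = x}

theorem mem_cls_self (g : G) : g ∈ cls g := ⟨1, by simp⟩

theorem conj_mem_cls (g a : G) : a * g * a⁻¹ ∈ cls g := ⟨a, rfl⟩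

theorem cls_eq_orbit (g : G) : cls g = MulAction.orbit (ConjAct G) g := by
  ext x
  constructor
  · rintro ⟨a, rfl⟩
    exact ⟨ConjAct.toConjAct a, by simp [ConjAct.smul_def]⟩
  · rintro ⟨a, rfl⟩
    exact ⟨ConjAct.ofConjAct a, by simp [ConjAct.smul_def]⟩

theorem ncard_cls (g : G) : (cls g).ncard = idx g := by
  rw [cls_eq_orbit, ← MulAction.index_stabilizer, idx, Subgroup.centralizer_eq_comap_stabilizer]
  exact (Subgroup.index_comap_of_surjective (MulAction.stabilizer (ConjAct G) g)
    (f := ConjAct.toConjAct.toMonoidHom) ConjAct.toConjAct.surjective).symm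

theorem mem_centralizer_singleton {g x : G} : x ∈ centralizer ({g} : Set G) ↔ g * x = x * g := by
  simp [Subgroup.mem_centralizer_iff]

theorem idx_conj (g a : G) : idx (a * g * a⁻¹) = idx g := by
  have : centralizer ({a * g * a⁻¹} : Set G) = (centralizer ({g} : Set G)).map (MulAut.conj a).toMonoidHom := by
    ext x
    simp only [mem_centralizer_singleton, Subgroup.mem_map, MulEquiv.coe_toMonoidHom, MulAut.conj_apply]
    constructor
    · intro h
      refine ⟨a⁻¹ * x * a, ?_, by group⟩
      have : g * (a⁻¹ * x * a) = a⁻¹ * ((a * g * a⁻¹) * x) * a := by group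
      rw [this, h]; group
    · rintro ⟨y, hy, rfl⟩
      have : a * g * a⁻¹ * (a * y * a⁻¹) = a * (g * y) * a⁻¹ := by group
      rw [this, hy]; group
  rw [idx, idx, this, Subgroup.index_map_of_bijective (MulAut.conj a).bijective]

theorem idx_eq_one_iff {g : G} : idx g = 1 ↔ g ∈ center G := by
  rw [idx, Subgroup.index_eq_one, eq_top_iff, Subgroup.mem_center_iff]
  constructor
  · intro h x
    have := h (Subgroup.mem_top x)
    rw [mem_centralizer_singleton] at this
    exact this.symm
  · intro h x _
    rw [mem_centralizer_singleton]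
    exact (h x).symm

theorem idx_pos [Finite G] (g : G) : 0 < idx g := Nat.pos_of_ne_zero (Subgroup.index_ne_zero_of_finite)

theorem index_inf_of_coprime [Finite G] (H K : Subgroup G)
    (h : Nat.Coprime H.index K.index) : (H ⊓ K).index = H.index * K.index := by
  have e1 : K.relIndex H * H.index = (H ⊓ K).index := by
    rw [← inf_relIndex_left, relIndex_mul_index inf_le_left]
  have e2 : K.index ∣ (H ⊓ K).index := index_dvd_of_le inf_le_right
  have e3 : H.index ∣ (H ⊓ K).index := index_dvd_of_le inf_le_left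
  have e4 : H.index * K.index ∣ (H ⊓ K).index := Nat.Coprime.mul_dvd_of_dvd_of_dvd h e3 e2
  have e5 : (H ⊓ K).index ≤ H.index * K.index := Subgroup.index_inf_le
  exact le_antisymm e5 (Nat.le_of_dvd (Nat.pos_of_ne_zero Subgroup.index_ne_zero_of_finite) e4)

theorem idx_mul_dvd [Finite G] {x y : G} (h : Nat.Coprime (idx x) (idx y)) :
    idx (x * y) ∣ idx x * idx y := by
  have hle : centralizer ({x} : Set G) ⊓ centralizer ({y} : Set G) ≤ centralizer ({x * y} : Set G) := by
    intro g hg
    rw [Subgroup.mem_inf, mem_centralizer_singleton, mem_centralizer_singleton] at hg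
    rw [mem_centralizer_singleton]
    calc x * y * g = x * (y * g) := by group
      _ = x * (g * y) := by rw [hg.2]
      _ = (x * g) * y := by group
      _ = (g * x) * y := by rw [hg.1]
      _ = g * (x * y) := by group
  have := index_dvd_of_le hle
  rwa [index_inf_of_coprime _ _ h] at this

/-- product decomposition from coprime indices -/
theorem exists_mul_of_coprime_index [Finite G] (H K : Subgroup G)
    (h : Nat.Coprime H.index K.index) (g : G) : ∃ x ∈ H, ∃ y ∈ K, g = x * y := by
  have h1 : K.relIndex H = K.index := by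
    have e1 : K.relIndex H * H.index = (H ⊓ K).index := by
      rw [← inf_relIndex_left, relIndex_mul_index inf_le_left]
    have e2 : K.index ∣ K.relIndex H * H.index := e1 ▸ index_dvd_of_le inf_le_right
    have e3 : K.index ∣ K.relIndex H := (Nat.Coprime.dvd_of_dvd_mul_right h.symm e2)
    have e4 : K.relIndex H ≤ K.index := by
      have := relIndex_le_of_le_right (H := K) (le_top : H ≤ ⊤) (by
        rw [relIndex_top_right]; exact Subgroup.index_ne_zero_of_finite)
      rwa [relIndex_top_right] at this
    exact le_antisymm e4 (Nat.le_of_dvd (Nat.pos_of_ne_zero (by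
      unfold relIndex; exact Subgroup.index_ne_zero_of_finite)) e3)
  have hst : MulAction.stabilizer H ((1 : G) : G ⧸ K) = K.subgroupOf H := by
    ext x
    rw [MulAction.mem_stabilizer_iff, Subgroup.mem_subgroupOf]
    change (x : G) • ((1 : G) : G ⧸ K) = _ ↔ _
    rw [MulAction.Quotient.smul_coe, QuotientGroup.eq]
    simp
  have horb : MulAction.orbit H ((1 : G) : G ⧸ K) = Set.univ := by
    apply Set.eq_of_subset_of_ncard_le (Set.subset_univ _) _ Set.finite_univ
    rw [← MulAction.index_stabilizer, hst, Set.ncard_univ]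
    change _ ≤ K.relIndex H
    rw [h1]; rfl
  have hg : ((g : G) : G ⧸ K) ∈ MulAction.orbit H ((1 : G) : G ⧸ K) := by rw [horb]; trivial
  obtain ⟨x, hx⟩ := hg
  change (x : G) • ((1 : G) : G ⧸ K) = _ at hx
  rw [MulAction.Quotient.smul_coe, QuotientGroup.eq] at hx
  refine ⟨x, x.2, (x : G)⁻¹ * g, ?_, by group⟩
  simpa using hx

/-- if class sizes are coprime, the product of the classes is inside one class -/
theorem mul_mem_cls_of_coprime [Finite G] {c d : G} (h : Nat.Coprime (idx c) (idx d))
    {x y : G} (hx : x ∈ cls c) (hy : y ∈ cls d) : x * y ∈ cls (c * d) := by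
  obtain ⟨a, rfl⟩ := hx
  obtain ⟨b, rfl⟩ := hy
  obtain ⟨u, hu, v, hv, huv⟩ := exists_mul_of_coprime_index _ _ h (a⁻¹ * b)
  rw [mem_centralizer_singleton] at hu hv
  refine ⟨a * u, ?_⟩
  have hb : b = a * u * v := by rw [mul_assoc, ← huv]; group
  have e1 : a * c * a⁻¹ = (a * u) * c * (a * u)⁻¹ := by
    have : (a * u) * c * (a * u)⁻¹ = a * (u * c) * u⁻¹ * a⁻¹ := by group
    rw [this, ← hu]; group
  have e2 : b * d * b⁻¹ = (a * u) * d * (a * u)⁻¹ := by
    rw [hb]
    have : a * u * v * d * (a * u * v)⁻¹ = a * u * (v * d) * v⁻¹ * (a * u)⁻¹ := by group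
    rw [this, ← hv]; group
  rw [e1, e2]; group

/-- For a normal subgroup `M`, `|M : M ∩ H|` divides `|G : H|`. -/
theorem relIndex_mul_card_inf [Finite G] (X Y : Subgroup G) :
    X.relIndex Y * Nat.card ↥(X ⊓ Y) = Nat.card Y := by
  have h1 : (X.subgroupOf Y).index * Nat.card (X.subgroupOf Y) = Nat.card Y :=
    Subgroup.index_mul_card _
  have h2 : Nat.card (X.subgroupOf Y) = Nat.card ↥(X ⊓ Y) := by
    rw [← inf_subgroupOf_right]
    exact Nat.card_congr (Subgroup.subgroupOfEquivOfLe inf_le_right).toEquiv
  rw [← h2]; exact h1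

theorem relIndex_dvd_index_of_normal_right [Finite G] (H M : Subgroup G) [M.Normal] :
    H.relIndex M ∣ H.index := by
  obtain ⟨k, hk⟩ := relIndex_dvd_index_of_normal (H := M) (K := H)
  refine ⟨k, ?_⟩
  have hH : 0 < Nat.card H := Nat.card_pos
  apply Nat.eq_of_mul_eq_mul_right hH
  have e1 := relIndex_mul_card_inf M H
  have e2 := relIndex_mul_card_inf H M
  have e3 : Nat.card H * H.index = Nat.card G := Subgroup.card_mul_index H
  have e4 : Nat.card M * M.index = Nat.card G := Subgroup.card_mul_index M
  rw [inf_comm] at e2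
  calc H.index * Nat.card H = Nat.card G := by rw [mul_comm, e3]
    _ = Nat.card M * M.index := e4.symm
    _ = (H.relIndex M * Nat.card ↥(M ⊓ H)) * (M.relIndex H * k) := by rw [e2, hk]
    _ = H.relIndex M * k * (M.relIndex H * Nat.card ↥(M ⊓ H)) := by ring
    _ = H.relIndex M * k * Nat.card H := by rw [e1]

/-- A `p`-subgroup is conjugate into any subgroup of index prime to `p`. -/
theorem exists_conj_mem_of_not_dvd_index [Finite G] {p : ℕ} [Fact p.Prime] (P : Subgroup G)
    (hP : IsPGroup p P) (H : Subgroup G) (h : ¬ p ∣ H.index) :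
    ∃ g : G, ∀ y ∈ P, g⁻¹ * y * g ∈ H := by
  obtain ⟨q, hq⟩ := hP.nonempty_fixed_point_of_prime_not_dvd_card (G ⧸ H) h
  induction q using QuotientGroup.induction_on with
  | H g =>
    refine ⟨g, fun y hy => ?_⟩
    have := hq ⟨y, hy⟩
    change (y : G) • ((g : G) : G ⧸ H) = _ at this
    rw [MulAction.Quotient.smul_coe, QuotientGroup.eq] at this
    have h2 := H.inv_mem this
    simpa [mul_assoc] using h2

/-- Covering lemma: if every element outside the normal subgroup `N` is conjugate into `W`,
then `G = N W` and `W ∩ W^g ⊆ N` for `g ∉ W`. -/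
theorem cover [Finite G] (N W : Subgroup G) [N.Normal]
    (hcov : ∀ x, x ∉ N → ∃ g : G, g⁻¹ * x * g ∈ W) :
    N ⊔ W = ⊤ ∧ ∀ g, g ∉ W → ∀ x ∈ W, g⁻¹ * x * g ∈ W → x ∈ N := by
  classical
  haveI := Fintype.ofFinite G
  set s : Finset G := Finset.univ.filter (fun x => x ∉ N) with hs
  set A : ℕ := (Finset.univ.filter (fun y : G => y ∈ W ∧ y ∉ N)).card with hA
  set w : ℕ := Nat.card W with hw
  set n0 : ℕ := Nat.card ↥(N ⊓ W) with hn0
  set gg : ℕ := Nat.card G with hgg
  set ν : ℕ := Nat.card N with hν
  have hwpos : 0 < w := Nat.card_pos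
  have hνpos : 0 < ν := Nat.card_pos
  -- (1)
  have h1 : A + n0 = w := by
    have e1 : w = (Finset.univ.filter (fun y : G => y ∈ W)).card := by
      rw [hw, Nat.card_eq_fintype_card, Fintype.card_subtype]
    have e2 : n0 = (Finset.univ.filter (fun y : G => y ∈ W ∧ y ∈ N)).card := by
      rw [hn0, Nat.card_eq_fintype_card, Fintype.card_subtype]
      congr 1
      ext y
      simp [Subgroup.mem_inf, and_comm]
    rw [e1, e2, hA, add_comm]
    have := Finset.card_filter_add_card_filter_not (s := Finset.univ.filter (fun y : G => y ∈ W))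
      (p := fun y => y ∈ N)
    simp only [Finset.filter_filter] at this
    exact this
  -- card of s
  have hσ : s.card + ν = gg := by
    have e : ν = (Finset.univ.filter (fun x : G => x ∈ N)).card := by
      rw [hν, Nat.card_eq_fintype_card, Fintype.card_subtype]
    rw [e, hs, add_comm, hgg, Nat.card_eq_fintype_card]
    have := Finset.card_filter_add_card_filter_not (s := (Finset.univ : Finset G))
      (p := fun y => y ∈ N)
    simpa using this
  -- (2)
  have h2 : ∀ g : G, (s.filter (fun x => g⁻¹ * x * g ∈ W)).card = A := by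
    intro g
    rw [hA]
    apply Finset.card_bij (fun x _ => g⁻¹ * x * g)
    · intro x hx
      simp only [hs, Finset.mem_filter, Finset.mem_univ, true_and] at hx ⊢
      refine ⟨hx.2, fun h => hx.1 ?_⟩
      have := (inferInstance : N.Normal).conj_mem _ h g
      simpa [mul_assoc] using this
    · intro x _ y _ h
      have := congrArg (fun z => g * z * g⁻¹) h
      simpa [mul_assoc] using this
    · intro y hy
      simp only [Finset.mem_filter, Finset.mem_univ, true_and] at hy
      refine ⟨g * y * g⁻¹, ?_, by group⟩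
      simp only [hs, Finset.mem_filter, Finset.mem_univ, true_and]
      refine ⟨fun h => hy.2 ?_, by simpa [mul_assoc] using hy.1⟩
      have := (inferInstance : N.Normal).conj_mem _ h g⁻¹
      simpa [mul_assoc] using this
  -- (3)
  have h3 : ∀ x ∈ s, w ≤ (Finset.univ.filter (fun g : G => g⁻¹ * x * g ∈ W)).card := by
    intro x hx
    simp only [hs, Finset.mem_filter, Finset.mem_univ, true_and] at hx
    obtain ⟨g₀, hg₀⟩ := hcov x hx
    rw [hw, Nat.card_eq_fintype_card, ← Finset.card_univ]
    apply Finset.card_le_card_of_injOn (fun u : W => g₀ * (u : G))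
    · intro u _
      simp only [Finset.coe_filter, Finset.mem_univ, true_and, Set.mem_setOf_eq]
      have : (g₀ * (u : G))⁻¹ * x * (g₀ * u) = (u : G)⁻¹ * (g₀⁻¹ * x * g₀) * u := by group
      rw [this]
      exact W.mul_mem (W.mul_mem (W.inv_mem u.2) hg₀) u.2
    · intro u _ v _ h
      exact Subtype.ext (mul_left_cancel h)
  -- double counting
  have h4 : ∑ x ∈ s, (Finset.univ.filter (fun g : G => g⁻¹ * x * g ∈ W)).card = gg * A := by
    have := Finset.sum_card_bipartiteAbove_eq_sum_card_bipartiteBelow (s := s)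
      (t := (Finset.univ : Finset G)) (fun x g => g⁻¹ * x * g ∈ W)
    simp only [Finset.bipartiteAbove, Finset.bipartiteBelow] at this
    rw [this, Finset.sum_congr rfl (fun g _ => h2 g), Finset.sum_const, Finset.card_univ,
      smul_eq_mul, hgg, Nat.card_eq_fintype_card]
  -- index computations
  set r : ℕ := N.relIndex W with hr
  set j : ℕ := (W ⊔ N).index with hj
  have h5 : r * n0 = w := relIndex_mul_card_inf N W
  have h6 : r * j = N.index := by
    rw [hr, ← relIndex_sup_right W N]
    exact relIndex_mul_index le_sup_right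
  have h7 : ν * N.index = gg := Subgroup.card_mul_index N
  have h8 : gg * n0 = ν * w * j := by
    rw [← h7, ← h6, ← h5]; ring
  have h9 : s.card * w ≤ gg * A := by
    rw [← h4, ← smul_eq_mul, ← Finset.sum_const]
    exact Finset.sum_le_sum h3
  have h10 : gg * n0 ≤ ν * w := by
    have e : gg * A + gg * n0 = (s.card + ν) * w := by rw [← mul_add, h1, hσ]
    nlinarith
  have hjpos : 0 < j := Nat.pos_of_ne_zero Subgroup.index_ne_zero_of_finite
  have hj1 : j = 1 := by
    rw [h8] at h10
    have : ν * w * j ≤ ν * w * 1 := by simpa using h10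
    have := Nat.le_of_mul_le_mul_left this (Nat.mul_pos hνpos hwpos)
    omega
  have hsup : N ⊔ W = ⊤ := by
    rw [sup_comm]; exact Subgroup.index_eq_one.mp hj1
  refine ⟨hsup, ?_⟩
  -- equality case
  have h11 : gg * A = s.card * w := by
    have e : gg * A + gg * n0 = (s.card + ν) * w := by rw [← mul_add, h1, hσ]
    rw [h8, hj1] at e
    nlinarith
  have h12 : ∀ x ∈ s, (Finset.univ.filter (fun g : G => g⁻¹ * x * g ∈ W)).card = w := by
    have e : ∑ x ∈ s, w = ∑ x ∈ s, (Finset.univ.filter (fun g : G => g⁻¹ * x * g ∈ W)).card := by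
      rw [h4, h11, Finset.sum_const, smul_eq_mul]
    intro x hx
    exact ((Finset.sum_eq_sum_iff_of_le h3).mp e x hx).symm
  intro g hg x hxW hxg
  by_contra hxN
  have hxs : x ∈ s := by simp [hs, hxN]
  have hsub : (Finset.univ.image (fun u : W => (u : G))) ⊆
      Finset.univ.filter (fun g : G => g⁻¹ * x * g ∈ W) := by
    intro y hy
    simp only [Finset.mem_image, Finset.mem_univ, true_and] at hy
    obtain ⟨u, rfl⟩ := hy
    simp only [Finset.mem_filter, Finset.mem_univ, true_and]
    exact W.mul_mem (W.mul_mem (W.inv_mem u.2) hxW) u.2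
  have hcard : (Finset.univ.image (fun u : W => (u : G))).card = w := by
    rw [Finset.card_image_of_injective _ Subtype.val_injective, Finset.card_univ, hw,
      Nat.card_eq_fintype_card]
  have heq := Finset.eq_of_subset_of_card_le hsub (by rw [h12 x hxs, hcard])
  have : g ∈ Finset.univ.filter (fun g : G => g⁻¹ * x * g ∈ W) := by
    simp [hxg]
  rw [← heq] at this
  simp only [Finset.mem_image, Finset.mem_univ, true_and] at this
  obtain ⟨u, rfl⟩ := this
  exact hg u.2

/-- Counting the union of the conjugates of `K`, when `L` normalizes `K`. -/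
theorem conj_union_count [Finite G] (K L : Subgroup G)
    (hnorm : ∀ l ∈ L, ∀ k ∈ K, l⁻¹ * k * l ∈ K) :
    ({x : G | ∃ g : G, g⁻¹ * x * g ∈ K} : Set G).ncard * Nat.card L + Nat.card G ≤
      Nat.card G * Nat.card K + Nat.card L := by
  classical
  haveI := Fintype.ofFinite G
  set Uf : Finset G := Finset.univ.filter (fun x => ∃ g : G, g⁻¹ * x * g ∈ K) with hUf
  have hU : ({x : G | ∃ g : G, g⁻¹ * x * g ∈ K} : Set G).ncard = Uf.card := by
    rw [← Set.ncard_coe_finset]
    congr 1
    ext x
    simp [hUf]
  rw [hU]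
  set f : G → ℕ := fun x => (Finset.univ.filter (fun g : G => g⁻¹ * x * g ∈ K)).card with hf
  have h1U : (1 : G) ∈ Uf := by
    simp only [hUf, Finset.mem_filter, Finset.mem_univ, true_and]
    exact ⟨1, by simpa using K.one_mem⟩
  have hsum : ∑ x ∈ Uf, f x = Nat.card G * Nat.card K := by
    have := Finset.sum_card_bipartiteAbove_eq_sum_card_bipartiteBelow (s := Uf)
      (t := (Finset.univ : Finset G)) (fun x g => g⁻¹ * x * g ∈ K)
    simp only [Finset.bipartiteAbove, Finset.bipartiteBelow] at this
    rw [hf, this]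
    have h2 : ∀ g : G, (Uf.filter (fun x => g⁻¹ * x * g ∈ K)).card = Nat.card K := by
      intro g
      rw [Nat.card_eq_fintype_card, ← Finset.card_univ]
      symm
      apply Finset.card_bij (fun (k : K) _ => g * (k : G) * g⁻¹)
      · intro k _
        simp only [hUf, Finset.mem_filter, Finset.mem_univ, true_and]
        have : g⁻¹ * (g * (k : G) * g⁻¹) * g = k := by group
        exact ⟨⟨g, by rw [this]; exact k.2⟩, by rw [this]; exact k.2⟩
      · intro a _ b _ h
        apply Subtype.ext
        have := congrArg (fun z => g⁻¹ * z * g) h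
        simpa [mul_assoc] using this
      · intro x hx
        simp only [Finset.mem_filter] at hx
        exact ⟨⟨g⁻¹ * x * g, hx.2⟩, Finset.mem_univ _, by group⟩
    rw [Finset.sum_congr rfl (fun g _ => h2 g), Finset.sum_const, Finset.card_univ, smul_eq_mul,
      Nat.card_eq_fintype_card (α := G)]
  have hf1 : f 1 = Nat.card G := by
    simp [hf, Nat.card_eq_fintype_card]
  have hfL : ∀ x ∈ Uf, Nat.card L ≤ f x := by
    intro x hx
    simp only [hUf, Finset.mem_filter, Finset.mem_univ, true_and] at hx
    obtain ⟨g₀, hg₀⟩ := hx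
    rw [hf, Nat.card_eq_fintype_card, ← Finset.card_univ]
    apply Finset.card_le_card_of_injOn (fun u : L => g₀ * (u : G))
    · intro u _
      simp only [Finset.coe_filter, Finset.mem_univ, true_and, Set.mem_ofPred_eq]
      have : (g₀ * (u : G))⁻¹ * x * (g₀ * u) = (u : G)⁻¹ * (g₀⁻¹ * x * g₀) * u := by group
      rw [this]
      exact hnorm u u.2 _ hg₀
    · intro u _ v _ h
      exact Subtype.ext (mul_left_cancel h)
  have h3 : f 1 + ∑ x ∈ Uf.erase 1, f x = ∑ x ∈ Uf, f x := Finset.add_sum_erase Uf f h1U
  have h4 : (Uf.erase 1).card * Nat.card L ≤ ∑ x ∈ Uf.erase 1, f x := by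
    rw [← smul_eq_mul, ← Finset.sum_const]
    exact Finset.sum_le_sum (fun x hx => hfL x (Finset.mem_of_mem_erase hx))
  have h5 : (Uf.erase 1).card + 1 = Uf.card := Finset.card_erase_add_one h1U
  rw [hsum, hf1] at h3
  rw [← h5, add_mul, one_mul]
  omega

end Cfsg.Agent.Helper21.ClassSize
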