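import Mathlib

/-!
# S2510 (element orders of `PSL_n(q)^3 × Z_r^m`): definitions

`torusOrd q n` is the order of the cyclic Singer torus of `PSL_n(q)`;
`Good r x` says that `lcm (orderOf x) r` is again an element order of the group.
-/

set_option autoImplicit false

namespace Cfsg.Agent.Helper21.PL3

/-- the order `(q^n - 1) / ((q - 1) gcd(n, q - 1))` of the Singer torus of `PSL_n(q)` -/
def torusOrd (q n : ℕ) : ℕ := (q ^ n - 1) / ((q - 1) * Nat.gcd n (q - 1))

/-- `lcm (orderOf x) r` is an element order of `L` -/
def Good {L : Type*} [Group L] (r : ℕ) (x : L) : Prop :=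
  ∃ y : L, orderOf y = Nat.lcm (orderOf x) r

end Cfsg.Agent.Helper21.PL3
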