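import Mathlib
import Cfsg.Agent.Lib.Helper10.TMDefs

/-!
# S2930 piece RZ (helper21, for helper10): the relation `Rz ζ` (lying in the same `ζ`-cycle)
-/

set_option autoImplicit false
set_option linter.unusedVariables false

namespace Cfsg.Agent.Helper10.TM

open Equiv Equiv.Perm Cfsg.Agent.Helper11.AutAlt
open scoped Pointwise

variable {n : ℕ}

/-- RZ -/
theorem mem_RStabP_of_commute (g ζ : Perm (Fin n)) (h : g * ζ = ζ * g) : g ∈ RStabP (Rz ζ) := by
  rw [mem_RStabP]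
  intro x y
  have hc : ∀ z, ζ (g z) = g (ζ z) := fun z => by
    have h1 := congrArg (fun f : Perm (Fin n) => f z) h
    simp only [Perm.mul_apply] at h1
    exact h1.symm
  unfold Rz
  rw [hc x, hc (ζ x)]
  simp only [g.injective.eq_iff]

theorem le_RStab_of_commute (S : Subgroup (Alt n)) (ζ : Perm (Fin n))
    (h : ∀ s : Alt n, s ∈ S → (s : Perm (Fin n)) * ζ = ζ * (s : Perm (Fin n))) :
    S ≤ RStab (Rz ζ) := by
  intro s hs
  rw [mem_RStab]
  exact mem_RStabP.mp (mem_RStabP_of_commute _ ζ (h s hs))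

theorem rz_cube {ζ : Perm (Fin n)} (hζ : ζ ^ 3 = 1) (z : Fin n) : ζ (ζ (ζ z)) = z := by
  have h1 : (ζ ^ 3) z = z := by rw [hζ]; rfl
  simpa [pow_succ, Perm.mul_apply] using h1

theorem Rz_symm {ζ : Perm (Fin n)} (hζ : ζ ^ 3 = 1) {x y : Fin n} (h : Rz ζ x y) : Rz ζ y x := by
  have h3 := rz_cube hζ
  unfold Rz at h ⊢
  rcases h with h | h | h
  · left; exact h.symm
  · right; right; rw [h, h3]
  · right; left; rw [h, h3]

theorem Rz_trans {ζ : Perm (Fin n)} (hζ : ζ ^ 3 = 1) {x y z : Fin n} (h : Rz ζ x y)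
    (h' : Rz ζ y z) : Rz ζ x z := by
  have h3 := rz_cube hζ
  unfold Rz at h h' ⊢
  rcases h with h | h | h <;> rcases h' with h' | h' | h' <;> rw [h', h] <;>
    simp [h3]

/-- NOTIN -/
theorem c3_not_mem_RStabP (ζ : Perm (Fin n)) (hζ : ζ ^ 3 = 1) (x u v : Fin n) (hxu : x ≠ u)
    (hxv : x ≠ v) (huv : u ≠ v) (hzx : ζ x ≠ x) (hu : ¬ Rz ζ x u) (hv : v ≠ ζ x) :
    c3 x u v ∉ RStabP (Rz ζ) := by
  have h3 := rz_cube hζ
  intro hmem
  rw [mem_RStabP] at hmem
  have hzu : ζ x ≠ u := fun h => hu (Or.inr (Or.inl h.symm))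
  have h1 : c3 x u v x = u := by
    simp [c3, swap_apply_def, hxu, hxv]
  have h2 : c3 x u v (ζ x) = ζ x := by
    simp [c3, swap_apply_def, hzu, hv.symm, hzx]
  have h4 : Rz ζ x (ζ x) := Or.inr (Or.inl rfl)
  have h5 := (hmem x (ζ x)).mp h4
  rw [h1, h2] at h5
  rcases h5 with h5 | h5 | h5
  · exact hzu h5
  · exact hxu (ζ.injective h5)
  · have h6 : x = ζ u := ζ.injective h5
    apply hu
    right; right
    rw [h6, h3]

end Cfsg.Agent.Helper10.TM
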