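import Mathlib
import Cfsg.Agent.Lib.Helper10.TMDefs

/-!
# S2930 piece STABNE (helper21, for helper10): setwise stabilisers in the alternating group
-/

set_option autoImplicit false
set_option linter.unusedVariables false

namespace Cfsg.Agent.Helper10.TM

open Equiv Equiv.Perm Cfsg.Agent.Helper11.AutAlt
open scoped Pointwise

variable {n : ℕ}

/-- criterion for lying in a setwise stabiliser -/
theorem stabne_mem (P : Set (Fin n)) (g : Alt n)
    (h : ∀ y ∈ P, (g : Perm (Fin n)) y ∈ P) : g ∈ SetStab P := by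
  unfold SetStab
  rw [MulAction.mem_stabilizer_set' (Set.toFinite P)]
  intro b hb
  exact h b hb

/-- a member of the setwise stabiliser maps the set into itself -/
theorem stabne_apply_mem (P : Set (Fin n)) (g : Alt n) (hg : g ∈ SetStab P) (y : Fin n)
    (hy : y ∈ P) : (g : Perm (Fin n)) y ∈ P := by
  unfold SetStab at hg
  rw [MulAction.mem_stabilizer_set' (Set.toFinite P)] at hg
  exact hg hy

theorem stabne_c3_apply_of_ne (x u v y : Fin n) (hx : y ≠ x) (hu : y ≠ u) (hv : y ≠ v) :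
    c3 x u v y = y := by
  simp [c3, swap_apply_def, hx, hu, hv]

theorem stabne_c3_apply_fst (x u v : Fin n) (hxu : x ≠ u) (hxv : x ≠ v) : c3 x u v x = u := by
  simp [c3, swap_apply_def, hxu, hxv]

theorem stabne_c3_apply_snd (x u v : Fin n) (hxv : x ≠ v) (huv : u ≠ v) : c3 x u v u = v := by
  simp [c3, swap_apply_def, hxv.symm, huv.symm]

theorem stabne_c3_apply_thd (x u v : Fin n) : c3 x u v v = x := by
  simp [c3]

theorem c3_mem_SetStab (P : Set (Fin n)) (x u v : Fin n) (hxu : x ≠ u) (hxv : x ≠ v) (huv : u ≠ v)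
    (hx : x ∈ P) (hu : u ∈ P) (hv : v ∈ P) :
    ∃ g : Alt n, (g : Perm (Fin n)) = c3 x u v ∧ g ∈ SetStab P := by
  refine ⟨⟨c3 x u v, (c3_isThreeCycle hxu hxv huv).mem_alternatingGroup⟩, rfl, ?_⟩
  apply stabne_mem
  intro y hy
  show c3 x u v y ∈ P
  by_cases h1 : y = x
  · rw [h1, stabne_c3_apply_fst x u v hxu hxv]; exact hu
  by_cases h2 : y = u
  · rw [h2, stabne_c3_apply_snd x u v hxv huv]; exact hv
  by_cases h3 : y = v
  · rw [h3, stabne_c3_apply_thd x u v]; exact hx
  rw [stabne_c3_apply_of_ne x u v y h1 h2 h3]; exact hy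

/-- STABNE -/
theorem exists_stab_ne (hn : 5 ≤ n) (P Q : Set (Fin n)) (hP : P.Nonempty) (hPQ : Disjoint P Q)
    (hR : ∃ r, r ∉ P ∧ r ∉ Q) : ∃ g : Alt n, g ∈ SetStab Q ∧ g ∉ SetStab P := by
  classical
  obtain ⟨p, hp⟩ := hP
  obtain ⟨r, hrP, hrQ⟩ := hR
  have hpQ : p ∉ Q := fun h => (Set.disjoint_left.mp hPQ hp) h
  have hpr : p ≠ r := fun h => hrP (h ▸ hp)
  by_cases hw : ∃ w, w ∉ Q ∧ w ≠ p ∧ w ≠ r
  · obtain ⟨w, hwQ, hwp, hwr⟩ := hw
    refine ⟨⟨c3 p r w, (c3_isThreeCycle hpr hwp.symm hwr.symm).mem_alternatingGroup⟩, ?_, ?_⟩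
    · apply stabne_mem
      intro y hy
      show c3 p r w y ∈ Q
      rw [stabne_c3_apply_of_ne p r w y (fun h => hpQ (h ▸ hy)) (fun h => hrQ (h ▸ hy))
        (fun h => hwQ (h ▸ hy))]
      exact hy
    · intro hg
      have h1 := stabne_apply_mem P _ hg p hp
      have h2 : c3 p r w p = r := stabne_c3_apply_fst p r w hpr hwp.symm
      exact hrP (h2 ▸ h1)
  · rw [not_exists] at hw
    have hQ : ∀ w : Fin n, w ≠ p → w ≠ r → w ∈ Q := by
      intro w h1 h2
      by_contra h3
      exact hw w ⟨h3, h1, h2⟩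
    -- two distinct points of `Q`
    have hcard : 2 < Fintype.card (Fin n) := by rw [Fintype.card_fin]; omega
    obtain ⟨q, hqp, hqr⟩ : ∃ q : Fin n, q ≠ p ∧ q ≠ r := by
      have h2 : ({p, r} : Finset (Fin n)).card < Fintype.card (Fin n) :=
        lt_of_le_of_lt (Finset.card_le_two) hcard
      obtain ⟨q, hq⟩ := Finset.exists_mem_notMem_of_card_lt_card
        (s := ({p, r} : Finset (Fin n))) (t := Finset.univ) (by rwa [Finset.card_univ])
      refine ⟨q, ?_, ?_⟩
      · intro h; apply hq.2; rw [h]; simp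
      · intro h; apply hq.2; rw [h]; simp
    obtain ⟨q', hq'p, hq'r, hq'q⟩ : ∃ q' : Fin n, q' ≠ p ∧ q' ≠ r ∧ q' ≠ q := by
      have hcard3 : 3 < Fintype.card (Fin n) := by rw [Fintype.card_fin]; omega
      have h2 : ({p, r, q} : Finset (Fin n)).card < Fintype.card (Fin n) :=
        lt_of_le_of_lt (Finset.card_le_three) hcard3
      obtain ⟨q', hq'⟩ := Finset.exists_mem_notMem_of_card_lt_card
        (s := ({p, r, q} : Finset (Fin n))) (t := Finset.univ) (by rwa [Finset.card_univ])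
      refine ⟨q', ?_, ?_, ?_⟩
      · intro h; apply hq'.2; rw [h]; simp
      · intro h; apply hq'.2; rw [h]; simp
      · intro h; apply hq'.2; rw [h]; simp
    have hqQ : q ∈ Q := hQ q hqp hqr
    have hq'Q : q' ∈ Q := hQ q' hq'p hq'r
    have hmem : swap p r * swap q q' ∈ alternatingGroup (Fin n) := by
      rw [Equiv.Perm.mem_alternatingGroup, Equiv.Perm.sign_mul, Equiv.Perm.sign_swap hpr,
        Equiv.Perm.sign_swap hq'q.symm]
      rfl
    refine ⟨⟨swap p r * swap q q', hmem⟩, ?_, ?_⟩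
    · apply stabne_mem
      intro y hy
      show (swap p r * swap q q') y ∈ Q
      rw [Perm.mul_apply]
      have hyQ : swap q q' y ∈ Q := by
        rw [swap_apply_def]
        split_ifs
        · exact hq'Q
        · exact hqQ
        · exact hy
      rw [swap_apply_of_ne_of_ne (fun h : swap q q' y = p => hpQ (h ▸ hyQ))
        (fun h : swap q q' y = r => hrQ (h ▸ hyQ))]
      exact hyQ
    · intro hg
      have h1 := stabne_apply_mem P _ hg p hp
      have h2 : (swap p r * swap q q') p = r := by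
        rw [Perm.mul_apply, swap_apply_of_ne_of_ne hqp.symm hq'p.symm, swap_apply_left]
      exact hrP (h2 ▸ h1)

end Cfsg.Agent.Helper10.TM
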