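import Mathlib
import Cfsg.Prelude.Def_OddOrder
import Cfsg.Prelude.Def_OddOrderLocal
import Cfsg.Agent.Lib.Helper22.BG13A
import Cfsg.Agent.Lib.Helper22.BG13C
import Cfsg.Agent.Lib.Lead.BGThmC
import Cfsg.Agent.Lib.Lead.BGNonab
import Cfsg.Agent.Lib.Helper16.BG147A
import Cfsg.Agent.Lib.Helper16.BG145A
import Cfsg.Agent.Lib.Helper19.BG16A

/-!
# Bender-Glauberman Corollary 14.3 (= S1432), part A (helper21): hypotheses and basic facts

The frozen statements of earlier rows are taken as explicit hypotheses (`Hyp1350 G`, ... from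
helper22's `BG13A`, and `Hyp1419`, `Hyp1420`, `Hyp1430`, `Hyp1431` defined here).
-/

set_option autoImplicit false

namespace Cfsg.Agent.Helper21.BG143

open Cfsg Subgroup
open Cfsg.Agent.Helper10 (IsPiNum)
open Cfsg.Agent.Helper22.BG13 (Hyp1350 Hyp1405 Hyp1416 Hyp1417 Hyp1418)

universe u

/-- statement of S1419 (BG 12.7) -/
def Hyp1419 (G : Type u) [Group G] : Prop :=
  ∀ (M : Subgroup G) (_ : IsCoatom M) (E : Subgroup G) (_ : IsComplIn E (sigmaCore M) M)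
    (p : ℕ) [Fact p.Prime] (_ : p ∈ tau2 M)
    (_ : ∀ S : Sylow p G, ¬ IsMulCommutative (S : Subgroup G))
    (A : Subgroup G) (_ : A ≤ E ∧ IsElementaryAbelian p A ∧ Nat.card A = p ^ 2),
    tau2 M = {p} ∧
      (Nat.card ↥(A ⊓ centralizer (sigmaCore M : Set G)) = p ∧
        fittingOf M = sigmaCore M ⊔ (A ⊓ centralizer (sigmaCore M : Set G))) ∧
      ∀ X : Subgroup G, X ≤ E → Nat.card X = p →
        X ≠ A ⊓ centralizer (sigmaCore M : Set G) →
        sigmaCore M ⊓ centralizer (X : Set G) = ⊥ ∧ ¬ centralizer (X : Set G) ≤ M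

/-- statement of S1420 (BG 12.8-12.14) -/
def Hyp1420 (G : Type u) [Group G] : Prop :=
  ∀ (M : Subgroup G) (_ : IsCoatom M) (E : Subgroup G) (_ : IsComplIn E (sigmaCore M) M),
    (∀ N : Subgroup G, N ≤ M → Group.IsNilpotent N →
        (∀ p : ℕ, p.Prime → p ∣ Nat.card N → p ∉ sigma M) → IsMulCommutative N) ∧
      IsMulCommutative ↥⁅E, E⁆ ∧
      (∀ (p : ℕ) (P : Subgroup G), p ∈ sigma M → IsPGroup p P → P ≤ M → ¬ IsCyclic P →
        normalizer (P : Set G) ≤ M) ∧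
      ∀ x ∈ M, x ≠ 1 → (∀ p : ℕ, p.Prime → p ∣ orderOf x → p ∈ tau2 M) → x ∈ sigmaHat M →
        centralizer ({x} : Set G) ≤ M ∧
          ∀ L : Subgroup G, IsCoatom L → centralizer ({x} : Set G) ≤ L → L = M

/-- statement of S1430 (BG 14.2 a-c) -/
def Hyp1430 (G : Type u) [Group G] : Prop :=
  ∀ (M : Subgroup G) (_ : IsCoatom M) (K : Subgroup G) (_ : IsPiHallOf (kappa M) K M)
    (_ : K ≠ ⊥),
    (∀ k ∈ K, k ≠ 1 → sigmaCore M ⊓ centralizer ({k} : Set G) =
        (sigmaCore M ⊓ centralizer (K : Set G))) ∧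
      (∃ U : Subgroup G, IsMulCommutative U ∧
        IsPiHallOf {q | q.Prime ∧ q ∉ kappa M ∧ q ∉ sigma M} U M ∧
        K ≤ normalizer (U : Set G) ∧ ∀ k ∈ K, k ≠ 1 → U ⊓ centralizer ({k} : Set G) = ⊥) ∧
      ∀ X : Subgroup G, X ≤ K → (Nat.card X).Prime →
        M ⊓ normalizer (X : Set G) = K ⊔ (sigmaCore M ⊓ centralizer (K : Set G)) ∧
        M ⊓ normalizer (K : Set G) = K ⊔ (sigmaCore M ⊓ centralizer (K : Set G)) ∧
        ∀ Mstar : Subgroup G, IsCoatom Mstar → normalizer (X : Set G) ≤ Mstar →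
          X ≤ sigmaCore Mstar

/-- statement of S1431 (BG 14.2 d-g) -/
def Hyp1431 (G : Type u) [Group G] : Prop :=
  ∀ (M : Subgroup G) (_ : IsCoatom M) (K : Subgroup G) (_ : IsPiHallOf (kappa M) K M)
    (_ : K ≠ ⊥),
    (∀ g : G, g ∉ M → (sigmaCore M ⊓ centralizer (K : Set G)) ⊓
        M.map (MulAut.conj g).toMonoidHom = ⊥) ∧
      (∀ g ∈ M, g ∉ K ⊔ (sigmaCore M ⊓ centralizer (K : Set G)) →
        K ⊓ K.map (MulAut.conj g).toMonoidHom = ⊥) ∧
      (∀ (p : ℕ), p.Prime → p ∣ Nat.card ↥(sigmaCore M ⊓ centralizer (K : Set G)) →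
        ∀ S : Sylow p ↥(sigmaCore M),
        InUniqueMaximal ((S : Subgroup ↥(sigmaCore M)).map (sigmaCore M).subtype) ∧
        (S : Subgroup ↥(sigmaCore M)).map (sigmaCore M).subtype ≤ M ∧
        ¬ (S : Subgroup ↥(sigmaCore M)).map (sigmaCore M).subtype ≤
          (sigmaCore M ⊓ centralizer (K : Set G))) ∧
      ∀ Y : Subgroup G, (∀ p : ℕ, p.Prime → p ∣ Nat.card Y → p ∈ sigma M) →
        Y ⊓ (sigmaCore M ⊓ centralizer (K : Set G)) ≠ ⊥ → Y ≤ sigmaCore M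

variable {G : Type u} [Group G] [Finite G]

/-- `|H| * |K : H| = |K|` -/
theorem card_mul_relIndex' {H K : Subgroup G} (h : H ≤ K) :
    Nat.card ↥H * H.relIndex K = Nat.card ↥K := by
  have := Subgroup.relIndex_mul_relIndex (⊥ : Subgroup G) H K bot_le h
  rwa [Subgroup.relIndex_bot_left, Subgroup.relIndex_bot_left] at this

/-- `α(M) ⊆ σ(M)`, in the form: a prime dividing `|M|` outside `σ(M)` has rank at most `2`. -/
theorem pRankLE_two_of_not_mem_sigma (h05 : Hyp1405 G) {M : Subgroup G} (hM : IsCoatom M)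
    {p : ℕ} (hp : p.Prime) (hpM : p ∣ Nat.card ↥M) (hpσ : p ∉ sigma M) : PRankLE p 2 ↥M := by
  by_contra h
  have hα : p ∈ alpha M := ⟨hp, h⟩
  obtain ⟨⟨hle, -, hidx⟩, -, hασ, -, -⟩ := h05 M hM
  have h1 := card_mul_relIndex' hle
  rw [← h1] at hpM
  have h2 : p ∣ Nat.card ↥(alphaCore M) := by
    rcases (Nat.Prime.dvd_mul hp).mp hpM with h | h
    · exact h
    · exact absurd h (hidx p hp hα)
  have h3 : p ∣ Nat.card ↥(sigmaCore M) := h2.trans (Subgroup.card_dvd_of_le hασ)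
  exact hpσ (Cfsg.Agent.Helper22.BG13.isPiNum_card_sigmaCore M p hp h3)

/-- a subgroup of exponent dividing `p` is a `p`-group -/
theorem isPGroup_of_pow_eq_one {H : Type*} [Group H] {p : ℕ} (A : Subgroup H)
    (hA : ∀ a ∈ A, a ^ p = 1) : IsPGroup p ↥A := by
  intro a
  refine ⟨1, ?_⟩
  rw [pow_one]
  exact Subtype.ext (by simpa using hA a a.2)

/-- for `p ∈ τ₂(M)` there is an elementary abelian subgroup of order `p ^ 2` in `M` -/
theorem exists_elemAb_sq_of_mem_tau2 {M : Subgroup G} {p : ℕ} (hp : p ∈ tau2 M) :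
    ∃ A : Subgroup G, A ≤ M ∧ IsElementaryAbelian p A ∧ Nat.card ↥A = p ^ 2 := by
  obtain ⟨hpp, -, hr2, hr1⟩ := hp
  haveI : Fact p.Prime := ⟨hpp⟩
  unfold PRankLE at hr1
  push_neg at hr1
  obtain ⟨A₀, hc, he, hcard⟩ := hr1
  have hle := hr2 A₀ hc he
  obtain ⟨k, hk⟩ := (isPGroup_of_pow_eq_one A₀ he).exists_card_eq
  have hk2 : k = 2 := by
    rw [hk] at hcard hle
    have h1 : 1 < k := by
      by_contra h
      push_neg at h
      exact absurd (Nat.pow_le_pow_right hpp.pos h) (not_le.mpr hcard)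
    have h2 : k ≤ 2 := (Nat.pow_le_pow_iff_right hpp.one_lt).mp hle
    omega
  refine ⟨A₀.map M.subtype, Subgroup.map_subtype_le _, ⟨?_, ?_⟩, ?_⟩
  · rw [isMulCommutative_iff]
    rintro ⟨_, ⟨a, ha, rfl⟩⟩ ⟨_, ⟨b, hb, rfl⟩⟩
    apply Subtype.ext
    have := setLike_mul_comm ha hb
    simp only [Subgroup.coe_mul, Subgroup.coe_subtype]
    exact_mod_cast congrArg Subtype.val this
  · rintro _ ⟨a, ha, rfl⟩
    have := he a ha
    simpa using congrArg Subtype.val this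
  · rw [Subgroup.card_map_of_injective M.subtype_injective, hk, hk2]

end Cfsg.Agent.Helper21.BG143
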