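import Mathlib
import Cfsg.Agent.Lib.Helper21.BG143A

/-!
# Bender-Glauberman Corollary 14.3 (= S1432), part B (helper21): auxiliary lemmas
-/

set_option autoImplicit false

namespace Cfsg.Agent.Helper21.BG143

open Cfsg Subgroup
open Cfsg.Agent.Helper10 (IsPiNum)
open Cfsg.Agent.Helper22.BG13 (Hyp1350 Hyp1405 Hyp1416 Hyp1417 Hyp1418)

universe u

variable {G : Type u} [Group G] [Finite G]

omit [Finite G] in
/-- images of elementary abelian subgroups are elementary abelian -/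
theorem IsElementaryAbelian_map {H : Type*} [Group H] (f : G →* H) {p : ℕ} {A : Subgroup G}
    (hA : IsElementaryAbelian p A) : IsElementaryAbelian p (A.map f) := by
  obtain ⟨hc, he⟩ := hA
  refine ⟨?_, ?_⟩
  · rw [isMulCommutative_iff]
    rintro ⟨_, ⟨a, ha, rfl⟩⟩ ⟨_, ⟨b, hb, rfl⟩⟩
    apply Subtype.ext
    simp only [Subgroup.coe_mul]
    rw [← map_mul, ← map_mul, setLike_mul_comm ha hb]
  · rintro _ ⟨a, ha, rfl⟩
    rw [← map_pow, he a ha, map_one]

/-- proper subgroups of a minimal simple group are solvable -/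
theorem isSolvable_of_coatom (hG : IsMinSimpleOddOrder G) {M : Subgroup G} (hM : IsCoatom M) :
    Group.IsSolvable ↥M := hG.2.2.2 M hM.1

/-- an elementary abelian subgroup of order `p ^ 2` inside a given complement `E` of `M_σ` -/
theorem exists_elemAb_sq_le_compl (hG : IsMinSimpleOddOrder G) (h50 : Hyp1350 G)
    {M : Subgroup G} (hM : IsCoatom M) {E : Subgroup G} (hE : IsComplIn E (sigmaCore M) M)
    {p : ℕ} (hp : p ∈ tau2 M) :
    ∃ A : Subgroup G, A ≤ E ∧ IsElementaryAbelian p A ∧ Nat.card ↥A = p ^ 2 := by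
  obtain ⟨A₁, hA₁M, hA₁e, hA₁c⟩ := exists_elemAb_sq_of_mem_tau2 hp
  have hpp : p.Prime := hp.1
  obtain ⟨⟨hle, hpi, hidx⟩, -, -⟩ := h50 M hM
  have hcop : (Nat.card ↥(sigmaCore M)).Coprime ((sigmaCore M).relIndex M) := by
    apply Nat.coprime_of_dvd
    intro k hk h1 h2
    exact hidx k hk (hpi k hk h1) h2
  have hfac : ∀ h ∈ M, ∃ n ∈ sigmaCore M, ∃ d ∈ E, h = n * d := by
    intro h hh
    obtain ⟨a, ha, b, hb, hab⟩ := hE.2.2.2 h⁻¹ (M.inv_mem hh)
    refine ⟨b⁻¹, (sigmaCore M).inv_mem hb, a⁻¹, E.inv_mem ha, ?_⟩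
    rw [← mul_inv_rev, ← hab, inv_inv]
  have hY : (Nat.card ↥A₁).Coprime (Nat.card ↥(sigmaCore M)) := by
    rw [hA₁c]
    apply Nat.Coprime.pow_left
    rw [Nat.Prime.coprime_iff_not_dvd hpp]
    intro hd
    exact hp.2.1 (hpi p hpp hd)
  obtain ⟨h, -, hh⟩ := Cfsg.Agent.Helper22.BG13.exists_conj_le_of_hall
    (isSolvable_of_coatom hG hM) hle (Cfsg.Agent.Helper22.BG13.le_normalizer_sigmaCore M)
    hE.1 hA₁M hcop hfac hY
  refine ⟨A₁.map (MulAut.conj h).toMonoidHom, hh, IsElementaryAbelian_map _ hA₁e, ?_⟩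
  rw [Subgroup.card_map_of_injective (MulAut.conj h).injective, hA₁c]

/-- cyclic Sylow subgroups force rank at most one -/
theorem pRankLE_one_of_mem_kappa {M : Subgroup G} {p : ℕ} (hp : p ∈ kappa M) :
    PRankLE p 1 ↥M := by
  obtain ⟨hpp, -, -, hcyc⟩ := hp
  haveI : Fact p.Prime := ⟨hpp⟩
  intro A _ he
  obtain ⟨P, hAP⟩ := (isPGroup_of_pow_eq_one A he).exists_le_sylow
  haveI : IsCyclic ↥(P : Subgroup ↥M) := (hcyc P).1
  haveI : IsCyclic ↥A := by
    have : IsCyclic ↥(A.subgroupOf (P : Subgroup ↥M)) := Subgroup.isCyclic _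
    exact isCyclic_of_surjective _ (Subgroup.subgroupOfEquivOfLe hAP).surjective
  obtain ⟨g, hg⟩ := IsCyclic.exists_generator (α := ↥A)
  have h1 : Nat.card ↥A = orderOf g := by
    rw [← Nat.card_zpowers]
    have : Subgroup.zpowers g = ⊤ := by
      rw [eq_top_iff]; intro x _; exact hg x
    rw [this, Subgroup.card_top]
  rw [h1, pow_one]
  apply Nat.le_of_dvd hpp.pos
  apply orderOf_dvd_of_pow_eq_one
  exact Subtype.ext (by simpa using he g g.2)

/-- a Hall `κ(M)`-subgroup of `M` through a given element of prime order `p ∈ κ(M)` -/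
theorem exists_kappaHall_mem (hG : IsMinSimpleOddOrder G) {M : Subgroup G} (hM : IsCoatom M)
    {p : ℕ} (hp : p ∈ kappa M) {y : G} (hyM : y ∈ M) (hy : orderOf y = p) :
    ∃ K : Subgroup G, IsPiHallOf (kappa M) K M ∧ y ∈ K := by
  haveI := isSolvable_of_coatom hG hM
  have hpp : p.Prime := hp.1
  set y' : ↥M := ⟨y, hyM⟩ with hy'
  have hoy' : orderOf y' = p := by rw [← hy, hy']; exact Subgroup.orderOf_mk y hyM
  have hK₀ : IsPiNum (kappa M) (Nat.card ↥(Subgroup.zpowers y')) := by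
    rw [Nat.card_zpowers, hoy']
    intro q hq hqp
    rw [(Nat.prime_dvd_prime_iff_eq hq hpp).mp hqp]
    exact hp
  obtain ⟨H, hyH, hHπ, hHidx⟩ :=
    Cfsg.Agent.Helper16.BG147.exists_piHall_ge (kappa M) (Subgroup.zpowers y') hK₀
  refine ⟨H.map M.subtype, ⟨Subgroup.map_subtype_le _, ?_, ?_⟩, ?_⟩
  · rw [Subgroup.card_map_of_injective M.subtype_injective]
    exact hHπ
  · intro q hq hqκ
    have : (H.map M.subtype).relIndex M = H.index := by
      unfold Subgroup.relIndex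
      congr 1
      ext z
      simp [Subgroup.mem_subgroupOf]
    rw [this]
    exact hHidx q hq hqκ
  · exact ⟨y', hyH (Subgroup.mem_zpowers y'), rfl⟩

end Cfsg.Agent.Helper21.BG143
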