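import Mathlib
import Cfsg.Agent.Lib.Helper21.BG143B

/-!
# Bender-Glauberman Corollary 14.3 (= S1432), part C (helper21): the three cases
-/

set_option autoImplicit false

namespace Cfsg.Agent.Helper21.BG143

open Cfsg Subgroup
open Cfsg.Agent.Helper10 (IsPiNum)
open Cfsg.Agent.Helper22.BG13 (Hyp1350 Hyp1405 Hyp1416 Hyp1417 Hyp1418)

universe u

variable {G : Type u} [Group G] [Finite G]

/-- the element of order `p` in `⟨x'⟩` and its basic properties -/
theorem prime_power_data {M : Subgroup G} {x x' : G}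
    (hx' : x' ∈ M ⊓ centralizer ({x} : Set G)) {p : ℕ} (hp : p.Prime) (hd : p ∣ orderOf x') :
    x' ^ (orderOf x' / p) ∈ M ∧ orderOf (x' ^ (orderOf x' / p)) = p ∧
      x' ^ (orderOf x' / p) * x = x * x' ^ (orderOf x' / p) ∧ p ∣ Nat.card ↥M := by
  have hmem : x' ^ (orderOf x' / p) ∈ M := M.pow_mem hx'.1 _
  have hord : orderOf (x' ^ (orderOf x' / p)) = p :=
    orderOf_pow_orderOf_div (orderOf_pos x').ne' hd
  refine ⟨hmem, hord, ?_, ?_⟩
  · have h1 : x * x' = x' * x := mem_centralizer_iff.mp hx'.2 x (Set.mem_singleton x)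
    have h2 : Commute x' x := h1.symm
    exact (h2.pow_left _).eq
  · have h3 : orderOf (⟨x' ^ (orderOf x' / p), hmem⟩ : ↥M) = p := by
      rw [Subgroup.orderOf_mk, hord]
    rw [← h3]
    exact orderOf_dvd_natCard _

/-- each prime divisor of `o(x')` lies in `κ(M)` or in `τ₂(M)` -/
theorem prime_cases (hG : IsMinSimpleOddOrder G) (h05 : Hyp1405 G) {M : Subgroup G}
    (hM : IsCoatom M) {x x' : G} (hx : x ∈ sigmaCore M) (hx1 : x ≠ 1)
    (hx' : x' ∈ M ⊓ centralizer ({x} : Set G)) {p : ℕ} (hp : p.Prime) (hd : p ∣ orderOf x')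
    (hpσ : p ∉ sigma M) : p ∈ kappa M ∨ p ∈ tau2 M := by
  obtain ⟨hmem, hord, hcomm, hpM⟩ := prime_power_data hx' hp hd
  have hr2 := pRankLE_two_of_not_mem_sigma h05 hM hp hpM hpσ
  by_cases hr1 : PRankLE p 1 ↥M
  · left
    have hτ : p ∈ tau1 M ∪ tau3 M := by
      by_cases hc : p ∣ Nat.card ↥⁅M, M⁆
      · exact Or.inr ⟨hp, hpσ, hc, hr1⟩
      · exact Or.inl ⟨hp, hpσ, hpM, hc, hr1⟩
    exact Cfsg.Agent.Helper19.BG16.mem_kappa_of_commute hG.1 hτ hmem hord hx hx1 hcomm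
  · exact Or.inr ⟨hp, hpσ, hr2, hr1⟩

/-- a `κ(M)`-element of prime order cannot commute with a `τ₂(M)`-element of prime order -/
theorem mixed_false (hG : IsMinSimpleOddOrder G) (h30 : Hyp1430 G) {M : Subgroup G}
    (hM : IsCoatom M) {p q : ℕ} (hp : p ∈ kappa M) (hq : q ∈ tau2 M) {a b : G}
    (haM : a ∈ M) (hbM : b ∈ M) (ha : orderOf a = p) (hb : orderOf b = q)
    (hab : a * b = b * a) : False := by
  obtain ⟨K, hK, haK⟩ := exists_kappaHall_mem hG hM hp haM ha
  have ha1 : a ≠ 1 := by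
    rintro rfl
    rw [orderOf_one] at ha
    exact hp.1.one_lt.ne ha
  have hK1 : K ≠ ⊥ := by
    intro h
    rw [h] at haK
    exact ha1 (mem_bot.mp haK)
  obtain ⟨-, -, h3⟩ := h30 M hM K hK hK1
  have hX : zpowers a ≤ K := (zpowers_le).mpr haK
  have hXc : (Nat.card ↥(zpowers a)).Prime := by
    rw [Nat.card_zpowers, ha]; exact hp.1
  obtain ⟨hN, -, -⟩ := h3 (zpowers a) hX hXc
  have hbN : b ∈ M ⊓ normalizer ((zpowers a : Subgroup G) : Set G) := by
    refine ⟨hbM, centralizer_le_normalizer _ ?_⟩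
    rw [mem_centralizer_iff]
    intro h hh
    obtain ⟨k, rfl⟩ := mem_zpowers_iff.mp hh
    have : Commute a b := hab
    exact (this.zpow_left k).eq
  rw [hN] at hbN
  set S := sigmaCore M with hS
  have hle : K ⊔ (S ⊓ centralizer (K : Set G)) ≤ S ⊔ K :=
    sup_le le_sup_right (inf_le_left.trans le_sup_left)
  have hbKS : b ∈ S ⊔ K := hle hbN
  have hKN : K ≤ normalizer (S : Set G) :=
    hK.1.trans (Cfsg.Agent.Helper22.BG13.le_normalizer_sigmaCore M)
  have h1 : Nat.card ↥(S ⊔ K : Subgroup G) ∣ Nat.card ↥S * Nat.card ↥K :=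
    Cfsg.Agent.Helper7.card_sup_dvd_mul_of_le_normalizer hKN
  have h2 : q ∣ Nat.card ↥(S ⊔ K : Subgroup G) := by
    have h3 : orderOf (⟨b, hbKS⟩ : ↥(S ⊔ K)) = q := by rw [Subgroup.orderOf_mk, hb]
    rw [← h3]
    exact orderOf_dvd_natCard _
  have hqp : q.Prime := hq.1
  rcases (Nat.Prime.dvd_mul hqp).mp (h2.trans h1) with h | h
  · exact hq.2.1 (Cfsg.Agent.Helper22.BG13.isPiNum_card_sigmaCore M q hqp h)
  · exact hq.2.2.2 (pRankLE_one_of_mem_kappa (hK.2.1 q hqp h))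

/-- the case where `x` is centralized by an element of prime order `p ∈ κ(M)` -/
theorem centralizer_le_of_kappa (hG : IsMinSimpleOddOrder G) (h30 : Hyp1430 G) (h31 : Hyp1431 G)
    {M : Subgroup G} (hM : IsCoatom M) {x : G} (hx : x ∈ sigmaCore M) (hx1 : x ≠ 1) {p : ℕ}
    (hp : p ∈ kappa M) {a : G} (haM : a ∈ M) (ha : orderOf a = p) (hax : a * x = x * a) :
    centralizer ({x} : Set G) ≤ M := by
  obtain ⟨K, hK, haK⟩ := exists_kappaHall_mem hG hM hp haM ha
  have ha1 : a ≠ 1 := by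
    rintro rfl
    rw [orderOf_one] at ha
    exact hp.1.one_lt.ne ha
  have hK1 : K ≠ ⊥ := by
    intro h
    rw [h] at haK
    exact ha1 (mem_bot.mp haK)
  obtain ⟨h1, -, -⟩ := h30 M hM K hK hK1
  have hxK : x ∈ sigmaCore M ⊓ centralizer (K : Set G) := by
    rw [← h1 a haK ha1]
    refine ⟨hx, ?_⟩
    show x ∈ centralizer ({a} : Set G)
    rw [mem_centralizer_iff]
    intro h hh
    rw [Set.mem_singleton_iff] at hh
    subst hh
    exact hax
  obtain ⟨h1', -, -, -⟩ := h31 M hM K hK hK1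
  intro c hc
  by_contra hcM
  have h2 := h1' c hcM
  have hxc : x * c = c * x := mem_centralizer_iff.mp hc x (Set.mem_singleton x)
  have hxmem : x ∈ (sigmaCore M ⊓ centralizer (K : Set G)) ⊓
      M.map (MulAut.conj c).toMonoidHom := by
    refine ⟨hxK, x, Cfsg.Agent.Helper22.BG13.sigmaCore_le M hx, ?_⟩
    simp only [MulEquiv.coe_toMonoidHom, MulAut.conj_apply]
    rw [← hxc, mul_inv_cancel_right]
  rw [h2] at hxmem
  exact hx1 (mem_bot.mp hxmem)

end Cfsg.Agent.Helper21.BG143
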