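import Mathlib
import Cfsg.Agent.Lib.Helper21.BG143C

/-!
# Bender-Glauberman Corollary 14.3 (= S1432), part D (helper21): the maximal subgroup `L` with
`τ₂(M) ⊆ σ(L)`, and the final statement
-/

set_option autoImplicit false

namespace Cfsg.Agent.Helper21.BG143

open Cfsg Subgroup
open Cfsg.Agent.Helper10 (IsPiNum)
open Cfsg.Agent.Helper22.BG13 (Hyp1350 Hyp1405 Hyp1416 Hyp1417 Hyp1418)

universe u

variable {G : Type u} [Group G] [Finite G]

/-- if one Sylow `p`-subgroup is commutative then all are -/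
theorem isMulCommutative_sylow {p : ℕ} [Fact p.Prime] (S₀ P : Sylow p G)
    (h : IsMulCommutative (S₀ : Subgroup G)) : IsMulCommutative (P : Subgroup G) := by
  have e : ↥(S₀ : Subgroup G) ≃* ↥(P : Subgroup G) := Sylow.equiv S₀ P
  rw [isMulCommutative_iff]
  intro a b
  have := mul_comm' (e.symm a) (e.symm b)
  have h2 := congrArg e this
  simpa using h2

omit [Finite G] in
/-- if `A` is the set of elements of `P` of order dividing `p`, then `N_G(P) ≤ N_G(A)` -/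
theorem normalizer_le_normalizer_of_char {p : ℕ} {P A : Subgroup G}
    (hchar : ∀ x ∈ P, x ^ p = 1 ↔ x ∈ A) (hAP : A ≤ P) :
    normalizer (P : Set G) ≤ normalizer (A : Set G) := by
  have key : ∀ g ∈ normalizer (P : Set G), ∀ h ∈ A, g * h * g⁻¹ ∈ A := by
    intro g hg h hh
    have h1 : g * h * g⁻¹ ∈ P := (mem_normalizer_iff.mp hg h).mp (hAP hh)
    rw [← hchar _ h1]
    have h2 : h ^ p = 1 := (hchar h (hAP hh)).mpr hh
    rw [conj_pow, h2, mul_one, mul_inv_cancel]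
  intro g hg
  rw [mem_normalizer_iff]
  intro h
  constructor
  · exact key g hg h
  · intro hh
    have := key g⁻¹ ((normalizer (P : Set G)).inv_mem hg) _ hh
    simpa [mul_assoc] using this

omit [Finite G] in
/-- an elementary abelian subgroup of order `q ^ 2` prevents rank one -/
theorem not_pRankLE_one_of_elemAb_sq {q : ℕ} (hq : q.Prime) {L B : Subgroup G} (hBL : B ≤ L)
    (hBe : IsElementaryAbelian q B) (hBc : Nat.card ↥B = q ^ 2) : ¬ PRankLE q 1 ↥L := by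
  intro h
  have hc : IsMulCommutative ↥(B.subgroupOf L) := by
    rw [isMulCommutative_iff]
    intro a b
    apply Subtype.ext
    apply Subtype.ext
    haveI := hBe.1
    have := setLike_mul_comm (mem_subgroupOf.mp a.2) (mem_subgroupOf.mp b.2)
    simpa using this
  have he : ∀ a ∈ B.subgroupOf L, a ^ q = 1 := by
    intro a ha
    apply Subtype.ext
    have := hBe.2 a (mem_subgroupOf.mp ha)
    simpa using this
  have h1 := h (B.subgroupOf L) hc he
  have h2 : Nat.card ↥(B.subgroupOf L) = Nat.card ↥B :=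
    Nat.card_congr (Subgroup.subgroupOfEquivOfLe hBL).toEquiv
  rw [h2, hBc, pow_one] at h1
  have : q < q ^ 2 := by
    have := hq.one_lt
    nlinarith
  omega

/-- for `p ∈ τ₂(M)` there is a maximal subgroup `L` with `τ₂(M) ⊆ σ(L)` -/
theorem exists_coatom_sigma_of_tau2 (hG : IsMinSimpleOddOrder G) (h50 : Hyp1350 G)
    (h05 : Hyp1405 G) (h16 : Hyp1416 G) (h17 : Hyp1417 G) (h18 : Hyp1418 G) (h19 : Hyp1419 G)
    {M : Subgroup G} (hM : IsCoatom M) {p : ℕ} (hp : p ∈ tau2 M) :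
    ∃ L : Subgroup G, IsCoatom L ∧ ∀ q ∈ tau2 M, q ∈ sigma L := by
  have hpp : p.Prime := hp.1
  haveI : Fact p.Prime := ⟨hpp⟩
  obtain ⟨E, hE⟩ := Cfsg.Agent.Lead.BGThmC.exists_compl_sigmaCore M (h50 M hM).1
  obtain ⟨A, hAE, hAe, hAc⟩ := exists_elemAb_sq_le_compl hG h50 hM hE hp
  have hAM : A ≤ M := hAE.trans hE.1
  have hA1 : A ≠ ⊥ := by
    intro h
    rw [h, Subgroup.card_bot] at hAc
    have := hpp.one_lt
    nlinarith
  have hApg : IsPGroup p ↥A := isPGroup_of_pow_eq_one A hAe.2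
  obtain ⟨P, hAP⟩ := hApg.exists_le_sylow
  have hP1 : (P : Subgroup G) ≠ ⊥ := fun h => hA1 (le_bot_iff.mp (h ▸ hAP))
  have hpdvd : ∀ {L : Subgroup G}, (P : Subgroup G) ≤ L → p ∣ Nat.card ↥L := by
    intro L hPL
    have h1 : Nat.card ↥A ∣ Nat.card ↥L := Subgroup.card_dvd_of_le (hAP.trans hPL)
    rw [hAc] at h1
    exact (dvd_pow_self p two_ne_zero).trans h1
  by_cases hS : ∀ S : Sylow p G, ¬ IsMulCommutative (S : Subgroup G)
  · obtain ⟨hτ, -, -⟩ := h19 M hM E hE p hp hS A ⟨hAE, hAe, hAc⟩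
    have hN := Cfsg.Agent.Helper14.BGTrans.normalizer_ne_top_of_isPGroup hG P.2 hP1
    obtain ⟨L, hL, hNL⟩ := Cfsg.Agent.Helper14.BGUniq.exists_isCoatom_ge hN
    have hPL : (P : Subgroup G) ≤ L := le_normalizer.trans hNL
    refine ⟨L, hL, ?_⟩
    intro q hq
    rw [hτ] at hq
    have hqp : q = p := hq
    subst hqp
    exact Cfsg.Agent.Helper16.BG145.mem_sigma_of_sylow (hpdvd hPL) P hPL hNL
  · push_neg at hS
    obtain ⟨S₀, hS₀⟩ := hS
    have hPab : IsMulCommutative (P : Subgroup G) := isMulCommutative_sylow S₀ P hS₀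
    have hPC : (P : Subgroup G) ≤ centralizer (A : Set G) := by
      intro x hx
      rw [mem_centralizer_iff]
      intro a ha
      exact setLike_mul_comm (hAP ha) hx
    have hCM : centralizer (A : Set G) ≤ M := (h16 M hM p A ⟨hAM, hAe, hAc⟩).1
    have hPM : (P : Subgroup G) ≤ M := hPC.trans hCM
    have hPMmap : ((P.subtype hPM : Sylow p ↥M) : Subgroup ↥M).map M.subtype = P := by
      rw [Sylow.coe_subtype, subgroupOf_map_subtype, inf_eq_left.mpr hPM]
    obtain ⟨-, h17b, -, -, -, -⟩ := h17 M hM p hp A ⟨hAM, hAe, hAc⟩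
    obtain ⟨-, hchar⟩ := h17b (P.subtype hPM)
    rw [hPMmap] at hchar
    obtain ⟨hchar, -⟩ := hchar hAP
    have hNPA : normalizer ((P : Subgroup G) : Set G) ≤ normalizer (A : Set G) :=
      normalizer_le_normalizer_of_char hchar hAP
    have hNA := Cfsg.Agent.Helper14.BGTrans.normalizer_ne_top_of_isPGroup hG hApg hA1
    obtain ⟨L, hL, hNL⟩ := Cfsg.Agent.Helper14.BGUniq.exists_isCoatom_ge hNA
    have hPL : (P : Subgroup G) ≤ L := le_normalizer.trans (hNPA.trans hNL)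
    have hpσL : p ∈ sigma L :=
      Cfsg.Agent.Helper16.BG145.mem_sigma_of_sylow (hpdvd hPL) P hPL (hNPA.trans hNL)
    obtain ⟨⟨hEN, -⟩, ⟨-, -, hnot⟩, -⟩ := h18 M hM E hE p hp A ⟨hAE, hAe, hAc⟩
    have hLM : L ≠ M := by
      rintro rfl
      exact hnot hNL
    refine ⟨L, hL, ?_⟩
    intro q hq
    by_contra hqσ
    have hqp : q.Prime := hq.1
    haveI : Fact q.Prime := ⟨hqp⟩
    obtain ⟨B, hBE, hBe, hBc⟩ := exists_elemAb_sq_le_compl hG h50 hM hE hq
    have hBL : B ≤ L := hBE.trans (hEN.trans hNL)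
    have hBM : B ≤ M := hBE.trans hE.1
    have hqL : q ∣ Nat.card ↥L := by
      have h1 : Nat.card ↥B ∣ Nat.card ↥L := Subgroup.card_dvd_of_le hBL
      rw [hBc] at h1
      exact (dvd_pow_self q two_ne_zero).trans h1
    have hr2 : PRankLE q 2 ↥L := pRankLE_two_of_not_mem_sigma h05 hL hqp hqL hqσ
    have hr1 : ¬ PRankLE q 1 ↥L := not_pRankLE_one_of_elemAb_sq hqp hBL hBe hBc
    have hqτL : q ∈ tau2 L := ⟨hqp, hqσ, hr2, hr1⟩
    obtain ⟨-, -, -, -, he, -⟩ := h17 L hL q hqτL B ⟨hBL, hBe, hBc⟩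
    have hbot := he M hM (Ne.symm hLM) hBM
    have hPσ : (P : Subgroup G) ≤ sigmaCore L :=
      Cfsg.Agent.Lead.BGNonab.le_sigmaCore_of_isPGroup L (h50 L hL).1 hpp hpσL P.2 hPL
    have : (P : Subgroup G) ≤ sigmaCore L ⊓ M := le_inf hPσ hPM
    rw [hbot] at this
    exact hP1 (le_bot_iff.mp this)

/-- **BG Corollary 14.3** (the statement of S1432), from the frozen statements of
S1350, S1405, S1416-S1420, S1430, S1431. -/
theorem cor_14_3 (hG : IsMinSimpleOddOrder G) (h50 : Hyp1350 G) (h05 : Hyp1405 G)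
    (h16 : Hyp1416 G) (h17 : Hyp1417 G) (h18 : Hyp1418 G) (h19 : Hyp1419 G) (h20 : Hyp1420 G)
    (h30 : Hyp1430 G) (h31 : Hyp1431 G)
    (M : Subgroup G) (hM : IsCoatom M) (x : G) (hx : x ∈ sigmaCore M) (hx1 : x ≠ 1) (x' : G)
    (hx' : x' ∈ M ⊓ centralizer ({x} : Set G)) (hx'1 : x' ≠ 1)
    (hσ : ∀ p : ℕ, p.Prime → p ∣ orderOf x' → p ∉ sigma M) :
    ((∀ p : ℕ, p.Prime → p ∣ orderOf x' → p ∈ kappa M) ∧ centralizer ({x} : Set G) ≤ M) ∨
      ((∀ p : ℕ, p.Prime → p ∣ orderOf x' → p ∈ tau2 M) ∧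
        (∃ L : Subgroup G, IsCoatom L ∧ ∀ p : ℕ, p.Prime → p ∣ orderOf x' → p ∈ sigma L) ∧
        (centralizer ({x'} : Set G) ≤ M ∧
          ∀ L : Subgroup G, IsCoatom L → centralizer ({x'} : Set G) ≤ L → L = M)) := by
  have hcases : ∀ p : ℕ, p.Prime → p ∣ orderOf x' → p ∈ kappa M ∨ p ∈ tau2 M :=
    fun p hp hd => prime_cases hG h05 hM hx hx1 hx' hp hd (hσ p hp hd)
  have hne1 : orderOf x' ≠ 1 := fun h => hx'1 (orderOf_eq_one_iff.mp h)
  obtain ⟨p₀, hp₀, hd₀⟩ := Nat.exists_prime_and_dvd hne1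
  obtain ⟨hmem₀, hord₀, hcomm₀, -⟩ := prime_power_data hx' hp₀ hd₀
  have hpow_comm : ∀ m n : ℕ, x' ^ m * x' ^ n = x' ^ n * x' ^ m := fun m n =>
    ((Commute.refl x').pow_pow m n).eq
  rcases hcases p₀ hp₀ hd₀ with hκ | hτ
  · -- all primes are in `κ(M)`
    left
    refine ⟨?_, centralizer_le_of_kappa hG h30 h31 hM hx hx1 hκ hmem₀ hord₀ hcomm₀⟩
    intro q hq hdq
    rcases hcases q hq hdq with h | h
    · exact h
    · exfalso
      obtain ⟨hmemq, hordq, -, -⟩ := prime_power_data hx' hq hdq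
      exact mixed_false hG h30 hM hκ h hmem₀ hmemq hord₀ hordq (hpow_comm _ _)
  · -- all primes are in `τ₂(M)`
    right
    have hall : ∀ q : ℕ, q.Prime → q ∣ orderOf x' → q ∈ tau2 M := by
      intro q hq hdq
      rcases hcases q hq hdq with h | h
      · exfalso
        obtain ⟨hmemq, hordq, -, -⟩ := prime_power_data hx' hq hdq
        exact mixed_false hG h30 hM h hτ hmemq hmem₀ hordq hord₀ (hpow_comm _ _)
      · exact h
    refine ⟨hall, ?_, ?_⟩
    · obtain ⟨L, hL, hLσ⟩ := exists_coatom_sigma_of_tau2 hG h50 h05 h16 h17 h18 h19 hM hτ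
      exact ⟨L, hL, fun q hq hdq => hLσ q (hall q hq hdq)⟩
    · obtain ⟨E, hE⟩ := Cfsg.Agent.Lead.BGThmC.exists_compl_sigmaCore M (h50 M hM).1
      obtain ⟨-, -, -, h4⟩ := h20 M hM E hE
      have hxx' : x * x' = x' * x := mem_centralizer_iff.mp hx'.2 x (Set.mem_singleton x)
      exact h4 x' hx'.1 hx'1 hall ⟨hx'.1, x, hx, hx1, hxx'.symm⟩

end Cfsg.Agent.Helper21.BG143
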