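import Mathlib
import Cfsg.Agent.Lib.Helper10.EODefs

/-!
# S2264 piece EO-NT5 (helper21): `nt_abs_of`
-/

set_option autoImplicit false

open Polynomial

namespace Cfsg.Agent.Helper10.EO

theorem eo_nt5_lcm_le_mul (a b : ℕ) : GCDMonoid.lcm a b ≤ a * b := by
  rw [lcm_eq_nat_lcm]
  unfold Nat.lcm
  exact Nat.div_le_self _ _

theorem nt_abs_of {ι : Type*} [DecidableEq ι] (q : ℕ) (hq : 2 ≤ q)
    (hplus : ∀ B : Finset ℕ, (∀ e ∈ B, 1 ≤ e) →
      (q - 1) * B.lcm (fun e => q ^ e + 1) ≤ q ^ ((∑ e ∈ B, e) + 1))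
    (hminus : ∀ T : Finset ℕ, T.lcm (fun e => q ^ e - 1) ≤ q ^ (∑ e ∈ T, e))
    (I : Finset ι) (σ : ι → ι) (n : ι → ℕ)
    (hσ : ∀ i ∈ I, σ i ∈ I ∧ σ (σ i) = i ∧ n (σ i) = n i)
    (hn : ∀ i ∈ I, 1 ≤ n i) (hfix : ∀ i ∈ I, σ i = i → Even (n i)) :
    (q - 1) * (I.lcm fun i => if σ i = i then q ^ (n i / 2) + 1 else q ^ (n i) - 1)
      ≤ q ^ ((∑ i ∈ I, n i) / 2 + 1) := by
  classical
  set g : ι → ℕ := fun i => if σ i = i then q ^ (n i / 2) + 1 else q ^ (n i) - 1 with hg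
  set If : Finset ι := I.filter (fun i => σ i = i) with hIf
  set In : Finset ι := I.filter (fun i => ¬ σ i = i) with hIn
  have hI : If ∪ In = I := Finset.filter_union_filter_not_eq _ I
  set B : Finset ℕ := If.image (fun i => n i / 2) with hB
  set T : Finset ℕ := In.image n with hT
  -- lcm over If
  have h1 : If.lcm g = B.lcm (fun e => q ^ e + 1) := by
    rw [hB, Finset.lcm_image]
    refine Finset.lcm_congr rfl ?_
    intro i hi
    have : σ i = i := (Finset.mem_filter.mp hi).2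
    simp [hg, this]
  have h2 : In.lcm g = T.lcm (fun e => q ^ e - 1) := by
    rw [hT, Finset.lcm_image]
    refine Finset.lcm_congr rfl ?_
    intro i hi
    have : ¬ σ i = i := (Finset.mem_filter.mp hi).2
    simp [hg, this]
  have h3 : I.lcm g ≤ B.lcm (fun e => q ^ e + 1) * T.lcm (fun e => q ^ e - 1) := by
    rw [← hI, Finset.lcm_union, h1, h2]
    exact eo_nt5_lcm_le_mul _ _
  have hBpos : ∀ e ∈ B, 1 ≤ e := by
    intro e he
    obtain ⟨i, hi, rfl⟩ := Finset.mem_image.mp he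
    have hiI := (Finset.mem_filter.mp hi).1
    have hfx := (Finset.mem_filter.mp hi).2
    obtain ⟨k, hk⟩ := hfix i hiI hfx
    have := hn i hiI
    omega
  -- sums
  have hsB : 2 * ∑ e ∈ B, e ≤ ∑ i ∈ If, n i := by
    have h := Finset.sum_image_le_of_nonneg (s := If) (g := fun i => n i / 2) (f := fun e : ℕ => e)
      (fun u _ => Nat.zero_le u)
    calc 2 * ∑ e ∈ B, e ≤ 2 * ∑ i ∈ If, n i / 2 := Nat.mul_le_mul_left 2 h
      _ = ∑ i ∈ If, 2 * (n i / 2) := by rw [Finset.mul_sum]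
      _ ≤ ∑ i ∈ If, n i := Finset.sum_le_sum (fun i _ => Nat.mul_div_le (n i) 2)
  have hsT : 2 * ∑ e ∈ T, e ≤ ∑ i ∈ In, n i := by
    have hmaps : ∀ i ∈ In, n i ∈ T := fun i hi => Finset.mem_image_of_mem n hi
    rw [← Finset.sum_fiberwise_of_maps_to' hmaps (fun e : ℕ => e), Finset.mul_sum]
    refine Finset.sum_le_sum ?_
    intro e he
    rw [Finset.sum_const, smul_eq_mul]
    refine Nat.mul_le_mul_right e ?_
    obtain ⟨i, hi, rfl⟩ := Finset.mem_image.mp he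
    have hiI := (Finset.mem_filter.mp hi).1
    have hne : ¬ σ i = i := (Finset.mem_filter.mp hi).2
    obtain ⟨hs1, hs2, hs3⟩ := hσ i hiI
    have hσi : σ i ∈ In := by
      refine Finset.mem_filter.mpr ⟨hs1, ?_⟩
      intro h
      apply hne
      rw [hs2] at h
      exact h.symm
    have : 1 < (In.filter (fun j => n j = n i)).card := by
      rw [Finset.one_lt_card]
      refine ⟨i, Finset.mem_filter.mpr ⟨hi, rfl⟩, σ i, Finset.mem_filter.mpr ⟨hσi, hs3⟩, ?_⟩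
      exact fun h => hne h.symm
    exact this
  have hsum : ∑ i ∈ If, n i + ∑ i ∈ In, n i = ∑ i ∈ I, n i :=
    Finset.sum_filter_add_sum_filter_not I _ n
  have hfin : (∑ e ∈ B, e) + (∑ e ∈ T, e) ≤ (∑ i ∈ I, n i) / 2 := by omega
  have hq0 : 0 < q := by omega
  calc (q - 1) * I.lcm g
      ≤ (q - 1) * (B.lcm (fun e => q ^ e + 1) * T.lcm (fun e => q ^ e - 1)) :=
        Nat.mul_le_mul_left _ h3
    _ = ((q - 1) * B.lcm (fun e => q ^ e + 1)) * T.lcm (fun e => q ^ e - 1) := by ring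
    _ ≤ q ^ ((∑ e ∈ B, e) + 1) * q ^ (∑ e ∈ T, e) :=
        Nat.mul_le_mul (hplus B hBpos) (hminus T)
    _ = q ^ ((∑ e ∈ B, e) + (∑ e ∈ T, e) + 1) := by rw [← pow_add]; congr 1; ring
    _ ≤ q ^ ((∑ i ∈ I, n i) / 2 + 1) := Nat.pow_le_pow_right hq0 (by omega)

end Cfsg.Agent.Helper10.EO
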