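import Mathlib
import Cfsg.Agent.Lib.Helper10.EODefs

/-!
# S2264 piece EO-STAR1 (helper21): basic facts about the monic reciprocal polynomial `star f`
-/

set_option autoImplicit false

open Polynomial

namespace Cfsg.Agent.Helper10.EO

section poly
variable {F : Type*} [Field F]

theorem eo_star1_reverse_reverse (f : F[X]) (h0 : f.coeff 0 ≠ 0) : f.reverse.reverse = f := by
  have htr : f.natTrailingDegree = 0 := by
    rw [Polynomial.natTrailingDegree_eq_zero]; exact Or.inr h0
  have hdeg : f.reverse.natDegree = f.natDegree := by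
    rw [reverse_natDegree, htr, Nat.sub_zero]
  unfold reverse
  have : (reflect f.natDegree f).natDegree = f.natDegree := hdeg
  rw [this, reflect_reflect]

theorem star_facts (f : F[X]) (h0 : f.coeff 0 ≠ 0) :
    (star f).Monic ∧ (star f).natDegree = f.natDegree ∧ (star f).coeff 0 ≠ 0 ∧
      (f.Monic → star (star f) = f) := by
  have hf0 : f ≠ 0 := by
    rintro rfl; simp at h0
  have htr : f.natTrailingDegree = 0 := by
    rw [Polynomial.natTrailingDegree_eq_zero]; exact Or.inr h0
  have hinv : (f.coeff 0)⁻¹ ≠ 0 := inv_ne_zero h0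
  have hlead : f.reverse.leadingCoeff = f.coeff 0 := by
    rw [reverse_leadingCoeff, trailingCoeff, htr]
  have hmonic : (star f).Monic := by
    unfold star Monic
    rw [leadingCoeff_mul, leadingCoeff_C, hlead, inv_mul_cancel₀ h0]
  have hdeg : (star f).natDegree = f.natDegree := by
    unfold star
    rw [natDegree_C_mul hinv, reverse_natDegree, htr, Nat.sub_zero]
  have hc0 : (star f).coeff 0 = (f.coeff 0)⁻¹ * f.leadingCoeff := by
    unfold star
    rw [coeff_C_mul, coeff_zero_reverse]
  refine ⟨hmonic, hdeg, ?_, ?_⟩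
  · rw [hc0]
    exact mul_ne_zero hinv (leadingCoeff_ne_zero.mpr hf0)
  · intro hm
    have hc0' : (star f).coeff 0 = (f.coeff 0)⁻¹ := by
      rw [hc0, hm.leadingCoeff, mul_one]
    have hrev : (star f).reverse = C (f.coeff 0)⁻¹ * f := by
      unfold star
      rw [reverse_mul_of_domain, reverse_C, eo_star1_reverse_reverse f h0]
    show C ((star f).coeff 0)⁻¹ * (star f).reverse = f
    rw [hc0', hrev, inv_inv, ← mul_assoc, ← C_mul, mul_inv_cancel₀ h0, C_1, one_mul]

end poly

end Cfsg.Agent.Helper10.EO
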