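import Mathlib
import Cfsg.Agent.Lib.Helper11.FHDefs

/-!
# Feit–Higman (S1142), piece POW (helper21): powers of a quadratic element and
traces of alternating products in a two-dimensional representation
-/

set_option autoImplicit false

namespace Cfsg.Agent.Helper11.FH

open Matrix Real

theorem pow_succ_eq {R : Type*} [Ring R] [Algebra ℝ R] (Q : R) (y p : ℝ)
    (hQ : Q * Q = y • Q - p • (1 : R)) (k : ℕ) :
    Q ^ (k + 1) = aseq y p (k + 1) • Q - (p * aseq y p k) • (1 : R) := by
  induction k with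
  | zero => simp
  | succ k ih =>
    rw [pow_succ, ih, sub_mul, smul_mul_assoc, smul_mul_assoc, one_mul, hQ, aseq_add_two]
    module

namespace POW

/-- `b_{k+1} = y a_{k+1} - 2 p a_k` (two-step induction) -/
theorem bseq_succ (y p : ℝ) (k : ℕ) :
    bseq y p (k + 1) = y * aseq y p (k + 1) - 2 * p * aseq y p k ∧
      bseq y p (k + 2) = y * aseq y p (k + 2) - 2 * p * aseq y p (k + 1) := by
  induction k with
  | zero =>
    refine ⟨by simp, ?_⟩
    rw [bseq_add_two, aseq_add_two]
    simp
    ring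
  | succ k ih =>
    refine ⟨ih.2, ?_⟩
    rw [bseq_add_two, ih.2, ih.1, aseq_add_two y p (k + 1), aseq_add_two y p k]
    ring

theorem trace_even (A B : Matrix (Fin 2) (Fin 2) ℝ) (s t y : ℝ)
    (htAB : (A * B).trace = y)
    (hAB : (A * B) * (A * B) = y • (A * B) - (s * t) • (1 : Matrix (Fin 2) (Fin 2) ℝ)) (i : ℕ) :
    ((A * B) ^ i).trace = bseq y (s * t) i := by
  cases i with
  | zero => simp
  | succ i =>
    rw [pow_succ_eq (A * B) y (s * t) hAB i, Matrix.trace_sub, Matrix.trace_smul,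
      Matrix.trace_smul, htAB, Matrix.trace_one, (bseq_succ y (s * t) i).1]
    simp
    ring

theorem trace_ABA (A B : Matrix (Fin 2) (Fin 2) ℝ) (s t y : ℝ)
    (hA : A * A = s • (1 : Matrix (Fin 2) (Fin 2) ℝ) + (s - 1) • A)
    (htB : B.trace = t - 1) (htAB : (A * B).trace = y) :
    (A * B * A).trace = s * (t - 1) + (s - 1) * y := by
  rw [Matrix.trace_mul_comm, ← Matrix.mul_assoc, hA, Matrix.add_mul, Matrix.trace_add,
    Matrix.smul_mul, Matrix.smul_mul, Matrix.trace_smul, Matrix.trace_smul, Matrix.one_mul,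
    htB, htAB]
  simp

theorem trace_odd (A B : Matrix (Fin 2) (Fin 2) ℝ) (s t y : ℝ)
    (hA : A * A = s • (1 : Matrix (Fin 2) (Fin 2) ℝ) + (s - 1) • A)
    (htA : A.trace = s - 1) (htB : B.trace = t - 1) (htAB : (A * B).trace = y)
    (hAB : (A * B) * (A * B) = y • (A * B) - (s * t) • (1 : Matrix (Fin 2) (Fin 2) ℝ)) (i : ℕ) :
    ((A * B) ^ i * A).trace =
      (s - 1) * aseq y (s * t) (i + 1) + s * (t - 1) * aseq y (s * t) i := by
  cases i with
  | zero => simp [htA]
  | succ i =>
    rw [pow_succ_eq (A * B) y (s * t) hAB i, Matrix.sub_mul, Matrix.trace_sub, Matrix.smul_mul,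
      Matrix.smul_mul, Matrix.trace_smul, Matrix.trace_smul, Matrix.one_mul, htA,
      trace_ABA A B s t y hA htB htAB, aseq_add_two]
    simp
    ring

end POW

/-- traces of the alternating products in a two-dimensional representation -/
theorem trace_alt (A B : Matrix (Fin 2) (Fin 2) ℝ) (s t y : ℝ)
    (hA : A * A = s • (1 : Matrix (Fin 2) (Fin 2) ℝ) + (s - 1) • A)
    (htA : A.trace = s - 1) (htB : B.trace = t - 1) (htAB : (A * B).trace = y)
    (hAB : (A * B) * (A * B) = y • (A * B) - (s * t) • (1 : Matrix (Fin 2) (Fin 2) ℝ)) (k : ℕ) :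
    (alt A B k).trace = chi s t y k := by
  obtain ⟨i, rfl | rfl⟩ := Nat.even_or_odd' k
  · rw [alt_two_mul, POW.trace_even A B s t y htAB hAB i]
    simp [chi]
  · rw [alt_two_mul_add_one, POW.trace_odd A B s t y hA htA htB htAB hAB i]
    have h1 : (2 * i + 1) % 2 = 1 := by omega
    have h2 : (2 * i + 1) / 2 = i := by omega
    simp [chi, h1, h2]

end Cfsg.Agent.Helper11.FH
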