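import Mathlib
import Cfsg.Agent.Lib.Helper3.SmallOrd
import Cfsg.Agent.S0985

/-!
# S0496, order 720, piece B1 (helper21): the TI case has ten Sylow 3-subgroups,
each acting regularly on the other nine
-/

set_option autoImplicit false
open Cfsg

namespace Cfsg.Agent.Helper3.SmallOrd

variable {G : Type*} [Group G] [Finite G] [IsSimpleGroup G]

/-- B1: in the TI case there are 10 Sylow 3-subgroups, and each acts regularly (by conjugation) on
the other nine. -/
theorem c720_B1 (h : Nat.card G = 720)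
    (hTI : ∀ P R : Sylow 3 G, P ≠ R → (P : Subgroup G) ⊓ (R : Subgroup G) = ⊥) :
    Nat.card (Sylow 3 G) = 10 ∧
    ∀ P R R' : Sylow 3 G, R ≠ P → R' ≠ P → ∃! x : G, x ∈ (P : Subgroup G) ∧ x • R = R' := by
  classical
  haveI : Fact (Nat.Prime 3) := ⟨Nat.prime_three⟩
  have hG : ∃ x y : G, x * y ≠ y * x :=
    Cfsg.Agent.Lead.nonabelian_of_not_prime (by rw [h]; norm_num)
  have hcard : Nat.card G = 3 ^ 2 * 80 := by rw [h]; norm_num
  obtain ⟨hdvd, -, hne1, -, hP⟩ := basic hG (by norm_num : 0 < 2) hcard (by norm_num)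
  have hP9 : ∀ P : Sylow 3 G, Nat.card (P : Subgroup G) = 9 := fun P => by
    rw [(hP P).1]; norm_num
  -- `n ≡ 1 mod 9`
  have hmod : Nat.card (Sylow 3 G) ≡ 1 [MOD 3 ^ 2] := by
    by_contra hcon
    obtain ⟨P, R, hPR, hidx⟩ := Cfsg.Agent.S0985.result 3 2 hcon
    have hbot : (R : Subgroup G).subgroupOf (P : Subgroup G) = ⊥ := by
      rw [Subgroup.subgroupOf_eq_bot, disjoint_iff, inf_comm]
      exact hTI P R hPR
    rw [hbot, Subgroup.index_bot, hP9 P] at hidx
    norm_num at hidx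
  have h10 : Nat.card (Sylow 3 G) = 10 := by
    have hmod' : Nat.card (Sylow 3 G) % 9 = 1 := by
      have := hmod
      unfold Nat.ModEq at this
      norm_num at this
      exact this
    have hle : Nat.card (Sylow 3 G) ≤ 80 := Nat.le_of_dvd (by norm_num) hdvd
    generalize Nat.card (Sylow 3 G) = n at hdvd hne1 hmod' hle
    interval_cases n <;> omega
  refine ⟨h10, ?_⟩
  intro P R R' hRP hR'P
  -- semiregularity
  have hsemi : ∀ x ∈ (P : Subgroup G), ∀ Q : Sylow 3 G, Q ≠ P → x • Q = Q → x = 1 := by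
    intro x hx Q hQP hxQ
    have h1 : x ∈ Subgroup.normalizer (Q : Set G) := Sylow.smul_eq_iff_mem_normalizer.1 hxQ
    have h2 : x ∈ (P : Subgroup G) ⊓ Subgroup.normalizer (Q : Set G) := ⟨hx, h1⟩
    rw [IsPGroup.inf_normalizer_sylow P.2 Q, hTI P Q (Ne.symm hQP)] at h2
    exact (Subgroup.mem_bot.1 h2)
  have hfixP : ∀ x ∈ (P : Subgroup G), x • P = P := fun x hx =>
    Sylow.smul_eq_iff_mem_normalizer.2 (Subgroup.le_normalizer hx)
  have hmove : ∀ x ∈ (P : Subgroup G), x • R ≠ P := by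
    intro x hx hcon
    apply hRP
    have h3 : x⁻¹ • (x • R) = x⁻¹ • P := by rw [hcon]
    rw [inv_smul_smul, hfixP x⁻¹ (inv_mem hx)] at h3
    exact h3
  -- the orbit map
  let φ : ↥(P : Subgroup G) → {Q : Sylow 3 G // Q ≠ P} := fun x => ⟨(x : G) • R, hmove (x : G) x.2⟩
  have hinj : Function.Injective φ := by
    intro x y hxy
    have h4 : (x : G) • R = (y : G) • R := congrArg Subtype.val hxy
    have h5 : ((y : G)⁻¹ * (x : G)) • R = R := by
      rw [mul_smul, h4, inv_smul_smul]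
    have h6 := hsemi ((y : G)⁻¹ * (x : G)) (mul_mem (inv_mem y.2) x.2) R hRP h5
    apply Subtype.ext
    have : (x : G) = (y : G) := by
      have := congrArg (fun z => (y : G) * z) h6
      simpa using this
    exact this
  have hcardX : Nat.card {Q : Sylow 3 G // Q ≠ P} = 9 := by
    haveI : Fintype (Sylow 3 G) := Fintype.ofFinite _
    rw [Nat.card_eq_fintype_card, Fintype.card_subtype, Finset.filter_ne' Finset.univ P,
      Finset.card_erase_of_mem (Finset.mem_univ P), Finset.card_univ, ← Nat.card_eq_fintype_card,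
      h10]
  have hbij : Function.Bijective φ :=
    hinj.bijective_of_nat_card_le (by rw [hcardX, hP9 P])
  obtain ⟨x, hx⟩ := hbij.2 ⟨R', hR'P⟩
  refine ⟨(x : G), ⟨x.2, congrArg Subtype.val hx⟩, ?_⟩
  rintro y ⟨hyP, hyR⟩
  have h7 : φ ⟨y, hyP⟩ = φ x := by
    apply Subtype.ext
    show y • R = (x : G) • R
    rw [hyR]
    exact (congrArg Subtype.val hx).symm
  exact congrArg Subtype.val (hinj h7)

end Cfsg.Agent.Helper3.SmallOrd
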