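import Mathlib
import Cfsg.Agent.Lib.Helper11.DicksonIdx

/-!
# S0496, order 720, piece B4 (helper21): `PSL₂(F)` never has order 720
-/

set_option autoImplicit false

namespace Cfsg.Agent.Helper3.SmallOrd

/-- B4: `PSL₂(F)` never has order 720. -/
theorem card_psl2_ne_720 (F : Type) [Field F] [Fintype F] :
    Nat.card (Matrix.ProjectiveSpecialLinearGroup (Fin 2) F) ≠ 720 := by
  intro h
  have h1 := Cfsg.Agent.Helper11.Dickson.card_PSL2_mul (F := F)
  rw [h] at h1
  have hq : 2 ≤ Fintype.card F := Fintype.one_lt_card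
  generalize Fintype.card F = q at h1 hq
  have hg : Nat.gcd 2 (q - 1) ≤ 2 := Nat.le_of_dvd (by norm_num) (Nat.gcd_dvd_left _ _)
  by_cases hq12 : q ≤ 11
  · interval_cases q <;> norm_num at h1
  · push Not at hq12
    have h2 : 1716 ≤ q * (q - 1) * (q + 1) := by
      have h11 : 11 ≤ q - 1 := by omega
      calc 1716 = 12 * 11 * 13 := by norm_num
        _ ≤ q * (q - 1) * (q + 1) := by gcongr <;> omega
    nlinarith

end Cfsg.Agent.Helper3.SmallOrd
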