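import Mathlib
import Cfsg.Agent.Lib.Helper10.MixDefs

/-!
# S4017 piece ORB (helper21): a `p`-element, `p + 1 = 2 ^ a`, normalizing but not centralizing a
subgroup of order `2 ^ j`, `j ≤ a`, forces `j = a` and acts transitively on the non-identity
elements
-/

set_option autoImplicit false

namespace Cfsg.Agent.Helper10.Mix

section pieces

variable {G : Type*} [Group G] [Finite G] {p a : ℕ}

/-- the conjugation action of `zpowers g` on a subgroup normalized by `g` -/
@[reducible] def orbAct (Q0 : Subgroup G) (g : G)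
    (hgN : g ∈ Subgroup.normalizer (Q0 : Set G)) :
    MulDistribMulAction (Subgroup.zpowers g) Q0 where
  smul z s := ⟨(z : G) * s * (z : G)⁻¹, by
    have hz : (z : G) ∈ Subgroup.normalizer (Q0 : Set G) := (Subgroup.zpowers_le.2 hgN) z.2
    exact (Subgroup.mem_normalizer_iff.1 hz s).1 s.2⟩
  one_smul s := by
    apply Subtype.ext
    show (1 : G) * s * (1 : G)⁻¹ = s
    group
  mul_smul z w s := by
    apply Subtype.ext
    show ((z : G) * w) * s * ((z : G) * w)⁻¹ = z * (w * s * (w : G)⁻¹) * (z : G)⁻¹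
    group
  smul_mul z s s' := by
    apply Subtype.ext
    show (z : G) * (s * s') * (z : G)⁻¹ = ((z : G) * s * (z : G)⁻¹) * ((z : G) * s' * (z : G)⁻¹)
    group
  smul_one z := by
    apply Subtype.ext
    show (z : G) * 1 * (z : G)⁻¹ = 1
    group

theorem orb_arith {p a j c : ℕ} (hp : p.Prime) (hpa : p + 1 = 2 ^ a) (hja : j ≤ a) (hcj : c < j)
    (hmod : 2 ^ j ≡ 2 ^ c [MOD p]) : j = a ∧ c = 0 := by
  have hp2 : p ≠ 2 := by
    rintro rfl
    rcases a with _ | _ | a
    · simp at hpa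
    · simp at hpa
    · rw [pow_succ, pow_succ] at hpa
      omega
  have hcop : Nat.Coprime p (2 ^ c) := by
    apply Nat.Coprime.pow_right
    exact (Nat.coprime_primes hp Nat.prime_two).2 hp2
  have hdvd : p ∣ 2 ^ j - 2 ^ c :=
    (Nat.modEq_iff_dvd' (Nat.pow_le_pow_right (by norm_num) hcj.le)).1 hmod.symm
  obtain ⟨d, rfl⟩ : ∃ d, j = c + d := ⟨j - c, by omega⟩
  have hd : 1 ≤ d := by omega
  have h1 : 2 ^ (c + d) - 2 ^ c = 2 ^ c * (2 ^ d - 1) := by
    rw [pow_add, Nat.mul_sub, mul_one]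
  rw [h1] at hdvd
  have h2 : p ∣ 2 ^ d - 1 := hcop.dvd_of_dvd_mul_left hdvd
  have h3 : 2 ^ d ≤ 2 ^ a := Nat.pow_le_pow_right (by norm_num) (by omega)
  have h4 : 2 ≤ 2 ^ d := by
    calc 2 = 2 ^ 1 := by norm_num
      _ ≤ 2 ^ d := Nat.pow_le_pow_right (by norm_num) hd
  have h5 : p ≤ 2 ^ d - 1 := Nat.le_of_dvd (by omega) h2
  have h6 : 2 ^ d = 2 ^ a := by omega
  have h7 : d = a := Nat.pow_right_injective (le_refl 2) h6
  omega

/-! ### PIECE ORB : orbit counting (general, no Cfg) -/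
theorem orbit_aux (hp : p.Prime) (hpa : p + 1 = 2 ^ a) (Q0 : Subgroup G) {j : ℕ}
    (hj : Nat.card Q0 = 2 ^ j) (hja : j ≤ a) {g : G} (hg : IsPElt p g)
    (hgN : g ∈ Subgroup.normalizer (Q0 : Set G)) (hgC : g ∉ Subgroup.centralizer (Q0 : Set G)) :
    j = a ∧ ∀ s ∈ Q0, s ≠ 1 → ∀ s' ∈ Q0, s' ≠ 1 → ∃ i : ℕ, g ^ i * s * (g ^ i)⁻¹ = s' := by
  classical
  haveI : Fact p.Prime := ⟨hp⟩
  letI act := orbAct Q0 g hgN
  have hsmul : ∀ (z : Subgroup.zpowers g) (s : Q0),
      ((z • s : Q0) : G) = (z : G) * s * (z : G)⁻¹ := fun _ _ => rfl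
  obtain ⟨k, hk⟩ := hg
  have hZcard : Nat.card (Subgroup.zpowers g) = p ^ k := by rw [Nat.card_zpowers, hk]
  have hZ : IsPGroup p (Subgroup.zpowers g) := IsPGroup.of_card hZcard
  obtain ⟨C, hCdef⟩ : ∃ C : Subgroup Q0, C = FixedPoints.subgroup (Subgroup.zpowers g) Q0 :=
    ⟨_, rfl⟩
  have hmemC : ∀ s : Q0, s ∈ C ↔ ∀ z : Subgroup.zpowers g, z • s = s := by
    intro s
    rw [hCdef]
    exact FixedPoints.mem_subgroup _ _ _
  have hmod := hZ.card_modEq_card_fixedPoints Q0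
  have hfix : Nat.card (MulAction.fixedPoints (Subgroup.zpowers g) Q0) = Nat.card C := by
    apply Nat.card_congr
    exact Equiv.subtypeEquivRight (fun x => by rw [hmemC]; rfl)
  obtain ⟨c, hcj, hc⟩ := (Nat.dvd_prime_pow Nat.prime_two).1
    (hj ▸ Subgroup.card_subgroup_dvd_card C)
  have hclt : c < j := by
    rcases Nat.lt_or_ge c j with h | h
    · exact h
    · exfalso
      have hcj' : c = j := le_antisymm hcj h
      have hCtop : C = ⊤ := Subgroup.eq_top_of_card_eq C (by rw [hc, hj, hcj'])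
      apply hgC
      rw [Subgroup.mem_centralizer_iff]
      intro s hs
      have h1 : (⟨s, hs⟩ : Q0) ∈ C := by rw [hCtop]; exact Subgroup.mem_top _
      have h2 := (hmemC _).1 h1 ⟨g, Subgroup.mem_zpowers g⟩
      have h3 := congrArg Subtype.val h2
      rw [hsmul] at h3
      exact (mul_inv_eq_iff_eq_mul.1 h3).symm
  rw [hfix, hj, hc] at hmod
  obtain ⟨hja', hc0⟩ := orb_arith hp hpa hja hclt hmod
  refine ⟨hja', ?_⟩
  have hCbot : C = ⊥ := by
    rw [← Subgroup.card_eq_one, hc, hc0, pow_zero]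
  intro s hs hs1 s' hs' hs'1
  obtain ⟨x, hxdef⟩ : ∃ x : Q0, x = ⟨s, hs⟩ := ⟨_, rfl⟩
  obtain ⟨x', hx'def⟩ : ∃ x' : Q0, x' = ⟨s', hs'⟩ := ⟨_, rfl⟩
  have hx1 : x ≠ 1 := by
    intro h
    apply hs1
    have := congrArg Subtype.val h
    rw [hxdef] at this
    exact this
  have hx'1 : x' ≠ 1 := by
    intro h
    apply hs'1
    have := congrArg Subtype.val h
    rw [hx'def] at this
    exact this
  obtain ⟨O, hOdef⟩ : ∃ O : Set Q0, O = MulAction.orbit (Subgroup.zpowers g) x := ⟨_, rfl⟩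
  have hidx : (MulAction.stabilizer (Subgroup.zpowers g) x).index = O.ncard := by
    rw [hOdef]
    exact MulAction.index_stabilizer _ x
  have hdvd : O.ncard ∣ p ^ k := by
    rw [← hidx, ← hZcard]
    exact Subgroup.index_dvd_card _
  obtain ⟨l, -, hl⟩ := (Nat.dvd_prime_pow hp).1 hdvd
  have hxO : x ∈ O := by rw [hOdef]; exact MulAction.mem_orbit_self x
  have hl0 : l ≠ 0 := by
    intro h0
    rw [h0, pow_zero] at hl
    obtain ⟨y, hy⟩ := Set.ncard_eq_one.1 hl
    have hxy : x = y := by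
      have := hxO
      rw [hy] at this
      exact this
    apply hx1
    have hxC : x ∈ C := by
      rw [hmemC]
      intro z
      have hz : z • x ∈ O := by rw [hOdef]; exact MulAction.mem_orbit _ _
      rw [hy] at hz
      rw [Set.mem_singleton_iff.1 hz, hxy]
    rw [hCbot] at hxC
    exact Subgroup.mem_bot.1 hxC
  have hpO : p ≤ O.ncard := by
    rw [hl]
    calc p = p ^ 1 := (pow_one p).symm
      _ ≤ p ^ l := Nat.pow_le_pow_right hp.pos (Nat.one_le_iff_ne_zero.2 hl0)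
  have h1O : (1 : Q0) ∉ O := by
    intro h
    rw [hOdef] at h
    obtain ⟨z, hz⟩ := MulAction.mem_orbit_iff.1 h
    apply hx1
    have h2 : x = z⁻¹ • (1 : Q0) := by rw [← hz, inv_smul_smul]
    rw [h2, smul_one]
  have hins : insert (1 : Q0) O = Set.univ := by
    apply Set.eq_of_subset_of_ncard_le (Set.subset_univ _)
    rw [Set.ncard_univ, Set.ncard_insert_of_notMem h1O, hj, hja', ← hpa]
    omega
  have hx'O : x' ∈ O := by
    have : x' ∈ insert (1 : Q0) O := by rw [hins]; exact Set.mem_univ _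
    rcases Set.mem_insert_iff.1 this with h | h
    · exact absurd h hx'1
    · exact h
  rw [hOdef] at hx'O
  obtain ⟨z, hz⟩ := MulAction.mem_orbit_iff.1 hx'O
  have hzp : (z : G) ∈ Submonoid.powers g := mem_powers_iff_mem_zpowers.2 z.2
  obtain ⟨i, hi⟩ := (Submonoid.mem_powers_iff _ _).1 hzp
  refine ⟨i, ?_⟩
  have h3 := congrArg Subtype.val hz
  rw [hsmul, hxdef, hx'def] at h3
  rw [hi]
  exact h3

end pieces

end Cfsg.Agent.Helper10.Mix
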