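import Mathlib
import Cfsg.Agent.Lib.Helper10.MixDefs
import Cfsg.Agent.Lib.Helper10.MixUtil
import Cfsg.Agent.S0105

/-!
# S4017 piece V3 (helper21): in the `Good` case the involution `t` inverts the Sylow `p`-subgroup
`C(z)`
-/

set_option autoImplicit false

namespace Cfsg.Agent.Helper10.Mix

section pieces

variable {G : Type*} [Group G] [Finite G] {p a : ℕ}

/-- a subgroup of exponent two is commutative -/
theorem v3_comm_of_exp2 {Q : Subgroup G} (h : ∀ s ∈ Q, s * s = 1) {x x' : G} (hx : x ∈ Q)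
    (hx' : x' ∈ Q) : x * x' = x' * x := by
  have h1 := h x hx
  have h2 := h x' hx'
  calc x * x' = x' * x' * (x * x') * (x * x) := by rw [h1, h2, one_mul, mul_one]
    _ = x' * (x' * x * (x' * x)) * x := by group
    _ = x' * x := by rw [h (x' * x) (Q.mul_mem hx' hx), mul_one]

/-- (G1) under `Good`, a 2-element commuting with an involution `t` of the Sylow 2-subgroup `Q`
lies in `Q`. -/
theorem v3_G1 (c : Cfg G p a) (B : ∀ Q : Sylow 2 G, Base G p a Q) (hG : Good G p)
    (Q : Sylow 2 G) {t : G} (htQ : t ∈ Q) (ht1 : t ≠ 1) {g : G} {k : ℕ} (hg : orderOf g = 2 ^ k)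
    (hgt : Commute g t) : g ∈ Q := by
  obtain ⟨y, s, hy, hyt, hs, rfl⟩ := (B Q).split t htQ ht1 g hgt
  have hyC := hG Q t htQ ht1 y hy hyt
  have hys : Commute y s := (Subgroup.mem_centralizer_iff.1 hyC s hs).symm
  have hs2 : s ^ 2 ^ (k + 1) = 1 := by
    rw [pow_succ', pow_mul, pow_two, (B Q).exp2 s hs, one_pow]
  have hg2 : (y * s) ^ 2 ^ (k + 1) = 1 := by
    rw [pow_succ, pow_mul, ← hg, pow_orderOf_eq_one, one_pow]
  rw [hys.mul_pow, hs2, mul_one] at hg2
  obtain ⟨m, hm⟩ := hy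
  have hd : p ^ m ∣ 2 ^ (k + 1) := hm ▸ orderOf_dvd_of_pow_eq_one hg2
  have hcop : Nat.Coprime (p ^ m) (2 ^ (k + 1)) :=
    Nat.Coprime.pow _ _ ((Nat.coprime_primes c.hp Nat.prime_two).2 c.p_ne_two)
  have h1 : p ^ m = 1 := Nat.Coprime.eq_one_of_dvd hcop hd
  have hy1 : y = 1 := by rw [← orderOf_eq_one_iff, hm, h1]
  rw [hy1, one_mul]
  exact hs

/-! ### PIECE V3 : t inverts that Sylow p-subgroup (uses S0105) -/
theorem inverts_sylow (c : Cfg G p a) (B : ∀ Q : Sylow 2 G, Base G p a Q) (hG : Good G p)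
    {t z : G} (ht : orderOf t = 2) (hz1 : z ≠ 1) (hz : IsPElt p z) (hinv : t * z * t⁻¹ = z⁻¹)
    (P : Sylow p G) (hP : ∀ g : G, Commute g z ↔ g ∈ P)
    (htP : t ∈ Subgroup.normalizer ((P : Subgroup G) : Set G)) :
    ∀ y ∈ P, t * y * t⁻¹ = y⁻¹ := by
  classical
  haveI : Fact p.Prime := ⟨c.hp⟩
  haveI : Fact (Nat.Prime 2) := ⟨Nat.prime_two⟩
  have hp2 := c.p_ne_two
  have ht1 : t ≠ 1 := by
    intro h
    rw [h, orderOf_one] at ht
    omega
  have htt : t * t = 1 := by
    rw [← pow_two, ← ht, pow_orderOf_eq_one]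
  have htinv : t⁻¹ = t := inv_eq_of_mul_eq_one_right htt
  have hPab : ∀ x ∈ P, ∀ y ∈ P, x * y = y * x := c.abel (P : Subgroup G) P.2
  -- Step A
  have hA : ∀ y ∈ P, Commute y t → y = 1 := by
    intro y hy hyt
    have htz : IsPGroup 2 (Subgroup.zpowers t) := by
      apply IsPGroup.of_card (n := 1)
      rw [Nat.card_zpowers, ht, pow_one]
    obtain ⟨Qt, hQt⟩ := htz.exists_le_sylow
    have htQ : t ∈ Qt := hQt (Subgroup.mem_zpowers t)
    have hyp : IsPElt p y := isPElt_of_mem c.hp P.2 hy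
    have hyC : y ∈ Subgroup.centralizer ((Qt : Subgroup G) : Set G) :=
      hG Qt t htQ ht1 y hyp hyt
    have hzP : z ∈ (P : Subgroup G) := (hP z).1 (Commute.refl z)
    have hPbot : (P : Subgroup G) ≠ ⊥ := by
      intro h
      rw [h] at hzP
      exact hz1 (Subgroup.mem_bot.1 hzP)
    have hPtop : (P : Subgroup G) ≠ ⊤ := by
      intro h
      have htP' : t ∈ (P : Subgroup G) := by rw [h]; exact Subgroup.mem_top t
      have h1 : Commute t z := (hP t).2 htP'
      have h2 : t * z * t⁻¹ = z := by rw [h1.eq, mul_inv_cancel_right]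
      exact IsPElt.ne_inv c.hp hp2 hz hz1 (h2.symm.trans hinv)
    have hM := c.normalizer_ne_top hPbot hPtop
    obtain ⟨M, hMdef⟩ : ∃ M : Subgroup G,
        M = Subgroup.normalizer ((P : Subgroup G) : Set G) := ⟨_, rfl⟩
    rw [← hMdef] at hM
    have htM : t ∈ M := by rw [hMdef]; exact htP
    have hPM : (P : Subgroup G) ≤ M := by rw [hMdef]; exact Subgroup.le_normalizer
    have h2M : 2 ∣ Nat.card M := by
      have h1 : orderOf (⟨t, htM⟩ : M) = 2 := by rw [Subgroup.orderOf_mk, ht]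
      rw [← h1]
      exact orderOf_dvd_natCard _
    obtain ⟨i, j, -, hMcard⟩ := c.card_of_even hM h2M
    have htzM : IsPGroup 2 (Subgroup.zpowers (⟨t, htM⟩ : M)) := by
      apply IsPGroup.of_card (n := 1)
      rw [Nat.card_zpowers, Subgroup.orderOf_mk, ht, pow_one]
    obtain ⟨T, hT⟩ := htzM.exists_le_sylow
    have htT : (⟨t, htM⟩ : M) ∈ T := hT (Subgroup.mem_zpowers _)
    obtain ⟨PM, hPMdef⟩ : ∃ PM : Sylow p M, PM = P.subtype hPM := ⟨_, rfl⟩
    have hK : (PM : Subgroup M) ⊔ (T : Subgroup M) = ⊤ := by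
      rw [← Subgroup.index_eq_one]
      by_contra hne
      obtain ⟨r, hr, hrd⟩ := Nat.exists_prime_and_dvd hne
      have hrM : r ∣ Nat.card M := dvd_trans hrd (Subgroup.index_dvd_card _)
      rw [hMcard] at hrM
      rcases (Nat.Prime.dvd_mul hr).1 hrM with h | h
      · have hr2 : r = 2 :=
          (Nat.prime_dvd_prime_iff_eq hr Nat.prime_two).1 (hr.dvd_of_dvd_pow h)
        rw [hr2] at hrd
        exact T.not_dvd_index (dvd_trans hrd (Subgroup.index_dvd_of_le le_sup_right))
      · have hrp : r = p := (Nat.prime_dvd_prime_iff_eq hr c.hp).1 (hr.dvd_of_dvd_pow h)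
        rw [hrp] at hrd
        exact PM.not_dvd_index (dvd_trans hrd (Subgroup.index_dvd_of_le le_sup_left))
    -- a Sylow 2-subgroup of `G` containing the image of `T`
    have hT2 : IsPGroup 2 ((T : Subgroup M).map M.subtype) := T.2.map _
    obtain ⟨Q', hQ'⟩ := hT2.exists_le_sylow
    have htQ' : t ∈ Q' := hQ' (Subgroup.mem_map.2 ⟨⟨t, htM⟩, htT, rfl⟩)
    have hCy : M ≤ Subgroup.centralizer ({y} : Set G) := by
      rw [← Subgroup.subgroupOf_eq_top, eq_top_iff, ← hK, sup_le_iff]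
      constructor
      · intro n hn
        rw [hPMdef, Sylow.coe_subtype, Subgroup.mem_subgroupOf] at hn
        rw [Subgroup.mem_subgroupOf, Subgroup.mem_centralizer_iff]
        intro h hh
        rw [Set.mem_singleton_iff.1 hh]
        exact hPab y hy n hn
      · intro n hn
        rw [Subgroup.mem_subgroupOf, Subgroup.mem_centralizer_iff]
        intro h hh
        rw [Set.mem_singleton_iff.1 hh]
        have hnQt : (n : G) ∈ Qt := by
          obtain ⟨k, hk⟩ := IsPGroup.iff_orderOf.1 T.2 ⟨n, hn⟩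
          rw [Subgroup.orderOf_mk, ← Subgroup.orderOf_coe] at hk
          have hnQ' : (n : G) ∈ Q' := hQ' (Subgroup.mem_map.2 ⟨n, hn, rfl⟩)
          have hnt : Commute (n : G) t := v3_comm_of_exp2 (B Q').exp2 hnQ' htQ'
          exact v3_G1 c B hG Qt htQ ht1 hk hnt
        exact (Subgroup.mem_centralizer_iff.1 hyC n hnQt).symm
    have hyZ : y ∈ (P : Subgroup G) ⊓ Subgroup.centralizer
        (Subgroup.normalizer ((P : Subgroup G) : Set G) : Set G) := by
      refine Subgroup.mem_inf.2 ⟨hy, ?_⟩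
      rw [Subgroup.mem_centralizer_iff]
      intro n hn
      have hnM : n ∈ M := by rw [hMdef]; exact hn
      have h1 := hCy hnM
      rw [Subgroup.mem_centralizer_iff] at h1
      exact (h1 y (Set.mem_singleton y)).symm
    have key : ∃ (N : Subgroup G) (_ : N.Normal), Nonempty (G ⧸ N ≃* ((P : Subgroup G) ⊓
        Subgroup.centralizer (Subgroup.normalizer ((P : Subgroup G) : Set G) : Set G) :
          Subgroup G)) :=
      Cfsg.Agent.S0105.result P ⟨⟨fun x y => Subtype.ext (hPab x x.2 y y.2)⟩⟩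
    obtain ⟨N, hN, ⟨e⟩⟩ := key
    haveI := c.simple
    rcases hN.eq_bot_or_eq_top with h | h
    · exfalso
      subst h
      have h1 := Subgroup.card_eq_card_quotient_mul_card_subgroup (⊥ : Subgroup G)
      rw [Subgroup.card_bot, mul_one, Nat.card_congr e.toEquiv] at h1
      obtain ⟨k, hk⟩ := P.2.exists_card_eq
      have h2 : Nat.card G ∣ p ^ k := by
        rw [h1, ← hk]
        exact Subgroup.card_dvd_of_le inf_le_left
      have h3 : 2 ∣ p := Nat.prime_two.dvd_of_dvd_pow (dvd_trans c.two_dvd_card h2)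
      exact hp2 ((Nat.prime_dvd_prime_iff_eq Nat.prime_two c.hp).1 h3).symm
    · subst h
      haveI : Subsingleton (G ⧸ (⊤ : Subgroup G)) := QuotientGroup.subsingleton_quotient_top
      have h1 : e.symm ⟨y, hyZ⟩ = e.symm 1 := Subsingleton.elim _ _
      have h2 := e.symm.injective h1
      exact congrArg Subtype.val h2
  -- Step B
  intro y hy
  have hty : t * y * t⁻¹ ∈ P := (Subgroup.mem_normalizer_iff.1 htP y).1 hy
  have hw : y * (t * y * t⁻¹) ∈ P := Subgroup.mul_mem _ hy hty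
  have hwt : Commute (y * (t * y * t⁻¹)) t := by
    have h1 := hPab y hy _ hty
    show y * (t * y * t⁻¹) * t = t * (y * (t * y * t⁻¹))
    calc y * (t * y * t⁻¹) * t = y * t * y := by group
      _ = (t * t) * y * t⁻¹ * y := by rw [htt, one_mul, htinv]
      _ = t * ((t * y * t⁻¹) * y) := by group
      _ = t * (y * (t * y * t⁻¹)) := by rw [h1]
  have hw1 := hA _ hw hwt
  exact eq_inv_of_mul_eq_one_right hw1

end pieces

end Cfsg.Agent.Helper10.Mix
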