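import Mathlib

set_option autoImplicit false

namespace Cfsg.Agent.Helper21

/-- The number of spanning `r`-tuples of an `r`-dimensional vector space over `ZMod p`. -/
theorem card_spanning_tuples {p r : ℕ} [Fact p.Prime] {W : Type*} [AddCommGroup W]
    [Module (ZMod p) W] [Finite W] (hcard : Nat.card W = p ^ r) :
    Nat.card {s : Fin r → W // Submodule.span (ZMod p) (Set.range s) = ⊤} =
      ∏ i ∈ Finset.range r, (p ^ r - p ^ i) := by
  classical
  have := Fintype.ofFinite W
  have hp : p.Prime := Fact.out
  have hfin : Module.finrank (ZMod p) W = r := by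
    have h1 := Module.card_eq_pow_finrank (K := ZMod p) (V := W)
    rw [ZMod.card, ← Nat.card_eq_fintype_card, hcard] at h1
    exact (Nat.pow_right_injective hp.two_le h1).symm
  have e : {s : Fin r → W // Submodule.span (ZMod p) (Set.range s) = ⊤} ≃
      {s : Fin r → W // LinearIndependent (ZMod p) s} := by
    refine Equiv.subtypeEquivRight ?_
    intro s
    constructor
    · intro h
      exact linearIndependent_of_top_le_span_of_card_eq_finrank (le_of_eq h.symm)
        (by rw [Fintype.card_fin, hfin])
    · intro h
      exact h.span_eq_top_of_card_eq_finrank' (by rw [Fintype.card_fin, hfin])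
  rw [Nat.card_congr e, card_linearIndependent (K := ZMod p) (V := W) (k := r) (by rw [hfin]),
    ZMod.card, hfin]
  exact Fin.prod_univ_eq_prod_range (fun i => p ^ r - p ^ i) r

/-- The number of generating `r`-tuples of an elementary abelian group of order `p ^ r`. -/
theorem card_generating_tuples {p r : ℕ} [Fact p.Prime] {V : Type*} [CommGroup V] [Finite V]
    (hexp : ∀ v : V, v ^ p = 1) (hcard : Nat.card V = p ^ r) :
    Nat.card {s : Fin r → V // Subgroup.closure (Set.range s) = ⊤} =
      ∏ i ∈ Finset.range r, (p ^ r - p ^ i) := by
  have inst : Module (ZMod p) (Additive V) := AddCommGroup.zmodModule (n := p) (fun x => by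
    have : p • x = Additive.ofMul (x.toMul ^ p) := rfl
    rw [this, hexp]
    rfl)
  have hcardW : Nat.card (Additive V) = p ^ r := hcard
  rw [← card_spanning_tuples (p := p) (r := r) (W := Additive V) hcardW]
  apply Nat.card_congr
  refine Equiv.subtypeEquiv (Equiv.piCongrRight fun _ => Additive.ofMul) ?_
  intro s
  show _ ↔ Submodule.span (ZMod p) (Set.range (fun i => Additive.ofMul (s i))) =
    (⊤ : Submodule (ZMod p) (Additive V))
  constructor
  · intro h
    rw [eq_top_iff]
    intro w _
    have hw : w.toMul ∈ Subgroup.closure (Set.range s) := by rw [h]; trivial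
    have key : ∀ v ∈ Subgroup.closure (Set.range s), Additive.ofMul v ∈
        Submodule.span (ZMod p) (Set.range (fun i => Additive.ofMul (s i))) := by
      intro v hv
      induction hv using Subgroup.closure_induction with
      | mem v hv =>
        obtain ⟨i, rfl⟩ := hv
        exact Submodule.subset_span ⟨i, rfl⟩
      | one => exact Submodule.zero_mem _
      | mul a b _ _ ha hb => exact Submodule.add_mem _ ha hb
      | inv a _ ha => exact Submodule.neg_mem _ ha
    exact key _ hw
  · intro h
    rw [eq_top_iff]
    intro v _
    let S : Submodule (ZMod p) (Additive V) :=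
      AddSubgroup.toZModSubmodule p (Subgroup.toAddSubgroup (Subgroup.closure (Set.range s)))
    have hS : Submodule.span (ZMod p) (Set.range (fun i => Additive.ofMul (s i))) ≤ S := by
      rw [Submodule.span_le]
      rintro _ ⟨i, rfl⟩
      show s i ∈ Subgroup.closure (Set.range s)
      exact Subgroup.subset_closure ⟨i, rfl⟩
    rw [h] at hS
    have : Additive.ofMul v ∈ S := hS trivial
    exact this

/-- Version of `card_generating_tuples` for a group known to be commutative. -/
theorem card_generating_tuples_of_group {p r : ℕ} [Fact p.Prime] {V : Type*} [Group V] [Finite V]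
    (hcomm : ∀ a b : V, a * b = b * a) (hexp : ∀ v : V, v ^ p = 1) (hcard : Nat.card V = p ^ r) :
    Nat.card {s : Fin r → V // Subgroup.closure (Set.range s) = ⊤} =
      ∏ i ∈ Finset.range r, (p ^ r - p ^ i) := by
  let cg : CommGroup V := { ‹Group V› with mul_comm := hcomm }
  exact @card_generating_tuples p r _ V cg _ hexp hcard

end Cfsg.Agent.Helper21
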