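import Mathlib
import Cfsg.Agent.Lib.Helper11.FHDefs

/-!
# Feit–Higman (S1142), piece NT (helper21): rationality of the Schur elements forces
`n ∈ {2, 3, 4, 6, 8}` (via Niven's theorem)
-/

set_option autoImplicit false

namespace Cfsg.Agent.Helper11.FH

open Real

namespace NT

/-- a real number solving a nondegenerate rational linear equation is rational -/
theorem rat_of_mul_eq {y : ℝ} (a b : ℚ) (ha : a ≠ 0) (h : (a : ℝ) * y = b) :
    ∃ r : ℚ, y = r := by
  refine ⟨b / a, ?_⟩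
  have ha' : (a : ℝ) ≠ 0 := Rat.cast_ne_zero.2 ha
  push_cast
  rw [eq_div_iff ha']
  linarith

/-- Niven: `cos (2π/m)` rational forces `m ∈ {2,3,4,6}` -/
theorem mem_of_cos_rat (m : ℕ) (hm : 2 ≤ m) (h : ∃ q : ℚ, cos (2 * π / m) = q) :
    m = 2 ∨ m = 3 ∨ m = 4 ∨ m = 6 := by
  have hmQ : (2 : ℚ) ≤ m := by exact_mod_cast hm
  have hm0 : (m : ℚ) ≠ 0 := by
    have : (0 : ℚ) < m := by linarith
    exact this.ne'
  have e : (((2 : ℚ) / m : ℚ) : ℝ) * π = 2 * π / m := by push_cast; ring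
  have h' : ∃ q : ℚ, cos (((2 : ℚ) / m : ℚ) * π) = q := by rw [e]; exact h
  have hb : (2 : ℚ) / m ∈ Set.Icc (0 : ℚ) 1 := by
    constructor
    · positivity
    · rw [div_le_one (by linarith)]; exact hmQ
  have h3 := niven_angle_div_pi_eq h' hb
  simp only [Set.mem_insert_iff, Set.mem_singleton_iff] at h3
  rcases h3 with h0 | h0 | h0 | h0 | h0
  · exfalso
    rw [div_eq_zero_iff] at h0
    rcases h0 with h0 | h0
    · norm_num at h0
    · exact hm0 h0
  · right; right; right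
    rw [div_eq_div_iff hm0 (by norm_num)] at h0
    have h4 : (m : ℚ) = 6 := by linarith
    exact_mod_cast h4
  · right; right; left
    rw [div_eq_div_iff hm0 (by norm_num)] at h0
    have h4 : (m : ℚ) = 4 := by linarith
    exact_mod_cast h4
  · right; left
    rw [div_eq_div_iff hm0 (by norm_num)] at h0
    have h4 : (m : ℚ) = 3 := by linarith
    exact_mod_cast h4
  · left
    rw [div_eq_one_iff_eq hm0] at h0
    exact_mod_cast h0.symm

/-- the basic inequalities for `y_j` -/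
theorem yj_facts (n j s t : ℕ) (hs : 2 ≤ s) (ht : 2 ≤ t) (hj : 0 < j) (hjn : 2 * j < n) :
    0 < 4 * (s : ℝ) * t - (yj n s t j) ^ 2 ∧ 0 < (s : ℝ) * t + 1 - yj n s t j ∧
      0 < (s : ℝ) + t + yj n s t j ∧ 0 < (s : ℝ) * t + 1 + yj n s t j ∧
      0 < (s : ℝ) + t - yj n s t j := by
  have hsR : (2 : ℝ) ≤ s := by exact_mod_cast hs
  have htR : (2 : ℝ) ≤ t := by exact_mod_cast ht
  have hst0 : (0 : ℝ) ≤ (s : ℝ) * t := by positivity
  have hstpos : (0 : ℝ) < (s : ℝ) * t := by nlinarith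
  have hu : √((s : ℝ) * t) * √((s : ℝ) * t) = (s : ℝ) * t := Real.mul_self_sqrt hst0
  have hu0 : 0 < √((s : ℝ) * t) := Real.sqrt_pos.2 hstpos
  have hjR : (0 : ℝ) < j := by exact_mod_cast hj
  have hnR : (2 : ℝ) * j < n := by exact_mod_cast hjn
  have hn0 : (0 : ℝ) < n := by linarith
  have hθ0 : 0 < 2 * π * j / n := by positivity
  have hθπ : 2 * π * j / n < π := by
    rw [div_lt_iff₀ hn0]
    nlinarith [pi_pos]
  have hc1 : cos (2 * π * j / n) < 1 := by
    have := Real.cos_lt_cos_of_nonneg_of_le_pi (le_refl 0) hθπ.le hθ0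
    rwa [cos_zero] at this
  have hc2 : -1 < cos (2 * π * j / n) := by
    have := Real.cos_lt_cos_of_nonneg_of_le_pi hθ0.le (le_refl π) hθπ
    rwa [cos_pi] at this
  unfold yj
  set u := √((s : ℝ) * t) with hudef
  set c := cos (2 * π * j / n) with hcdef
  have h2u : 2 * u ≤ (s : ℝ) + t := by
    by_contra hcon
    push Not at hcon
    nlinarith [sq_nonneg ((s : ℝ) - t)]
  have hp1 : 0 < u * (1 - c) := mul_pos hu0 (by linarith)
  have hp2 : 0 < u * (1 + c) := mul_pos hu0 (by linarith)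
  have hp3 : 0 < u * (1 - c) * (u * (1 + c)) := mul_pos hp1 hp2
  refine ⟨?_, ?_, ?_, ?_, ?_⟩
  · nlinarith
  · nlinarith [sq_nonneg (u - 1)]
  · nlinarith
  · nlinarith [sq_nonneg (u - 1)]
  · nlinarith

/-- the even case: from the two rationality statements at `y` and `-y` the number `y` is rational -/
theorem rat_of_pair (s t : ℕ) (hs : 2 ≤ s) (ht : 2 ≤ t) (y : ℝ)
    (hN : 0 < 4 * (s : ℝ) * t - y ^ 2) (hD1a : 0 < (s : ℝ) * t + 1 - y)
    (hD1b : 0 < (s : ℝ) + t + y) (hD2a : 0 < (s : ℝ) * t + 1 + y) (hD2b : 0 < (s : ℝ) + t - y)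
    (q₁ q₂ : ℚ)
    (h1 : (4 * (s : ℝ) * t - y ^ 2) / (((s : ℝ) * t + 1 - y) * ((s : ℝ) + t + y)) = q₁)
    (h2 : (4 * (s : ℝ) * t - (-y) ^ 2) / (((s : ℝ) * t + 1 - (-y)) * ((s : ℝ) + t + (-y))) = q₂) :
    ∃ r : ℚ, y = r := by
  have hsR : (2 : ℝ) ≤ s := by exact_mod_cast hs
  have htR : (2 : ℝ) ≤ t := by exact_mod_cast ht
  have hD1 : 0 < ((s : ℝ) * t + 1 - y) * ((s : ℝ) + t + y) := mul_pos hD1a hD1b
  have hD2 : 0 < ((s : ℝ) * t + 1 + y) * ((s : ℝ) + t - y) := mul_pos hD2a hD2b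
  have hN1 : 4 * (s : ℝ) * t - y ^ 2 = q₁ * (((s : ℝ) * t + 1 - y) * ((s : ℝ) + t + y)) := by
    rw [div_eq_iff hD1.ne'] at h1
    exact h1
  have hN2 : 4 * (s : ℝ) * t - y ^ 2 = q₂ * (((s : ℝ) * t + 1 + y) * ((s : ℝ) + t - y)) := by
    have e : (4 * (s : ℝ) * t - (-y) ^ 2) / (((s : ℝ) * t + 1 - (-y)) * ((s : ℝ) + t + (-y)))
        = (4 * (s : ℝ) * t - y ^ 2) / (((s : ℝ) * t + 1 + y) * ((s : ℝ) + t - y)) := by
      congr 1 <;> ring
    rw [e, div_eq_iff hD2.ne'] at h2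
    exact h2
  have hq1 : (0 : ℝ) < q₁ := by
    by_contra hcon
    push Not at hcon
    nlinarith [mul_nonneg (neg_nonneg.2 hcon) hD1.le]
  have hq2 : (0 : ℝ) < q₂ := by
    by_contra hcon
    push Not at hcon
    nlinarith [mul_nonneg (neg_nonneg.2 hcon) hD2.le]
  have hq12 : (0 : ℝ) < q₁ * q₂ := mul_pos hq1 hq2
  -- `y²` is rational
  have hsq : ∃ r : ℚ, y ^ 2 = r := by
    apply rat_of_mul_eq (2 * q₁ * q₂ - (q₁ + q₂))
      (2 * (((s : ℚ) * t + 1) * ((s : ℚ) + t)) * q₁ * q₂ - 4 * s * t * (q₁ + q₂))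
    · intro hc
      have hcR : (2 * (q₁ : ℝ) * q₂ - (q₁ + q₂)) = 0 := by exact_mod_cast hc
      have hb : 2 * (((s : ℝ) * t + 1) * ((s : ℝ) + t)) * q₁ * q₂ - 4 * s * t * (q₁ + q₂) = 0 := by
        linear_combination (y ^ 2) * hcR - (q₂ : ℝ) * hN1 - (q₁ : ℝ) * hN2
      have hα : 4 * (s : ℝ) * t < ((s : ℝ) * t + 1) * ((s : ℝ) + t) := by nlinarith
      have : 2 * (q₁ : ℝ) * q₂ * (((s : ℝ) * t + 1) * ((s : ℝ) + t) - 4 * s * t) = 0 := by
        linear_combination hb - 4 * (s : ℝ) * t * hcR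
      have h3 : 0 < 2 * (q₁ : ℝ) * q₂ * (((s : ℝ) * t + 1) * ((s : ℝ) + t) - 4 * s * t) := by
        apply mul_pos
        · linarith
        · linarith
      linarith
    · push_cast
      linear_combination (q₂ : ℝ) * hN1 + (q₁ : ℝ) * hN2
  obtain ⟨r2, hr2⟩ := hsq
  apply rat_of_mul_eq (2 * (((s : ℚ) - 1) * ((t : ℚ) - 1)) * q₁ * q₂)
    ((4 * s * t - r2) * (q₂ - q₁))
  · have h4 : (0 : ℚ) < ((s : ℚ) - 1) * ((t : ℚ) - 1) := by
      have hsQ : (2 : ℚ) ≤ s := by exact_mod_cast hs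
      have htQ : (2 : ℚ) ≤ t := by exact_mod_cast ht
      apply mul_pos <;> linarith
    have h5 : (0 : ℚ) < q₁ := by exact_mod_cast hq1
    have h6 : (0 : ℚ) < q₂ := by exact_mod_cast hq2
    positivity
  · push_cast
    rw [← hr2]
    linear_combination (q₁ : ℝ) * hN2 - (q₂ : ℝ) * hN1

end NT

theorem n_mem_of_rat (n s t : ℕ) (hn : 2 ≤ n) (hs : 2 ≤ s) (ht : 2 ≤ t) (hodd : Odd n → s = t)
    (h : ∀ j : ℕ, 0 < j → 2 * j < n → ∃ q : ℚ,
      (4 * (s : ℝ) * t - (yj n s t j) ^ 2) /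
        (((s : ℝ) * t + 1 - yj n s t j) * ((s : ℝ) + t + yj n s t j)) = q) :
    n ∈ ({2, 3, 4, 6, 8} : Set ℕ) := by
  have hsR : (2 : ℝ) ≤ s := by exact_mod_cast hs
  have htR : (2 : ℝ) ≤ t := by exact_mod_cast ht
  have hstpos : (0 : ℝ) < (s : ℝ) * t := by nlinarith
  have hu : √((s : ℝ) * t) * √((s : ℝ) * t) = (s : ℝ) * t := Real.mul_self_sqrt hstpos.le
  have hu0 : 0 < √((s : ℝ) * t) := Real.sqrt_pos.2 hstpos
  obtain ⟨m, rfl | rfl⟩ := Nat.even_or_odd' n
  · -- `n = 2m`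
    by_cases hm : m = 1
    · subst hm; simp
    have hm2 : 2 ≤ m := by omega
    have hmR : (0 : ℝ) < m := by
      have : (2 : ℝ) ≤ m := by exact_mod_cast hm2
      linarith
    have hrat : ∀ j, 0 < j → j < m → ∃ r : ℚ, yj (2 * m) s t j = r := by
      intro j hj hjm
      obtain ⟨q₁, hq₁⟩ := h j hj (by omega)
      obtain ⟨q₂, hq₂⟩ := h (m - j) (by omega) (by omega)
      have hneg : yj (2 * m) s t (m - j) = - yj (2 * m) s t j := by
        unfold yj
        have e : 2 * π * ((m - j : ℕ) : ℝ) / ((2 * m : ℕ) : ℝ)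
            = π - 2 * π * (j : ℝ) / ((2 * m : ℕ) : ℝ) := by
          rw [Nat.cast_sub hjm.le]
          push_cast
          field_simp
        rw [e, Real.cos_pi_sub]
        ring
      rw [hneg] at hq₂
      obtain ⟨f1, f2, f3, f4, f5⟩ := NT.yj_facts (2 * m) j s t hs ht hj (by omega)
      exact NT.rat_of_pair s t hs ht _ f1 f2 f3 f4 f5 q₁ q₂ hq₁ hq₂
    obtain ⟨r₁, hr₁⟩ := hrat 1 one_pos (by omega)
    have hy1 : 2 * √((s : ℝ) * t) * cos (π / m) = r₁ := by
      rw [← hr₁]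
      unfold yj
      congr 2
      push_cast
      field_simp
    have hcos : ∃ q : ℚ, cos (2 * π / m) = q := by
      refine ⟨r₁ ^ 2 / (2 * s * t) - 1, ?_⟩
      have e2 : 2 * π / (m : ℝ) = 2 * (π / m) := by ring
      have key : 4 * ((s : ℝ) * t) * cos (π / m) ^ 2 = (r₁ : ℝ) ^ 2 := by
        rw [← hy1]
        linear_combination (-(4 * cos (π / m) ^ 2)) * hu
      rw [e2, Real.cos_two_mul]
      push_cast
      rw [eq_sub_iff_add_eq, eq_div_iff (by positivity)]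
      linear_combination key
    rcases NT.mem_of_cos_rat m hm2 hcos with rfl | rfl | rfl | rfl
    · simp
    · simp
    · simp
    · exfalso
      obtain ⟨r₂, hr₂⟩ := hrat 2 (by norm_num) (by norm_num)
      have hy2 : √((s : ℝ) * t) = r₂ := by
        rw [← hr₂]
        unfold yj
        have e : 2 * π * ((2 : ℕ) : ℝ) / ((2 * 6 : ℕ) : ℝ) = π / 3 := by
          push_cast; ring
        rw [e, Real.cos_pi_div_three]
        ring
      have hy1' : √((s : ℝ) * t) * √3 = r₁ := by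
        rw [← hy1]
        have e : π / ((6 : ℕ) : ℝ) = π / 6 := by push_cast; ring
        rw [e, Real.cos_pi_div_six]
        ring
      have hr20 : (r₂ : ℝ) ≠ 0 := by rw [← hy2]; exact hu0.ne'
      have hirr : Irrational (√3) := by
        have := Nat.prime_three.irrational_sqrt
        simpa using this
      apply hirr
      refine ⟨r₁ / r₂, ?_⟩
      push_cast
      rw [div_eq_iff hr20, ← hy1', ← hy2]
      ring
  · -- `n = 2m+1`, `s = t`
    have hst : s = t := hodd ⟨m, rfl⟩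
    subst hst
    have hm1 : 1 ≤ m := by omega
    obtain ⟨q, hq⟩ := h 1 one_pos (by omega)
    obtain ⟨f1, f2, f3, f4, f5⟩ := NT.yj_facts (2 * m + 1) 1 s s hs hs one_pos (by omega)
    have hss : √((s : ℝ) * s) = s := Real.sqrt_mul_self (by positivity)
    set y := yj (2 * m + 1) s s 1 with hydef
    have hyeq : y = 2 * s * cos (2 * π / ((2 * m + 1 : ℕ) : ℝ)) := by
      rw [hydef]
      unfold yj
      rw [hss, Nat.cast_one, mul_one]
    have hD : 0 < ((s : ℝ) * s + 1 - y) * ((s : ℝ) + s + y) := mul_pos f2 f3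
    rw [div_eq_iff hD.ne'] at hq
    have hlin : 2 * (s : ℝ) - y = q * ((s : ℝ) * s + 1 - y) := by
      have h3 : (2 * (s : ℝ) - y - q * ((s : ℝ) * s + 1 - y)) * ((s : ℝ) + s + y) = 0 := by
        linear_combination hq
      rcases mul_eq_zero.1 h3 with h4 | h4
      · linarith
      · exfalso; linarith
    have hyrat : ∃ r : ℚ, y = r := by
      apply NT.rat_of_mul_eq (q - 1) (q * ((s : ℚ) * s + 1) - 2 * s)
      · intro hc
        have hq1 : (q : ℝ) = 1 := by
          have : (q : ℝ) - 1 = 0 := by exact_mod_cast hc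
          linarith
        rw [hq1] at hlin
        nlinarith
      · push_cast
        linear_combination hlin
    obtain ⟨r, hr⟩ := hyrat
    have hcos : ∃ q' : ℚ, cos (2 * π / ((2 * m + 1 : ℕ) : ℝ)) = q' := by
      refine ⟨r / (2 * s), ?_⟩
      push_cast
      rw [eq_div_iff (by positivity), ← hr, hyeq]
      push_cast
      ring
    rcases NT.mem_of_cos_rat (2 * m + 1) (by omega) hcos with h0 | h0 | h0 | h0
    · omega
    · rw [h0]; simp
    · omega
    · omega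

end Cfsg.Agent.Helper11.FH
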