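import Mathlib
import Cfsg.Agent.Lib.Helper15.S62Defs

/-!
# S2362 piece S62-WF2 (helper21): the minimal polynomial of `t'` on `W` is irreducible of
degree `2k = dim W`.
-/

set_option autoImplicit false

open Polynomial

namespace Cfsg.Agent.Helper15.S62

universe u

section linalg

variable {F : Type u} [Field F] {V : Type u} [AddCommGroup V] [Module F V]

/-- a nonzero vector killed by `f(t')`, `f` irreducible, generates a subspace of `ker f(t')` of
dimension at least `deg f`. -/
theorem s62_wf2_finrank_ker_ge {W : Type u} [AddCommGroup W] [Module F W]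
    [FiniteDimensional F W] (t' : Module.End F W) (f : F[X]) (hf : Irreducible f) (w : W)
    (hw0 : w ≠ 0) (hw : aeval t' f w = 0) :
    f.natDegree ≤ Module.finrank F (LinearMap.ker (aeval t' f)) := by
  let ψ : F[X] →ₗ[F] W := (LinearMap.applyₗ w) ∘ₗ (aeval t').toLinearMap
  have hψ : ∀ p, ψ p = aeval t' p w := fun p => rfl
  have hmem : ∀ p, ψ p ∈ LinearMap.ker (aeval t' f) := by
    intro p
    rw [LinearMap.mem_ker, hψ, ← Module.End.mul_apply, ← map_mul, mul_comm, map_mul,
      Module.End.mul_apply, hw, map_zero]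
  let ψ' : degreeLT F f.natDegree →ₗ[F] LinearMap.ker (aeval t' f) :=
    (ψ.codRestrict _ hmem).comp (degreeLT F f.natDegree).subtype
  have hψ' : ∀ p : degreeLT F f.natDegree, ((ψ' p : LinearMap.ker (aeval t' f)) : W) =
      aeval t' (p : F[X]) w := fun p => rfl
  have hinj : Function.Injective ψ' := by
    rw [← LinearMap.ker_eq_bot, LinearMap.ker_eq_bot']
    rintro ⟨p, hp⟩ h
    have h' : aeval t' p w = 0 := by
      have := congrArg Subtype.val h
      rw [hψ'] at this
      simpa using this
    apply Subtype.ext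
    show p = 0
    by_contra hp0
    apply hw0
    rw [mem_degreeLT] at hp
    have hnd : ¬ f ∣ p := by
      apply Polynomial.not_dvd_of_degree_lt hp0
      rwa [degree_eq_natDegree hf.ne_zero]
    obtain ⟨a, b, hab⟩ := (hf.coprime_iff_not_dvd).2 hnd
    have h1 : aeval t' (a * f + b * p) w = 0 := by
      rw [map_add, map_mul, map_mul, LinearMap.add_apply, Module.End.mul_apply,
        Module.End.mul_apply, hw, h', map_zero, map_zero, add_zero]
    rwa [hab, map_one, Module.End.one_apply] at h1
  have h1 := LinearMap.finrank_le_finrank_of_injective hinj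
  have h2 : Module.finrank F (degreeLT F f.natDegree) = f.natDegree := by
    rw [(degreeLTEquiv F f.natDegree).finrank_eq, Module.finrank_fin_fun]
  omega

/-- if `f(t') = 0` with `f` irreducible then `deg f` divides `dim W`
(`W` is a vector space over the field `F[X]/(f)`). -/
theorem s62_wf2_natDegree_dvd_finrank {W : Type u} [AddCommGroup W] [Module F W]
    [FiniteDimensional F W] (t' : Module.End F W) (f : F[X]) (hf : Irreducible f)
    (hft : aeval t' f = 0) : f.natDegree ∣ Module.finrank F W := by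
  have : Fact (Irreducible f) := ⟨hf⟩
  let ρ : AdjoinRoot f →ₐ[F] Module.End F W :=
    Ideal.Quotient.liftₐ (Ideal.span {f}) (aeval t') (by
      intro a ha
      obtain ⟨b, rfl⟩ := Ideal.mem_span_singleton.1 ha
      rw [map_mul, hft, zero_mul])
  letI : Module (AdjoinRoot f) W := Module.compHom W (ρ : AdjoinRoot f →+* Module.End F W)
  haveI : IsScalarTower F (AdjoinRoot f) W := ⟨fun a x w => by
    show ρ (a • x) w = a • ρ x w
    rw [map_smul]
    rfl⟩
  have h1 := Module.finrank_mul_finrank F (AdjoinRoot f) W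
  have h2 : Module.finrank F (AdjoinRoot f) = f.natDegree := by
    rw [(AdjoinRoot.powerBasis hf.ne_zero).finrank, AdjoinRoot.powerBasis_dim]
  rw [← h1, h2]
  exact dvd_mul_right _ _

/-- an irreducible factor of the minimal polynomial has a nonzero kernel -/
theorem s62_wf2_exists_ker_ne {W : Type u} [AddCommGroup W] [Module F W]
    [FiniteDimensional F W] (t' : Module.End F W) (f : F[X]) (hf : Irreducible f)
    (hdvd : f ∣ minpoly F t') : ∃ w : W, w ≠ 0 ∧ aeval t' f w = 0 := by
  by_contra hcon
  push_neg at hcon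
  have hint : IsIntegral F t' := Algebra.IsIntegral.isIntegral t'
  obtain ⟨h, hh⟩ := hdvd
  have hμ0 : minpoly F t' ≠ 0 := minpoly.ne_zero hint
  have hh0 : h ≠ 0 := by
    rintro rfl
    rw [mul_zero] at hh
    exact hμ0 hh
  have hzero : aeval t' h = 0 := by
    apply LinearMap.ext
    intro w
    by_contra hne
    apply hcon _ hne
    rw [← Module.End.mul_apply, ← map_mul, ← hh, minpoly.aeval, LinearMap.zero_apply]
  have hd : minpoly F t' ∣ h := minpoly.dvd F t' hzero
  rw [hh] at hd
  have : f * h ∣ 1 * h := by rwa [one_mul]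
  have hf1 : f ∣ 1 := (mul_dvd_mul_iff_right hh0).1 this
  exact hf.not_isUnit (isUnit_of_dvd_one hf1)

/-- PIECE S62-WF2. -/
theorem irreducible_minpoly {W : Type u} [AddCommGroup W] [Module F W] [FiniteDimensional F W]
    [Nontrivial W] (t' : Module.End F W) (r k : ℕ) (hk : 1 ≤ k)
    (hsum : ∑ i ∈ Finset.range r, t' ^ i = 0)
    (hsq : Squarefree (∑ i ∈ Finset.range r, (X : F[X]) ^ i))
    (hdiv : ∀ f : F[X], Irreducible f → f ∣ ∑ i ∈ Finset.range r, (X : F[X]) ^ i →
      2 * k ∣ f.natDegree)
    (hlt : Module.finrank F W < 4 * k) :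
    Irreducible (minpoly F t') ∧ (minpoly F t').natDegree = 2 * k ∧
      Module.finrank F W = 2 * k := by
  classical
  have hint : IsIntegral F t' := Algebra.IsIntegral.isIntegral t'
  have hgt : aeval t' (∑ i ∈ Finset.range r, (X : F[X]) ^ i) = 0 := by
    rw [map_sum]
    simp only [map_pow, aeval_X]
    exact hsum
  have hμg : minpoly F t' ∣ ∑ i ∈ Finset.range r, (X : F[X]) ^ i := minpoly.dvd F t' hgt
  have hμ0 : minpoly F t' ≠ 0 := minpoly.ne_zero hint
  have hμsq : Squarefree (minpoly F t') := hsq.squarefree_of_dvd hμg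
  have hμu : ¬ IsUnit (minpoly F t') := minpoly.not_isUnit F t'
  -- kernels of irreducible factors are big
  have hbig : ∀ f : F[X], Irreducible f → f ∣ minpoly F t' →
      2 * k ≤ Module.finrank F (LinearMap.ker (aeval t' f)) := by
    intro f hf hfd
    obtain ⟨w, hw0, hw⟩ := s62_wf2_exists_ker_ne t' f hf hfd
    have h1 := s62_wf2_finrank_ker_ge t' f hf w hw0 hw
    have h2 : 2 * k ∣ f.natDegree := hdiv f hf (hfd.trans hμg)
    have h3 : 0 < f.natDegree := hf.natDegree_pos
    have h4 := Nat.le_of_dvd h3 h2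
    omega
  -- irreducibility
  have hirr : Irreducible (minpoly F t') := by
    obtain ⟨f₁, hf₁, hf₁d⟩ := WfDvdMonoid.exists_irreducible_factor hμu hμ0
    obtain ⟨h, hh⟩ := hf₁d
    by_cases hu : IsUnit h
    · rw [hh]
      exact (irreducible_mul_isUnit hu).2 hf₁
    · exfalso
      have hh0 : h ≠ 0 := by
        rintro rfl
        rw [mul_zero] at hh
        exact hμ0 hh
      obtain ⟨f₂, hf₂, hf₂d⟩ := WfDvdMonoid.exists_irreducible_factor hu hh0
      have hf₂μ : f₂ ∣ minpoly F t' := by
        rw [hh]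
        exact hf₂d.mul_left f₁
      have hcop : IsCoprime f₁ f₂ := by
        rw [hf₁.coprime_iff_not_dvd]
        intro h12
        have h1h : f₁ ∣ h := h12.trans hf₂d
        have : f₁ * f₁ ∣ minpoly F t' := by
          rw [hh]
          exact mul_dvd_mul_left f₁ h1h
        exact hf₁.not_isUnit (hμsq f₁ this)
      have hdisj := Polynomial.disjoint_ker_aeval_of_isCoprime t' hcop
      have e1 := Submodule.finrank_sup_add_finrank_inf_eq (LinearMap.ker (aeval t' f₁))
        (LinearMap.ker (aeval t' f₂))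
      rw [hdisj.eq_bot, finrank_bot, add_zero] at e1
      have e2 := Submodule.finrank_le (LinearMap.ker (aeval t' f₁) ⊔ LinearMap.ker (aeval t' f₂))
      have e3 := hbig f₁ hf₁ ⟨h, hh⟩
      have e4 := hbig f₂ hf₂ hf₂μ
      omega
  -- degree
  have hd1 : 2 * k ∣ (minpoly F t').natDegree := hdiv _ hirr hμg
  have hd2 : (minpoly F t').natDegree ∣ Module.finrank F W :=
    s62_wf2_natDegree_dvd_finrank t' _ hirr (minpoly.aeval F t')
  have hpos : 0 < Module.finrank F W := Module.finrank_pos
  obtain ⟨c, hc⟩ := hd1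
  obtain ⟨c', hc'⟩ := hd2
  have hc0 : c ≠ 0 := by
    rintro rfl
    rw [mul_zero] at hc
    have := hirr.natDegree_pos
    omega
  have hc'0 : c' ≠ 0 := by
    rintro rfl
    rw [mul_zero] at hc'
    omega
  have hcc : c * c' < 2 := by
    by_contra hge
    push_neg at hge
    have : 2 * k * 2 ≤ 2 * k * (c * c') := Nat.mul_le_mul_left _ hge
    have h5 : Module.finrank F W = 2 * k * (c * c') := by
      rw [hc', hc]; ring
    omega
  have hc1 : c = 1 ∧ c' = 1 := by
    have h1 : 1 ≤ c := Nat.one_le_iff_ne_zero.2 hc0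
    have h2 : 1 ≤ c' := Nat.one_le_iff_ne_zero.2 hc'0
    have : c * c' = 1 := by
      have : 1 ≤ c * c' := Nat.mul_pos h1 h2
      omega
    exact ⟨Nat.eq_one_of_mul_eq_one_right this, Nat.eq_one_of_mul_eq_one_left this⟩
  obtain ⟨rfl, rfl⟩ := hc1
  refine ⟨hirr, ?_, ?_⟩
  · rw [hc, mul_one]
  · rw [hc', hc, mul_one, mul_one]

end linalg

end Cfsg.Agent.Helper15.S62
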