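import Mathlib
import Cfsg.Agent.Lib.Helper15.S62Defs

/-!
# S2362 piece S62-WF3 (helper21): cyclic vector, `W ≃ AdjoinRoot f`.
-/

set_option autoImplicit false

open Polynomial

namespace Cfsg.Agent.Helper15.S62

universe u

section linalg

variable {F : Type u} [Field F] {V : Type u} [AddCommGroup V] [Module F V]

/-- PIECE S62-WF3 (cyclic vector). -/
theorem exists_cyclic_equiv {W : Type u} [AddCommGroup W] [Module F W] [FiniteDimensional F W]
    (t' : Module.End F W) (f : F[X]) [Fact (Irreducible f)] (hf : aeval t' f = 0)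
    (hdim : Module.finrank F W = f.natDegree) :
    ∃ φ : AdjoinRoot f ≃ₗ[F] W, ∀ x : AdjoinRoot f, φ (AdjoinRoot.root f * x) = t' (φ x) := by
  have hirr : Irreducible f := Fact.out
  have hpos : 0 < f.natDegree := hirr.natDegree_pos
  have : Nontrivial W := Module.nontrivial_of_finrank_pos (R := F) (by rw [hdim]; exact hpos)
  obtain ⟨w, hw⟩ := exists_ne (0 : W)
  let ρ : AdjoinRoot f →ₐ[F] Module.End F W :=
    Ideal.Quotient.liftₐ (Ideal.span {f}) (aeval t') (by
      intro a ha
      obtain ⟨b, rfl⟩ := Ideal.mem_span_singleton.1 ha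
      rw [map_mul, hf, zero_mul])
  have hρmk : ∀ p : F[X], ρ (AdjoinRoot.mk f p) = aeval t' p := fun p => rfl
  have hρroot : ρ (AdjoinRoot.root f) = t' := by
    have h1 : AdjoinRoot.root f = AdjoinRoot.mk f X := rfl
    rw [h1, hρmk, aeval_X]
  let ψ : AdjoinRoot f →ₗ[F] W := (LinearMap.applyₗ w) ∘ₗ ρ.toLinearMap
  have hψ : ∀ x, ψ x = ρ x w := fun x => rfl
  have hinj : Function.Injective ψ := by
    rw [← LinearMap.ker_eq_bot, LinearMap.ker_eq_bot']
    intro x hx
    by_contra hx0
    apply hw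
    have h1 : ρ (x⁻¹ * x) w = 0 := by
      rw [map_mul, Module.End.mul_apply, ← hψ x, hx, map_zero]
    rwa [inv_mul_cancel₀ hx0, map_one, Module.End.one_apply] at h1
  have hfr : Module.finrank F (AdjoinRoot f) = Module.finrank F W := by
    rw [hdim, (AdjoinRoot.powerBasis hirr.ne_zero).finrank, AdjoinRoot.powerBasis_dim]
  haveI : FiniteDimensional F (AdjoinRoot f) := (AdjoinRoot.powerBasis hirr.ne_zero).finite
  refine ⟨LinearMap.linearEquivOfInjective ψ hinj hfr, fun x => ?_⟩
  rw [LinearMap.linearEquivOfInjective_apply, LinearMap.linearEquivOfInjective_apply, hψ, hψ,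
    map_mul, Module.End.mul_apply, hρroot]

end linalg

end Cfsg.Agent.Helper15.S62
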