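import Mathlib
import Cfsg.Agent.Lib.Helper21.Metacyclic
import Cfsg.Agent.Lib.Helper21.CosetFiber

/-!
# Abelian subgroups of metacyclic `p`-groups, `p` odd

A subgroup `L` of a metacyclic `p`-group `G` (`p` odd) is abelian iff `|L| * |G'| ≤ |G|`.
-/

set_option autoImplicit false

namespace Cfsg.Agent.Helper21

open scoped commutatorElement

theorem pow_div_gcd_pow {p : ℕ} (hp : 0 < p) (n μ : ℕ) :
    p ^ n / Nat.gcd (p ^ n) (p ^ μ) = p ^ (n - μ) := by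
  rcases le_total n μ with h | h
  · rw [Nat.gcd_eq_left (pow_dvd_pow p h), Nat.div_self (pow_pos hp n),
      Nat.sub_eq_zero_of_le h, pow_zero]
  · rw [Nat.gcd_eq_right (pow_dvd_pow p h), Nat.pow_div h hp]

namespace MCGen

variable {G : Type*} [Group G] [Finite G] {p : ℕ} [hp : Fact p.Prime] (D : MCGen G)

theorem orderOf_commutator_pow_pow (hodd : p ≠ 2) (hG : IsPGroup p G) (n : ℕ)
    (hq : orderOf ⁅D.b, D.a⁆ = p ^ n) (μ ν : ℕ) :
    orderOf ⁅D.b ^ p ^ ν, D.a ^ p ^ μ⁆ = p ^ (n - μ - ν) := by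
  rw [D.orderOf_commutator_pow hodd hG, D.orderOf_commutator_pow_right hodd hG, hq,
    pow_div_gcd_pow hp.out.pos, pow_div_gcd_pow hp.out.pos]

instance normal_zpowers_a : (Subgroup.zpowers D.a).Normal := D.normal

/-- the image of `b` in `G ⧸ ⟨a⟩` -/
def bq : G ⧸ Subgroup.zpowers D.a := QuotientGroup.mk D.b

theorem mk_eq_bq_pow (j i : ℕ) :
    (QuotientGroup.mk (D.b ^ j * D.a ^ i) : G ⧸ Subgroup.zpowers D.a) = D.bq ^ j := by
  rw [bq, ← QuotientGroup.mk_pow, QuotientGroup.eq]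
  have : (D.b ^ j * D.a ^ i)⁻¹ * D.b ^ j = (D.a ^ i)⁻¹ := by group
  rw [this]
  exact Subgroup.inv_mem _ (Subgroup.npow_mem_zpowers _ _)

theorem mem_zpowers_bq (z : G ⧸ Subgroup.zpowers D.a) : z ∈ Subgroup.zpowers D.bq := by
  obtain ⟨g, rfl⟩ := QuotientGroup.mk_surjective z
  obtain ⟨j, i, rfl⟩ := D.gen g
  rw [D.mk_eq_bq_pow]
  exact Subgroup.npow_mem_zpowers _ _

theorem card_eq_orderOf_mul : Nat.card G = orderOf D.a * orderOf D.bq := by
  rw [Subgroup.card_eq_card_quotient_mul_card_subgroup (Subgroup.zpowers D.a), Nat.card_zpowers,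
    ← orderOf_eq_card_of_forall_mem_zpowers D.mem_zpowers_bq, mul_comm]

theorem isCyclic_quotient : IsCyclic (G ⧸ Subgroup.zpowers D.a) :=
  ⟨⟨D.bq, D.mem_zpowers_bq⟩⟩

theorem orderOf_ba_dvd_a : orderOf ⁅D.b, D.a⁆ ∣ orderOf D.a :=
  orderOf_dvd_of_mem_zpowers D.commutator_ba_mem

theorem bq_pow_orderOf_mem : D.b ^ orderOf D.bq ∈ Subgroup.zpowers D.a := by
  rw [← QuotientGroup.eq_one_iff, QuotientGroup.mk_pow]
  exact pow_orderOf_eq_one D.bq

theorem orderOf_ba_dvd_bq (hodd : p ≠ 2) (hG : IsPGroup p G) :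
    orderOf ⁅D.b, D.a⁆ ∣ orderOf D.bq := by
  have h1 : ⁅D.b ^ orderOf D.bq, D.a⁆ = 1 := by
    rw [commutatorElement_eq_one_iff_commute]
    have := D.bq_pow_orderOf_mem
    rw [Subgroup.mem_zpowers_iff] at this
    obtain ⟨k, hk⟩ := this
    rw [← hk]
    exact Commute.zpow_left (Commute.refl _) _
  have h2 := D.orderOf_commutator_pow hodd hG D.b D.a (orderOf D.bq)
  rw [h1, orderOf_one] at h2
  have hpos : 0 < orderOf ⁅D.b, D.a⁆ := orderOf_pos _
  have hg := Nat.gcd_dvd_left (orderOf ⁅D.b, D.a⁆) (orderOf D.bq)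
  have h3 : orderOf ⁅D.b, D.a⁆ = Nat.gcd (orderOf ⁅D.b, D.a⁆) (orderOf D.bq) := by
    have := Nat.div_mul_cancel hg
    rw [← h2, one_mul] at this
    exact this.symm
  rw [h3]
  exact Nat.gcd_dvd_right _ _

/-- structure of a subgroup `L` of a metacyclic `p`-group -/
theorem exists_subgroup_data (hG : IsPGroup p G) (α β : ℕ) (hα : orderOf D.a = p ^ α)
    (hβ : orderOf D.bq = p ^ β) (L : Subgroup G) :
    ∃ μ ν i : ℕ, μ ≤ α ∧ ν ≤ β ∧ D.a ^ p ^ μ ∈ L ∧ D.b ^ p ^ ν * D.a ^ i ∈ L ∧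
      Nat.card L = p ^ (α - μ) * p ^ (β - ν) ∧
      ∀ l ∈ L, ∃ k s : ℕ, l = (D.b ^ p ^ ν * D.a ^ i) ^ k * (D.a ^ p ^ μ) ^ s := by
  set N := Subgroup.zpowers D.a with hN
  -- the intersection with `N`
  have hcyc : IsCyclic ↥(L ⊓ N) := Subgroup.isCyclic_of_le (inf_le_right : L ⊓ N ≤ N)
  obtain ⟨⟨w, hw⟩, hwgen⟩ := hcyc.exists_generator
  have hwL : w ∈ L := hw.1
  have hwN : w ∈ N := hw.2
  have hwgen' : ∀ c ∈ L ⊓ N, c ∈ Subgroup.zpowers w := by
    intro c hc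
    have := hwgen ⟨c, hc⟩
    rw [Subgroup.mem_zpowers_iff] at this ⊢
    obtain ⟨k, hk⟩ := this
    refine ⟨k, ?_⟩
    have := congrArg Subtype.val hk
    rwa [Subgroup.coe_zpow] at this
  obtain ⟨e, he⟩ := (IsPGroup.iff_orderOf.mp hG) w
  have heα : e ≤ α := by
    have := orderOf_dvd_of_mem_zpowers hwN
    rw [he, hα] at this
    exact (Nat.pow_dvd_pow_iff_le_right hp.out.one_lt).mp this
  set μ := α - e with hμ
  have hw' : orderOf (D.a ^ p ^ μ) = p ^ e := by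
    rw [orderOf_pow_of_dvd (pow_ne_zero _ hp.out.ne_zero)
      (by rw [hα]; exact pow_dvd_pow p (Nat.sub_le _ _)), hα,
      Nat.pow_div (Nat.sub_le _ _) hp.out.pos]
    congr 1; omega
  have h1 : D.a ^ p ^ μ ∈ Subgroup.zpowers w :=
    D.mem_zpowers_of_orderOf_dvd (Subgroup.npow_mem_zpowers _ _) hwN (by rw [hw', he])
  have h2 : w ∈ Subgroup.zpowers (D.a ^ p ^ μ) :=
    D.mem_zpowers_of_orderOf_dvd hwN (Subgroup.npow_mem_zpowers _ _) (by rw [hw', he])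
  have hLN : L ⊓ N = Subgroup.zpowers (D.a ^ p ^ μ) := by
    apply le_antisymm
    · intro c hc
      exact (Subgroup.zpowers_le.mpr h2) (hwgen' c hc)
    · rw [Subgroup.zpowers_le]
      exact ⟨(Subgroup.zpowers_le.mpr hwL) h1, Subgroup.npow_mem_zpowers _ _⟩
  -- the image in `G ⧸ N`
  haveI := D.isCyclic_quotient
  set M := L.map (QuotientGroup.mk' N) with hM
  obtain ⟨⟨y, hy⟩, hygen⟩ := (Subgroup.isCyclic M).exists_generator
  have hygen' : ∀ c ∈ M, c ∈ Subgroup.zpowers y := by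
    intro c hc
    have := hygen ⟨c, hc⟩
    rw [Subgroup.mem_zpowers_iff] at this ⊢
    obtain ⟨k, hk⟩ := this
    refine ⟨k, ?_⟩
    have := congrArg Subtype.val hk
    rwa [Subgroup.coe_zpow] at this
  have hQ : IsPGroup p (G ⧸ N) := hG.to_quotient N
  obtain ⟨f, hf⟩ := (IsPGroup.iff_orderOf.mp hQ) y
  have hfβ : f ≤ β := by
    have := orderOf_dvd_of_mem_zpowers (D.mem_zpowers_bq y)
    rw [hf, hβ] at this
    exact (Nat.pow_dvd_pow_iff_le_right hp.out.one_lt).mp this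
  set ν := β - f with hν
  have hy' : orderOf (D.bq ^ p ^ ν) = p ^ f := by
    rw [orderOf_pow_of_dvd (pow_ne_zero _ hp.out.ne_zero)
      (by rw [hβ]; exact pow_dvd_pow p (Nat.sub_le _ _)), hβ,
      Nat.pow_div (Nat.sub_le _ _) hp.out.pos]
    congr 1; omega
  have h3 : D.bq ^ p ^ ν ∈ Subgroup.zpowers y :=
    mem_zpowers_of_pow_orderOf_eq_one _ _ (by rw [hf, ← hy']; exact pow_orderOf_eq_one _)
  have h4 : y ∈ Subgroup.zpowers (D.bq ^ p ^ ν) :=
    mem_zpowers_of_pow_orderOf_eq_one _ _ (by rw [hy', ← hf]; exact pow_orderOf_eq_one _)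
  have hMeq : M = Subgroup.zpowers (D.bq ^ p ^ ν) := by
    apply le_antisymm
    · intro c hc
      exact (Subgroup.zpowers_le.mpr h4) (hygen' c hc)
    · rw [Subgroup.zpowers_le]
      exact (Subgroup.zpowers_le.mpr hy) h3
  have h5 : D.bq ^ p ^ ν ∈ M := by rw [hMeq]; exact Subgroup.mem_zpowers _
  obtain ⟨x, hxL, hx⟩ := Subgroup.mem_map.mp h5
  have hx' : (QuotientGroup.mk x : G ⧸ N) = D.bq ^ p ^ ν := hx
  have h6 : (D.b ^ p ^ ν)⁻¹ * x ∈ N := by
    rw [← QuotientGroup.eq, QuotientGroup.mk_pow]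
    exact hx'.symm
  rw [hN, ← (isOfFinOrder_of_finite _).mem_powers_iff_mem_zpowers, Submonoid.mem_powers_iff] at h6
  obtain ⟨i, hi⟩ := h6
  have hxeq : x = D.b ^ p ^ ν * D.a ^ i := by rw [hi]; group
  -- the order of `L`
  have hcard : Nat.card L = Nat.card (N.subgroupOf L) *
      Nat.card (Set.range (fun l : L => (QuotientGroup.mk (l : G) : G ⧸ N))) :=
    card_eq_card_mul_card_range (N.subgroupOf L) _ (by
      intro x y
      rw [QuotientGroup.eq, Subgroup.mem_subgroupOf]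
      rfl)
  have hrange : Set.range (fun l : L => (QuotientGroup.mk (l : G) : G ⧸ N)) =
      (M : Set (G ⧸ N)) := by
    ext z
    constructor
    · rintro ⟨l, rfl⟩
      exact Subgroup.mem_map.mpr ⟨l, l.2, rfl⟩
    · intro hz
      obtain ⟨l, hl, rfl⟩ := Subgroup.mem_map.mp hz
      exact ⟨⟨l, hl⟩, rfl⟩
  have hc1 : Nat.card (N.subgroupOf L) = p ^ (α - μ) := by
    rw [← Subgroup.inf_subgroupOf_right,
      Nat.card_congr (Subgroup.subgroupOfEquivOfLe (inf_le_right : N ⊓ L ≤ L)).toEquiv,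
      inf_comm, hLN, Nat.card_zpowers, hw']
    congr 1; omega
  have hc2 : Nat.card M = p ^ (β - ν) := by
    rw [hMeq, Nat.card_zpowers, hy']
    congr 1; omega
  refine ⟨μ, ν, i, Nat.sub_le _ _, Nat.sub_le _ _, (Subgroup.zpowers_le.mpr hwL) h1,
    hxeq ▸ hxL, ?_, ?_⟩
  · rw [hcard, hrange, hc1]
    congr 1
  · intro l hl
    have h7 : (QuotientGroup.mk l : G ⧸ N) ∈ Subgroup.zpowers (QuotientGroup.mk x : G ⧸ N) := by
      rw [hx', ← hMeq]
      exact Subgroup.mem_map.mpr ⟨l, hl, rfl⟩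
    rw [← (isOfFinOrder_of_finite _).mem_powers_iff_mem_zpowers, Submonoid.mem_powers_iff] at h7
    obtain ⟨k, hk⟩ := h7
    have h8N : (x ^ k)⁻¹ * l ∈ N := by
      rw [← QuotientGroup.eq, QuotientGroup.mk_pow]; exact hk
    have h8 : (x ^ k)⁻¹ * l ∈ L ⊓ N :=
      ⟨L.mul_mem (L.inv_mem (L.pow_mem hxL k)) hl, h8N⟩
    rw [hLN, ← (isOfFinOrder_of_finite _).mem_powers_iff_mem_zpowers,
      Submonoid.mem_powers_iff] at h8
    obtain ⟨s, hs⟩ := h8
    refine ⟨k, s, ?_⟩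
    rw [← hxeq, hs]
    group

/-- a subgroup `L` of a metacyclic `p`-group `G`, `p` odd, is abelian iff `|L| |G'| ≤ |G|` -/
theorem isMulCommutative_iff_card_le (hodd : p ≠ 2) (hG : IsPGroup p G) (L : Subgroup G) :
    IsMulCommutative ↥L ↔ Nat.card L * orderOf ⁅D.b, D.a⁆ ≤ Nat.card G := by
  obtain ⟨α, hα⟩ := (IsPGroup.iff_orderOf.mp hG) D.a
  obtain ⟨β, hβ⟩ := (IsPGroup.iff_orderOf.mp (hG.to_quotient (Subgroup.zpowers D.a))) D.bq
  obtain ⟨n, hn⟩ := (IsPGroup.iff_orderOf.mp hG) ⁅D.b, D.a⁆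
  obtain ⟨μ, ν, i, hμ, hν, hwL, hxL, hcard, hgen⟩ := D.exists_subgroup_data hG α β hα hβ L
  set x := D.b ^ p ^ ν * D.a ^ i with hx
  set w := D.a ^ p ^ μ with hw
  have hcomm : ⁅x, w⁆ = ⁅D.b ^ p ^ ν, D.a ^ p ^ μ⁆ := by
    rw [hx, commutator_mul_left]
    have : ⁅D.a ^ i, w⁆ = 1 := by
      rw [commutatorElement_eq_one_iff_commute]
      exact Commute.pow_pow (Commute.refl _) _ _
    rw [this, hw]
    group
  have hord : orderOf ⁅x, w⁆ = p ^ (n - μ - ν) := by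
    rw [hcomm]
    exact D.orderOf_commutator_pow_pow hodd hG n hn μ ν
  have hiff1 : IsMulCommutative ↥L ↔ Commute x w := by
    constructor
    · intro h
      have := h.is_comm.comm (⟨x, hxL⟩ : L) ⟨w, hwL⟩
      exact congrArg Subtype.val this
    · intro h
      refine ⟨⟨?_⟩⟩
      rintro ⟨l₁, hl₁⟩ ⟨l₂, hl₂⟩
      apply Subtype.ext
      obtain ⟨k₁, s₁, rfl⟩ := hgen l₁ hl₁
      obtain ⟨k₂, s₂, rfl⟩ := hgen l₂ hl₂
      exact (Commute.mul_left
        (Commute.mul_right (Commute.pow_pow (Commute.refl x) k₁ k₂) (h.pow_pow k₁ s₂))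
        (Commute.mul_right (h.symm.pow_pow s₁ k₂) (Commute.pow_pow (Commute.refl w) s₁ s₂))).eq
  rw [hiff1, ← commutatorElement_eq_one_iff_commute, ← orderOf_eq_one_iff, hord, hcard,
    D.card_eq_orderOf_mul, hα, hβ, hn, ← pow_add, ← pow_add, ← pow_add,
    Nat.pow_le_pow_iff_right hp.out.one_lt, Nat.pow_eq_one]
  constructor
  · rintro (h | h)
    · exact absurd h hp.out.one_lt.ne'
    · omega
  · intro h
    right
    omega

include D in
/-- a subgroup of a metacyclic `p`-group is metacyclic -/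
theorem exists_subgroup_mcGen (hG : IsPGroup p G) (R : Subgroup G) : Nonempty (MCGen ↥R) := by
  obtain ⟨α, hα⟩ := (IsPGroup.iff_orderOf.mp hG) D.a
  obtain ⟨β, hβ⟩ := (IsPGroup.iff_orderOf.mp (hG.to_quotient (Subgroup.zpowers D.a))) D.bq
  obtain ⟨μ, ν, i, -, -, hwR, hxR, -, hgen⟩ := D.exists_subgroup_data hG α β hα hβ R
  refine ⟨⟨⟨D.a ^ p ^ μ, hwR⟩, ⟨D.b ^ p ^ ν * D.a ^ i, hxR⟩, ?_, ?_⟩⟩
  · constructor
    intro z hz r
    rw [Subgroup.mem_zpowers_iff] at hz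
    obtain ⟨k, rfl⟩ := hz
    have hn : (Subgroup.zpowers (D.a ^ p ^ μ)).Normal :=
      D.zpowers_normal hG (Subgroup.npow_mem_zpowers _ _)
    have h1 : (r : G) * (D.a ^ p ^ μ) ^ k * (r : G)⁻¹ ∈ Subgroup.zpowers (D.a ^ p ^ μ) :=
      hn.conj_mem _ (Subgroup.zpow_mem_zpowers _ _) _
    rw [Subgroup.mem_zpowers_iff] at h1 ⊢
    obtain ⟨m, hm⟩ := h1
    refine ⟨m, ?_⟩
    apply Subtype.ext
    rw [Subgroup.coe_zpow, Subgroup.coe_mul, Subgroup.coe_mul, Subgroup.coe_inv,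
      Subgroup.coe_zpow]
    exact hm
  · rintro ⟨g, hg⟩
    obtain ⟨k, s, hks⟩ := hgen g hg
    refine ⟨k, s, ?_⟩
    apply Subtype.ext
    rw [Subgroup.coe_mul, Subgroup.coe_pow, Subgroup.coe_pow]
    exact hks

end MCGen

end Cfsg.Agent.Helper21
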