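import Mathlib
import Cfsg.Agent.Lib.Helper21.MetacyclicAbelian
import Cfsg.Agent.S3886

/-!
# The Chermak–Delgado measure in metacyclic `p`-groups, `p` odd

For every subgroup `R` of a metacyclic `p`-group `G` (`p` odd), `|R| |C_G(R)| ≤ |G| |Z(G)|`,
with equality when `Z(G) ≤ R`.
-/

set_option autoImplicit false

namespace Cfsg.Agent.Helper21

open scoped commutatorElement

section general

variable {G : Type*} [Group G]

theorem card_mul_relIndex_of_le [Finite G] {H S : Subgroup G} (h : H ≤ S) :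
    Nat.card H * H.relIndex S = Nat.card S := by
  have := Subgroup.relIndex_mul_relIndex ⊥ H S bot_le h
  rwa [Subgroup.relIndex_bot_left, Subgroup.relIndex_bot_left] at this

theorem card_mul_card_le_sup_inf [Finite G] (H K : Subgroup G) :
    Nat.card H * Nat.card K ≤ Nat.card (H ⊔ K : Subgroup G) * Nat.card (H ⊓ K : Subgroup G) := by
  set S := H ⊔ K with hS
  have h1 := card_mul_relIndex_of_le (le_sup_left : H ≤ S)
  have h2 := card_mul_relIndex_of_le (le_sup_right : K ≤ S)
  have h3 := card_mul_relIndex_of_le ((inf_le_left : H ⊓ K ≤ H).trans (le_sup_left : H ≤ S))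
  have h4 : (H ⊓ K).relIndex S ≤ H.relIndex S * K.relIndex S := Subgroup.relIndex_inf_le
  have hpos : 0 < Nat.card S := Nat.card_pos
  have : Nat.card H * Nat.card K * Nat.card S ≤
      Nat.card S * Nat.card (H ⊓ K : Subgroup G) * Nat.card S := by
    calc Nat.card H * Nat.card K * Nat.card S
        = Nat.card H * Nat.card K * (Nat.card (H ⊓ K : Subgroup G) * (H ⊓ K).relIndex S) := by
          rw [h3]
      _ ≤ Nat.card H * Nat.card K *
          (Nat.card (H ⊓ K : Subgroup G) * (H.relIndex S * K.relIndex S)) :=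
          Nat.mul_le_mul_left _ (Nat.mul_le_mul_left _ h4)
      _ = (Nat.card H * H.relIndex S) * (Nat.card K * K.relIndex S) *
          Nat.card (H ⊓ K : Subgroup G) := by ring
      _ = Nat.card S * Nat.card (H ⊓ K : Subgroup G) * Nat.card S := by
          rw [h1, h2]; ring
  exact Nat.le_of_mul_le_mul_right this hpos

theorem centralizer_sup_zpowers (R : Subgroup G) (g : G) :
    Subgroup.centralizer ((R ⊔ Subgroup.zpowers g : Subgroup G) : Set G) =
      Subgroup.centralizer (R : Set G) ⊓ Subgroup.centralizer ({g} : Set G) := by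
  apply le_antisymm
  · apply le_inf
    · apply Subgroup.centralizer_le
      exact (le_sup_left : R ≤ R ⊔ Subgroup.zpowers g)
    · apply Subgroup.centralizer_le
      intro x hx
      rw [Set.mem_singleton_iff] at hx
      rw [hx]
      exact (le_sup_right : Subgroup.zpowers g ≤ R ⊔ Subgroup.zpowers g) (Subgroup.mem_zpowers g)
  · rintro y ⟨hy1, hy2⟩
    have hle : R ⊔ Subgroup.zpowers g ≤ Subgroup.centralizer ({y} : Set G) := by
      apply sup_le
      · intro r hr
        rw [Subgroup.mem_centralizer_iff]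
        intro h hh
        rw [Set.mem_singleton_iff] at hh
        rw [hh]
        exact ((Subgroup.mem_centralizer_iff.mp hy1) r hr).symm
      · rw [Subgroup.zpowers_le, Subgroup.mem_centralizer_iff]
        intro h hh
        rw [Set.mem_singleton_iff] at hh
        rw [hh]
        exact ((Subgroup.mem_centralizer_iff.mp hy2) g rfl).symm
    rw [Subgroup.mem_centralizer_iff]
    intro h hh
    have := hle hh
    rw [Subgroup.mem_centralizer_iff] at this
    exact (this y rfl).symm

/-- `R ∩ C(R)` is central in `R C(R)` -/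
theorem card_inf_centralizer_le (R : Subgroup G) [Finite G] :
    Nat.card (R ⊓ Subgroup.centralizer (R : Set G) : Subgroup G) ≤
      Nat.card (Subgroup.center ↥(R ⊔ Subgroup.centralizer (R : Set G) : Subgroup G)) := by
  set S := R ⊔ Subgroup.centralizer (R : Set G) with hS
  have hmem : ∀ z ∈ R ⊓ Subgroup.centralizer (R : Set G), ∀ s ∈ S, s * z = z * s := by
    rintro z ⟨hz1, hz2⟩ s hs
    have hle : S ≤ Subgroup.centralizer ({z} : Set G) := by
      apply sup_le
      · intro r hr
        rw [Subgroup.mem_centralizer_iff]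
        intro h hh
        rw [Set.mem_singleton_iff] at hh
        rw [hh]
        exact ((Subgroup.mem_centralizer_iff.mp hz2) r hr).symm
      · intro c hc
        rw [Subgroup.mem_centralizer_iff]
        intro h hh
        rw [Set.mem_singleton_iff] at hh
        rw [hh]
        exact ((Subgroup.mem_centralizer_iff.mp hc) z hz1)
    have := hle hs
    rw [Subgroup.mem_centralizer_iff] at this
    exact (this z rfl).symm
  let φ : ↥(R ⊓ Subgroup.centralizer (R : Set G) : Subgroup G) → ↥(Subgroup.center ↥S) :=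
    fun z => ⟨⟨z.1, (le_sup_left : R ≤ S) z.2.1⟩, by
      rw [Subgroup.mem_center_iff]
      rintro ⟨s, hs⟩
      apply Subtype.ext
      exact hmem z.1 z.2 s hs⟩
  have hinj : Function.Injective φ := by
    intro z₁ z₂ h
    apply Subtype.ext
    have := congrArg (fun w : ↥(Subgroup.center ↥S) => ((w : ↥S) : G)) h
    exact this
  exact Nat.card_le_card_of_injective φ hinj

end general

section metacyclic

variable {G : Type*} [Group G] [Finite G] {p : ℕ} [hp : Fact p.Prime]

/-- the upper bound `|R| |C(R)| ≤ |G| |Z(G)|` -/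
theorem card_mul_card_centralizer_le (hodd : p ≠ 2) (hG : IsPGroup p G)
    (hmc : Cfsg.IsMetacyclic G) (R : Subgroup G) :
    Nat.card R * Nat.card (Subgroup.centralizer (R : Set G)) ≤
      Nat.card G * Nat.card (Subgroup.center G) := by
  set S := R ⊔ Subgroup.centralizer (R : Set G) with hS
  have h1 := card_mul_card_le_sup_inf R (Subgroup.centralizer (R : Set G))
  have h2 := card_inf_centralizer_le R
  have h3 : Nat.card S * Nat.card (Subgroup.center ↥S) = (commutator ↥S).index ^ 2 :=
    Cfsg.Agent.S3886.card_mul_card_center hodd (hG.to_subgroup S)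
      (Cfsg.Agent.S3886.isMetacyclic_subgroup hG hmc S)
  have h4 := (Cfsg.Agent.S3886.index_commutator_subgroup hodd hG hmc S).1
  have h5 := Cfsg.Agent.S3886.card_mul_card_center hodd hG hmc
  calc Nat.card R * Nat.card (Subgroup.centralizer (R : Set G))
      ≤ Nat.card S * Nat.card (R ⊓ Subgroup.centralizer (R : Set G) : Subgroup G) := h1
    _ ≤ Nat.card S * Nat.card (Subgroup.center ↥S) := Nat.mul_le_mul_left _ h2
    _ = (commutator ↥S).index ^ 2 := h3
    _ ≤ (commutator G).index ^ 2 := Nat.pow_le_pow_left h4 2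
    _ = Nat.card G * Nat.card (Subgroup.center G) := h5.symm

omit hp in
theorem card_le_of_pow_eq_one (N : Subgroup G) [IsCyclic N] (n : ℕ) (hn : 0 < n) (S : Set G)
    (hS : ∀ c ∈ S, c ∈ N ∧ c ^ n = 1) : Nat.card S ≤ n := by
  classical
  haveI := Fintype.ofFinite ↥N
  have h1 := IsCyclic.card_pow_eq_one_le (α := ↥N) hn
  let T : Finset ↥N := Finset.univ.filter (fun a : ↥N => a ^ n = 1)
  let φ : S → T := fun s => ⟨⟨s.1, (hS s.1 s.2).1⟩, by
    rw [Finset.mem_filter]
    refine ⟨Finset.mem_univ _, ?_⟩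
    apply Subtype.ext
    rw [Subgroup.coe_pow, Subgroup.coe_one]
    exact (hS s.1 s.2).2⟩
  have hinj : Function.Injective φ := by
    intro s₁ s₂ h
    apply Subtype.ext
    have := congrArg (fun w : T => ((w : ↥N) : G)) h
    exact this
  calc Nat.card S ≤ Nat.card T := Nat.card_le_card_of_injective φ hinj
    _ = T.card := by rw [Nat.card_eq_fintype_card, Fintype.card_coe]
    _ ≤ n := h1

theorem card_centralizer_le_mul (D : MCGen G) (hodd : p ≠ 2) (hG : IsPGroup p G)
    (R₁ : Subgroup G) (g : G) (hg : g ^ p ∈ R₁) :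
    Nat.card (Subgroup.centralizer (R₁ : Set G)) ≤
      p * Nat.card (Subgroup.centralizer ((R₁ ⊔ Subgroup.zpowers g : Subgroup G) : Set G)) := by
  set C₁ := Subgroup.centralizer (R₁ : Set G) with hC₁
  rw [centralizer_sup_zpowers, ← hC₁]
  have h1 := card_eq_card_mul_card_range ((Subgroup.centralizer ({g} : Set G)).subgroupOf C₁)
    (fun y : C₁ => ⁅(y : G), g⁆) (by
      intro x y
      rw [Subgroup.mem_subgroupOf, Subgroup.mem_centralizer_iff]
      simp only [Set.mem_singleton_iff, forall_eq, commutatorElement_def, Subgroup.coe_mul,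
        Subgroup.coe_inv]
      constructor
      · intro h
        have h' : (x : G) * g * (x : G)⁻¹ = (y : G) * g * (y : G)⁻¹ := mul_right_cancel h
        calc g * ((x : G)⁻¹ * (y : G)) = (x : G)⁻¹ * ((x : G) * g * (x : G)⁻¹) * (y : G) := by group
          _ = (x : G)⁻¹ * ((y : G) * g * (y : G)⁻¹) * (y : G) := by rw [h']
          _ = (x : G)⁻¹ * (y : G) * g := by group
      · intro h
        have h' : (x : G) * g * (x : G)⁻¹ = (y : G) * g * (y : G)⁻¹ := by
          calc (x : G) * g * (x : G)⁻¹ = (x : G) * (g * ((x : G)⁻¹ * (y : G))) * (y : G)⁻¹ := by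
                group
            _ = (x : G) * ((x : G)⁻¹ * (y : G) * g) * (y : G)⁻¹ := by rw [h]
            _ = (y : G) * g * (y : G)⁻¹ := by group
        rw [h'])
  have h2 : Nat.card (Set.range (fun y : C₁ => ⁅(y : G), g⁆)) ≤ p := by
    apply card_le_of_pow_eq_one (Subgroup.zpowers D.a) p hp.out.pos
    rintro _ ⟨y, rfl⟩
    refine ⟨D.commutator_mem_zpowers_a hG _ _, ?_⟩
    have hcomm : ⁅(y : G), g ^ p⁆ = 1 := by
      rw [commutatorElement_eq_one_iff_mul_comm]
      exact ((Subgroup.mem_centralizer_iff.mp y.2) _ hg).symm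
    have h3 := D.orderOf_commutator_pow_right hodd hG g (y : G) p
    rw [hcomm, orderOf_one] at h3
    have hgd := Nat.gcd_dvd_left (orderOf ⁅(y : G), g⁆) p
    have h4 : orderOf ⁅(y : G), g⁆ = Nat.gcd (orderOf ⁅(y : G), g⁆) p := by
      have := Nat.div_mul_cancel hgd
      rw [← h3, one_mul] at this
      exact this.symm
    apply orderOf_dvd_iff_pow_eq_one.mp
    rw [h4]
    exact Nat.gcd_dvd_right _ _
  have h3 : Nat.card ((Subgroup.centralizer ({g} : Set G)).subgroupOf C₁) =
      Nat.card (C₁ ⊓ Subgroup.centralizer ({g} : Set G) : Subgroup G) := by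
    rw [← Subgroup.inf_subgroupOf_right, inf_comm]
    exact Nat.card_congr (Subgroup.subgroupOfEquivOfLe inf_le_left).toEquiv
  rw [h1, h3, mul_comm]
  exact Nat.mul_le_mul_right _ h2

theorem exists_step (hG : IsPGroup p G) (Z R : Subgroup G) (hZR : Z ≤ R) (hne : Z ≠ R) :
    ∃ (R₁ : Subgroup G) (g : G), Z ≤ R₁ ∧ R₁ < R ∧ g ^ p ∈ R₁ ∧
      R = R₁ ⊔ Subgroup.zpowers g := by
  classical
  have hne' : {K : Subgroup G | Z ≤ K ∧ K < R}.Nonempty := ⟨Z, le_rfl, lt_of_le_of_ne hZR hne⟩
  obtain ⟨R₁, ⟨hZR₁, hR₁R⟩, hmax⟩ :=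
    WellFounded.has_min (wellFounded_gt (α := Subgroup G)) _ hne'
  obtain ⟨g₀, hg₀R, hg₀⟩ : ∃ g ∈ R, g ∉ R₁ := SetLike.exists_of_lt hR₁R
  obtain ⟨e, he⟩ := (IsPGroup.iff_orderOf.mp hG) g₀
  have hex : ∃ f, g₀ ^ p ^ f ∈ R₁ := ⟨e, by rw [← he, pow_orderOf_eq_one]; exact R₁.one_mem⟩
  have hf1 : g₀ ^ p ^ (Nat.find hex) ∈ R₁ := Nat.find_spec hex
  have hf0 : Nat.find hex ≠ 0 := by
    intro h0
    rw [h0, pow_zero, pow_one] at hf1
    exact hg₀ hf1
  obtain ⟨f', hf'⟩ := Nat.exists_eq_succ_of_ne_zero hf0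
  have hgR₁ : g₀ ^ p ^ f' ∉ R₁ := Nat.find_min hex (by omega : f' < Nat.find hex)
  have hgp : (g₀ ^ p ^ f') ^ p ∈ R₁ := by
    rw [← pow_mul, ← pow_succ, ← Nat.succ_eq_add_one, ← hf']
    exact hf1
  have hgR : g₀ ^ p ^ f' ∈ R := R.pow_mem hg₀R _
  refine ⟨R₁, g₀ ^ p ^ f', hZR₁, hR₁R, hgp, ?_⟩
  have hle : R₁ ⊔ Subgroup.zpowers (g₀ ^ p ^ f') ≤ R :=
    sup_le hR₁R.le (Subgroup.zpowers_le.mpr hgR)
  have hlt : R₁ < R₁ ⊔ Subgroup.zpowers (g₀ ^ p ^ f') := by
    apply lt_of_le_of_ne le_sup_left
    intro h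
    apply hgR₁
    rw [h]
    exact (le_sup_right : Subgroup.zpowers (g₀ ^ p ^ f') ≤ _) (Subgroup.mem_zpowers _)
  by_contra hne2
  exact hmax (R₁ ⊔ Subgroup.zpowers (g₀ ^ p ^ f'))
    ⟨hZR₁.trans le_sup_left, lt_of_le_of_ne hle (Ne.symm hne2)⟩ hlt

/-- the lower bound for subgroups containing the centre -/
theorem card_mul_card_le_of_center_le (D : MCGen G) (hodd : p ≠ 2) (hG : IsPGroup p G) :
    ∀ (n : ℕ) (R : Subgroup G), Nat.card R = n → Subgroup.center G ≤ R →
      Nat.card G * Nat.card (Subgroup.center G) ≤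
        Nat.card R * Nat.card (Subgroup.centralizer (R : Set G)) := by
  intro n
  induction n using Nat.strong_induction_on with
  | _ n ih =>
    intro R hRn hZR
    by_cases hne : Subgroup.center G = R
    · rw [← hne, Subgroup.centralizer_eq_top_iff_subset.mpr subset_rfl, Subgroup.card_top,
        mul_comm]
    · obtain ⟨R₁, g, hZR₁, hR₁R, hgp, hReq⟩ := exists_step hG _ R hZR hne
      have hlt : Nat.card R₁ < Nat.card R := by
        by_contra hge
        rw [not_lt] at hge
        exact hR₁R.ne (Subgroup.eq_of_le_of_card_ge hR₁R.le hge)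
      have ih' := ih (Nat.card R₁) (hRn ▸ hlt) R₁ rfl hZR₁
      have hstep := card_centralizer_le_mul D hodd hG R₁ g hgp
      rw [← hReq] at hstep
      have hp1 : p * Nat.card R₁ ≤ Nat.card R := by
        obtain ⟨s, hs⟩ := IsPGroup.iff_card.mp (hG.to_subgroup R₁)
        obtain ⟨t, ht⟩ := IsPGroup.iff_card.mp (hG.to_subgroup R)
        rw [hs, ht] at hlt ⊢
        have hst : s < t := (Nat.pow_lt_pow_iff_right hp.out.one_lt).mp hlt
        rw [← pow_succ']
        exact Nat.pow_le_pow_right hp.out.pos hst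
      calc Nat.card G * Nat.card (Subgroup.center G)
          ≤ Nat.card R₁ * Nat.card (Subgroup.centralizer (R₁ : Set G)) := ih'
        _ ≤ Nat.card R₁ * (p * Nat.card (Subgroup.centralizer (R : Set G))) :=
            Nat.mul_le_mul_left _ hstep
        _ = (p * Nat.card R₁) * Nat.card (Subgroup.centralizer (R : Set G)) := by ring
        _ ≤ Nat.card R * Nat.card (Subgroup.centralizer (R : Set G)) :=
            Nat.mul_le_mul_right _ hp1

/-- `|R| |C(R)| = |G| |Z(G)|` for every subgroup `R` containing the centre -/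
theorem card_mul_card_centralizer_eq (hodd : p ≠ 2) (hG : IsPGroup p G)
    (hmc : Cfsg.IsMetacyclic G) (R : Subgroup G) (hZR : Subgroup.center G ≤ R) :
    Nat.card R * Nat.card (Subgroup.centralizer (R : Set G)) =
      Nat.card G * Nat.card (Subgroup.center G) := by
  apply le_antisymm (card_mul_card_centralizer_le hodd hG hmc R)
  obtain ⟨N, hNn, hNc, hQc⟩ := hmc
  obtain ⟨D⟩ := exists_mcGen N hNc hQc
  exact card_mul_card_le_of_center_le D hodd hG _ R rfl hZR

end metacyclic

end Cfsg.Agent.Helper21
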