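import Mathlib
import Cfsg.Agent.Lib.Helper1.HallConj
import Cfsg.Agent.Lib.Helper21.CosetFiber
import Cfsg.Agent.Lib.Helper21.MetacyclicCD

/-!
# Counting conjugates, and the index of the fixed points of a coprime solvable group of operators
-/

set_option autoImplicit false

namespace Cfsg.Agent.Helper21

open scoped Pointwise
open scoped commutatorElement

/-- a nontrivial finite solvable group has a normal subgroup of prime index -/
theorem exists_normal_prime_index (H : Type*) [Group H] [Finite H] [Group.IsSolvable H]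
    [Nontrivial H] : ∃ K : Subgroup H, K.Normal ∧ K.index.Prime := by
  have hlt : commutator H < ⊤ := Group.IsSolvable.commutator_lt_top_of_nontrivial H
  obtain ⟨M, hM, hcM⟩ := (eq_top_or_exists_le_coatom (commutator H)).resolve_left hlt.ne
  have hMn : M.Normal := by
    constructor
    intro m hm g
    have h1 : g * m * g⁻¹ = ⁅g, m⁆ * m := by simp [commutatorElement_def]
    rw [h1]
    refine M.mul_mem (hcM ?_) hm
    rw [commutator_def]
    exact Subgroup.commutator_mem_commutator (Subgroup.mem_top _) (Subgroup.mem_top _)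
  refine ⟨M, hMn, ?_⟩
  have hne : M.index ≠ 1 := fun h => hM.1 (Subgroup.index_eq_one.mp h)
  obtain ⟨r, hr, hrd⟩ := Nat.exists_prime_and_dvd hne
  haveI : Fact r.Prime := ⟨hr⟩
  rw [Subgroup.index_eq_card] at hrd
  obtain ⟨x, hx⟩ := exists_prime_orderOf_dvd_card' r hrd
  set M' := (Subgroup.zpowers x).comap (QuotientGroup.mk' M) with hM'
  have hMM' : M ≤ M' := by
    intro m hm
    rw [hM', Subgroup.mem_comap]
    have : QuotientGroup.mk' M m = 1 := (QuotientGroup.eq_one_iff m).mpr hm
    rw [this]
    exact Subgroup.one_mem _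
  have hne' : M ≠ M' := by
    obtain ⟨y, rfl⟩ := QuotientGroup.mk_surjective x
    intro h
    have hy : y ∈ M' := Subgroup.mem_comap.mpr (Subgroup.mem_zpowers _)
    rw [← h] at hy
    have h1 : (QuotientGroup.mk y : H ⧸ M) = 1 := (QuotientGroup.eq_one_iff y).mpr hy
    rw [h1, orderOf_one] at hx
    exact hr.one_lt.ne hx
  have hM'top : M' = ⊤ := hM.2 M' (lt_of_le_of_ne hMM' hne')
  have htop : Subgroup.zpowers x = ⊤ := by
    rw [eq_top_iff]
    intro z _
    obtain ⟨w, rfl⟩ := QuotientGroup.mk_surjective z
    have hw : w ∈ M' := hM'top ▸ Subgroup.mem_top w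
    exact hw
  rw [Subgroup.index_eq_card, ← Subgroup.card_top (G := H ⧸ M), ← htop, Nat.card_zpowers, hx]
  exact hr

section

variable {G : Type*} [Group G]

theorem conj_smul_eq_self_iff {H : Subgroup G} {y : G} :
    MulAut.conj y • H = H ↔ y ∈ Subgroup.normalizer (H : Set G) := by
  constructor
  · intro h
    rw [Subgroup.mem_normalizer_iff]
    intro g
    constructor
    · intro hg
      have := Subgroup.smul_mem_pointwise_smul g (MulAut.conj y) H hg
      rw [h, MulAut.smul_def, MulAut.conj_apply] at this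
      exact this
    · intro hg
      rw [← h, Cfsg.Agent.Helper1.mem_conj_smul_iff] at hg
      simpa [mul_assoc] using hg
  · intro hy
    ext z
    rw [Cfsg.Agent.Helper1.mem_conj_smul_iff]
    have h1 := (Subgroup.mem_normalizer_iff.mp hy) (y⁻¹ * z * y)
    rw [h1]
    have : y * (y⁻¹ * z * y) * y⁻¹ = z := by group
    rw [this]

/-- the number of conjugates of a subgroup is the index of its normalizer -/
theorem card_conj_orbit [Finite G] (H₀ : Subgroup G) :
    Nat.card {H : Subgroup G // ∃ g : G, MulAut.conj g • H₀ = H} =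
      (Subgroup.normalizer (H₀ : Set G)).index := by
  have h1 := card_eq_card_mul_card_range (Subgroup.normalizer (H₀ : Set G))
    (fun g : G => MulAut.conj g • H₀) (by
      intro x y
      rw [← conj_smul_eq_self_iff, map_mul, mul_smul, map_inv]
      constructor
      · intro h
        show _ • _ • _ = _
        rw [← h, inv_smul_smul]
      · intro h
        have := congrArg (fun S => MulAut.conj x • S) h
        simp only [smul_inv_smul] at this
        exact this.symm)
  have h2 := Subgroup.card_mul_index (Subgroup.normalizer (H₀ : Set G))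
  rw [h1] at h2
  have h3 : Nat.card {H : Subgroup G // ∃ g : G, MulAut.conj g • H₀ = H} =
      Nat.card (Set.range (fun g : G => MulAut.conj g • H₀)) := rfl
  rw [h3]
  exact (Nat.eq_of_mul_eq_mul_left Nat.card_pos h2).symm

/-- fixed points of an `r`-group acting by conjugation on a normalized subgroup -/
theorem card_modEq_card_inf_centralizer {r : ℕ} [Fact r.Prime] (R N₁ : Subgroup G) [Finite N₁]
    (hR : IsPGroup r R) (hnorm : R ≤ Subgroup.normalizer (N₁ : Set G)) :
    Nat.card N₁ ≡ Nat.card (N₁ ⊓ Subgroup.centralizer (R : Set G) : Subgroup G) [MOD r] := by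
  letI : MulAction ↥R ↥N₁ :=
    { smul := fun x n => ⟨(x : G) * n * (x : G)⁻¹,
        ((Subgroup.mem_normalizer_iff.mp (hnorm x.2)) n).mp n.2⟩
      one_smul := by
        intro n
        apply Subtype.ext
        show ((1 : ↥R) : G) * n * ((1 : ↥R) : G)⁻¹ = n
        simp
      mul_smul := by
        intro x y n
        apply Subtype.ext
        show ((x * y : ↥R) : G) * n * ((x * y : ↥R) : G)⁻¹ = (x : G) * ((y : G) * n * (y : G)⁻¹) * (x : G)⁻¹
        simp [mul_assoc] }
  have h := hR.card_modEq_card_fixedPoints ↥N₁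
  have hsmul : ∀ (x : ↥R) (n : ↥N₁), ((x • n : ↥N₁) : G) = (x : G) * n * (x : G)⁻¹ := fun _ _ => rfl
  have e : MulAction.fixedPoints ↥R ↥N₁ ≃
      ↥(N₁ ⊓ Subgroup.centralizer (R : Set G) : Subgroup G) :=
    { toFun := fun n => ⟨(n : ↥N₁), by
        refine ⟨(n : ↥N₁).2, ?_⟩
        show ((n : ↥N₁) : G) ∈ Subgroup.centralizer (R : Set G)
        rw [Subgroup.mem_centralizer_iff]
        intro x hx
        have h1 := n.2 ⟨x, hx⟩
        have h2 := congrArg Subtype.val h1
        rw [hsmul] at h2
        have h3 : x * ((n : ↥N₁) : G) * x⁻¹ = ((n : ↥N₁) : G) := h2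
        calc x * ((n : ↥N₁) : G) = x * ((n : ↥N₁) : G) * x⁻¹ * x := by group
          _ = ((n : ↥N₁) : G) * x := by rw [h3]⟩
      invFun := fun n => ⟨⟨n.1, n.2.1⟩, by
        intro x
        apply Subtype.ext
        rw [hsmul]
        have h1 := (Subgroup.mem_centralizer_iff.mp n.2.2) x x.2
        show (x : G) * n.1 * (x : G)⁻¹ = n.1
        rw [h1]
        group⟩
      left_inv := fun n => rfl
      right_inv := fun n => rfl }
  rw [Nat.card_congr e] at h
  exact h

end

section

variable {G : Type*} [Group G]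

theorem centralizer_sup (A B : Subgroup G) :
    Subgroup.centralizer ((A ⊔ B : Subgroup G) : Set G) =
      Subgroup.centralizer (A : Set G) ⊓ Subgroup.centralizer (B : Set G) := by
  apply le_antisymm
  · exact le_inf (Subgroup.centralizer_le (le_sup_left : A ≤ A ⊔ B))
      (Subgroup.centralizer_le (le_sup_right : B ≤ A ⊔ B))
  · rw [Subgroup.le_centralizer_iff]
    apply sup_le
    · rw [← Subgroup.le_centralizer_iff]; exact inf_le_left
    · rw [← Subgroup.le_centralizer_iff]; exact inf_le_right

/-- the index of the fixed points of a solvable group `H` of order coprime to `q` on a normal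
`q`-subgroup `N` is a product of powers of `q`, each congruent to `1` modulo a prime divisor of
`|H|` -/
theorem exists_factorization_index_centralizer [Finite G] {q : ℕ} [hq : Fact q.Prime]
    (N : Subgroup G) [N.Normal] (hN : IsPGroup q N) :
    ∀ (k : ℕ) (H : Subgroup G), Nat.card H = k → Group.IsSolvable H → k.Coprime q →
      ∃ l : List ℕ, l.prod = (N ⊓ Subgroup.centralizer (H : Set G)).relIndex N ∧
        ∀ f ∈ l, (∃ e : ℕ, f = q ^ e) ∧ f ∣ Nat.card N ∧
          ∃ r : ℕ, r.Prime ∧ r ∣ k ∧ f ≡ 1 [MOD r] := by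
  intro k
  induction k using Nat.strong_induction_on with
  | _ k ih =>
  intro H hHk hsol hcop
  by_cases hbot : H = ⊥
  · refine ⟨[], ?_, by simp⟩
    rw [hbot, List.prod_nil]
    have : Subgroup.centralizer ((⊥ : Subgroup G) : Set G) = ⊤ := by
      rw [Subgroup.centralizer_eq_top_iff_subset]
      intro x hx
      rw [SetLike.mem_coe, Subgroup.mem_bot] at hx
      rw [hx]
      exact Subgroup.one_mem _
    rw [this, inf_top_eq, Subgroup.relIndex_self]
  · haveI : Nontrivial ↥H := (Subgroup.nontrivial_iff_ne_bot H).mpr hbot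
    haveI := hsol
    obtain ⟨K', hK'n, hK'idx⟩ := exists_normal_prime_index ↥H
    set r := K'.index with hr
    haveI : Fact r.Prime := ⟨hK'idx⟩
    set K := K'.map H.subtype with hK
    have hKH : K ≤ H := Subgroup.map_subtype_le K'
    have hKcard : Nat.card K * r = k := by
      rw [hK, Subgroup.card_subtype, ← hHk]
      exact Subgroup.card_mul_index K'
    have hKpos : 0 < Nat.card K := Nat.card_pos
    have hKlt : Nat.card K < k := by
      have := hK'idx.one_lt
      nlinarith
    have hKsol : Group.IsSolvable ↥K := by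
      have e := Subgroup.equivMapOfInjective K' H.subtype H.subtype_injective
      exact Group.isSolvable_of_isSolvable_injective (f := e.symm.toMonoidHom) e.symm.injective
    have hrk : r ∣ k := Dvd.intro_left _ hKcard
    have hKcop : (Nat.card K).Coprime q := Nat.Coprime.coprime_dvd_left (Dvd.intro _ hKcard) hcop
    obtain ⟨l₁, hl₁prod, hl₁⟩ := ih (Nat.card K) hKlt K rfl hKsol hKcop
    -- `H` normalizes `K`
    have hnormK : ∀ h ∈ H, ∀ x ∈ K, h⁻¹ * x * h ∈ K := by
      intro h hh x hx
      obtain ⟨x', hx', rfl⟩ := Subgroup.mem_map.mp hx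
      have := hK'n.conj_mem x' hx' (⟨h, hh⟩ : ↥H)⁻¹
      refine Subgroup.mem_map.mpr ⟨_, this, ?_⟩
      simp
    set N₁ := N ⊓ Subgroup.centralizer (K : Set G) with hN₁
    -- a Sylow `r`-subgroup of `H`
    obtain ⟨R'⟩ : Nonempty (Sylow r ↥H) := inferInstance
    set R := (R' : Subgroup ↥H).map H.subtype with hR
    have hRH : R ≤ H := Subgroup.map_subtype_le _
    have hRp : IsPGroup r R := R'.isPGroup'.map H.subtype
    have hRcard : Nat.card R = r ^ (k.factorization r) := by
      rw [hR, Subgroup.card_subtype, R'.card_eq_multiplicity, hHk]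
    have hKR : K ⊔ R = H := by
      apply le_antisymm (sup_le hKH hRH)
      have h1 := Subgroup.relIndex_mul_relIndex K (K ⊔ R) H le_sup_left (sup_le hKH hRH)
      have h2 : K.relIndex H = r := by
        have := card_mul_relIndex_of_le hKH
        rw [hHk, ← hKcard] at this
        exact Nat.eq_of_mul_eq_mul_left hKpos this
      rw [h2] at h1
      have h3 : (K ⊔ R).relIndex H ∣ r := Dvd.intro_left _ h1
      rcases (Nat.dvd_prime hK'idx).mp h3 with h4 | h4
      · exact Subgroup.relIndex_eq_one.mp h4
      · exfalso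
        rw [h4] at h1
        have h5 : K.relIndex (K ⊔ R) = 1 := by
          have := hK'idx.pos
          nlinarith
        have h6 : R ≤ K := le_trans le_sup_right (Subgroup.relIndex_eq_one.mp h5)
        have h7 : Nat.card R ∣ Nat.card K := Subgroup.card_dvd_of_le h6
        rw [hRcard] at h7
        have h8 : r ^ (k.factorization r + 1) ∣ k := by
          rw [pow_succ]
          calc r ^ k.factorization r * r ∣ Nat.card K * r := Nat.mul_dvd_mul_right h7 r
            _ = k := hKcard
        have hk0 : k ≠ 0 := by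
          rw [← hHk]; exact Nat.card_pos.ne'
        exact Nat.pow_succ_factorization_not_dvd hk0 hK'idx h8
    have hcent : N ⊓ Subgroup.centralizer (H : Set G) =
        N₁ ⊓ Subgroup.centralizer (R : Set G) := by
      rw [← hKR, centralizer_sup, hN₁, inf_assoc]
    -- `H` normalizes `N₁`
    have hconjN₁ : ∀ x ∈ H, ∀ n ∈ N₁, x * n * x⁻¹ ∈ N₁ := by
      intro x hx n hn
      refine ⟨Subgroup.Normal.conj_mem inferInstance n hn.1 x, ?_⟩
      show x * n * x⁻¹ ∈ Subgroup.centralizer (K : Set G)
      rw [Subgroup.mem_centralizer_iff]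
      intro y hy
      have h1 := (Subgroup.mem_centralizer_iff.mp hn.2) _ (hnormK x hx y hy)
      calc y * (x * n * x⁻¹) = x * (x⁻¹ * y * x * n) * x⁻¹ := by group
        _ = x * (n * (x⁻¹ * y * x)) * x⁻¹ := by rw [h1]
        _ = x * n * x⁻¹ * y := by group
    have hnorm : R ≤ Subgroup.normalizer (N₁ : Set G) := by
      intro x hx
      rw [Subgroup.mem_normalizer_iff]
      intro n
      constructor
      · exact hconjN₁ x (hRH hx) n
      · intro h
        have := hconjN₁ x⁻¹ (H.inv_mem (hRH hx)) _ h
        simpa [mul_assoc] using this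
    set f := (N₁ ⊓ Subgroup.centralizer (R : Set G)).relIndex N₁ with hf
    have hf1 : Nat.card (N₁ ⊓ Subgroup.centralizer (R : Set G) : Subgroup G) * f = Nat.card N₁ :=
      card_mul_relIndex_of_le inf_le_left
    have hmod := card_modEq_card_inf_centralizer R N₁ hRp hnorm
    have hrq : r ≠ q := by
      intro h
      have h1 : q ∣ Nat.gcd k q := Nat.dvd_gcd (h ▸ hrk) dvd_rfl
      rw [hcop] at h1
      exact hq.out.one_lt.ne' (Nat.dvd_one.mp h1)
    have hN₁p : IsPGroup q N₁ := hN.to_le inf_le_left
    obtain ⟨e₀, he₀⟩ := IsPGroup.iff_card.mp (hN₁p.to_le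
      (inf_le_left : N₁ ⊓ Subgroup.centralizer (R : Set G) ≤ N₁))
    obtain ⟨e₁, he₁⟩ := IsPGroup.iff_card.mp hN₁p
    have hfmod : f ≡ 1 [MOD r] := by
      apply Nat.ModEq.cancel_left_of_coprime
        (c := Nat.card (N₁ ⊓ Subgroup.centralizer (R : Set G) : Subgroup G))
      · rw [he₀]
        exact Nat.Coprime.pow_right _ ((Nat.coprime_primes hK'idx hq.out).mpr hrq)
      · rw [hf1, mul_one]
        exact hmod
    have hfdvd : f ∣ Nat.card N₁ := Subgroup.relIndex_dvd_card _ _
    have hfq : ∃ e : ℕ, f = q ^ e := by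
      rw [he₁] at hfdvd
      obtain ⟨e, -, he⟩ := (Nat.dvd_prime_pow hq.out).mp hfdvd
      exact ⟨e, he⟩
    have hfN : f ∣ Nat.card N := hfdvd.trans (Subgroup.card_dvd_of_le inf_le_left)
    refine ⟨f :: l₁, ?_, ?_⟩
    · rw [List.prod_cons, hl₁prod, hcent, hf]
      exact Subgroup.relIndex_mul_relIndex _ _ _ inf_le_left inf_le_left
    · intro g hg
      rw [List.mem_cons] at hg
      rcases hg with rfl | hg
      · exact ⟨hfq, hfN, r, hK'idx, hrk, hfmod⟩
      · obtain ⟨h1, h2, r', hr', hr'd, hr'm⟩ := hl₁ g hg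
        exact ⟨h1, h2, r', hr', hr'd.trans (Dvd.intro _ hKcard), hr'm⟩

end

end Cfsg.Agent.Helper21
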