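import Mathlib

/-!
# Sylow 2-subgroups of symmetric groups are self-normalizing

For a Sylow `2`-subgroup `T` of `Equiv.Perm α`, the swaps lying in `T` are pairwise disjoint and
cover all points but at most one; `T` permutes them and the image is again a Sylow `2`-subgroup
of the symmetric group on the set of these swaps.  Induction gives `N(T) = T`.
-/

set_option autoImplicit false

namespace Cfsg.Agent.Helper21.SylowSym

open Equiv Equiv.Perm

section basic

variable {α : Type*} [Fintype α] [DecidableEq α]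

/-- the swaps contained in a subgroup -/
def Tr (T : Subgroup (Perm α)) : Set (Perm α) := {τ | τ.IsSwap ∧ τ ∈ T}

theorem isSwap_conj (g τ : Perm α) (h : τ.IsSwap) : (g * τ * g⁻¹).IsSwap := by
  obtain ⟨a, b, hab, rfl⟩ := h
  exact ⟨g a, g b, fun h => hab (g.injective h), (swap_apply_apply g a b).symm⟩

theorem isSwap_conj_iff (g τ : Perm α) : (g * τ * g⁻¹).IsSwap ↔ τ.IsSwap := by
  constructor
  · intro h
    have := isSwap_conj g⁻¹ _ h
    simpa [mul_assoc] using this
  · exact isSwap_conj g τ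

/-- two swaps in a `2`-group sharing a point coincide -/
theorem swap_eq_of_mem {T : Subgroup (Perm α)} (hT : IsPGroup 2 T) {a b c : α}
    (hab : a ≠ b) (hac : a ≠ c) (h1 : swap a b ∈ T) (h2 : swap a c ∈ T) : b = c := by
  by_contra hbc
  have h3 := isThreeCycle_swap_mul_swap_same hab hac hbc
  have hmem : swap a b * swap a c ∈ T := T.mul_mem h1 h2
  obtain ⟨k, hk⟩ := hT ⟨_, hmem⟩
  have hk' : (swap a b * swap a c) ^ (2 ^ k) = 1 := by
    have := congrArg Subtype.val hk
    simpa using this
  have hdvd : orderOf (swap a b * swap a c) ∣ 2 ^ k := orderOf_dvd_of_pow_eq_one hk'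
  rw [h3.orderOf] at hdvd
  have : (3 : ℕ) ∣ 2 := Nat.Prime.dvd_of_dvd_pow Nat.prime_three hdvd
  omega

theorem eq_of_moves {T : Subgroup (Perm α)} (hT : IsPGroup 2 T) {τ₁ τ₂ : Perm α}
    (h1 : τ₁ ∈ Tr T) (h2 : τ₂ ∈ Tr T) (x : α) (hx1 : τ₁ x ≠ x) (hx2 : τ₂ x ≠ x) : τ₁ = τ₂ := by
  obtain ⟨⟨a, b, hab, rfl⟩, h1T⟩ := h1
  obtain ⟨⟨c, d, hcd, rfl⟩, h2T⟩ := h2
  have hxab : x = a ∨ x = b := by
    by_contra h
    push Not at h
    exact hx1 (swap_apply_of_ne_of_ne h.1 h.2)
  have hxcd : x = c ∨ x = d := by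
    by_contra h
    push Not at h
    exact hx2 (swap_apply_of_ne_of_ne h.1 h.2)
  rcases hxab with rfl | rfl
  · rcases hxcd with rfl | rfl
    · rw [swap_eq_of_mem hT hab hcd h1T h2T]
    · rw [swap_comm c x] at h2T ⊢
      rw [swap_eq_of_mem hT hab hcd.symm h1T h2T]
  · rw [swap_comm a x] at h1T ⊢
    rcases hxcd with rfl | rfl
    · rw [swap_eq_of_mem hT hab.symm hcd h1T h2T]
    · rw [swap_comm c x] at h2T ⊢
      rw [swap_eq_of_mem hT hab.symm hcd.symm h1T h2T]

theorem conj_mem_Tr {T : Subgroup (Perm α)} {g : Perm α}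
    (hg : g ∈ Subgroup.normalizer (T : Set (Perm α))) (τ : Perm α) :
    τ ∈ Tr T ↔ g * τ * g⁻¹ ∈ Tr T := by
  unfold Tr
  simp only [Set.mem_setOf_eq]
  rw [isSwap_conj_iff]
  exact and_congr Iff.rfl ((Subgroup.mem_normalizer_iff.mp hg) τ)

theorem normalizer_le (T : Subgroup (Perm α)) :
    Subgroup.normalizer (T : Set (Perm α)) ≤ Subgroup.normalizer (Tr T) :=
  fun _ hg => Subgroup.mem_set_normalizer_iff.mpr (conj_mem_Tr hg)

theorem le_normalizer_Tr (T : Subgroup (Perm α)) : T ≤ Subgroup.normalizer (Tr T) :=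
  le_trans Subgroup.le_normalizer (normalizer_le T)

/-- the points moved by no swap of `T` -/
def U (T : Subgroup (Perm α)) : Set α := {x | ∀ τ ∈ Tr T, τ x = x}

theorem mem_U_iff_of_mem {T : Subgroup (Perm α)} {g : Perm α}
    (hg : g ∈ Subgroup.normalizer (Tr T)) (x : α) : g x ∈ U T ↔ x ∈ U T := by
  constructor
  · intro h τ hτ
    have h1 : g * τ * g⁻¹ ∈ Tr T := (Subgroup.mem_set_normalizer_iff.mp hg τ).mp hτ
    have h2 := h _ h1
    simp only [Perm.mul_apply, Perm.coe_inv, Equiv.symm_apply_apply] at h2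
    exact g.injective h2
  · intro h τ hτ
    have h1 : g⁻¹ * τ * g ∈ Tr T := (Subgroup.mem_set_normalizer_iff''.mp hg τ).mp hτ
    have h2 := h _ h1
    simp only [Perm.mul_apply] at h2
    have h3 := congrArg g h2
    simpa using h3

omit [Fintype α] [DecidableEq α] in
theorem conj_ofSubtype {p : α → Prop} [DecidablePred p] (t : Perm α)
    (ht : ∀ x, p (t x) ↔ p x) (r : Perm (Subtype p)) :
    t * ofSubtype r * t⁻¹ = ofSubtype (subtypePerm t ht * r * (subtypePerm t ht)⁻¹) := by
  have ht' : ∀ x, p (t⁻¹ x) ↔ p x := fun x => by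
    have := ht (t⁻¹ x)
    simp only [Perm.coe_inv, Equiv.apply_symm_apply] at this
    exact this.symm
  ext x
  by_cases hx : p x
  · rw [ofSubtype_apply_of_mem _ hx]
    have hx' : p (t⁻¹ x) := (ht' x).mpr hx
    simp only [Perm.mul_apply]
    rw [ofSubtype_apply_of_mem _ hx']
    have : (subtypePerm t ht)⁻¹ ⟨x, hx⟩ = ⟨t⁻¹ x, hx'⟩ := by
      rw [Perm.inv_eq_iff_eq]
      ext
      simp
    rw [this]
    simp
  · rw [ofSubtype_apply_of_not_mem _ hx]
    have hx' : ¬ p (t⁻¹ x) := fun h => hx ((ht' x).mp h)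
    simp only [Perm.mul_apply]
    rw [ofSubtype_apply_of_not_mem _ hx']
    simp

theorem swap_not_mem_of_mem_U {T : Subgroup (Perm α)} {x y : α} (hx : x ∈ U T) (hxy : x ≠ y) :
    swap x y ∉ T := by
  intro h
  have := hx (swap x y) ⟨⟨x, y, hxy, rfl⟩, h⟩
  rw [swap_apply_left] at this
  exact hxy this.symm

end basic

section sylow

variable {α : Type*} [Fintype α] [DecidableEq α]

/-- at most one point is moved by no swap of a Sylow `2`-subgroup -/
theorem subsingleton_U (T : Sylow 2 (Perm α)) : (U (T : Subgroup (Perm α))).Subsingleton := by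
  classical
  intro u hu v hv
  by_contra huv
  set p : α → Prop := fun x => x ∈ U (T : Subgroup (Perm α)) with hp
  have hpres : ∀ t ∈ (T : Subgroup (Perm α)), ∀ x, p (t x) ↔ p x :=
    fun t ht x => mem_U_iff_of_mem (le_normalizer_Tr _ ht) x
  let ψ : ↥(T : Subgroup (Perm α)) →* Perm (Subtype p) :=
    { toFun := fun t => subtypePerm t.1 (hpres t.1 t.2)
      map_one' := by ext; simp
      map_mul' := fun a b => by ext; rfl }
  have hψ2 : IsPGroup 2 ψ.range := by
    rintro ⟨_, t, rfl⟩
    obtain ⟨k, hk⟩ := T.isPGroup' t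
    refine ⟨k, ?_⟩
    apply Subtype.ext
    simp only [SubmonoidClass.coe_pow, OneMemClass.coe_one]
    rw [← map_pow, hk, map_one]
  obtain ⟨R, hR⟩ := hψ2.exists_le_sylow
  have hswapR : ∃ a b : Subtype p, a ≠ b ∧ swap a b ∈ (R : Subgroup (Perm (Subtype p))) := by
    let ρ₀ : Perm (Subtype p) := swap ⟨u, hu⟩ ⟨v, hv⟩
    have hne : (⟨u, hu⟩ : Subtype p) ≠ ⟨v, hv⟩ := fun h => huv (congrArg Subtype.val h)
    have hρ2 : IsPGroup 2 (Subgroup.zpowers ρ₀) := by
      apply IsPGroup.of_card (n := 1)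
      rw [Nat.card_zpowers, IsSwap.orderOf ⟨_, _, hne, rfl⟩, pow_one]
    obtain ⟨R₀, hR₀⟩ := hρ2.exists_le_sylow
    obtain ⟨g, hg⟩ := MulAction.exists_smul_eq (Perm (Subtype p)) R₀ R
    refine ⟨g ⟨u, hu⟩, g ⟨v, hv⟩, fun h => hne (g.injective h), ?_⟩
    rw [swap_apply_apply, ← hg]
    have : ((g • R₀ : Sylow 2 (Perm (Subtype p))) : Subgroup (Perm (Subtype p))) =
        (R₀ : Subgroup (Perm (Subtype p))).map (MulAut.conj g).toMonoidHom := rfl
    rw [this]
    exact ⟨ρ₀, hR₀ (Subgroup.mem_zpowers ρ₀), rfl⟩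
  obtain ⟨a, b, hab, habR⟩ := hswapR
  set R' : Subgroup (Perm α) := (R : Subgroup (Perm (Subtype p))).map ofSubtype with hR'
  have hR'2 : IsPGroup 2 R' := R.isPGroup'.map _
  have key : ∀ t ∈ (T : Subgroup (Perm α)), ∀ h ∈ R', t * h * t⁻¹ ∈ R' := by
    rintro t ht _ ⟨r, hr, rfl⟩
    rw [conj_ofSubtype t (hpres t ht) r]
    refine ⟨_, ?_, rfl⟩
    have hψt : subtypePerm t (hpres t ht) ∈ (R : Subgroup (Perm (Subtype p))) :=
      hR ⟨⟨t, ht⟩, rfl⟩
    exact Subgroup.mul_mem _ (Subgroup.mul_mem _ hψt hr) (Subgroup.inv_mem _ hψt)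
  have hnorm : (T : Subgroup (Perm α)) ≤ Subgroup.normalizer (R' : Set (Perm α)) := by
    intro t ht
    rw [Subgroup.mem_normalizer_iff]
    intro h
    constructor
    · exact key t ht h
    · intro hh
      have := key t⁻¹ (inv_mem ht) _ hh
      simpa [mul_assoc] using this
  have h2 := T.isPGroup'.to_sup_of_normal_right' hR'2 hnorm
  have h3 := T.is_maximal' h2 le_sup_left
  have hle : R' ≤ (T : Subgroup (Perm α)) := by
    rw [← h3]
    exact le_sup_right
  have hmem : ofSubtype (swap a b) ∈ (T : Subgroup (Perm α)) := hle ⟨_, habR, rfl⟩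
  rw [ofSubtype_swap_eq] at hmem
  exact swap_not_mem_of_mem_U a.2 (fun h => hab (Subtype.ext h)) hmem

omit [Fintype α] in
theorem swap_moves {τ : Perm α} (hτ : τ.IsSwap) {x z : α} (hx : τ x ≠ x) (hz : τ z ≠ z) :
    z = x ∨ z = τ x := by
  obtain ⟨a, b, hab, rfl⟩ := hτ
  have hxab : x = a ∨ x = b := by
    by_contra h
    push Not at h
    exact hx (swap_apply_of_ne_of_ne h.1 h.2)
  have hzab : z = a ∨ z = b := by
    by_contra h
    push Not at h
    exact hz (swap_apply_of_ne_of_ne h.1 h.2)
  rcases hxab with rfl | rfl <;> rcases hzab with rfl | rfl <;> simp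

omit [Fintype α] in
theorem isSwap_apply_apply {τ : Perm α} (hτ : τ.IsSwap) (x : α) : τ (τ x) = x := by
  obtain ⟨a, b, _, rfl⟩ := hτ
  simp

omit [Fintype α] in
theorem apply_mem_pair {T : Subgroup (Perm α)} {g τ : Perm α}
    (hg : g ∈ Subgroup.centralizer (Tr T)) (hτ : τ ∈ Tr T) {x : α} (hx : τ x ≠ x) :
    g x = x ∨ g x = τ x := by
  have hc : τ * g = g * τ := Subgroup.mem_centralizer_iff.mp hg τ hτ
  have h1 : τ (g x) = g (τ x) := by
    have := congrArg (fun f : Perm α => f x) hc
    simpa using this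
  apply swap_moves hτ.1 hx
  rw [h1]
  exact fun h => hx (g.injective h)

omit [Fintype α] in
theorem centralizer_le_normalizer (T : Subgroup (Perm α)) :
    Subgroup.centralizer (Tr T) ≤ Subgroup.normalizer (Tr T) := by
  intro g hg
  rw [Subgroup.mem_set_normalizer_iff]
  intro τ
  have key : ∀ σ ∈ Tr T, g * σ * g⁻¹ = σ := fun σ hσ => by
    have := Subgroup.mem_centralizer_iff.mp hg σ hσ
    rw [← this, mul_inv_cancel_right]
  constructor
  · intro h
    rw [key τ h]
    exact h
  · intro h
    have h2 : g⁻¹ * (g * τ * g⁻¹) * g = g * τ * g⁻¹ := by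
      have := Subgroup.mem_centralizer_iff.mp (inv_mem hg) _ h
      rw [← this, inv_mul_cancel_right]
    have h3 : g⁻¹ * (g * τ * g⁻¹) * g = τ := by group
    rw [h3] at h2
    rw [h2]
    exact h

/-- an element commuting with all swaps of a Sylow `2`-subgroup is an involution -/
theorem mul_self_of_mem_centralizer (T : Sylow 2 (Perm α)) {g : Perm α}
    (hg : g ∈ Subgroup.centralizer (Tr (T : Subgroup (Perm α)))) : g * g = 1 := by
  ext x
  simp only [Perm.mul_apply, Perm.one_apply]
  by_cases hx : x ∈ U (T : Subgroup (Perm α))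
  · have h1 : g x ∈ U (T : Subgroup (Perm α)) :=
      (mem_U_iff_of_mem (centralizer_le_normalizer _ hg) x).mpr hx
    have h2 : g x = x := subsingleton_U T h1 hx
    rw [h2, h2]
  · unfold U at hx
    simp only [Set.mem_ofPred_eq, not_forall] at hx
    obtain ⟨τ, hτ, hτx⟩ := hx
    rcases apply_mem_pair hg hτ hτx with h | h
    · rw [h, h]
    · rw [h]
      have hc : τ * g = g * τ := Subgroup.mem_centralizer_iff.mp hg τ hτ
      have h1 : τ (g x) = g (τ x) := by
        have := congrArg (fun f : Perm α => f x) hc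
        simpa using this
      rw [← h1, h, isSwap_apply_apply hτ.1]

/-- the centralizer of the swaps of a Sylow `2`-subgroup `T` lies in `T` -/
theorem centralizer_le (T : Sylow 2 (Perm α)) :
    Subgroup.centralizer (Tr (T : Subgroup (Perm α))) ≤ (T : Subgroup (Perm α)) := by
  set K := Subgroup.centralizer (Tr (T : Subgroup (Perm α))) with hK
  have hK2 : IsPGroup 2 K := by
    rintro ⟨g, hg⟩
    refine ⟨1, ?_⟩
    apply Subtype.ext
    simp only [pow_one, OneMemClass.coe_one, pow_two]
    exact mul_self_of_mem_centralizer T hg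
  have key : ∀ t ∈ Subgroup.normalizer (Tr (T : Subgroup (Perm α))), ∀ k ∈ K,
      t * k * t⁻¹ ∈ K := by
    intro t ht k hk
    rw [hK, Subgroup.mem_centralizer_iff]
    intro τ hτ
    have h1 : t⁻¹ * τ * t ∈ Tr (T : Subgroup (Perm α)) :=
      (Subgroup.mem_set_normalizer_iff''.mp ht τ).mp hτ
    have h2 := Subgroup.mem_centralizer_iff.mp hk _ h1
    have e1 : τ * (t * k * t⁻¹) = t * ((t⁻¹ * τ * t) * k) * t⁻¹ := by group
    have e2 : t * k * t⁻¹ * τ = t * (k * (t⁻¹ * τ * t)) * t⁻¹ := by group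
    rw [e1, e2, h2]
  have hnorm : (T : Subgroup (Perm α)) ≤ Subgroup.normalizer (K : Set (Perm α)) := by
    intro t ht
    have htM := le_normalizer_Tr _ ht
    rw [Subgroup.mem_normalizer_iff]
    intro h
    constructor
    · exact key t htM h
    · intro hh
      have := key t⁻¹ (inv_mem htM) _ hh
      simpa [mul_assoc] using this
  have h2 := T.isPGroup'.to_sup_of_normal_right' hK2 hnorm
  have h3 := T.is_maximal' h2 le_sup_left
  rw [← h3]
  exact le_sup_right

end sylow

section phi

variable {α : Type*} [Fintype α] [DecidableEq α]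

/-- the conjugation action on the set of swaps of `T` -/
def phi (T : Subgroup (Perm α)) : ↥(Subgroup.normalizer (Tr T)) →* Perm ↥(Tr T) where
  toFun g :=
    { toFun := fun τ => ⟨g.1 * τ.1 * g.1⁻¹, (Subgroup.mem_set_normalizer_iff.mp g.2 τ.1).mp τ.2⟩
      invFun := fun τ =>
        ⟨g.1⁻¹ * τ.1 * g.1, (Subgroup.mem_set_normalizer_iff''.mp g.2 τ.1).mp τ.2⟩
      left_inv := fun τ => Subtype.ext (by simp [mul_assoc])
      right_inv := fun τ => Subtype.ext (by simp [mul_assoc]) }
  map_one' := by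
    ext τ
    simp
  map_mul' := fun a b => by
    ext τ
    simp [mul_assoc]

omit [Fintype α] in
theorem phi_apply_coe (T : Subgroup (Perm α)) (g : ↥(Subgroup.normalizer (Tr T)))
    (τ : ↥(Tr T)) : ((phi T g) τ : Perm α) = g.1 * τ.1 * g.1⁻¹ := rfl

omit [Fintype α] in
theorem phi_eq_one_iff (T : Subgroup (Perm α)) (g : ↥(Subgroup.normalizer (Tr T))) :
    phi T g = 1 ↔ g.1 ∈ Subgroup.centralizer (Tr T) := by
  constructor
  · intro h
    rw [Subgroup.mem_centralizer_iff]
    intro τ hτ
    have h1 := congrArg (fun f : Perm ↥(Tr T) => ((f ⟨τ, hτ⟩ : ↥(Tr T)) : Perm α)) h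
    simp only [phi_apply_coe, Perm.one_apply] at h1
    calc τ * g.1 = (g.1 * τ * g.1⁻¹) * g.1 := by rw [h1]
      _ = g.1 * τ := by group
  · intro h
    ext τ
    rw [phi_apply_coe]
    have := Subgroup.mem_centralizer_iff.mp h τ.1 τ.2
    simp only [Perm.one_apply]
    rw [← this, mul_inv_cancel_right]

/-- the action of `T` on its swaps -/
def phiT (T : Subgroup (Perm α)) : ↥T →* Perm ↥(Tr T) :=
  (phi T).comp (Subgroup.inclusion (le_normalizer_Tr T))

theorem phiT_eq_one_iff (T : Subgroup (Perm α)) (t : ↥T) :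
    phiT T t = 1 ↔ t.1 ∈ Subgroup.centralizer (Tr T) :=
  phi_eq_one_iff T _

theorem card_ker_le (T : Sylow 2 (Perm α)) :
    Nat.card (phiT (T : Subgroup (Perm α))).ker ≤
      2 ^ Nat.card ↥(Tr (T : Subgroup (Perm α))) := by
  classical
  have hex : ∀ τ : ↥(Tr (T : Subgroup (Perm α))), ∃ x, τ.1 x ≠ x := fun τ => by
    obtain ⟨a, b, hab, h⟩ := τ.2.1
    exact ⟨a, by rw [h, swap_apply_left]; exact hab.symm⟩
  choose a ha using hex
  let F : ↥(phiT (T : Subgroup (Perm α))).ker → (↥(Tr (T : Subgroup (Perm α))) → Bool) :=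
    fun k τ => decide (k.1.1 (a τ) = a τ)
  have hcen : ∀ k : ↥(phiT (T : Subgroup (Perm α))).ker,
      k.1.1 ∈ Subgroup.centralizer (Tr (T : Subgroup (Perm α))) := fun k =>
    (phiT_eq_one_iff _ k.1).mp k.2
  have hF : Function.Injective F := by
    intro k k' hkk'
    have hk := hcen k
    have hk' := hcen k'
    apply Subtype.ext
    apply Subtype.ext
    ext x
    by_cases hx : x ∈ U (T : Subgroup (Perm α))
    · have h1 : k.1.1 x = x := subsingleton_U T
        ((mem_U_iff_of_mem (centralizer_le_normalizer _ hk) x).mpr hx) hx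
      have h2 : k'.1.1 x = x := subsingleton_U T
        ((mem_U_iff_of_mem (centralizer_le_normalizer _ hk') x).mpr hx) hx
      rw [h1, h2]
    · unfold U at hx
      simp only [Set.mem_ofPred_eq, not_forall] at hx
      obtain ⟨τ, hτ, hτx⟩ := hx
      have hy := ha ⟨τ, hτ⟩
      have hFτ : decide (k.1.1 (a ⟨τ, hτ⟩) = a ⟨τ, hτ⟩) = decide (k'.1.1 (a ⟨τ, hτ⟩) = a ⟨τ, hτ⟩) :=
        congrFun hkk' ⟨τ, hτ⟩
      set y := a ⟨τ, hτ⟩ with hy_def
      have hyy : k.1.1 y = k'.1.1 y := by
        rcases apply_mem_pair hk hτ hy with h1 | h1 <;>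
          rcases apply_mem_pair hk' hτ hy with h2 | h2
        · rw [h1, h2]
        · exfalso
          rw [decide_eq_decide] at hFτ
          have := hFτ.mp h1
          rw [h2] at this
          exact hy this
        · exfalso
          rw [decide_eq_decide] at hFτ
          have := hFτ.mpr h2
          rw [h1] at this
          exact hy this
        · rw [h1, h2]
      rcases swap_moves hτ.1 hy hτx with rfl | rfl
      · exact hyy
      · have hc : τ * k.1.1 = k.1.1 * τ := Subgroup.mem_centralizer_iff.mp hk τ hτ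
        have hc' : τ * k'.1.1 = k'.1.1 * τ := Subgroup.mem_centralizer_iff.mp hk' τ hτ
        have e1 : k.1.1 (τ y) = τ (k.1.1 y) := by
          have := congrArg (fun f : Perm α => f y) hc
          simpa using this.symm
        have e2 : k'.1.1 (τ y) = τ (k'.1.1 y) := by
          have := congrArg (fun f : Perm α => f y) hc'
          simpa using this.symm
        rw [e1, e2, hyy]
  have h1 := Nat.card_le_card_of_injective F hF
  rw [Nat.card_fun] at h1
  simpa using h1

theorem card_bounds (T : Sylow 2 (Perm α)) :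
    2 * Nat.card ↥(Tr (T : Subgroup (Perm α))) ≤ Fintype.card α ∧
      Fintype.card α ≤ 2 * Nat.card ↥(Tr (T : Subgroup (Perm α))) + 1 := by
  classical
  haveI : Fintype ↥(Tr (T : Subgroup (Perm α))) := Fintype.ofFinite _
  set S : Finset α :=
    Finset.univ.biUnion (fun τ : ↥(Tr (T : Subgroup (Perm α))) => τ.1.support) with hS
  have hdisj : ∀ τ ∈ (Finset.univ : Finset ↥(Tr (T : Subgroup (Perm α)))),
      ∀ τ' ∈ (Finset.univ : Finset ↥(Tr (T : Subgroup (Perm α)))), τ ≠ τ' →
      Disjoint τ.1.support τ'.1.support := by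
    intro τ _ τ' _ hne
    rw [Finset.disjoint_left]
    intro x hx hx'
    rw [Perm.mem_support] at hx hx'
    exact hne (Subtype.ext (eq_of_moves T.isPGroup' τ.2 τ'.2 x hx hx'))
  have hcardS : S.card = 2 * Nat.card ↥(Tr (T : Subgroup (Perm α))) := by
    rw [hS, Finset.card_biUnion hdisj]
    have : ∀ τ ∈ (Finset.univ : Finset ↥(Tr (T : Subgroup (Perm α)))),
        τ.1.support.card = 2 := fun τ _ => card_support_eq_two.mpr τ.2.1
    rw [Finset.sum_congr rfl this, Finset.sum_const, Finset.card_univ, smul_eq_mul,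
      Nat.card_eq_fintype_card, mul_comm]
  have hSeq : S = Finset.univ.filter (fun x => x ∉ U (T : Subgroup (Perm α))) := by
    ext x
    simp only [hS, Finset.mem_biUnion, Finset.mem_univ, true_and, Finset.mem_filter,
      Perm.mem_support]
    unfold U
    simp only [Set.mem_ofPred_eq, not_forall]
    constructor
    · rintro ⟨τ, hτ⟩
      exact ⟨τ.1, τ.2, hτ⟩
    · rintro ⟨τ, hτ, hx⟩
      exact ⟨⟨τ, hτ⟩, hx⟩
  have hU : (Finset.univ.filter (fun x => x ∈ U (T : Subgroup (Perm α)))).card ≤ 1 := by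
    rw [Finset.card_le_one]
    intro a ha b hb
    simp only [Finset.mem_filter, Finset.mem_univ, true_and] at ha hb
    exact subsingleton_U T ha hb
  have hsum := Finset.card_filter_add_card_filter_not
    (s := (Finset.univ : Finset α)) (fun x => x ∈ U (T : Subgroup (Perm α)))
  rw [← hSeq, hcardS, Finset.card_univ] at hsum
  constructor <;> omega

theorem isPGroup_range_phiT (T : Sylow 2 (Perm α)) :
    IsPGroup 2 (phiT (T : Subgroup (Perm α))).range := by
  rw [MonoidHom.range_eq_map]
  exact (T.isPGroup'.to_subgroup ⊤).map _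

/-- the image of `T` acting on its swaps is a Sylow `2`-subgroup -/
theorem card_range_phiT (T : Sylow 2 (Perm α)) :
    Nat.card (phiT (T : Subgroup (Perm α))).range =
      2 ^ (Nat.card (Perm ↥(Tr (T : Subgroup (Perm α))))).factorization 2 := by
  classical
  haveI : Fact (Nat.Prime 2) := ⟨Nat.prime_two⟩
  set m := Nat.card ↥(Tr (T : Subgroup (Perm α))) with hm
  set n := Fintype.card α with hn
  obtain ⟨hb1, hb2⟩ := card_bounds T
  have hnm : n / 2 = m := by omega
  have hT : Nat.card (T : Subgroup (Perm α)) = 2 ^ padicValNat 2 (n.factorial) := by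
    have := T.card_eq_multiplicity
    rw [Nat.card_perm, Nat.factorization_def _ Nat.prime_two,
      Nat.card_eq_fintype_card (α := α)] at this
    exact this
  have hval : padicValNat 2 (n.factorial) = padicValNat 2 (m.factorial) + m := by
    rw [← padicValNat_mul_div_factorial n, hnm, padicValNat_factorial_mul]
  have hprod : Nat.card (phiT (T : Subgroup (Perm α))).ker *
      Nat.card (phiT (T : Subgroup (Perm α))).range = Nat.card (T : Subgroup (Perm α)) := by
    rw [← Subgroup.index_ker]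
    exact Subgroup.card_mul_index _
  obtain ⟨i, hi⟩ := IsPGroup.iff_card.mp
    (T.isPGroup'.to_subgroup (phiT (T : Subgroup (Perm α))).ker)
  obtain ⟨j, hj⟩ := IsPGroup.iff_card.mp (isPGroup_range_phiT T)
  have hcardP : Nat.card (Perm ↥(Tr (T : Subgroup (Perm α)))) = m.factorial := by
    rw [Nat.card_perm]
  have hj_le : j ≤ padicValNat 2 (m.factorial) := by
    have hdvd : 2 ^ j ∣ m.factorial := by
      rw [← hj, ← hcardP]
      exact Subgroup.card_subgroup_dvd_card _
    exact (padicValNat_dvd_iff_le (Nat.factorial_ne_zero m)).mp hdvd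
  have hi_le : i ≤ m := by
    have := card_ker_le T
    rw [hi] at this
    exact (Nat.pow_le_pow_iff_right (by norm_num)).mp this
  have hij : padicValNat 2 (n.factorial) = i + j := by
    rw [hi, hj, hT, ← pow_add] at hprod
    exact (Nat.pow_right_injective (le_refl 2) hprod).symm
  have hjeq : j = padicValNat 2 (m.factorial) := by omega
  rw [hj, hcardP, Nat.factorization_def _ Nat.prime_two, hjeq]

end phi

section main

universe u

/-- key step: an element of the normalizer of `Tr T` whose action on the swaps lies in the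
image of `T` belongs to `T` -/
theorem mem_of_phi_mem_range {α : Type u} [Fintype α] [DecidableEq α] (T : Sylow 2 (Perm α))
    (x : ↥(Subgroup.normalizer (Tr (T : Subgroup (Perm α)))))
    (hx : phi (T : Subgroup (Perm α)) x ∈ (phiT (T : Subgroup (Perm α))).range) :
    x.1 ∈ (T : Subgroup (Perm α)) := by
  obtain ⟨t, ht⟩ := hx
  have h1 : phi (T : Subgroup (Perm α))
      (x * (Subgroup.inclusion (le_normalizer_Tr (T : Subgroup (Perm α))) t)⁻¹) = 1 := by
    rw [map_mul, map_inv]
    have : phi (T : Subgroup (Perm α))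
        (Subgroup.inclusion (le_normalizer_Tr (T : Subgroup (Perm α))) t) =
        phi (T : Subgroup (Perm α)) x := ht
    rw [this, mul_inv_cancel]
  have h2 := (phi_eq_one_iff _ _).mp h1
  have h3 := centralizer_le T h2
  have h4 : x.1 * t.1⁻¹ ∈ (T : Subgroup (Perm α)) := h3
  have := Subgroup.mul_mem _ h4 t.2
  simpa using this

theorem normalizer_le_aux : ∀ n : ℕ, ∀ (α : Type u) [Fintype α] [DecidableEq α],
    Fintype.card α = n → ∀ T : Sylow 2 (Perm α),
    Subgroup.normalizer ((T : Subgroup (Perm α)) : Set (Perm α)) ≤ (T : Subgroup (Perm α)) := by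
  intro n
  induction n using Nat.strong_induction_on with
  | _ n ih =>
    intro α _ _ hcard T x hx
    classical
    rcases Nat.eq_zero_or_pos n with hn0 | hnpos
    · rw [hn0, Fintype.card_eq_zero_iff] at hcard
      have : x = 1 := Subsingleton.elim _ _
      rw [this]
      exact Subgroup.one_mem _
    · obtain ⟨hb1, hb2⟩ := card_bounds T
      haveI : Fintype ↥(Tr (T : Subgroup (Perm α))) := Fintype.ofFinite _
      have hlt : Fintype.card ↥(Tr (T : Subgroup (Perm α))) < n := by
        rw [← Nat.card_eq_fintype_card]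
        omega
      set Tbar : Sylow 2 (Perm ↥(Tr (T : Subgroup (Perm α)))) :=
        Sylow.ofCard (phiT (T : Subgroup (Perm α))).range (card_range_phiT T) with hTbar
      have hIH := ih _ hlt ↥(Tr (T : Subgroup (Perm α))) rfl Tbar
      have hxM : x ∈ Subgroup.normalizer (Tr (T : Subgroup (Perm α))) := normalizer_le _ hx
      apply mem_of_phi_mem_range T ⟨x, hxM⟩
      have hcoe : (Tbar : Subgroup (Perm ↥(Tr (T : Subgroup (Perm α))))) =
          (phiT (T : Subgroup (Perm α))).range := Sylow.coe_ofCard _ _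
      rw [← hcoe]
      apply hIH
      -- the image of `x` normalizes the image of `T`
      have key : ∀ y ∈ Subgroup.normalizer ((T : Subgroup (Perm α)) : Set (Perm α)),
          ∀ hy : y ∈ Subgroup.normalizer (Tr (T : Subgroup (Perm α))),
          ∀ z ∈ (phiT (T : Subgroup (Perm α))).range,
          phi (T : Subgroup (Perm α)) ⟨y, hy⟩ * z * (phi (T : Subgroup (Perm α)) ⟨y, hy⟩)⁻¹ ∈
            (phiT (T : Subgroup (Perm α))).range := by
        rintro y hyN hy _ ⟨t, rfl⟩
        have hmem : y * t.1 * y⁻¹ ∈ (T : Subgroup (Perm α)) :=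
          (Subgroup.mem_normalizer_iff.mp hyN t.1).mp t.2
        refine ⟨⟨y * t.1 * y⁻¹, hmem⟩, ?_⟩
        unfold phiT
        simp only [MonoidHom.comp_apply]
        rw [← map_inv, ← map_mul, ← map_mul]
        rfl
      rw [hcoe, Subgroup.mem_normalizer_iff]
      intro z
      constructor
      · exact key x hx hxM z
      · intro hz
        have hxinv : x⁻¹ ∈ Subgroup.normalizer (Tr (T : Subgroup (Perm α))) := inv_mem hxM
        have := key x⁻¹ (inv_mem hx) hxinv _ hz
        have e : (⟨x⁻¹, hxinv⟩ : ↥(Subgroup.normalizer (Tr (T : Subgroup (Perm α))))) =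
            (⟨x, hxM⟩ : ↥(Subgroup.normalizer (Tr (T : Subgroup (Perm α)))))⁻¹ := rfl
        rw [e, map_inv] at this
        simpa [mul_assoc] using this

/-- **Sylow `2`-subgroups of a finite symmetric group are self-normalizing.** -/
theorem normalizer_sylow_two_perm {α : Type u} [Fintype α] [DecidableEq α]
    (T : Sylow 2 (Perm α)) :
    Subgroup.normalizer ((T : Subgroup (Perm α)) : Set (Perm α)) = (T : Subgroup (Perm α)) :=
  le_antisymm (normalizer_le_aux _ α rfl T) Subgroup.le_normalizer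

end main

end Cfsg.Agent.Helper21.SylowSym
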