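import Mathlib
import Cfsg.Prelude
import Cfsg.Agent.Lib.Helper23.SuStFinal
import Cfsg.Agent.Lib.Helper24.CoprimeDegree

/-!
# S2547 piece FINALO (helper21): transfer of a Steinberg-like character to the
central quotient of the commutator subgroup of a central extension by an element
-/

set_option autoImplicit false
set_option linter.style.haveILetI false

namespace Cfsg.Agent.Helper21.SoFinal

open Cfsg Cfsg.Agent.Helper24
open scoped commutatorElement

/-- commutators do not see central factors -/
theorem commElem_central_mul {O : Type*} [Group O] {c d : O} (hc : c ∈ Subgroup.center O)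
    (hd : d ∈ Subgroup.center O) (a b : O) : ⁅c * a, d * b⁆ = ⁅a, b⁆ := by
  rw [Subgroup.mem_center_iff] at hc hd
  simp only [commutatorElement_def, mul_inv_rev]
  have e1 : c * a * (d * b) * (a⁻¹ * c⁻¹) * (b⁻¹ * d⁻¹)
      = a * (d * b) * a⁻¹ * (c * c⁻¹) * (b⁻¹ * d⁻¹) := by
    have h1 : c * a * (d * b) * (a⁻¹ * c⁻¹) = a * (d * b) * a⁻¹ * (c * c⁻¹) := by
      have := hc (a * (d * b) * a⁻¹)
      calc c * a * (d * b) * (a⁻¹ * c⁻¹) = c * (a * (d * b) * a⁻¹) * c⁻¹ := by group
        _ = (a * (d * b) * a⁻¹) * c * c⁻¹ := by rw [← this]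
        _ = a * (d * b) * a⁻¹ * (c * c⁻¹) := by group
    rw [h1]
  rw [e1, mul_inv_cancel, mul_one]
  have h2 : a * (d * b) = d * (a * b) := by
    rw [← mul_assoc, hd a, mul_assoc]
  rw [h2]
  calc d * (a * b) * a⁻¹ * (b⁻¹ * d⁻¹) = d * ((a * b) * a⁻¹ * b⁻¹) * d⁻¹ := by group
    _ = ((a * b) * a⁻¹ * b⁻¹) * d * d⁻¹ := by rw [← hd]
    _ = a * b * a⁻¹ * b⁻¹ := by group

theorem commutator_eq_map {G : Type*} {O : Type*} [Group G] [Group O]
    (j : G →* O) (z : O) (hz : z ∈ Subgroup.center O)
    (hzj : ∀ x : O, x ∈ j.range ∨ z * x ∈ j.range) :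
    (commutator G).map j = commutator O := by
  apply le_antisymm
  · rw [commutator_def, commutator_def, Subgroup.map_commutator]
    exact Subgroup.commutator_mono le_top le_top
  · rw [commutator_def O, Subgroup.commutator_le]
    intro x _ y _
    have key : ∀ x : O, ∃ c ∈ Subgroup.center O, ∃ g : G, x = c * j g := by
      intro x
      rcases hzj x with ⟨g, hg⟩ | ⟨g, hg⟩
      · exact ⟨1, one_mem _, g, by rw [hg, one_mul]⟩
      · refine ⟨z⁻¹, inv_mem hz, g, ?_⟩
        rw [hg, inv_mul_cancel_left]
    obtain ⟨c, hc, g, rfl⟩ := key x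
    obtain ⟨d, hd, h, rfl⟩ := key y
    rw [commElem_central_mul hc hd, ← map_commutatorElement]
    apply Subgroup.mem_map_of_mem
    rw [commutator_def]
    exact Subgroup.commutator_mem_commutator (Subgroup.mem_top g) (Subgroup.mem_top h)

/-- a `p`-subgroup lies in every normal subgroup of index prime to `p` -/
theorem le_of_normal_of_not_dvd_index {G : Type*} [Group G] [Finite G] {p : ℕ} [Fact p.Prime]
    (U : Subgroup G) (hU : IsPGroup p U) (N : Subgroup G) [N.Normal] (hN : ¬ p ∣ N.index) :
    U ≤ N := by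
  have hp : p.Prime := Fact.out
  intro u hu
  obtain ⟨k, hk⟩ := (IsPGroup.iff_orderOf.1 hU) ⟨u, hu⟩
  rw [← Subgroup.orderOf_coe] at hk
  have hk' : orderOf u = p ^ k := hk
  rw [← QuotientGroup.eq_one_iff (N := N), ← orderOf_eq_one_iff]
  have h1 : orderOf (u : G ⧸ N) ∣ p ^ k := by
    rw [← hk']
    exact orderOf_dvd_of_pow_eq_one (by rw [← QuotientGroup.mk_pow, pow_orderOf_eq_one]; rfl)
  have h2 : orderOf (u : G ⧸ N) ∣ N.index := by
    rw [Subgroup.index_eq_card]
    exact orderOf_dvd_natCard _
  have hcop : (p ^ k).Coprime N.index := Nat.Coprime.pow_left _ ((Nat.Prime.coprime_iff_not_dvd hp).2 hN)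
  exact Nat.eq_one_of_dvd_coprimes hcop h1 h2

end Cfsg.Agent.Helper21.SoFinal

namespace Cfsg.Agent.Helper13.SoP

open Cfsg Cfsg.Agent.Helper24 Cfsg.Agent.Helper21.SoFinal

/-! PIECE FINALO (abstract) -/
theorem steinberg_commutator {G : Type*} {O : Type*} [Group G] [Group O] [Finite G] [Finite O]
    (j : G →* O) (hj : Function.Injective j) (z : O) (hz : z ∈ Subgroup.center O)
    (hzj : ∀ x : O, x ∈ j.range ∨ z * x ∈ j.range)
    (p : ℕ) [Fact p.Prime] (hidx : ¬ p ∣ (commutator O).index)
    (U : Sylow p G) (χ : G → ℂ) (hχ : Cfsg.IsIrrCharacter G χ) (h1 : χ 1 = (Nat.card U : ℂ))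
    (hcen : (U : Subgroup G) ≤ commutator G → ∀ z' ∈ commutator G,
      (∀ y ∈ commutator G, z' * y = y * z') → χ z' = χ 1) :
    ∃ ψ : (commutator O) ⧸ Subgroup.center (commutator O) → ℂ,
      Cfsg.IsIrrCharacter ((commutator O) ⧸ Subgroup.center (commutator O)) ψ ∧
      ∀ P : Sylow p ((commutator O) ⧸ Subgroup.center (commutator O)), ψ 1 = Nat.card P ∧
        ∀ x : (commutator O) ⧸ Subgroup.center (commutator O), x ∈ P → x ≠ 1 → ψ x = 0 := by
  classical
  have hp : p.Prime := Fact.out
  have hmap : (commutator G).map j = commutator O := commutator_eq_map j z hz hzj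
  -- the isomorphism of commutator subgroups
  let e : commutator G ≃* commutator O :=
    ((commutator G).equivMapOfInjective j hj).trans (MulEquiv.subgroupCongr hmap)
  -- the index of `commutator G` is prime to `p`
  have hdvd : (commutator G).index ∣ (commutator O).index := by
    rw [← hmap, Subgroup.index_map_of_injective (commutator G) hj]
    exact dvd_mul_right _ _
  have hidxG : ¬ p ∣ (commutator G).index := fun h => hidx (dvd_trans h hdvd)
  -- `U ≤ commutator G`
  have hU : (U : Subgroup G) ≤ commutator G :=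
    le_of_normal_of_not_dvd_index (U : Subgroup G) U.2 (commutator G) hidxG
  -- the restriction of `χ` is irreducible
  have hdeg : Cfsg.charDegree χ = Nat.card U := charDegree_natCast _ h1
  have hcop : (Cfsg.charDegree χ).Coprime (commutator G).index := by
    rw [hdeg, U.card_eq_multiplicity]
    exact Nat.Coprime.pow_left _ ((Nat.Prime.coprime_iff_not_dvd hp).2 hidxG)
  have hres : Cfsg.IsIrrCharacter (commutator G) (fun n : commutator G => χ n) :=
    CopDeg.restrict_irr_of_coprime (commutator G) hχ hcop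
  -- the Sylow subgroup of `commutator G`
  let U' : Sylow p (commutator G) := U.subtype hU
  have hU'card : Nat.card U' = Nat.card U := by
    have h2 : ((U' : Subgroup (commutator G))) = (U : Subgroup G).subgroupOf (commutator G) :=
      Sylow.coe_subtype U hU
    show Nat.card ((U' : Subgroup (commutator G))) = Nat.card U
    rw [h2]
    exact Nat.card_congr (Subgroup.subgroupOfEquivOfLe hU).toEquiv
  have h1' : (fun n : commutator G => χ n) 1 = (Nat.card U' : ℂ) := by
    rw [hU'card]
    exact h1
  have hz' : ∀ z' ∈ Subgroup.center (commutator G),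
      (fun n : commutator G => χ n) z' = (fun n : commutator G => χ n) 1 := by
    intro z' hz'
    show χ (z' : G) = χ ((1 : commutator G) : G)
    rw [Subgroup.coe_one]
    apply hcen hU (z' : G) z'.2
    intro y hy
    rw [Subgroup.mem_center_iff] at hz'
    have := hz' ⟨y, hy⟩
    have h3 := congrArg Subtype.val this
    simp only [Subgroup.coe_mul] at h3
    exact h3.symm
  exact Cfsg.Agent.Helper13.SuP.steinberg_transfer e p U' (fun n : commutator G => χ n) hres h1' hz'

end Cfsg.Agent.Helper13.SoP
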