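import Mathlib
import Cfsg.Prelude
import Cfsg.Agent.Lib.Helper21.SoFinal

/-!
# S2548 piece FINALD (helper21): transfer of a Steinberg-like character to the central quotient of
the commutator subgroup of an overgroup `O`, when `commutator O ≤ j.range`
-/

set_option autoImplicit false
set_option linter.style.haveILetI false

namespace Cfsg.Agent.Helper13.SdP

open Cfsg Cfsg.Agent.Helper24 Cfsg.Agent.Helper21.SoFinal

/-! PIECE FINALD -/
theorem steinberg_of_normal {G : Type*} {O : Type*} [Group G] [Group O] [Finite G]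
    (j : G →* O) (hj : Function.Injective j) (hΩ : commutator O ≤ j.range)
    (p : ℕ) [Fact p.Prime] (hidx : ¬ p ∣ ((commutator O).comap j).index)
    (U : Sylow p G) (χ : G → ℂ) (hχ : Cfsg.IsIrrCharacter G χ) (h1 : χ 1 = (Nat.card U : ℂ))
    (hcen : (U : Subgroup G) ≤ (commutator O).comap j → ∀ z ∈ (commutator O).comap j,
      (∀ y ∈ (commutator O).comap j, z * y = y * z) → χ z = χ 1) :
    ∃ ψ : (commutator O) ⧸ Subgroup.center (commutator O) → ℂ,
      Cfsg.IsIrrCharacter ((commutator O) ⧸ Subgroup.center (commutator O)) ψ ∧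
      ∀ P : Sylow p ((commutator O) ⧸ Subgroup.center (commutator O)), ψ 1 = Nat.card P ∧
        ∀ x : (commutator O) ⧸ Subgroup.center (commutator O), x ∈ P → x ≠ 1 → ψ x = 0 := by
  classical
  have hp : p.Prime := Fact.out
  set N : Subgroup G := (commutator O).comap j with hN
  haveI : N.Normal := by rw [hN]; infer_instance
  have hmap : N.map j = commutator O := by
    rw [hN, Subgroup.map_comap_eq, inf_eq_right]
    exact hΩ
  let e : N ≃* commutator O :=
    (N.equivMapOfInjective j hj).trans (MulEquiv.subgroupCongr hmap)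
  have hU : (U : Subgroup G) ≤ N :=
    le_of_normal_of_not_dvd_index (U : Subgroup G) U.2 N hidx
  have hdeg : Cfsg.charDegree χ = Nat.card U := charDegree_natCast _ h1
  have hcop : (Cfsg.charDegree χ).Coprime N.index := by
    rw [hdeg, U.card_eq_multiplicity]
    exact Nat.Coprime.pow_left _ ((Nat.Prime.coprime_iff_not_dvd hp).2 hidx)
  have hres : Cfsg.IsIrrCharacter N (fun n : N => χ n) :=
    CopDeg.restrict_irr_of_coprime N hχ hcop
  let U' : Sylow p N := U.subtype hU
  have hU'card : Nat.card U' = Nat.card U := by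
    have h2 : ((U' : Subgroup N)) = (U : Subgroup G).subgroupOf N := Sylow.coe_subtype U hU
    show Nat.card ((U' : Subgroup N)) = Nat.card U
    rw [h2]
    exact Nat.card_congr (Subgroup.subgroupOfEquivOfLe hU).toEquiv
  have h1' : (fun n : N => χ n) 1 = (Nat.card U' : ℂ) := by
    rw [hU'card]
    exact h1
  have hz' : ∀ z' ∈ Subgroup.center N, (fun n : N => χ n) z' = (fun n : N => χ n) 1 := by
    intro z' hz'
    show χ (z' : G) = χ ((1 : N) : G)
    rw [Subgroup.coe_one]
    apply hcen hU (z' : G) z'.2
    intro y hy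
    rw [Subgroup.mem_center_iff] at hz'
    have := hz' ⟨y, hy⟩
    have h3 := congrArg Subtype.val this
    simp only [Subgroup.coe_mul] at h3
    exact h3.symm
  exact Cfsg.Agent.Helper13.SuP.steinberg_transfer e p U' (fun n : N => χ n) hres h1' hz'

end Cfsg.Agent.Helper13.SdP
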