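import Mathlib
import Cfsg.Prelude.Def_Classical
import Cfsg.Agent.Lib.Helper15.S74Defs

/-!
# S2474, part T3 (helper21): existence in `PΩ_{2n+1}(q)` - shared definition

`OModel F d M`: there is a quadratic form on `F^d` with nondegenerate polar form, together with an
isometry of order exactly `M > 0`.  See `plans/S2474_T3_plan.md`.
-/

set_option autoImplicit false

namespace Cfsg.Agent.Helper15.S74

open QuadraticMap

universe u

/-- a quadratic form on `F^d` with nondegenerate polar form and an isometry of order exactly `M` -/
def OModel (F : Type u) [Field F] (d M : ℕ) : Prop :=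
  ∃ (Q : QuadraticForm F (Fin d → F)) (A : Module.End F (Fin d → F)),
    (polarBilin Q).Nondegenerate ∧ (∀ v, Q (A v) = Q v) ∧ 0 < M ∧ orderOf A = M

end Cfsg.Agent.Helper15.S74
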