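import Mathlib
import Cfsg.Prelude.Def_OddOrderLocal

/-!
# Piece (I-n) of the world-I proof of BG 14.2 (S1430): the normaliser clause

`N_M(X) = N_M(K) = K ⊔ (M_σ ∩ C(K))` for every subgroup `X ≤ K` of prime order, from
* `E` a complement of `M_σ` in `M` containing the Hall `κ(M)`-subgroup `K`,
* `κ(M) ⊆ τ₁(M)` (so no prime divisor of `|K|` divides `|M'|`),
* `K` cyclic,
* `C_{M_σ}(k) = C_{M_σ}(K)` for `1 ≠ k ∈ K`,
* `C_E(X) ≤ K` for `X ≤ K` of prime order.
-/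

set_option autoImplicit false

namespace Cfsg.Agent.Helper21.BG14In

open Subgroup

variable {G : Type*} [Group G]

theorem sigmaCore_le' (M : Subgroup G) : sigmaCore M ≤ M := Subgroup.map_subtype_le _

theorem conj_mem_sigmaCore {M : Subgroup G} {m s : G} (hm : m ∈ M) (hs : s ∈ sigmaCore M) :
    m * s * m⁻¹ ∈ sigmaCore M := by
  obtain ⟨s', hs', rfl⟩ := hs
  refine ⟨⟨m, hm⟩ * s' * (⟨m, hm⟩ : M)⁻¹, ?_, by simp⟩
  exact (piCore_normal (sigma M) M).conj_mem s' hs' ⟨m, hm⟩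

/-- an element of `M_σ` conjugating `y ∈ E` into `E` centralises `y` -/
theorem comm_of_conj_mem {M E : Subgroup G} (hE : IsComplIn E (sigmaCore M) M) {s y : G}
    (hs : s ∈ sigmaCore M) (hy : y ∈ E) (hc : s * y * s⁻¹ ∈ E) : s * y = y * s := by
  have hyM : y ∈ M := hE.1 hy
  have h1 : s * y * s⁻¹ * y⁻¹ ∈ sigmaCore M := by
    have h2 : y * s⁻¹ * y⁻¹ ∈ sigmaCore M := conj_mem_sigmaCore hyM (inv_mem hs)
    have h3 : s * y * s⁻¹ * y⁻¹ = s * (y * s⁻¹ * y⁻¹) := by group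
    rw [h3]
    exact mul_mem hs h2
  have h4 : s * y * s⁻¹ * y⁻¹ ∈ E := mul_mem hc (inv_mem hy)
  have h5 : s * y * s⁻¹ * y⁻¹ ∈ E ⊓ sigmaCore M := ⟨h4, h1⟩
  rw [hE.2.2.1, mem_bot] at h5
  have h6 : s * y * s⁻¹ = y := by
    have := congrArg (· * y) h5
    simpa using this
  calc s * y = s * y * s⁻¹ * s := by group
    _ = y * s := by rw [h6]

/-- `N_M(Y) = N_E(Y) C_{M_σ}(Y)` for `Y ≤ E` -/
theorem exists_mul_of_mem_normalizer {M E : Subgroup G} (hE : IsComplIn E (sigmaCore M) M)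
    {Y : Subgroup G} (hYE : Y ≤ E) {m : G} (hm : m ∈ M) (hmY : m ∈ normalizer (Y : Set G)) :
    ∃ a ∈ E, ∃ b ∈ sigmaCore M, m = a * b ∧ a ∈ normalizer (Y : Set G) ∧
      b ∈ centralizer (Y : Set G) := by
  obtain ⟨a, ha, b, hb, hab⟩ := hE.2.2.2 m hm
  have hbC : b ∈ centralizer (Y : Set G) := by
    rw [mem_centralizer_iff]
    intro y hy
    have h1 : m * y * m⁻¹ ∈ Y := (mem_normalizer_iff.1 hmY y).1 hy
    have h2 : b * y * b⁻¹ = a⁻¹ * (m * y * m⁻¹) * a := by rw [hab]; group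
    have h3 : b * y * b⁻¹ ∈ E := by
      rw [h2]
      exact mul_mem (mul_mem (inv_mem ha) (hYE h1)) ha
    exact (comm_of_conj_mem hE hb (hYE hy) h3).symm
  refine ⟨a, ha, b, hb, hab, ?_, hbC⟩
  have h4 : a = m * b⁻¹ := by rw [hab]; group
  rw [h4]
  exact mul_mem hmY (inv_mem (centralizer_le_normalizer _ hbC))

/-- `K ∩ M' = 1` when `κ(M) ⊆ τ₁(M)` -/
theorem eq_one_of_mem_commutator [Finite G] {M K : Subgroup G}
    (hK : IsPiHallOf (kappa M) K M) (hκτ : ∀ p, p ∈ kappa M ↔ p ∈ tau1 M) {c : G}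
    (hcK : c ∈ K) (hcM : c ∈ ⁅M, M⁆) : c = 1 := by
  by_contra hne
  have ho : orderOf c ≠ 1 := fun h => hne (orderOf_eq_one_iff.1 h)
  obtain ⟨p, hp, hpd⟩ := Nat.exists_prime_and_dvd ho
  have h1 : p ∣ Nat.card K := hpd.trans (Subgroup.orderOf_dvd_natCard K hcK)
  have h2 : p ∈ tau1 M := (hκτ p).1 (hK.2.1 p hp h1)
  exact h2.2.2.2.1 (hpd.trans (Subgroup.orderOf_dvd_natCard _ hcM))

/-- `N_M(Y) ≤ C(Y)` for `Y ≤ K` -/
theorem mem_centralizer_of_mem_normalizer [Finite G] {M K : Subgroup G}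
    (hK : IsPiHallOf (kappa M) K M) (hκτ : ∀ p, p ∈ kappa M ↔ p ∈ tau1 M)
    {Y : Subgroup G} (hYK : Y ≤ K) {e : G} (he : e ∈ M) (heY : e ∈ normalizer (Y : Set G)) :
    e ∈ centralizer (Y : Set G) := by
  rw [mem_centralizer_iff]
  intro y hy
  have h1 : e * y * e⁻¹ ∈ Y := (mem_normalizer_iff.1 heY y).1 hy
  have h2 : e * y * e⁻¹ * y⁻¹ ∈ K := hYK (mul_mem h1 (inv_mem hy))
  have h3 : e * y * e⁻¹ * y⁻¹ ∈ ⁅M, M⁆ := by
    have := Subgroup.commutator_mem_commutator he (hK.1 (hYK hy))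
    rwa [commutatorElement_def] at this
  have h4 := eq_one_of_mem_commutator hK hκτ h2 h3
  have h5 : e * y * e⁻¹ = y := by
    have := congrArg (· * y) h4
    simpa using this
  calc y * e = e * y * e⁻¹ * e := by rw [h5]
    _ = e * y := by group

theorem normalizer_eq_worldI [Finite G] {M E K : Subgroup G}
    (hE : IsComplIn E (sigmaCore M) M) (hK : IsPiHallOf (kappa M) K M) (hKE : K ≤ E)
    (hκτ : ∀ p, p ∈ kappa M ↔ p ∈ tau1 M) (hKc : IsCyclic K)
    (hprime : ∀ k ∈ K, k ≠ 1 → sigmaCore M ⊓ centralizer ({k} : Set G) =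
      sigmaCore M ⊓ centralizer (K : Set G))
    (hreg : ∀ X : Subgroup G, X ≤ K → (Nat.card X).Prime → E ⊓ centralizer (X : Set G) ≤ K) :
    ∀ X : Subgroup G, X ≤ K → (Nat.card X).Prime →
      M ⊓ normalizer (X : Set G) = K ⊔ (sigmaCore M ⊓ centralizer (K : Set G)) ∧
      M ⊓ normalizer (K : Set G) = K ⊔ (sigmaCore M ⊓ centralizer (K : Set G)) := by
  intro X hXK hXp
  -- a nontrivial element of `X`
  obtain ⟨x, hxX, hx1⟩ : ∃ x ∈ X, x ≠ 1 := by
    by_contra hcon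
    push_neg at hcon
    have hbot : X = ⊥ := (Subgroup.eq_bot_iff_forall X).2 hcon
    rw [hbot, Subgroup.card_bot] at hXp
    exact Nat.not_prime_one hXp
  have hxK : x ∈ K := hXK hxX
  -- `K` is abelian
  have hKcomm : ∀ a ∈ K, ∀ b ∈ K, a * b = b * a := by
    intro a ha b hb
    haveI := hKc
    letI := IsCyclic.commGroup (α := K)
    have := mul_comm (⟨a, ha⟩ : K) ⟨b, hb⟩
    exact congrArg Subtype.val this
  -- the easy inclusion, for any `Y ≤ K`
  have hge : ∀ Y : Subgroup G, Y ≤ K →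
      K ⊔ (sigmaCore M ⊓ centralizer (K : Set G)) ≤ M ⊓ normalizer (Y : Set G) := by
    intro Y hYK
    refine sup_le ?_ ?_
    · refine le_inf hK.1 ?_
      intro k hk
      refine centralizer_le_normalizer _ ?_
      rw [mem_centralizer_iff]
      intro y hy
      exact hKcomm y (hYK hy) k hk
    · refine le_inf (inf_le_left.trans (sigmaCore_le' M)) ?_
      intro s hs
      refine centralizer_le_normalizer _ ?_
      exact Subgroup.centralizer_le (by exact_mod_cast hYK) hs.2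
  -- the hard inclusion, for any `Y` with `X ≤ Y ≤ K`
  have hle : ∀ Y : Subgroup G, Y ≤ K → X ≤ Y →
      M ⊓ normalizer (Y : Set G) ≤ K ⊔ (sigmaCore M ⊓ centralizer (K : Set G)) := by
    intro Y hYK hXY m hm
    obtain ⟨a, ha, b, hb, hab, haN, hbC⟩ :=
      exists_mul_of_mem_normalizer hE (hYK.trans hKE) hm.1 hm.2
    have haC : a ∈ centralizer (Y : Set G) :=
      mem_centralizer_of_mem_normalizer hK hκτ hYK (hE.1 ha) haN
    have haX : a ∈ centralizer (X : Set G) :=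
      Subgroup.centralizer_le (by exact_mod_cast hXY) haC
    have haK : a ∈ K := hreg X hXK hXp ⟨ha, haX⟩
    have hbx : b ∈ centralizer ({x} : Set G) := by
      refine Subgroup.centralizer_le ?_ hbC
      intro z hz
      rw [Set.mem_singleton_iff] at hz
      rw [hz]
      exact hXY hxX
    have hbK : b ∈ sigmaCore M ⊓ centralizer (K : Set G) := by
      rw [← hprime x hxK hx1]
      exact ⟨hb, hbx⟩
    rw [hab]
    exact mul_mem (mem_sup_left haK) (mem_sup_right hbK)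
  exact ⟨le_antisymm (hle X hXK le_rfl) (hge X hXK), le_antisymm (hle K le_rfl hXK) (hge K le_rfl)⟩

end Cfsg.Agent.Helper21.BG14In
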