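import Mathlib
import Cfsg.Prelude.Def_Blocks
import Cfsg.Agent.Lib.Helper24.CharLinear
import Cfsg.Agent.Lib.Helper24.CharInduced
import Cfsg.Agent.Lib.Helper10.BR996Defs
import Cfsg.Agent.Lib.Helper21.BTDefs

/-!
# S4504 (Brauer: a faithful character of degree `(p-1)/2`): definitions for the farm-out

See `plans/S4504_proof.md`, `plans/S4504_bound_helper21.md` and the skeletons `plans/S4504_Skel*.lean.txt`.
-/

set_option autoImplicit false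

namespace Cfsg.Agent.Helper21.BH

open scoped ComplexConjugate
open Cfsg Cfsg.Agent.Helper24 Cfsg.Agent.Helper10.BR996

universe u

/-- The number of pairs `(c₁, c₂)` with `(c₁ a c₁⁻¹) (c₂ b c₂⁻¹) = x` (class multiplication constants, as in
`Cfsg.Agent.Helper10.BR996.class_const`). -/
noncomputable def NC {G : Type u} [Group G] (a b x : G) : ℕ :=
  Nat.card {c : G × G // (c.1 * a * c.1⁻¹) * (c.2 * b * c.2⁻¹) = x}

/-- The configuration reached after the reductions and Steps A-D: `C_G(P) = P × Z(G)`, `|N_G(P) : C_G(P)| = w`,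
`p = 2 w + 1`, `ζ` faithful irreducible of degree `w`, `ζ'` its `p`-conjugate partner, `z₁`, `z₂` representatives of
the two classes of elements of order `p`. -/
structure Cfg {G : Type u} [Group G] [Fintype G] (p : ℕ) (P : Sylow p G) (w : ℕ)
    (ζ ζ' : IrrCharacter G) (z₁ z₂ : G) : Prop where
  hP : Nat.card P = p
  hpw : 2 * w + 1 = p
  hw : 2 ≤ w
  hZ : ¬ p ∣ Nat.card (Subgroup.center G)
  hV : ∀ v ∈ Subgroup.centralizer ((P : Subgroup G) : Set G), ¬ p ∣ orderOf v → v ∈ Subgroup.center G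
  hf : (Subgroup.centralizer ((P : Subgroup G) : Set G)).relIndex
    (Subgroup.normalizer ((P : Subgroup G) : Set G)) = w
  hdeg : charDegree (ζ : G → ℂ) = w
  hfaith : ∀ g : G, (ζ : G → ℂ) g = (ζ : G → ℂ) 1 → g = 1
  hreg : ∀ g : G, ¬ p ∣ orderOf g → (ζ' : G → ℂ) g = (ζ : G → ℂ) g
  hz₁ : z₁ ∈ (P : Subgroup G)
  hz₂ : z₂ ∈ (P : Subgroup G)
  hz₁1 : z₁ ≠ 1
  hz₂1 : z₂ ≠ 1
  hsumP : ∀ F : G → ℂ, IsClassFunction G F →
    dsum (P : Subgroup G) F = (w : ℂ) * (F z₁ + F z₂)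
  hswap₁ : (ζ' : G → ℂ) z₁ = (ζ : G → ℂ) z₂
  hswap₂ : (ζ' : G → ℂ) z₂ = (ζ : G → ℂ) z₁
  hneg : (ζ : G → ℂ) z₁ + (ζ : G → ℂ) z₂ = -1
  hnorm : (ζ : G → ℂ) z₁ * conj ((ζ : G → ℂ) z₁) + (ζ : G → ℂ) z₂ * conj ((ζ : G → ℂ) z₂) =
    (w : ℂ) + 1

/-- The output of the numerical step: the exact multiplicities of `Ξ = ζ conj ζ` (`m1`) and `Ξ' = ζ conj ζ'`
(`m2`) in the principal block of `H = G / Z(G)`. -/
def NumOut {ι : Type*} (deg : ι → ℕ) (X Y : Finset ι) (sg : ι → ℤ) (d0 : ℤ) (one : ι) (p w : ℕ)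
    (m1 m2 : ι → ℕ) : Prop :=
  (∀ i ∈ X, sg i = 1 → m1 i = 1 ∧ m2 i = 0 ∧ (i = one ∨ deg i = p + 1)) ∧
  (∀ i ∈ X, sg i = -1 → m1 i = 0 ∧ m2 i = 1 ∧ deg i = p - 1) ∧
  (∀ i, i ∉ X → i ∉ Y → m1 i = 0 ∧ m2 i = 0) ∧
  ((d0 = -1 ∧ (∀ i ∈ Y, deg i = w ∧ m1 i = 0) ∧ ∑ i ∈ Y, m2 i = 1) ∨
    (d0 = 1 ∧ (∀ i ∈ Y, deg i = w + 1 ∧ m2 i = 0) ∧ ∑ i ∈ Y, m1 i = 1))

/-- `P` as a Sylow `p`-subgroup of `L = ⟨P^G⟩`. -/
noncomputable def PL {G : Type u} [Group G] {p : ℕ} (P : Sylow p G) :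
    Sylow p ↥(Subgroup.normalClosure ((P : Subgroup G) : Set G)) :=
  P.subtype (Subgroup.subset_normalClosure : ((P : Subgroup G) : Set G) ⊆ _)

end Cfsg.Agent.Helper21.BH
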