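import Mathlib
import Cfsg.Agent.Lib.Helper14.StGLDefs

/-!
# S2425 piece PARAB (helper21, for helper14): the standard parabolic subgroup of `GL_n` is the
stabiliser of the standard flag
-/

set_option autoImplicit false

namespace Cfsg.Agent.Helper14.StGL

open Module Polynomial Cfsg.Agent.Helper13.SS

open scoped Classical MatrixGroups

section gl

variable {F : Type*} [Field F] {n : ℕ}

/-- the partial sums of a composition -/
def stglparab_ps (μ : Fin n → ℕ) (j : Fin n) : ℕ :=
  ∑ k ∈ Finset.univ.filter (fun k : Fin n => k ≤ j), μ k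

theorem stglparab_label (μ : Fin n → ℕ) (i : Fin n) :
    Cfsg.compLabel μ i = (Finset.univ.filter fun j : Fin n => stglparab_ps μ j ≤ i.val).card := rfl

/-- comparison of labels -/
theorem stglparab_lt_iff (μ : Fin n → ℕ) (k i : Fin n) :
    Cfsg.compLabel μ k < Cfsg.compLabel μ i ↔
      ∃ j : Fin n, k.val < stglparab_ps μ j ∧ stglparab_ps μ j ≤ i.val := by
  rw [stglparab_label, stglparab_label]
  constructor
  · intro h
    by_contra hcon
    rw [not_exists] at hcon
    have hsub : (Finset.univ.filter fun j : Fin n => stglparab_ps μ j ≤ i.val) ⊆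
        (Finset.univ.filter fun j : Fin n => stglparab_ps μ j ≤ k.val) := by
      intro j hj
      rw [Finset.mem_filter] at hj ⊢
      refine ⟨hj.1, ?_⟩
      by_contra hjk
      exact hcon j ⟨by omega, hj.2⟩
    have := Finset.card_le_card hsub
    omega
  · rintro ⟨j, hj1, hj2⟩
    apply Finset.card_lt_card
    rw [Finset.ssubset_iff_of_subset]
    · refine ⟨j, ?_, ?_⟩
      · rw [Finset.mem_filter]; exact ⟨Finset.mem_univ _, hj2⟩
      · rw [Finset.mem_filter]; intro hh; have := hh.2; omega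
    · intro j' hj'
      rw [Finset.mem_filter] at hj' ⊢
      exact ⟨hj'.1, by omega⟩

theorem stglparab_mem_core (μ : Fin n → ℕ) (d : ℕ) :
    d ∈ core μ ↔ (∃ j : Fin n, stglparab_ps μ j = d) ∧ 0 < d ∧ d < n := by
  unfold core
  rw [Finset.mem_filter, Finset.mem_image]
  constructor
  · rintro ⟨⟨j, -, hj⟩, h⟩
    exact ⟨⟨j, hj⟩, h⟩
  · rintro ⟨⟨j, hj⟩, h⟩
    exact ⟨⟨j, Finset.mem_univ _, hj⟩, h⟩

theorem stglparab_mem_std (d : ℕ) (v : Fin n → F) :
    v ∈ std F n d ↔ ∀ i : Fin n, d ≤ i.val → v i = 0 := Iff.rfl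

/-! ## PIECE PARAB -/

theorem mem_parabolic_iff (μ : Fin n → ℕ) (g : GL (Fin n) F) :
    g ∈ Cfsg.parabolicGL n F μ ↔ ∀ d ∈ core μ, Inv (L g) (std F n d) := by
  have hmem : g ∈ Cfsg.parabolicGL n F μ ↔
      (g : Matrix (Fin n) (Fin n) F).BlockTriangular (Cfsg.compLabel μ) := Iff.rfl
  rw [hmem]
  constructor
  · intro hg d hd v hv
    rw [stglparab_mem_core] at hd
    obtain ⟨⟨j, hj⟩, hd0, hdn⟩ := hd
    rw [stglparab_mem_std] at hv ⊢
    intro i hi
    show (Matrix.toLin' (g : Matrix (Fin n) (Fin n) F) v) i = 0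
    rw [Matrix.toLin'_apply, Matrix.mulVec, dotProduct]
    apply Finset.sum_eq_zero
    intro k _
    by_cases hk : d ≤ k.val
    · rw [hv k hk, mul_zero]
    · have hlt : Cfsg.compLabel μ k < Cfsg.compLabel μ i := by
        rw [stglparab_lt_iff]
        exact ⟨j, by omega, by omega⟩
      rw [hg hlt, zero_mul]
  · intro h i k hlt
    rw [stglparab_lt_iff] at hlt
    obtain ⟨j, hj1, hj2⟩ := hlt
    have hd : stglparab_ps μ j ∈ core μ := by
      rw [stglparab_mem_core]
      exact ⟨⟨j, rfl⟩, by omega, by have := i.isLt; omega⟩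
    have hv : (Pi.single k (1 : F) : Fin n → F) ∈ std F n (stglparab_ps μ j) := by
      rw [stglparab_mem_std]
      intro i' hi'
      apply Pi.single_eq_of_ne
      intro hik
      rw [hik] at hi'
      omega
    have h1 := h _ hd _ hv
    rw [stglparab_mem_std] at h1
    have h2 := h1 i hj2
    have h3 : (L g) (Pi.single k (1 : F)) i = (g : Matrix (Fin n) (Fin n) F) i k := by
      show (Matrix.toLin' (g : Matrix (Fin n) (Fin n) F) (Pi.single k (1 : F))) i = _
      rw [Matrix.toLin'_apply, Matrix.mulVec_single_one]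
      rfl
    rw [h3] at h2
    exact h2

end gl

end Cfsg.Agent.Helper14.StGL
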