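import Mathlib
import Cfsg.Agent.Lib.Helper14.StGLDefs

/-!
# S2425 piece PRIMNE (helper21, for helper14): a nonzero invariant subspace meets some primary
component nontrivially
-/

set_option autoImplicit false
set_option linter.unusedSectionVars false

namespace Cfsg.Agent.Helper14.StGL

open Module Polynomial Cfsg.Agent.Helper13.SS

open scoped Classical MatrixGroups

section mod

variable {F : Type*} [Field F] [Fintype F] {V : Type*} [AddCommGroup V] [Module F V] [Fintype V]

/-- an invariant subspace is stable under the powers of `g` -/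
theorem stglprimne_pow_mem (g : Module.End F V) (U : Submodule F V) (hU : Inv g U) (k : ℕ) :
    ∀ v ∈ U, (g ^ k) v ∈ U := by
  induction k with
  | zero => intro v hv; simpa using hv
  | succ k ih =>
    intro v hv
    rw [pow_succ, Module.End.mul_apply]
    exact ih _ (hU v hv)

/-- an invariant subspace is stable under the polynomials in `g` -/
theorem stglprimne_aeval_mem (g : Module.End F V) (U : Submodule F V) (hU : Inv g U) (p : F[X]) :
    ∀ v ∈ U, aeval g p v ∈ U := by
  induction p using Polynomial.induction_on' with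
  | add p q hp hq =>
    intro v hv
    rw [map_add, LinearMap.add_apply]
    exact U.add_mem (hp v hv) (hq v hv)
  | monomial k c =>
    intro v hv
    rw [aeval_monomial, Module.End.mul_apply, Module.algebraMap_end_apply]
    exact U.smul_mem c (stglprimne_pow_mem g U hU k v hv)

/-- the inductive statement -/
theorem stglprimne_aux (g : Module.End F V) (U : Submodule F V) (hU : Inv g U) (T : Finset F[X]) :
    U ⊓ Kf g (∏ f ∈ T, f) ≠ ⊥ → ∃ f ∈ T, U ⊓ Kf g f ≠ ⊥ := by
  induction T using Finset.induction_on with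
  | empty =>
    intro h
    exfalso
    apply h
    rw [Finset.prod_empty]
    unfold Kf
    rw [map_one, eq_bot_iff]
    rintro v ⟨-, hv⟩
    rw [SetLike.mem_coe, LinearMap.mem_ker, Module.End.one_apply] at hv
    rw [hv]
    exact Submodule.zero_mem _
  | insert a T ha ih =>
    intro h
    rw [Finset.prod_insert ha] at h
    obtain ⟨u, hu, hu0⟩ := (Submodule.ne_bot_iff _).mp h
    obtain ⟨huU, huK⟩ := hu
    have huK' : aeval g (a * ∏ f ∈ T, f) u = 0 := LinearMap.mem_ker.mp huK
    rw [map_mul, Module.End.mul_apply] at huK'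
    by_cases h0 : aeval g (∏ f ∈ T, f) u = 0
    · have h1 : U ⊓ Kf g (∏ f ∈ T, f) ≠ ⊥ := by
        rw [Submodule.ne_bot_iff]
        exact ⟨u, ⟨huU, LinearMap.mem_ker.mpr h0⟩, hu0⟩
      obtain ⟨f, hf, hfU⟩ := ih h1
      exact ⟨f, Finset.mem_insert_of_mem hf, hfU⟩
    · refine ⟨a, Finset.mem_insert_self a T, ?_⟩
      rw [Submodule.ne_bot_iff]
      exact ⟨aeval g (∏ f ∈ T, f) u,
        ⟨stglprimne_aeval_mem g U hU _ u huU, LinearMap.mem_ker.mpr huK'⟩, h0⟩

/-! ## PIECE PRIMNE -/

theorem exists_primary_ne_bot (g : Module.End F V) (S : Finset F[X]) (hg : aeval g (∏ f ∈ S, f) = 0)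
    (U : Submodule F V) (hU : Inv g U) (hne : U ≠ ⊥) : ∃ f ∈ S, U ⊓ Kf g f ≠ ⊥ := by
  apply stglprimne_aux g U hU S
  have h1 : Kf g (∏ f ∈ S, f) = ⊤ := by
    unfold Kf
    rw [hg]
    exact LinearMap.ker_zero
  rw [h1, inf_top_eq]
  exact hne

end mod

end Cfsg.Agent.Helper14.StGL
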