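import Mathlib
import Cfsg.Agent.Lib.Helper21.ClassSize

/-!
Isaacs: subgroups generated by small classes. If `A` is a normal abelian subgroup and `x` has
minimal noncentral class size, then `[x, A] ≤ Z(G)`.
-/

namespace Cfsg.Agent.Helper21.SmallClasses

open Subgroup Cfsg.Agent.Helper21.ClassSize

variable {G : Type*} [Group G]

/-- orbit-stabilizer for conjugation by a subgroup -/
theorem ncard_conj_orbit [Finite G] (H : Subgroup G) (g : G) :
    ({y | ∃ h ∈ H, h * g * h⁻¹ = y} : Set G).ncard = (centralizer ({g} : Set G)).relIndex H := by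
  classical
  set K := (centralizer ({g} : Set G)).subgroupOf H with hK
  let f : H ⧸ K → G := fun q => Quotient.liftOn' q (fun h : H => (h : G) * g * (h : G)⁻¹) (by
    intro h₁ h₂ hrel
    rw [QuotientGroup.leftRel_apply, hK, Subgroup.mem_subgroupOf, mem_centralizer_singleton] at hrel
    simp only [Subgroup.coe_mul, Subgroup.coe_inv] at hrel
    -- hrel : g * (h₁⁻¹ * h₂) = (h₁⁻¹ * h₂) * g
    have : (h₂ : G) * g * (h₂ : G)⁻¹ = (h₁ : G) * (((h₁ : G)⁻¹ * h₂) * g) * (h₂ : G)⁻¹ := by group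
    show (h₁ : G) * g * (h₁ : G)⁻¹ = (h₂ : G) * g * (h₂ : G)⁻¹
    rw [this, ← hrel]; group)
  have hf : ∀ h : H, f (h : H ⧸ K) = (h : G) * g * (h : G)⁻¹ := fun h => rfl
  have hinj : Function.Injective f := by
    intro q₁ q₂
    induction q₁ using QuotientGroup.induction_on with
    | H h₁ =>
      induction q₂ using QuotientGroup.induction_on with
      | H h₂ =>
        intro h
        rw [hf, hf] at h
        rw [QuotientGroup.eq, hK, Subgroup.mem_subgroupOf, mem_centralizer_singleton]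
        simp only [Subgroup.coe_mul, Subgroup.coe_inv]
        have e1 : g * ((h₁ : G)⁻¹ * h₂) = (h₁ : G)⁻¹ * ((h₁ : G) * g * (h₁ : G)⁻¹) * h₂ := by group
        rw [e1, h]; group
  have hrange : Set.range f = {y | ∃ h ∈ H, h * g * h⁻¹ = y} := by
    ext y
    constructor
    · rintro ⟨q, rfl⟩
      induction q using QuotientGroup.induction_on with
      | H h => exact ⟨h, h.2, (hf h).symm⟩
    · rintro ⟨h, hh, rfl⟩
      exact ⟨((⟨h, hh⟩ : H) : H ⧸ K), hf _⟩
  rw [← hrange, ← Set.image_univ, Set.ncard_image_of_injective _ hinj, Set.ncard_univ]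
  rfl

theorem relIndex_sup_of_normal_right [Finite G] (H M : Subgroup G) [M.Normal] :
    H.relIndex (H ⊔ M) = H.relIndex M := by
  have e1 : M.relIndex (H ⊔ M) = M.relIndex H := relIndex_sup_right H M
  have e2 := relIndex_mul_card_inf M (H ⊔ M)
  have e3 := relIndex_mul_card_inf M H
  have e4 := relIndex_mul_card_inf H (H ⊔ M)
  have e5 := relIndex_mul_card_inf H M
  rw [inf_of_le_left (le_sup_right : M ≤ H ⊔ M)] at e2
  rw [inf_of_le_left (le_sup_left : H ≤ H ⊔ M)] at e4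
  rw [inf_comm] at e3
  have hH : 0 < Nat.card H := Nat.card_pos
  have hI : 0 < Nat.card ↥(H ⊓ M) := Nat.card_pos
  apply Nat.eq_of_mul_eq_mul_right hH
  rw [e4, ← e2, e1]
  apply Nat.eq_of_mul_eq_mul_right hI
  calc M.relIndex H * Nat.card M * Nat.card ↥(H ⊓ M)
      = (M.relIndex H * Nat.card ↥(H ⊓ M)) * Nat.card M := by ring
    _ = Nat.card H * Nat.card M := by rw [e3]
    _ = Nat.card H * (H.relIndex M * Nat.card ↥(H ⊓ M)) := by rw [e5]
    _ = H.relIndex M * Nat.card H * Nat.card ↥(H ⊓ M) := by ring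

/-- Key lemma (Isaacs): a commutator of an element of minimal noncentral class size with an
element of a normal abelian subgroup is central. -/
theorem comm_mem_center_of_min_class [Finite G] (A : Subgroup G) [A.Normal]
    (hA : ∀ a ∈ A, ∀ b ∈ A, a * b = b * a)
    (m : ℕ) (hmin : ∀ x : G, 1 < idx x → m ≤ idx x) (x : G) (hx : idx x = m)
    (a : G) (ha : a ∈ A) : x⁻¹ * (a⁻¹ * x * a) ∈ center G := by
  classical
  by_contra hc
  set c := x⁻¹ * (a⁻¹ * x * a) with hcdef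
  have hc1 : idx c ≠ 1 := fun h => hc (idx_eq_one_iff.mp h)
  have hcidx : m ≤ idx c := hmin c (by have := idx_pos c; omega)
  set D := centralizer ({x} : Set G) with hD
  set D' := centralizer ({a⁻¹ * x * a} : Set G) with hD'
  set Dc := centralizer ({c} : Set G) with hDc
  set E := D ⊓ D' with hE
  have hnorm : A.Normal := inferInstance
  have hcA : c ∈ A := by
    have h1 : x⁻¹ * a⁻¹ * x⁻¹⁻¹ ∈ A := hnorm.conj_mem a⁻¹ (A.inv_mem ha) x⁻¹
    have : c = (x⁻¹ * a⁻¹ * x⁻¹⁻¹) * a := by rw [hcdef]; group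
    rw [this]; exact A.mul_mem h1 ha
  have h1 : A ≤ Dc := by
    intro y hy
    rw [hDc, mem_centralizer_singleton]
    exact hA c hcA y hy
  have h2 : E ≤ Dc := by
    intro y hy
    rw [hE, Subgroup.mem_inf, hD, hD', mem_centralizer_singleton, mem_centralizer_singleton] at hy
    rw [hDc, mem_centralizer_singleton, hcdef]
    have hy1 : x⁻¹ * y = y * x⁻¹ := by
      have : y = x⁻¹ * (x * y) * x⁻¹ * x := by group
      calc x⁻¹ * y = x⁻¹ * (y * x) * x⁻¹ := by group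
        _ = x⁻¹ * (x * y) * x⁻¹ := by rw [hy.1]
        _ = y * x⁻¹ := by group
    calc x⁻¹ * (a⁻¹ * x * a) * y = x⁻¹ * ((a⁻¹ * x * a) * y) := by group
      _ = x⁻¹ * (y * (a⁻¹ * x * a)) := by rw [hy.2]
      _ = (x⁻¹ * y) * (a⁻¹ * x * a) := by group
      _ = (y * x⁻¹) * (a⁻¹ * x * a) := by rw [hy1]
      _ = y * (x⁻¹ * (a⁻¹ * x * a)) := by group
  have h3 : A ⊔ E ≤ Dc := sup_le h1 h2
  have hI : idx c ∣ (A ⊔ E).index := index_dvd_of_le h3
  set k := D.relIndex A with hk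
  have h4 : E.relIndex A = k := by
    have : E ⊓ A = D ⊓ A := by
      ext y
      simp only [hE, Subgroup.mem_inf]
      constructor
      · rintro ⟨⟨h1, _⟩, h3⟩; exact ⟨h1, h3⟩
      · rintro ⟨h1, h3⟩
        refine ⟨⟨h1, ?_⟩, h3⟩
        rw [hD, mem_centralizer_singleton] at h1
        rw [hD', mem_centralizer_singleton]
        have hya : a * y = y * a := hA a ha y h3
        have hya' : a⁻¹ * y = y * a⁻¹ := by
          calc a⁻¹ * y = a⁻¹ * (y * a) * a⁻¹ := by group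
            _ = a⁻¹ * (a * y) * a⁻¹ := by rw [hya]
            _ = y * a⁻¹ := by group
        calc a⁻¹ * x * a * y = a⁻¹ * x * (a * y) := by group
          _ = a⁻¹ * x * (y * a) := by rw [hya]
          _ = a⁻¹ * (x * y) * a := by group
          _ = a⁻¹ * (y * x) * a := by rw [h1]
          _ = (a⁻¹ * y) * x * a := by group
          _ = (y * a⁻¹) * x * a := by rw [hya']
          _ = y * (a⁻¹ * x * a) := by group
    rw [hk, ← inf_relIndex_right E A, ← inf_relIndex_right D A, this]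
  have h5 : E.relIndex (A ⊔ E) = k := by
    rw [sup_comm, relIndex_sup_of_normal_right, h4]
  have h6 : k * (A ⊔ E).index = E.index := by
    rw [← h5]; exact relIndex_mul_index le_sup_right
  have h7 : E.relIndex D * m = E.index := by
    rw [← hx]; exact relIndex_mul_index inf_le_left
  have h8 : E.relIndex D = Dc.relIndex D := by
    have : E ⊓ D = Dc ⊓ D := by
      ext y
      simp only [hE, Subgroup.mem_inf]
      constructor
      · rintro ⟨⟨g1, g2⟩, _⟩
        exact ⟨h2 ⟨g1, g2⟩, g1⟩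
      · rintro ⟨h1, h2⟩
        refine ⟨⟨h2, ?_⟩, h2⟩
        rw [hD, mem_centralizer_singleton] at h2
        rw [hDc, mem_centralizer_singleton, hcdef] at h1
        rw [hD', mem_centralizer_singleton]
        calc a⁻¹ * x * a * y = x * (x⁻¹ * (a⁻¹ * x * a) * y) := by group
          _ = x * (y * (x⁻¹ * (a⁻¹ * x * a))) := by rw [h1]
          _ = (x * y) * (x⁻¹ * (a⁻¹ * x * a)) := by group
          _ = (y * x) * (x⁻¹ * (a⁻¹ * x * a)) := by rw [h2]
          _ = y * (a⁻¹ * x * a) := by group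
    rw [← inf_relIndex_right E D, ← inf_relIndex_right Dc D, this]
  have h9 := ncard_conj_orbit D c
  have h10 := ncard_conj_orbit A x
  rw [← hD, ← hk] at h10
  rw [← hDc] at h9
  -- the D-orbit of c lies in B \ {1}
  set B : Set G := (fun y => x⁻¹ * y) '' {y | ∃ h ∈ A, h * x * h⁻¹ = y} with hB
  have hBcard : B.ncard = k := by
    rw [hB, Set.ncard_image_of_injective _ (mul_right_injective x⁻¹), h10]
  have h1B : (1 : G) ∈ B := ⟨x, ⟨1, A.one_mem, by group⟩, by group⟩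
  have hsub : {y | ∃ h ∈ D, h * c * h⁻¹ = y} ⊆ B \ {1} := by
    rintro y ⟨d, hd, rfl⟩
    constructor
    · refine ⟨(d * a⁻¹ * d⁻¹) * x * (d * a⁻¹ * d⁻¹)⁻¹,
        ⟨d * a⁻¹ * d⁻¹, hnorm.conj_mem _ (A.inv_mem ha) d, rfl⟩, ?_⟩
      rw [hD, mem_centralizer_singleton] at hd
      have hd1 : x⁻¹ * d = d * x⁻¹ := by
        calc x⁻¹ * d = x⁻¹ * (d * x) * x⁻¹ := by group
          _ = x⁻¹ * (x * d) * x⁻¹ := by rw [hd]
          _ = d * x⁻¹ := by group
      show x⁻¹ * ((d * a⁻¹ * d⁻¹) * x * (d * a⁻¹ * d⁻¹)⁻¹) = d * c * d⁻¹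
      rw [hcdef]
      calc x⁻¹ * ((d * a⁻¹ * d⁻¹) * x * (d * a⁻¹ * d⁻¹)⁻¹)
          = (x⁻¹ * d) * a⁻¹ * d⁻¹ * (x * d) * a * d⁻¹ := by group
        _ = (d * x⁻¹) * a⁻¹ * d⁻¹ * (d * x) * a * d⁻¹ := by rw [hd1, hd]
        _ = d * (x⁻¹ * (a⁻¹ * x * a)) * d⁻¹ := by group
    · intro h
      rw [Set.mem_singleton_iff] at h
      apply hc
      have : c = 1 := by
        have := congrArg (fun z => d⁻¹ * z * d) h
        simpa [mul_assoc] using this
      rw [this]; exact Subgroup.one_mem _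
  have h11 : Dc.relIndex D ≤ k - 1 := by
    rw [← h9]
    calc ({y | ∃ h ∈ D, h * c * h⁻¹ = y} : Set G).ncard ≤ (B \ {1}).ncard :=
          Set.ncard_le_ncard hsub (Set.toFinite _)
      _ = k - 1 := by rw [Set.ncard_sdiff_singleton_of_mem h1B, hBcard]
  have hkpos : 0 < k := by
    rw [← hBcard]
    exact (Set.ncard_pos (Set.toFinite _)).mpr ⟨1, h1B⟩
  have hIpos : 0 < (A ⊔ E).index := Nat.pos_of_ne_zero Subgroup.index_ne_zero_of_finite
  have hle : idx c ≤ (A ⊔ E).index := Nat.le_of_dvd hIpos hI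
  -- k * I = relIndex * m ≤ (k-1) * m
  have h12 : k * (A ⊔ E).index ≤ (k - 1) * m := by
    rw [h6, ← h7, h8]
    exact Nat.mul_le_mul_right m h11
  have h13 : k * m ≤ k * (A ⊔ E).index := Nat.mul_le_mul_left k (hcidx.trans hle)
  have h14 : (k - 1) * m < k * m := by
    have hm : 0 < m := by rw [← hx]; exact idx_pos x
    have : k - 1 < k := by omega
    exact Nat.mul_lt_mul_of_pos_right this hm
  omega

/-- the set of small classes -/
def small (G : Type*) [Group G] (m : ℕ) : Set G := {x : G | idx x = 1 ∨ idx x = m}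

theorem closure_comm_mem_center [Finite G] (A : Subgroup G) [A.Normal]
    (hA : ∀ a ∈ A, ∀ b ∈ A, a * b = b * a)
    (m : ℕ) (hmin : ∀ x : G, 1 < idx x → m ≤ idx x) :
    ∀ g ∈ closure (small G m), ∀ a ∈ A, g⁻¹ * a⁻¹ * g * a ∈ center G := by
  have hnorm : A.Normal := inferInstance
  intro g hg
  induction hg using Subgroup.closure_induction with
  | mem x hx =>
    intro a ha
    rcases hx with hx | hx
    · have hxc := idx_eq_one_iff.mp hx
      have : x⁻¹ * a⁻¹ * x * a = 1 := by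
        have h1 := (Subgroup.mem_center_iff.mp hxc) a⁻¹
        calc x⁻¹ * a⁻¹ * x * a = x⁻¹ * (a⁻¹ * x) * a := by group
          _ = x⁻¹ * (x * a⁻¹) * a := by rw [h1]
          _ = 1 := by group
      rw [this]; exact Subgroup.one_mem _
    · have := comm_mem_center_of_min_class A hA m hmin x hx a ha
      have e : x⁻¹ * a⁻¹ * x * a = x⁻¹ * (a⁻¹ * x * a) := by group
      rw [e]; exact this
  | one => intro a _; simp
  | mul g h _ _ ihg ihh =>
    intro a ha
    have hz := ihg a ha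
    have e : (g * h)⁻¹ * a⁻¹ * (g * h) * a = h⁻¹ * (g⁻¹ * a⁻¹ * g * a) * a⁻¹ * h * a := by group
    rw [e]
    have hcomm := (Subgroup.mem_center_iff.mp hz) h⁻¹
    have e2 : h⁻¹ * (g⁻¹ * a⁻¹ * g * a) * a⁻¹ * h * a
        = (g⁻¹ * a⁻¹ * g * a) * (h⁻¹ * a⁻¹ * h * a) := by
      rw [hcomm]; group
    rw [e2]
    exact Subgroup.mul_mem _ hz (ihh a ha)
  | inv g _ ihg =>
    intro a ha
    have ha' : g * a * g⁻¹ ∈ A := hnorm.conj_mem a ha g
    have hz := ihg (g * a * g⁻¹) ha'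
    have e : g⁻¹⁻¹ * a⁻¹ * g⁻¹ * a = (g⁻¹ * (g * a * g⁻¹)⁻¹ * g * (g * a * g⁻¹))⁻¹ := by group
    rw [e]
    exact Subgroup.inv_mem _ hz

theorem closure_conj_eq [Finite G] (A : Subgroup G) [A.Normal]
    (hA : ∀ a ∈ A, ∀ b ∈ A, a * b = b * a)
    (m : ℕ) (hmin : ∀ x : G, 1 < idx x → m ≤ idx x) :
    ∀ g ∈ closure (small G m), ∀ a ∈ A, ∃ z ∈ center G, g⁻¹ * a * g = a * z := by
  intro g hg a ha
  have h := closure_comm_mem_center A hA m hmin g hg a ha
  refine ⟨(g⁻¹ * a⁻¹ * g * a)⁻¹, Subgroup.inv_mem _ h, ?_⟩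
  group

theorem closure_commutator_mem [Finite G] (A : Subgroup G) [A.Normal]
    (hA : ∀ a ∈ A, ∀ b ∈ A, a * b = b * a) (hCA : centralizer (A : Set G) = A)
    (m : ℕ) (hmin : ∀ x : G, 1 < idx x → m ≤ idx x) :
    ∀ g ∈ closure (small G m), ∀ h ∈ closure (small G m), g * h * g⁻¹ * h⁻¹ ∈ A := by
  intro g hg h hh
  rw [← hCA, Subgroup.mem_centralizer_iff]
  intro a ha
  obtain ⟨z₁, hz₁, e₁⟩ := closure_conj_eq A hA m hmin g hg a ha
  obtain ⟨z₂, hz₂, e₂⟩ := closure_conj_eq A hA m hmin h hh a ha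
  have c1 := Subgroup.mem_center_iff.mp hz₁
  have c2 := Subgroup.mem_center_iff.mp hz₂
  -- (g h)⁻¹ a (g h) = a z₂ z₁ = (h g)⁻¹ a (h g)
  have h1 : (g * h)⁻¹ * a * (g * h) = a * z₂ * z₁ := by
    calc (g * h)⁻¹ * a * (g * h) = h⁻¹ * (g⁻¹ * a * g) * h := by group
      _ = h⁻¹ * (a * z₁) * h := by rw [e₁]
      _ = (h⁻¹ * a) * (z₁ * h) := by group
      _ = (h⁻¹ * a) * (h * z₁) := by rw [c1 h]
      _ = (h⁻¹ * a * h) * z₁ := by group
      _ = a * z₂ * z₁ := by rw [e₂]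
  have h2 : (h * g)⁻¹ * a * (h * g) = a * z₂ * z₁ := by
    calc (h * g)⁻¹ * a * (h * g) = g⁻¹ * (h⁻¹ * a * h) * g := by group
      _ = g⁻¹ * (a * z₂) * g := by rw [e₂]
      _ = (g⁻¹ * a) * (z₂ * g) := by group
      _ = (g⁻¹ * a) * (g * z₂) := by rw [c2 g]
      _ = (g⁻¹ * a * g) * z₂ := by group
      _ = a * z₁ * z₂ := by rw [e₁]
      _ = a * (z₁ * z₂) := by group
      _ = a * (z₂ * z₁) := by rw [c1 z₂]
      _ = a * z₂ * z₁ := by group
  have h3 : (g * h)⁻¹ * a * (g * h) = (h * g)⁻¹ * a * (h * g) := by rw [h1, h2]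
  calc a * (g * h * g⁻¹ * h⁻¹) = (g * h) * ((g * h)⁻¹ * a * (g * h)) * (g⁻¹ * h⁻¹) := by group
    _ = (g * h) * ((h * g)⁻¹ * a * (h * g)) * (g⁻¹ * h⁻¹) := by rw [h3]
    _ = g * h * g⁻¹ * h⁻¹ * a := by group

theorem ucs3_top (M A : Subgroup G)
    (h1 : ∀ g ∈ M, ∀ a ∈ A, g⁻¹ * a⁻¹ * g * a ∈ center G)
    (h2 : ∀ g ∈ M, ∀ h ∈ M, g * h * g⁻¹ * h⁻¹ ∈ A) :
    Subgroup.upperCentralSeries ↥M 3 = ⊤ := by
  have hz1 : ∀ z : M, (z : G) ∈ center G → z ∈ Subgroup.upperCentralSeries ↥M 1 := by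
    intro z hz
    rw [Subgroup.upperCentralSeries_one, Subgroup.mem_center_iff]
    intro y
    apply Subtype.ext
    exact (Subgroup.mem_center_iff.mp hz) y
  have hz2 : ∀ u : M, (u : G) ∈ A → u ∈ Subgroup.upperCentralSeries ↥M 2 := by
    intro u hu
    rw [show (2 : ℕ) = 1 + 1 from rfl, Subgroup.mem_upperCentralSeries_succ_iff]
    intro y
    rw [commutatorElement_def]
    apply hz1
    have := h1 (y : G)⁻¹ (M.inv_mem y.2) (u : G)⁻¹ (A.inv_mem hu)
    have e : ((u * y * u⁻¹ * y⁻¹ : M) : G) = ((y : G)⁻¹⁻¹ * (u : G)⁻¹⁻¹ * (y : G)⁻¹ * (u : G)⁻¹)⁻¹ := by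
      simp only [Subgroup.coe_mul, Subgroup.coe_inv]; group
    rw [e]
    exact Subgroup.inv_mem _ this
  rw [eq_top_iff]
  intro u _
  rw [show (3 : ℕ) = 2 + 1 from rfl, Subgroup.mem_upperCentralSeries_succ_iff]
  intro y
  rw [commutatorElement_def]
  apply hz2
  have := h2 u u.2 y y.2
  simpa using this

theorem ucs3_top' (A : Subgroup G)
    (h1 : ∀ g : G, ∀ a ∈ A, g⁻¹ * a⁻¹ * g * a ∈ center G)
    (h2 : ∀ g h : G, g * h * g⁻¹ * h⁻¹ ∈ A) :
    Subgroup.upperCentralSeries G 3 = ⊤ := by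
  have hz1 : ∀ z : G, z ∈ center G → z ∈ Subgroup.upperCentralSeries G 1 := by
    intro z hz
    rw [Subgroup.upperCentralSeries_one]; exact hz
  have hz2 : ∀ u : G, u ∈ A → u ∈ Subgroup.upperCentralSeries G 2 := by
    intro u hu
    rw [show (2 : ℕ) = 1 + 1 from rfl, Subgroup.mem_upperCentralSeries_succ_iff]
    intro y
    rw [commutatorElement_def]
    apply hz1
    have := h1 y⁻¹ u⁻¹ (A.inv_mem hu)
    have e : u * y * u⁻¹ * y⁻¹ = (y⁻¹⁻¹ * u⁻¹⁻¹ * y⁻¹ * u⁻¹)⁻¹ := by group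
    rw [e]
    exact Subgroup.inv_mem _ this
  rw [eq_top_iff]
  intro u _
  rw [show (3 : ℕ) = 2 + 1 from rfl, Subgroup.mem_upperCentralSeries_succ_iff]
  intro y
  rw [commutatorElement_def]
  exact hz2 _ (h2 u y)

end Cfsg.Agent.Helper21.SmallClasses
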