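import Mathlib
import Cfsg.Agent.Lib.Helper20.A5QDefs
import Cfsg.Agent.Lib.Helper20.A3Defs
import Cfsg.Agent.Lib.Helper22.A3F1

set_option autoImplicit false
set_option linter.unusedSectionVars false
set_option linter.unusedVariables false

/-!
Piece A5Q-ELL for S3106: an elliptic quadratic form on `2^4` (six zeros) has a standard basis.
The verification is done in helper22's coordinate model `f1P` by kernel evaluation, with the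
witness read off from a table indexed by the ten parameters of the form.
-/

namespace Cfsg.Agent.Helper20.A5Q

open Cfsg.Agent.Helper22.SecRank
open Cfsg.Agent.Helper20.A3

/-- the lowest bit of a natural number, as an element of `ZMod 2` -/
def ell_bit (n : ℕ) : ZMod 2 := if n % 2 = 1 then 1 else 0

/-- decoding of a vector from the four lowest bits -/
def ell_dec (n : ℕ) : F1T := (ell_bit n, ell_bit (n / 2), ell_bit (n / 4), ell_bit (n / 8))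

/-- the table of witnesses -/
def ell_tab : List ℕ := [
  0, 0, 0, 0, 0, 0, 0, 0, 0, 0, 0, 0, 0, 0, 0, 0,
  0, 0, 0, 0, 0, 0, 0, 0, 0, 0, 0, 0, 0, 0, 0, 0,
  0, 0, 0, 0, 0, 0, 0, 0, 0, 0, 0, 0, 0, 0, 0, 0,
  0, 0, 0, 0, 0, 0, 0, 0, 0, 0, 0, 0, 0, 0, 0, 0,
  0, 0, 0, 0, 0, 0, 0, 0, 0, 0, 0, 0, 0, 0, 0, 0,
  0, 0, 0, 0, 0, 0, 0, 0, 0, 0, 0, 0, 0, 0, 0, 0,
  0, 0, 0, 0, 0, 0, 0, 0, 0, 0, 0, 0, 0, 0, 0, 0,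
  0, 0, 0, 0, 0, 0, 0, 0, 0, 0, 0, 0, 0, 0, 0, 0,
  0, 0, 0, 0, 0, 0, 0, 0, 0, 0, 0, 0, 0, 0, 0, 0,
  0, 0, 0, 0, 0, 0, 0, 0, 0, 0, 0, 0, 0, 0, 0, 0,
  0, 0, 0, 0, 0, 0, 0, 0, 0, 0, 0, 0, 0, 0, 0, 0,
  0, 0, 0, 0, 0, 0, 0, 57032, 0, 0, 0, 4804, 0, 13356, 30892, 0,
  0, 0, 0, 0, 0, 0, 0, 0, 0, 0, 0, 0, 0, 0, 0, 0,
  0, 0, 0, 0, 0, 0, 0, 7880, 0, 0, 0, 53956, 46124, 0, 0, 14508,
  0, 0, 0, 0, 0, 0, 0, 40648, 0, 0, 37572, 0, 0, 37932, 0, 22700,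
  0, 0, 0, 0, 0, 0, 24264, 0, 0, 0, 0, 21188, 0, 5164, 0, 6316,
  0, 0, 0, 0, 0, 0, 0, 0, 0, 0, 0, 0, 0, 0, 0, 0,
  0, 0, 0, 0, 0, 0, 0, 0, 0, 0, 0, 0, 0, 0, 0, 0,
  0, 0, 0, 0, 0, 0, 0, 0, 0, 0, 0, 0, 0, 0, 0, 0,
  0, 0, 0, 0, 0, 0, 0, 53960, 0, 0, 0, 7876, 30764, 0, 0, 13420,
  0, 0, 0, 0, 0, 0, 0, 0, 0, 0, 0, 0, 0, 0, 0, 0,
  0, 0, 0, 0, 0, 0, 0, 4808, 0, 0, 0, 57028, 0, 14380, 46188, 0,
  0, 0, 0, 0, 0, 0, 21192, 0, 0, 0, 0, 24260, 0, 22572, 0, 37996,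
  0, 0, 0, 0, 0, 0, 0, 37576, 0, 0, 40644, 0, 0, 6188, 0, 5228,
  0, 0, 0, 0, 0, 0, 0, 0, 0, 0, 0, 0, 0, 0, 0, 0,
  0, 0, 0, 0, 0, 0, 0, 0, 0, 0, 0, 0, 0, 0, 0, 0,
  0, 0, 0, 0, 0, 0, 0, 56008, 0, 6852, 0, 0, 0, 0, 42012, 26780,
  0, 0, 0, 0, 0, 54984, 0, 0, 0, 0, 0, 5828, 0, 0, 9244, 10396,
  0, 0, 0, 0, 0, 5832, 0, 0, 0, 0, 0, 54980, 0, 0, 26652, 42076,
  0, 0, 0, 0, 0, 0, 0, 6856, 0, 56004, 0, 0, 0, 0, 10268, 9308,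
  0, 0, 0, 0, 0, 0, 0, 0, 0, 0, 0, 0, 0, 0, 0, 0,
  0, 0, 0, 0, 22216, 38600, 23240, 39624, 39620, 23236, 38596, 22212, 0, 0, 0, 0,
  0, 0, 0, 0, 0, 0, 0, 0, 0, 0, 0, 0, 0, 0, 0, 0,
  0, 0, 0, 0, 0, 0, 0, 0, 0, 0, 0, 0, 0, 0, 0, 0,
  0, 0, 0, 0, 0, 0, 0, 0, 0, 0, 0, 0, 0, 0, 0, 0,
  0, 0, 0, 0, 0, 0, 0, 46248, 0, 0, 30884, 0, 0, 7842, 0, 21098,
  0, 0, 0, 0, 0, 0, 0, 0, 0, 0, 0, 0, 0, 0, 0, 0,
  0, 0, 0, 0, 0, 0, 13480, 0, 0, 0, 0, 14500, 0, 56994, 0, 37482,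
  0, 0, 0, 0, 0, 0, 0, 5288, 0, 0, 0, 22692, 0, 24226, 53866, 0,
  0, 0, 0, 0, 0, 0, 0, 38056, 0, 0, 0, 6308, 40610, 0, 0, 4714,
  0, 0, 0, 0, 0, 0, 0, 0, 0, 0, 0, 0, 0, 0, 0, 0,
  0, 0, 0, 0, 0, 0, 0, 48296, 0, 15396, 0, 0, 0, 0, 11290, 26778,
  0, 0, 0, 0, 0, 0, 0, 0, 0, 0, 0, 0, 0, 0, 0, 0,
  0, 0, 0, 22088, 0, 0, 0, 0, 0, 0, 0, 0, 0, 5794, 9242, 18586,
  0, 0, 0, 38472, 0, 0, 0, 0, 0, 0, 0, 0, 0, 54946, 26650, 18522,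
  0, 0, 0, 0, 0, 0, 0, 0, 0, 0, 0, 0, 0, 0, 0, 0,
  0, 0, 0, 0, 0, 0, 0, 7336, 0, 39972, 0, 0, 0, 0, 18458, 18650,
  0, 0, 54856, 5704, 0, 0, 15528, 40104, 48164, 7204, 0, 0, 38562, 22178, 0, 0,
  0, 0, 0, 0, 0, 0, 0, 0, 0, 0, 0, 0, 0, 0, 0, 0,
  0, 0, 0, 0, 0, 15400, 0, 0, 0, 0, 0, 48228, 0, 0, 11286, 10390,
  0, 0, 0, 23112, 0, 0, 0, 0, 0, 0, 0, 0, 0, 55906, 42006, 18582,
  0, 0, 0, 0, 0, 0, 0, 0, 0, 0, 0, 0, 0, 0, 0, 0,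
  0, 0, 0, 0, 0, 0, 0, 0, 0, 0, 0, 0, 0, 0, 0, 0,
  0, 0, 0, 39496, 0, 0, 0, 0, 0, 0, 0, 0, 0, 6754, 10262, 18518,
  0, 0, 0, 0, 0, 39976, 0, 0, 0, 0, 0, 7268, 0, 0, 18454, 18646,
  0, 0, 55880, 6728, 48168, 7208, 0, 0, 0, 0, 15460, 40036, 23138, 39522, 0, 0,
  0, 0, 0, 0, 0, 0, 0, 9368, 0, 0, 0, 26772, 0, 26770, 44062, 0,
  0, 0, 0, 0, 0, 0, 0, 42136, 0, 0, 0, 10388, 44050, 0, 0, 10398,
  0, 0, 0, 0, 0, 0, 0, 11416, 0, 0, 44052, 0, 0, 18578, 0, 18590,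
  0, 24136, 0, 21064, 0, 13352, 0, 44184, 30756, 0, 11284, 0, 42002, 0, 9246, 0,
  0, 0, 0, 0, 0, 0, 44056, 0, 0, 0, 0, 11348, 0, 18514, 0, 18526,
  0, 40520, 0, 37448, 46120, 0, 11288, 0, 0, 14372, 0, 44116, 26642, 0, 10270, 0,
  0, 7752, 53832, 0, 0, 37928, 42008, 0, 0, 22564, 26644, 0, 0, 18642, 18462, 0,
  56904, 0, 0, 4680, 0, 5160, 9240, 0, 0, 6180, 10260, 0, 18450, 0, 0, 18654]

/-- the table entry for a form -/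
def ell_w (q0 q1 q2 q3 x01 x02 x03 x12 x13 x23 : ZMod 2) : ℕ :=
  ell_tab.getD (q0.val + 2 * q1.val + 4 * q2.val + 8 * q3.val + 16 * x01.val + 32 * x02.val +
    64 * x03.val + 128 * x12.val + 256 * x13.val + 512 * x23.val) 0

/-- a Boolean multiple -/
def ell_sm (a : Bool) (x : F1T) : F1T := if a then x else 0

/-- the conditions on a standard basis, in the model -/
def ell_good (q0 q1 q2 q3 x01 x02 x03 x12 x13 x23 : ZMod 2) (x1 x2 y1 y2 : F1T) : Prop :=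
  f1P q0 q1 q2 q3 x01 x02 x03 x12 x13 x23 x1 = 0 ∧
  f1P q0 q1 q2 q3 x01 x02 x03 x12 x13 x23 x2 = 0 ∧
  f1P q0 q1 q2 q3 x01 x02 x03 x12 x13 x23 (x1 + x2) = 1 ∧
  f1P q0 q1 q2 q3 x01 x02 x03 x12 x13 x23 y1 = 1 ∧
  f1P q0 q1 q2 q3 x01 x02 x03 x12 x13 x23 y2 = 1 ∧
  f1P q0 q1 q2 q3 x01 x02 x03 x12 x13 x23 (y1 + y2) = 1 ∧
  f1P q0 q1 q2 q3 x01 x02 x03 x12 x13 x23 (x1 + y1) = 1 ∧
  f1P q0 q1 q2 q3 x01 x02 x03 x12 x13 x23 (x1 + y2) = 1 ∧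
  f1P q0 q1 q2 q3 x01 x02 x03 x12 x13 x23 (x2 + y1) = 1 ∧
  f1P q0 q1 q2 q3 x01 x02 x03 x12 x13 x23 (x2 + y2) = 1 ∧
  ∀ t : F1T, ∃ a b c d : Bool, t = ell_sm a x1 + ell_sm b x2 + ell_sm c y1 + ell_sm d y2

instance ell_good_dec (q0 q1 q2 q3 x01 x02 x03 x12 x13 x23 : ZMod 2) (x1 x2 y1 y2 : F1T) :
    Decidable (ell_good q0 q1 q2 q3 x01 x02 x03 x12 x13 x23 x1 x2 y1 y2) := by
  unfold ell_good
  infer_instance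

/-- the model statement -/
theorem ell_model : ∀ q0 q1 q2 q3 x01 x02 x03 x12 x13 x23 : ZMod 2,
    Fintype.card {t : F1T // f1P q0 q1 q2 q3 x01 x02 x03 x12 x13 x23 t = 0} = 6 →
    ell_good q0 q1 q2 q3 x01 x02 x03 x12 x13 x23
      (ell_dec (ell_w q0 q1 q2 q3 x01 x02 x03 x12 x13 x23))
      (ell_dec (ell_w q0 q1 q2 q3 x01 x02 x03 x12 x13 x23 / 16))
      (ell_dec (ell_w q0 q1 q2 q3 x01 x02 x03 x12 x13 x23 / 256))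
      (ell_dec (ell_w q0 q1 q2 q3 x01 x02 x03 x12 x13 x23 / 4096)) := by
  decide +kernel

section Abstract

variable {W : Type*} [Group W] [Finite W]

/-- **A5Q-ELL.** An elliptic quadratic form on `2^4` has a standard basis: a hyperbolic pair
`x₁, x₂` and an anisotropic pair `y₁, y₂`, orthogonal to each other. -/
theorem exists_elliptic_basis (hW : ∀ w : W, w * w = 1) (hcard : Nat.card W = 16)
    (Q : W → ZMod 2) (hQ : IsQuad Q) (h6 : Nat.card (zer Q) = 6) :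
    ∃ x₁ x₂ y₁ y₂ : W, Q x₁ = 0 ∧ Q x₂ = 0 ∧ Q (x₁ * x₂) = 1 ∧ Q y₁ = 1 ∧ Q y₂ = 1 ∧
      Q (y₁ * y₂) = 1 ∧ Q (x₁ * y₁) = 1 ∧ Q (x₁ * y₂) = 1 ∧ Q (x₂ * y₁) = 1 ∧ Q (x₂ * y₂) = 1 ∧
      Subgroup.closure {x₁, x₂, y₁, y₂} = ⊤ := by
  obtain ⟨φ, hφ, hmul⟩ := f1_exists_param hW hcard
  set Q' : F1T → ZMod 2 := fun t => Q (φ t) with hQ'def
  have hQ' : ∀ x y z : F1T,
      Q' (x + y + z) + Q' (x + y) + Q' (x + z) + Q' (y + z) + Q' x + Q' y + Q' z = 0 := by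
    intro x y z
    show Q (φ (x + y + z)) + Q (φ (x + y)) + Q (φ (x + z)) + Q (φ (y + z)) + Q (φ x) + Q (φ y) +
      Q (φ z) = 0
    rw [hmul, hmul, hmul, hmul]
    exact hQ (φ x) (φ y) (φ z)
  have hform := f1_formula Q' hQ'
  have hc : Nat.card (zer Q) = Fintype.card {t : F1T // f1P (Q' (1, 0, 0, 0)) (Q' (0, 1, 0, 0))
      (Q' (0, 0, 1, 0)) (Q' (0, 0, 0, 1)) (Q' (1, 1, 0, 0)) (Q' (1, 0, 1, 0)) (Q' (1, 0, 0, 1))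
      (Q' (0, 1, 1, 0)) (Q' (0, 1, 0, 1)) (Q' (0, 0, 1, 1)) t = 0} := by
    rw [← Nat.card_eq_fintype_card]
    symm
    apply Nat.card_congr
    refine (Equiv.ofBijective φ hφ).subtypeEquiv ?_
    intro t
    show _ ↔ φ t ∈ zer Q
    rw [mem_zer, ← hform t]
  rw [hc] at h6
  have hm := ell_model _ _ _ _ _ _ _ _ _ _ h6
  obtain ⟨x1, x2, y1, y2, hg⟩ : ∃ x1 x2 y1 y2 : F1T, ell_good (Q' (1, 0, 0, 0)) (Q' (0, 1, 0, 0))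
      (Q' (0, 0, 1, 0)) (Q' (0, 0, 0, 1)) (Q' (1, 1, 0, 0)) (Q' (1, 0, 1, 0)) (Q' (1, 0, 0, 1))
      (Q' (0, 1, 1, 0)) (Q' (0, 1, 0, 1)) (Q' (0, 0, 1, 1)) x1 x2 y1 y2 := ⟨_, _, _, _, hm⟩
  clear hm
  obtain ⟨g1, g2, g3, g4, g5, g6, g7, g8, g9, g10, hspan⟩ := hg
  rw [← hform] at g1 g2 g3 g4 g5 g6 g7 g8 g9 g10
  have hφ0 : φ 0 = 1 := by
    have h := hmul 0 0
    rw [add_zero] at h
    exact h.trans (hW (φ 0))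
  refine ⟨φ x1, φ x2, φ y1, φ y2, g1, g2, ?_, g4, g5, ?_, ?_, ?_, ?_, ?_, ?_⟩
  · rw [← hmul]; exact g3
  · rw [← hmul]; exact g6
  · rw [← hmul]; exact g7
  · rw [← hmul]; exact g8
  · rw [← hmul]; exact g9
  · rw [← hmul]; exact g10
  · rw [eq_top_iff]
    intro w _
    obtain ⟨t, rfl⟩ := hφ.2 w
    obtain ⟨a, b, c, d, ht⟩ := hspan t
    have hsm : ∀ (a : Bool) (x : F1T), x ∈ ({x1, x2, y1, y2} : Set F1T) →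
        φ (ell_sm a x) ∈ Subgroup.closure {φ x1, φ x2, φ y1, φ y2} := by
      intro a x hx
      cases a
      · show φ 0 ∈ _
        rw [hφ0]; exact one_mem _
      · show φ x ∈ _
        apply Subgroup.subset_closure
        rcases hx with rfl | rfl | rfl | rfl <;> simp
    rw [ht, hmul, hmul, hmul]
    exact mul_mem (mul_mem (mul_mem (hsm a x1 (by simp)) (hsm b x2 (by simp)))
      (hsm c y1 (by simp))) (hsm d y2 (by simp))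

end Abstract

end Cfsg.Agent.Helper20.A5Q
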