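import Mathlib
import Cfsg.Agent.Lib.Helper15.PSLkDefs

/-!
# S2480 piece PSLK-TSCALE: `tupleOfDecomp` commutes with `scaleRoots`.
-/

open Polynomial

namespace Cfsg.Agent.Helper15.PSLk

open Cfsg.Agent.Helper17.GLk Cfsg.Agent.Helper17.SLk

universe u

section pieces
variable {F : Type u} [Field F]

theorem pslk_tscale_nrm (p : F[X]) (c : F) : nrm (scaleRoots p c) = scaleRoots (nrm p) c := by
  rw [nrm_eq, nrm_eq, leadingCoeff_scaleRoots, mul_scaleRoots_of_noZeroDivisors, scaleRoots_C]

theorem pslk_tscale_prod {ι : Type u} (s : Finset ι) (f : ι → F[X]) (c : F) :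
    ∏ i ∈ s, scaleRoots (f i) c = scaleRoots (∏ i ∈ s, f i) c := by
  classical
  induction s using Finset.induction_on with
  | empty => simp [one_scaleRoots]
  | insert a s ha ih =>
    rw [Finset.prod_insert ha, Finset.prod_insert ha, ih, mul_scaleRoots_of_noZeroDivisors]

/-- PIECE PSLK-TSCALE. -/
theorem tupleOfDecomp_scaleRoots {ι : Type u} [Fintype ι] (p : ι → F[X]) (e : ι → ℕ) (c : F)
    (j : ℕ) :
    tupleOfDecomp (fun i => scaleRoots (p i) c) e j = scaleRoots (tupleOfDecomp p e j) c := by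
  classical
  rw [tupleOfDecomp_eq, tupleOfDecomp_eq, ← pslk_tscale_prod]
  apply Finset.prod_congr rfl
  intro i _
  exact pslk_tscale_nrm (p i) c

end pieces

end Cfsg.Agent.Helper15.PSLk
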