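import Mathlib
import Cfsg.Agent.Lib.Helper15.PSLkDefs

/-!
# S2480 piece PSLK-UCOMB: the min-sums determine the type tuple.
-/

open Polynomial

namespace Cfsg.Agent.Helper15.PSLk

open Cfsg.Agent.Helper17.GLk Cfsg.Agent.Helper17.SLk

universe u

section pieces
variable {F : Type u} [Field F]

theorem pslk_ucomb_nrm_monic (p : F[X]) (hp : p ≠ 0) : (nrm p).Monic := by
  rw [nrm_eq]
  exact monic_mul_leadingCoeff_inv hp

theorem pslk_ucomb_nrm_assoc (p : F[X]) (hp : p ≠ 0) : Associated (nrm p) p := by
  rw [nrm_eq]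
  apply associated_mul_unit_left
  rw [Polynomial.isUnit_iff]
  refine ⟨p.leadingCoeff⁻¹, ?_, rfl⟩
  exact isUnit_iff_ne_zero.2 (inv_ne_zero (leadingCoeff_ne_zero.2 hp))

theorem pslk_ucomb_eq_nrm_iff (Q p : F[X]) (hQ : Q.Monic) (hp : p ≠ 0) :
    Q = nrm p ↔ Associated Q p := by
  constructor
  · intro h
    rw [h]
    exact pslk_ucomb_nrm_assoc p hp
  · intro h
    exact eq_of_monic_of_associated hQ (pslk_ucomb_nrm_monic p hp)
      (h.trans (pslk_ucomb_nrm_assoc p hp).symm)

open Classical in
/-- the counting identity: `2 S j = S (j-1) + S (j+1) + #{i | P ~ p i, e i = j}`. -/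
theorem pslk_ucomb_count {ι : Type u} [Fintype ι] (p : ι → F[X]) (e : ι → ℕ) (P : F[X])
    (j : ℕ) (hj : 1 ≤ j) :
    2 * ∑ i, (if Associated P (p i) then min j (e i) else 0) =
      ∑ i, (if Associated P (p i) then min (j - 1) (e i) else 0) +
      ∑ i, (if Associated P (p i) then min (j + 1) (e i) else 0) +
      (Finset.univ.filter (fun i => Associated P (p i) ∧ e i = j)).card := by
  rw [Finset.card_filter, Finset.mul_sum, ← Finset.sum_add_distrib, ← Finset.sum_add_distrib]
  apply Finset.sum_congr rfl
  intro i _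
  by_cases hA : Associated P (p i)
  · by_cases hej : e i = j
    · simp only [hA, hej, if_true, and_self]
      have h1 : min j j = j := min_self j
      have h2 : min (j - 1) j = j - 1 := min_eq_left (Nat.sub_le j 1)
      have h3 : min (j + 1) j = j := min_eq_right (Nat.le_succ j)
      rw [h1, h2, h3]
      omega
    · simp only [hA, hej, if_true, and_false, if_false]
      rcases Nat.lt_or_gt_of_ne hej with h | h
      · have h1 : min j (e i) = e i := min_eq_right h.le
        have h2 : min (j - 1) (e i) = e i := min_eq_right (by omega)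
        have h3 : min (j + 1) (e i) = e i := min_eq_right (by omega)
        rw [h1, h2, h3]
        omega
      · have h1 : min j (e i) = j := min_eq_left h.le
        have h2 : min (j - 1) (e i) = j - 1 := min_eq_left (by omega)
        have h3 : min (j + 1) (e i) = j + 1 := min_eq_left (by omega)
        rw [h1, h2, h3]
        omega
  · simp [hA]

open Classical in
/-- PIECE PSLK-UCOMB. -/
theorem tuple_eq_of_sum_min {ι ι' : Type u} [Fintype ι] [Fintype ι'] {p : ι → F[X]} {e : ι → ℕ}
    {p' : ι' → F[X]} {e' : ι' → ℕ}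
    (hp : ∀ i, Irreducible (p i)) (hp' : ∀ i, Irreducible (p' i))
    (h : ∀ P : F[X], Irreducible P → ∀ k : ℕ,
      ∑ i, (if Associated P (p i) then min k (e i) else 0) =
        ∑ i, (if Associated P (p' i) then min k (e' i) else 0))
    (j : ℕ) (hj : 1 ≤ j) : tupleOfDecomp p e j = tupleOfDecomp p' e' j := by
  rw [tupleOfDecomp_eq, tupleOfDecomp_eq, Finset.prod_eq_multiset_prod,
    Finset.prod_eq_multiset_prod]
  congr 1
  ext Q
  rw [Multiset.count_map, Multiset.count_map, ← Finset.filter_val, ← Finset.filter_val,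
    ← Finset.card_def, ← Finset.card_def, Finset.filter_filter, Finset.filter_filter]
  by_cases hQ : Q.Monic ∧ Irreducible Q
  · obtain ⟨hQm, hQi⟩ := hQ
    have e1 : Finset.univ.filter (fun i => e i = j ∧ Q = nrm (p i)) =
        Finset.univ.filter (fun i => Associated Q (p i) ∧ e i = j) := by
      apply Finset.filter_congr
      intro i _
      rw [pslk_ucomb_eq_nrm_iff Q (p i) hQm (hp i).ne_zero, and_comm]
    have e2 : Finset.univ.filter (fun i => e' i = j ∧ Q = nrm (p' i)) =
        Finset.univ.filter (fun i => Associated Q (p' i) ∧ e' i = j) := by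
      apply Finset.filter_congr
      intro i _
      rw [pslk_ucomb_eq_nrm_iff Q (p' i) hQm (hp' i).ne_zero, and_comm]
    rw [e1, e2]
    have c1 := pslk_ucomb_count p e Q j hj
    have c2 := pslk_ucomb_count p' e' Q j hj
    rw [h Q hQi j, h Q hQi (j - 1), h Q hQi (j + 1)] at c1
    omega
  · have z1 : Finset.univ.filter (fun i => e i = j ∧ Q = nrm (p i)) = ∅ := by
      apply Finset.filter_eq_empty_iff.2
      rintro i _ ⟨_, hQi⟩
      apply hQ
      rw [hQi]
      exact ⟨pslk_ucomb_nrm_monic _ (hp i).ne_zero,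
        (pslk_ucomb_nrm_assoc _ (hp i).ne_zero).symm.irreducible (hp i)⟩
    have z2 : Finset.univ.filter (fun i => e' i = j ∧ Q = nrm (p' i)) = ∅ := by
      apply Finset.filter_eq_empty_iff.2
      rintro i _ ⟨_, hQi⟩
      apply hQ
      rw [hQi]
      exact ⟨pslk_ucomb_nrm_monic _ (hp' i).ne_zero,
        (pslk_ucomb_nrm_assoc _ (hp' i).ne_zero).symm.irreducible (hp' i)⟩
    rw [z1, z2, Finset.card_empty, Finset.card_empty]

end pieces

end Cfsg.Agent.Helper15.PSLk
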