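import Mathlib

/-!
Counting conjugacy classes of π-elements: `k_π(G) ≤ k_π(N) k_π(G/N)`.
-/

namespace Cfsg.Agent.Helper21.KPi

open Subgroup

section general

variable (π : Set ℕ)

/-- `x` is a π-element -/
def IsPi {X : Type*} [Group X] (x : X) : Prop := ∀ q : ℕ, q.Prime → q ∣ orderOf x → q ∈ π

theorem orderOf_conj' {X : Type*} [Group X] (c x : X) : orderOf (c * x * c⁻¹) = orderOf x := by
  have := orderOf_injective (MulAut.conj c).toMonoidHom (MulAut.conj c).injective x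
  simpa using this

theorem isPi_conj {X : Type*} [Group X] {x : X} (c : X) (hx : IsPi π x) : IsPi π (c * x * c⁻¹) := by
  intro q hq hd
  apply hx q hq
  rwa [orderOf_conj'] at hd

/-- the class condition of the statement -/
def Cond {X : Type*} [Group X] (C : ConjClasses X) : Prop :=
  ∀ q : ℕ, q.Prime → (∃ g : X, ConjClasses.mk g = C ∧ q ∣ orderOf g) → q ∈ π

theorem cond_mk_iff {X : Type*} [Group X] (x : X) : Cond π (ConjClasses.mk x) ↔ IsPi π x := by
  constructor
  · intro h q hq hd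
    exact h q hq ⟨x, rfl, hd⟩
  · rintro h q hq ⟨g, hg, hd⟩
    rw [ConjClasses.mk_eq_mk_iff_isConj, isConj_iff] at hg
    obtain ⟨c, rfl⟩ := hg
    have h2 := h q hq
    rw [orderOf_conj'] at h2
    exact h2 hd

/-- number of classes of π-elements -/
noncomputable def kpi (X : Type*) [Group X] : ℕ := Nat.card {C : ConjClasses X // Cond π C}

/-- number of commuting pairs with first component a π-element -/
noncomputable def Ppi (X : Type*) [Group X] : ℕ :=
  Nat.card {p : X × X // IsPi π p.1 ∧ Commute p.1 p.2}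

/-- the π-elements as a `ConjAct`-invariant subset -/
def piSub (X : Type*) [Group X] : SubMulAction (ConjAct X) X where
  carrier := {x | IsPi π x}
  smul_mem' := fun c x hx => by
    show IsPi π (c • x)
    rw [ConjAct.smul_def]
    exact isPi_conj π _ hx

theorem mem_piSub {X : Type*} [Group X] (x : X) : x ∈ piSub π X ↔ IsPi π x := Iff.rfl

/-- orbits of π-elements vs π-classes -/
noncomputable def orbitsEquiv (X : Type*) [Group X] :
    {C : ConjClasses X // Cond π C} ≃ Quotient (MulAction.orbitRel (ConjAct X) (piSub π X)) :=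
  Equiv.subtypeQuotientEquivQuotientSubtype (fun x => x ∈ piSub π X) (s₁ := IsConj.setoid X)
    (s₂ := MulAction.orbitRel (ConjAct X) (piSub π X)) (Cond π)
    (fun a => (cond_mk_iff π a).symm)
    (fun x y => by
      show x ∈ MulAction.orbit (ConjAct X) y ↔ IsConj x.1 y.1
      constructor
      · rintro ⟨c, hc⟩
        rw [isConj_comm, isConj_iff]
        refine ⟨ConjAct.ofConjAct c, ?_⟩
        have := congrArg Subtype.val hc
        simpa [ConjAct.smul_def] using this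
      · intro h
        rw [isConj_comm, isConj_iff] at h
        obtain ⟨c, hc⟩ := h
        refine ⟨ConjAct.toConjAct c, Subtype.ext ?_⟩
        simpa [ConjAct.smul_def] using hc)

/-- commuting pairs vs fixed points -/
def pairsEquiv (X : Type*) [Group X] :
    {p : X × X // IsPi π p.1 ∧ Commute p.1 p.2} ≃
      (Σ a : ConjAct X, MulAction.fixedBy (piSub π X) a) where
  toFun p := ⟨ConjAct.toConjAct p.1.2, ⟨⟨p.1.1, p.2.1⟩, by
    rw [MulAction.mem_fixedBy]
    apply Subtype.ext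
    show ConjAct.toConjAct p.1.2 • p.1.1 = p.1.1
    rw [ConjAct.smul_def, ConjAct.ofConjAct_toConjAct, ← p.2.2.eq, mul_inv_cancel_right]⟩⟩
  invFun s := ⟨(s.2.1.1, ConjAct.ofConjAct s.1), s.2.1.2, by
    have h := s.2.2
    rw [MulAction.mem_fixedBy] at h
    have h2 : s.1 • s.2.1.1 = s.2.1.1 := congrArg Subtype.val h
    rw [ConjAct.smul_def] at h2
    show s.2.1.1 * ConjAct.ofConjAct s.1 = ConjAct.ofConjAct s.1 * s.2.1.1
    rw [mul_inv_eq_iff_eq_mul] at h2
    exact h2.symm⟩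
  left_inv p := by
    rcases p with ⟨⟨x, y⟩, h1, h2⟩
    rfl
  right_inv s := by
    rcases s with ⟨a, ⟨⟨x, hx⟩, hf⟩⟩
    rfl

theorem Ppi_eq (X : Type*) [Group X] [Finite X] : Ppi π X = kpi π X * Nat.card X := by
  classical
  haveI : Fintype X := Fintype.ofFinite X
  haveI : Fintype (ConjAct X) := Fintype.ofFinite _
  have h1 : Ppi π X = Nat.card (Σ a : ConjAct X, MulAction.fixedBy (piSub π X) a) :=
    Nat.card_congr (pairsEquiv π X)
  have h2 : kpi π X = Nat.card (Quotient (MulAction.orbitRel (ConjAct X) (piSub π X))) :=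
    Nat.card_congr (orbitsEquiv π X)
  rw [h1, h2, Nat.card_sigma]
  have h3 := MulAction.sum_card_fixedBy_eq_card_orbits_mul_card_group (ConjAct X) (piSub π X)
  simp only [← Nat.card_eq_fintype_card] at h3
  rw [h3]
  rfl

theorem exists_split (n : ℕ) (hn : 0 < n) : ∃ a b : ℕ, a * b = n ∧ a.Coprime b ∧
    (∀ q : ℕ, q.Prime → q ∣ a → q ∈ π) ∧ (∀ q : ℕ, q.Prime → q ∣ b → q ∉ π) := by
  classical
  induction n using Nat.strong_induction_on with
  | _ n ih =>
    by_cases h1 : n = 1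
    · exact ⟨1, 1, by simp [h1], by simp, fun q hq hd => absurd (Nat.dvd_one.1 hd) hq.ne_one,
        fun q hq hd => absurd (Nat.dvd_one.1 hd) hq.ne_one⟩
    · have hq : (n.minFac).Prime := Nat.minFac_prime h1
      obtain ⟨k, m, hqm, hnm⟩ := Nat.exists_eq_pow_mul_and_not_dvd hn.ne' n.minFac hq.ne_one
      have hk : k ≠ 0 := by
        rintro rfl
        apply hqm
        rw [pow_zero, one_mul] at hnm
        rw [← hnm]
        exact Nat.minFac_dvd n
      have hm0 : 0 < m := by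
        rcases Nat.eq_zero_or_pos m with h | h
        · rw [h, mul_zero] at hnm; omega
        · exact h
      have hqk : 2 ≤ n.minFac ^ k := by
        calc 2 ≤ n.minFac := hq.two_le
          _ = n.minFac ^ 1 := (pow_one _).symm
          _ ≤ n.minFac ^ k := Nat.pow_le_pow_right hq.pos (Nat.one_le_iff_ne_zero.2 hk)
      have hmn : m < n := by
        rw [hnm]
        nlinarith
      obtain ⟨a, b, hab, hcop, ha, hb⟩ := ih m hmn hm0
      have hcq : (n.minFac ^ k).Coprime m :=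
        Nat.Coprime.pow_left k ((Nat.Prime.coprime_iff_not_dvd hq).2 hqm)
      have hcqa : (n.minFac ^ k).Coprime a := hcq.coprime_dvd_right (Dvd.intro _ hab)
      have hcqb : (n.minFac ^ k).Coprime b := hcq.coprime_dvd_right (Dvd.intro_left _ hab)
      by_cases hqπ : n.minFac ∈ π
      · refine ⟨n.minFac ^ k * a, b, by rw [mul_assoc, hab]; exact hnm.symm, Nat.Coprime.mul_left hcqb hcop,
          ?_, hb⟩
        intro r hr hd
        rcases (Nat.Prime.dvd_mul hr).1 hd with h | h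
        · have := (Nat.prime_dvd_prime_iff_eq hr hq).1 (hr.dvd_of_dvd_pow h)
          rwa [this]
        · exact ha r hr h
      · refine ⟨a, n.minFac ^ k * b, by rw [mul_left_comm, hab]; exact hnm.symm,
          Nat.Coprime.mul_right hcqa.symm hcop, ha, ?_⟩
        intro r hr hd
        rcases (Nat.Prime.dvd_mul hr).1 hd with h | h
        · have := (Nat.prime_dvd_prime_iff_eq hr hq).1 (hr.dvd_of_dvd_pow h)
          rwa [this]
        · exact hb r hr h

theorem exists_exps (G : Type*) [Group G] [Finite G] : ∃ e e' : ℕ, (∀ g : G, IsPi π (g ^ e)) ∧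
    (∀ x : G, IsPi π x → x ^ e = x) ∧ (∀ g : G, (g ^ e') ^ e = 1) ∧
    (∀ g : G, g ^ e * g ^ e' = g) := by
  obtain ⟨a, b, hab, hcop, ha, hb⟩ := exists_split π (Nat.card G) Nat.card_pos
  obtain ⟨e, he1, he0⟩ := Nat.chineseRemainder hcop 1 0
  obtain ⟨e', he'0, he'1⟩ := Nat.chineseRemainder hcop 0 1
  have hbe : b ∣ e := (Nat.modEq_zero_iff_dvd).1 he0
  have hae' : a ∣ e' := (Nat.modEq_zero_iff_dvd).1 he'0
  have hcard : ∀ g : G, g ^ (a * b) = 1 := fun g => by rw [hab]; exact pow_card_eq_one'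
  refine ⟨e, e', ?_, ?_, ?_, ?_⟩
  · intro g q hq hd
    apply ha q hq
    refine hd.trans ?_
    apply orderOf_dvd_of_pow_eq_one
    rw [← pow_mul]
    obtain ⟨c, rfl⟩ := hbe
    have : b * c * a = (a * b) * c := by ring
    rw [this, pow_mul, hcard, one_pow]
  · intro x hx
    have hxa : orderOf x ∣ a := by
      have h1 : orderOf x ∣ a * b := by rw [hab]; exact orderOf_dvd_natCard x
      refine Nat.Coprime.dvd_of_dvd_mul_right ?_ h1
      by_contra hnc
      obtain ⟨r, hr, hr1, hr2⟩ := Nat.Prime.not_coprime_iff_dvd.1 hnc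
      exact hb r hr hr2 (hx r hr hr1)
    have h2 : e ≡ 1 [MOD orderOf x] := he1.of_dvd hxa
    have h3 := (pow_eq_pow_iff_modEq (x := x)).2 h2
    rwa [pow_one] at h3
  · intro g
    rw [← pow_mul]
    obtain ⟨c, rfl⟩ := hbe
    obtain ⟨d, rfl⟩ := hae'
    have : a * d * (b * c) = (a * b) * (d * c) := by ring
    rw [this, pow_mul, hcard, one_pow]
  · intro g
    rw [← pow_add]
    have h1 : e + e' ≡ 1 [MOD a] := by simpa using he1.add he'0
    have h2 : e + e' ≡ 1 [MOD b] := by simpa using he0.add he'1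
    have h3 : e + e' ≡ 1 [MOD a * b] := (Nat.modEq_and_modEq_iff_modEq_mul hcop).1 ⟨h1, h2⟩
    have h4 : e + e' ≡ 1 [MOD orderOf g] := h3.of_dvd (by rw [hab]; exact orderOf_dvd_natCard g)
    have h5 := (pow_eq_pow_iff_modEq (x := g)).2 h4
    rwa [pow_one] at h5

end general

section main

variable {G : Type*} [Group G] (N : Subgroup G) [N.Normal] (π : Set ℕ)

open Classical in
/-- a chosen element of the coset `v` commuting with `x` (if there is one) -/
noncomputable def c1 (x : G) (v : G ⧸ N) : G :=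
  if h : ∃ y : G, (y : G ⧸ N) = v ∧ Commute x y then h.choose else 1

theorem c1_spec {x y : G} (h : Commute x y) :
    ((c1 N x (y : G ⧸ N) : G) : G ⧸ N) = (y : G ⧸ N) ∧ Commute x (c1 N x (y : G ⧸ N)) := by
  have hex : ∃ y' : G, (y' : G ⧸ N) = (y : G ⧸ N) ∧ Commute x y' := ⟨y, rfl, h⟩
  unfold c1
  rw [dif_pos hex]
  exact hex.choose_spec

/-- the forward map -/
noncomputable def F (e e' : ℕ) (p : G × G) : (G × G) × ((G ⧸ N) × (G ⧸ N)) :=
  (((((c1 N p.1 (p.2 : G ⧸ N))⁻¹ * p.2) ^ e,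
    (c1 N ((((c1 N p.1 (p.2 : G ⧸ N))⁻¹ * p.2)) ^ e) (p.1 : G ⧸ N))⁻¹ *
      (p.1 * (((c1 N p.1 (p.2 : G ⧸ N))⁻¹ * p.2)) ^ e'))),
    ((p.1 : G ⧸ N), (p.2 : G ⧸ N)))

/-- the backward map -/
noncomputable def Finv (e : ℕ) (r : (G × G) × ((G ⧸ N) × (G ⧸ N))) : G × G :=
  ((c1 N r.1.1 r.2.1 * r.1.2) ^ e,
    c1 N ((c1 N r.1.1 r.2.1 * r.1.2) ^ e) r.2.2 *
      (r.1.1 * (((c1 N r.1.1 r.2.1 * r.1.2) ^ e)⁻¹ * (c1 N r.1.1 r.2.1 * r.1.2))))

theorem F_props {e e' : ℕ} (h1 : ∀ g : G, IsPi π (g ^ e)) (h2 : ∀ x : G, IsPi π x → x ^ e = x)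
    (h3 : ∀ g : G, (g ^ e') ^ e = 1) (h4 : ∀ g : G, g ^ e * g ^ e' = g)
    {x y : G} (hx : IsPi π x) (hxy : Commute x y) :
    (F N e e' (x, y)).1.1 ∈ N ∧ (F N e e' (x, y)).1.2 ∈ N ∧ IsPi π (F N e e' (x, y)).1.1 ∧
      Commute (F N e e' (x, y)).1.1 (F N e e' (x, y)).1.2 ∧
      Finv N e (F N e e' (x, y)) = (x, y) := by
  obtain ⟨hc1, hc2⟩ := c1_spec N hxy
  set c := c1 N x (y : G ⧸ N) with hc
  set n := c⁻¹ * y with hn
  have hnN : n ∈ N := by
    rw [hn, ← QuotientGroup.eq]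
    exact hc1
  have hxn : Commute x n := hc2.inv_right.mul_right hxy
  set z := x * n ^ e' with hz
  set m := n ^ e with hm
  have hmN : m ∈ N := N.pow_mem hnN e
  have hzx : (z : G ⧸ N) = (x : G ⧸ N) := by
    rw [hz, QuotientGroup.mk_mul, (QuotientGroup.eq_one_iff _).2 (N.pow_mem hnN e'), mul_one]
  have hmz : Commute m z := by
    rw [hm, hz]
    exact (hxn.symm.pow_left e).mul_right ((Commute.refl n).pow_pow e e')
  obtain ⟨hd1, hd2⟩ := c1_spec N hmz
  rw [hzx] at hd1 hd2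
  set d := c1 N m (x : G ⧸ N) with hd
  have hF : F N e e' (x, y) = ((m, d⁻¹ * z), ((x : G ⧸ N), (y : G ⧸ N))) := rfl
  rw [hF]
  refine ⟨hmN, ?_, h1 n, hd2.inv_right.mul_right hmz, ?_⟩
  · show d⁻¹ * z ∈ N
    rw [← QuotientGroup.eq, hd1, hzx]
  · have hze : z ^ e = x := by
      rw [hz, (hxn.pow_right e').mul_pow, h2 x hx, h3, mul_one]
    show Finv N e ((m, d⁻¹ * z), ((x : G ⧸ N), (y : G ⧸ N))) = (x, y)
    unfold Finv
    simp only
    rw [← hd, mul_inv_cancel_left, hze, ← hc]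
    refine Prod.ext rfl ?_
    show c * (m * (x⁻¹ * z)) = y
    rw [hz, inv_mul_cancel_left, hm, h4, hn, mul_inv_cancel_left]

theorem Ppi_le [Finite G] : Ppi π G ≤ Ppi π N * Ppi π (G ⧸ N) := by
  obtain ⟨e, e', h1, h2, h3, h4⟩ := exists_exps π G
  unfold Ppi
  rw [← Nat.card_prod]
  have hp : ∀ s : {p : G × G // IsPi π p.1 ∧ Commute p.1 p.2},
      (F N e e' s.1).1.1 ∈ N ∧ (F N e e' s.1).1.2 ∈ N ∧ IsPi π (F N e e' s.1).1.1 ∧
      Commute (F N e e' s.1).1.1 (F N e e' s.1).1.2 ∧ Finv N e (F N e e' s.1) = s.1 :=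
    fun s => F_props N π h1 h2 h3 h4 (x := s.1.1) (y := s.1.2) s.2.1 s.2.2
  let f : {p : G × G // IsPi π p.1 ∧ Commute p.1 p.2} →
      {p : N × N // IsPi π p.1 ∧ Commute p.1 p.2} ×
        {p : (G ⧸ N) × (G ⧸ N) // IsPi π p.1 ∧ Commute p.1 p.2} := fun s =>
    (⟨(⟨(F N e e' s.1).1.1, (hp s).1⟩, ⟨(F N e e' s.1).1.2, (hp s).2.1⟩),
      (by
        intro q hq hd
        apply (hp s).2.2.1 q hq
        rwa [Subgroup.orderOf_mk] at hd),
      (by
        show (⟨(F N e e' s.1).1.1, (hp s).1⟩ : N) * ⟨(F N e e' s.1).1.2, (hp s).2.1⟩ =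
          ⟨(F N e e' s.1).1.2, (hp s).2.1⟩ * ⟨(F N e e' s.1).1.1, (hp s).1⟩
        exact Subtype.ext (hp s).2.2.2.1.eq)⟩,
     ⟨(F N e e' s.1).2,
      (by
        intro q hq hd
        exact s.2.1 q hq (hd.trans (orderOf_map_dvd (QuotientGroup.mk' N) s.1.1))),
      (by
        exact s.2.2.map (QuotientGroup.mk' N))⟩)
  apply Nat.card_le_card_of_injective f
  intro s s' hss'
  have ha : (F N e e' s.1).1.1 = (F N e e' s'.1).1.1 :=
    congrArg (fun t => ((t.1.1.1 : N) : G)) hss'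
  have hb : (F N e e' s.1).1.2 = (F N e e' s'.1).1.2 :=
    congrArg (fun t => ((t.1.1.2 : N) : G)) hss'
  have hc : (F N e e' s.1).2 = (F N e e' s'.1).2 :=
    congrArg (fun t => (t.2.1 : (G ⧸ N) × (G ⧸ N))) hss'
  have hF : F N e e' s.1 = F N e e' s'.1 := Prod.ext (Prod.ext ha hb) hc
  apply Subtype.ext
  rw [← (hp s).2.2.2.2, ← (hp s').2.2.2.2, hF]

theorem kpi_le [Finite G] : kpi π G ≤ kpi π N * kpi π (G ⧸ N) := by
  have h := Ppi_le N π
  rw [Ppi_eq, Ppi_eq, Ppi_eq] at h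
  have hcard : Nat.card G = Nat.card (G ⧸ N) * Nat.card N :=
    Subgroup.card_eq_card_quotient_mul_card_subgroup N
  have h2 : kpi π G * Nat.card G ≤ (kpi π N * kpi π (G ⧸ N)) * Nat.card G := by
    calc kpi π G * Nat.card G ≤ kpi π N * Nat.card N * (kpi π (G ⧸ N) * Nat.card (G ⧸ N)) := h
      _ = (kpi π N * kpi π (G ⧸ N)) * Nat.card G := by rw [hcard]; ring
  exact Nat.le_of_mul_le_mul_right h2 Nat.card_pos

end main

end Cfsg.Agent.Helper21.KPi
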