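import Mathlib
import Cfsg.Agent.Lib.Helper17.SLkDefs

/-!
# S2479 piece SLK-FIBC: fibre count for the character `chiT f`.
-/

open Polynomial

namespace Cfsg.Agent.Helper17.SLk

open Cfsg.Agent.Helper17.GLk

universe u

section pieces2
variable {F : Type u} [Field F]

/-- PIECE SLK-FIBC: fibre count. -/
theorem card_fiber [Fintype F] {n : ℕ} (f : Fin n → F[X])
    (hmul : ∀ l l' : Fin n → Fˣ, chiT f (l * l') = chiT f l * chiT f l')
    (hrange : ∀ x : Fˣ, (∃ l : Fin n → Fˣ, chiT f l = x) ↔ ∃ y : Fˣ, y ^ gam f = x)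
    (hdet : ∃ y : Fˣ, ((y ^ gam f : Fˣ) : F) = detT f) :
    Nat.card {l : Fin n → Fˣ // ((chiT f l : Fˣ) : F) * detT f = 1} * (Fintype.card F - 1) =
      (Fintype.card F - 1) ^ n * Nat.gcd (Fintype.card F - 1) (gam f) := by
  classical
  obtain ⟨y, hy⟩ := hdet
  let χ : (Fin n → Fˣ) →* Fˣ := MonoidHom.mk' (chiT f) hmul
  have hχ : ∀ l, χ l = chiT f l := fun l => rfl
  have hr : χ.range = (powMonoidHom (gam f) : Fˣ →* Fˣ).range := by
    ext x
    simp only [MonoidHom.mem_range, powMonoidHom_apply]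
    exact hrange x
  obtain ⟨l0, hl0⟩ : ∃ l0, chiT f l0 = (y ^ gam f)⁻¹ :=
    (hrange _).2 ⟨y⁻¹, by rw [inv_pow]⟩
  have hfib : ∀ l, ((chiT f l : Fˣ) : F) * detT f = 1 ↔ l * l0⁻¹ ∈ χ.ker := by
    intro l
    rw [MonoidHom.mem_ker, map_mul, map_inv, hχ, hχ, hl0, inv_inv, ← hy, ← Units.val_mul,
      Units.val_eq_one]
  have e : {l : Fin n → Fˣ // ((chiT f l : Fˣ) : F) * detT f = 1} ≃ χ.ker :=
    { toFun := fun l => ⟨l.1 * l0⁻¹, (hfib l.1).1 l.2⟩
      invFun := fun k => ⟨k.1 * l0, (hfib _).2 (by simp)⟩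
      left_inv := fun l => by
        apply Subtype.ext
        simp
      right_inv := fun k => by
        apply Subtype.ext
        simp }
  rw [Nat.card_congr e]
  have h1 : Nat.card χ.ker * Nat.card χ.range = Nat.card (Fin n → Fˣ) := by
    rw [← Subgroup.index_ker]
    exact Subgroup.card_mul_index _
  have h2 : Nat.card χ.range =
      (Fintype.card F - 1) / Nat.gcd (Fintype.card F - 1) (gam f) := by
    rw [hr, IsCyclic.card_powMonoidHom_range, Nat.card_eq_fintype_card, Fintype.card_units]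
  have h3 : Nat.card (Fin n → Fˣ) = (Fintype.card F - 1) ^ n := by
    rw [Nat.card_eq_fintype_card, Fintype.card_fun, Fintype.card_units, Fintype.card_fin]
  have h4 : (Fintype.card F - 1) / Nat.gcd (Fintype.card F - 1) (gam f) *
      Nat.gcd (Fintype.card F - 1) (gam f) = Fintype.card F - 1 :=
    Nat.div_mul_cancel (Nat.gcd_dvd_left _ _)
  calc Nat.card χ.ker * (Fintype.card F - 1)
      = Nat.card χ.ker * (Nat.card χ.range * Nat.gcd (Fintype.card F - 1) (gam f)) := by
        rw [h2, h4]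
    _ = (Nat.card χ.ker * Nat.card χ.range) * Nat.gcd (Fintype.card F - 1) (gam f) := by ring
    _ = (Fintype.card F - 1) ^ n * Nat.gcd (Fintype.card F - 1) (gam f) := by rw [h1, h3]

end pieces2

end Cfsg.Agent.Helper17.SLk
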