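import Mathlib
import Cfsg.Agent.Lib.Helper17.SLkDefs

/-!
# S2479 piece SLK-FIBD: the determinant of a tuple in `Tup` is a unit and a `gam f`-th power.
-/

open Polynomial

namespace Cfsg.Agent.Helper17.SLk

open Cfsg.Agent.Helper17.GLk

universe u

section pieces2
variable {F : Type u} [Field F]

theorem slk_fibd_uconst_ne_zero {n : ℕ} (f : Fin n → F[X]) (hf : f ∈ Tup F n 1 n) (j : Fin n) :
    uconst (f j) ≠ 0 := by
  unfold uconst
  exact mul_ne_zero (pow_ne_zero _ (neg_ne_zero.2 one_ne_zero)) (hf.1 j).2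

theorem slk_fibd_gam_eq {n : ℕ} (f : Fin n → F[X]) [DecidablePred (fun j : Fin n => f j ≠ 1)] :
    gam f = (Finset.univ.filter (fun j : Fin n => f j ≠ 1)).gcd (fun j => (j : ℕ) + 1) := by
  unfold gam
  congr 1
  apply Finset.filter_congr_decidable

/-- PIECE SLK-FIBD: the determinant of a tuple in `Tup` is a unit and a `gam f`-th power. -/
theorem detT_eq_pow {n : ℕ} (f : Fin n → F[X]) (hf : f ∈ Tup F n 1 n) :
    ∃ y : Fˣ, ((y ^ gam f : Fˣ) : F) = detT f := by
  classical
  let u : Fin n → Fˣ := fun j => Units.mk0 (uconst (f j)) (slk_fibd_uconst_ne_zero f hf j)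
  set S := Finset.univ.filter (fun j : Fin n => f j ≠ 1) with hS
  have hgam : gam f = S.gcd (fun j => (j : ℕ) + 1) := slk_fibd_gam_eq f
  refine ⟨∏ j ∈ S, u j ^ (((j : ℕ) + 1) / gam f), ?_⟩
  have h1 : (∏ j ∈ S, u j ^ (((j : ℕ) + 1) / gam f)) ^ gam f =
      ∏ j ∈ S, u j ^ ((j : ℕ) + 1) := by
    rw [← Finset.prod_pow]
    apply Finset.prod_congr rfl
    intro j hj
    rw [← pow_mul]
    congr 1
    apply Nat.div_mul_cancel
    rw [hgam]
    exact Finset.gcd_dvd hj
  rw [h1]
  unfold detT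
  rw [Units.coe_prod, ← Finset.prod_subset (Finset.subset_univ S)]
  · apply Finset.prod_congr rfl
    intro j _
    simp [u]
  · intro j _ hj
    have hj1 : f j = 1 := by
      by_contra h
      exact hj (by rw [hS, Finset.mem_filter]; exact ⟨Finset.mem_univ _, h⟩)
    rw [hj1]
    simp [uconst]

end pieces2

end Cfsg.Agent.Helper17.SLk
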