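import Mathlib

/-!
# S2479 piece SLK-SLGL: `SL_n(F) ≃* ker det`, hence equal class numbers.
-/

namespace Cfsg.Agent.Helper17.SLk

universe u

section pieces
variable {F : Type u} [Field F]

/-- a multiplicative equivalence induces a bijection of conjugacy classes -/
theorem slgl_card_conjClasses_congr {G H : Type*} [Group G] [Group H] (e : G ≃* H) :
    Nat.card (ConjClasses G) = Nat.card (ConjClasses H) := by
  refine Nat.card_congr
    { toFun := ConjClasses.map e.toMonoidHom
      invFun := ConjClasses.map e.symm.toMonoidHom
      left_inv := ?_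
      right_inv := ?_ }
  · intro c
    obtain ⟨g, rfl⟩ := ConjClasses.mk_surjective c
    show ConjClasses.mk (e.symm.toMonoidHom (e.toMonoidHom g)) = ConjClasses.mk g
    simp
  · intro c
    obtain ⟨g, rfl⟩ := ConjClasses.mk_surjective c
    show ConjClasses.mk (e.toMonoidHom (e.symm.toMonoidHom g)) = ConjClasses.mk g
    simp

/-- `SL_n(F) ≃* ker det`. -/
noncomputable def slglEquiv (n : ℕ) :
    Matrix.SpecialLinearGroup (Fin n) F ≃*
      (Matrix.GeneralLinearGroup.det : Matrix.GeneralLinearGroup (Fin n) F →* Fˣ).ker :=
  MulEquiv.ofBijective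
    ((Matrix.SpecialLinearGroup.toGL :
        Matrix.SpecialLinearGroup (Fin n) F →* Matrix.GeneralLinearGroup (Fin n) F).codRestrict
      (Matrix.GeneralLinearGroup.det : Matrix.GeneralLinearGroup (Fin n) F →* Fˣ).ker
      (fun A => by
        rw [MonoidHom.mem_ker]
        apply Units.ext
        rw [Matrix.GeneralLinearGroup.val_det_apply]
        simp [Matrix.SpecialLinearGroup.coe_GL_coe_matrix]))
    (by
      constructor
      · intro A B hAB
        have := congrArg Subtype.val hAB
        simp only [MonoidHom.codRestrict_apply] at this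
        exact Matrix.SpecialLinearGroup.toGL_injective this
      · rintro ⟨g, hg⟩
        rw [MonoidHom.mem_ker] at hg
        have hdet : (g : Matrix (Fin n) (Fin n) F).det = 1 := by
          have := congrArg Units.val hg
          rwa [Matrix.GeneralLinearGroup.val_det_apply] at this
        refine ⟨⟨(g : Matrix (Fin n) (Fin n) F), hdet⟩, ?_⟩
        apply Subtype.ext
        apply Units.ext
        rfl)

/-- PIECE SLK-SLGL: `SL_n(F) ≃* ker det` (`Matrix.SpecialLinearGroup.toGL`), hence equal class
numbers. -/
theorem card_classes_SL_eq (n : ℕ) [Fintype F] :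
    Nat.card (ConjClasses (Matrix.SpecialLinearGroup (Fin n) F)) =
      Nat.card (ConjClasses
        (Matrix.GeneralLinearGroup.det : Matrix.GeneralLinearGroup (Fin n) F →* Fˣ).ker) :=
  slgl_card_conjClasses_congr (slglEquiv n)

end pieces

end Cfsg.Agent.Helper17.SLk
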