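import Mathlib
import Cfsg.Agent.Lib.Helper26.CG3Defs

/-!
# S3412 piece G4 (helper21, for helper26): an element of order 3 of `C(t)` has centralizer of
order 54
-/

set_option autoImplicit false
set_option linter.unusedSectionVars false

namespace Cfsg.Agent.Helper26.CG3

universe u

section G

variable {H : Type u} [Group H] [Finite H] {t : H}

omit [Finite H] in
theorem g4_mem_cent (x : H) : x ∈ Subgroup.centralizer ({x} : Set H) :=
  Subgroup.mem_centralizer_singleton_iff.mpr rfl

theorem g4_orderOf_dvd_cc (g : H) : orderOf g ∣ cc g := by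
  have h1 := orderOf_dvd_natCard (⟨g, g4_mem_cent g⟩ : Subgroup.centralizer ({g} : Set H))
  rwa [Subgroup.orderOf_mk] at h1

omit [Finite H] in
/-- `g * g` is central in the centralizer of `g` -/
theorem g4_sq_central (g k : H) (hk : g * k = k * g) : g * g * k = k * (g * g) := by
  calc g * g * k = g * (g * k) := by rw [mul_assoc]
    _ = g * (k * g) := by rw [hk]
    _ = (g * k) * g := by rw [mul_assoc]
    _ = (k * g) * g := by rw [hk]
    _ = k * (g * g) := by rw [mul_assoc]

omit [Finite H] in
theorem g4_tt (h : LG H t) : t * t = 1 := by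
  have h1 := h.scen t rfl h.cct (t * t) (by rw [mul_assoc]) (fun k hk => g4_sq_central t k hk)
  rcases h1 with h1 | h1
  · exact h1
  · exfalso
    apply h.t_ne
    exact mul_left_cancel (a := t) (by rw [h1, mul_one])

omit [Finite H] in
theorem g4_cc_inv (g : H) : cc g⁻¹ = cc g := by
  have h1 : Subgroup.centralizer ({g⁻¹} : Set H) = Subgroup.centralizer ({g} : Set H) := by
    ext k
    rw [Subgroup.mem_centralizer_singleton_iff, Subgroup.mem_centralizer_singleton_iff]
    constructor
    · intro hk
      calc k * g = g * (g⁻¹ * k) * g := by group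
        _ = g * (k * g⁻¹) * g := by rw [hk]
        _ = g * k := by group
    · intro hk
      calc k * g⁻¹ = g⁻¹ * (g * k) * g⁻¹ := by group
        _ = g⁻¹ * (k * g) * g⁻¹ := by rw [hk]
        _ = g⁻¹ * k := by group
  show Nat.card (Subgroup.centralizer ({g⁻¹} : Set H)) =
    Nat.card (Subgroup.centralizer ({g} : Set H))
  rw [h1]

/-- G4 -/
theorem cc_of_order_three (h : LG H t) (x : H) (hx : orderOf x = 3) (hc : t * x = x * t) :
    cc x = 54 := by
  classical
  have htt := g4_tt h
  have hx3 : x ^ 3 = 1 := by rw [← hx]; exact pow_orderOf_eq_one x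
  have hx1 : x ≠ 1 := by
    intro h1
    rw [h1, orderOf_one] at hx
    omega
  have hxx : x * x ≠ 1 := by
    intro h2
    have h3 : orderOf x ∣ 2 := orderOf_dvd_of_pow_eq_one (by rw [pow_two]; exact h2)
    rw [hx] at h3
    omega
  have hxt : x ≠ t := by
    intro h2
    apply hxx
    rw [h2]
    exact htt
  have hxxx : x * x * x = 1 := by
    rw [← hx3, pow_succ, pow_two]
  have hx4 : x * x * (x * x) = x := by
    calc x * x * (x * x) = (x * x * x) * x := by simp only [mul_assoc]
      _ = x := by rw [hxxx, one_mul]
  rcases h.vals x hc hx1 hxt with h48 | h54 | h6 | h8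
  · exfalso
    have h1 := h.scen x hc h48 (x * x) (by rw [mul_assoc]) (fun k hk => g4_sq_central x k hk)
    rcases h1 with h1 | h1
    · exact hxx h1
    · exact hx1 (mul_left_cancel (a := x) (by rw [h1, mul_one]))
  · exact h54
  · exfalso
    obtain ⟨y, hy⟩ : ∃ y : H, y = t * x := ⟨_, rfl⟩
    have hty : t * y = y * t := by rw [hy, mul_assoc, ← hc]
    have hyy : y * y = x * x := by
      calc y * y = t * (x * t) * x := by rw [hy]; simp only [mul_assoc]
        _ = t * (t * x) * x := by rw [hc]
        _ = (t * t) * (x * x) := by simp only [mul_assoc]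
        _ = x * x := by rw [htt, one_mul]
    have hy1 : y ≠ 1 := by
      intro h1
      apply hxt
      have h2 : t * y = t := by rw [h1, mul_one]
      rw [hy, ← mul_assoc, htt, one_mul] at h2
      exact h2
    have hyt : y ≠ t := by
      intro h1
      apply hx1
      exact mul_left_cancel (a := t) (by rw [mul_one, ← hy]; exact h1)
    have hsub : Subgroup.centralizer ({y} : Set H) ≤ Subgroup.centralizer ({x} : Set H) := by
      intro k hk
      rw [Subgroup.mem_centralizer_singleton_iff] at hk ⊢
      have hk2 : (x * x) * k = k * (x * x) := by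
        rw [← hyy]
        exact g4_sq_central y k hk.symm
      have hk4 : (x * x) * (x * x) * k = k * ((x * x) * (x * x)) :=
        g4_sq_central (x * x) k hk2
      rw [hx4] at hk4
      exact hk4.symm
    have hdvd : cc y ∣ cc x := Subgroup.card_dvd_of_le hsub
    rw [h6] at hdvd
    have hy6 : cc y = 6 := by
      rcases h.vals y hty hy1 hyt with h1 | h1 | h1 | h1
      · rw [h1] at hdvd; omega
      · rw [h1] at hdvd; omega
      · exact h1
      · rw [h1] at hdvd; omega
    have hxy : x * y = y * x := by
      rw [hy, ← mul_assoc, ← hc, mul_assoc]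
    have hxyi : x * y⁻¹ = y⁻¹ * x := (Commute.inv_right (show Commute x y from hxy)).eq
    have hxxi : x * x⁻¹ = x⁻¹ * x := by simp
    -- the four elements are distinct
    have d12 : x ≠ x⁻¹ := by
      intro h1
      apply hxx
      calc x * x = x * x⁻¹ := by rw [← h1]
        _ = 1 := mul_inv_cancel x
    have d13 : x ≠ y := by
      intro h1
      apply h.t_ne
      have h2 : t * x = 1 * x := by rw [one_mul, ← hy]; exact h1.symm
      exact mul_right_cancel h2
    have d14 : x ≠ y⁻¹ := by
      intro h1
      apply hxt
      have h2 : x * y = 1 := by rw [h1]; exact inv_mul_cancel y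
      have h3 : t * (x * x) = 1 := by
        rw [← h2, hxy, hy, mul_assoc]
      -- `x * x = x⁻¹`
      have h4 : x * x * x = 1 := hxxx
      have h5 : t * (x * x) * x = x := by rw [h3, one_mul]
      rw [mul_assoc, h4, mul_one] at h5
      exact h5.symm
    have d23 : x⁻¹ ≠ y := by
      intro h1
      apply hxt
      have h2 : x * y = 1 := by rw [← h1]; exact mul_inv_cancel x
      have h3 : t * (x * x) = 1 := by
        rw [← h2, hxy, hy, mul_assoc]
      have h4 : x * x * x = 1 := hxxx
      have h5 : t * (x * x) * x = x := by rw [h3, one_mul]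
      rw [mul_assoc, h4, mul_one] at h5
      exact h5.symm
    have d24 : x⁻¹ ≠ y⁻¹ := by
      intro h1
      exact d13 (inv_injective h1)
    have d34 : y ≠ y⁻¹ := by
      intro h1
      apply hxx
      rw [← hyy]
      calc y * y = y * y⁻¹ := by rw [← h1]
        _ = 1 := mul_inv_cancel y
    have : Fintype H := Fintype.ofFinite H
    have hw := h.w2 x hc h6
    rw [Nat.card_eq_fintype_card, Fintype.card_subtype] at hw
    have hF : ({x, x⁻¹, y, y⁻¹} : Finset H).card = 4 := by
      rw [Finset.card_insert_of_notMem, Finset.card_insert_of_notMem,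
        Finset.card_insert_of_notMem, Finset.card_singleton]
      · intro hm
        exact d34 (Finset.mem_singleton.mp hm)
      · intro hm
        rcases Finset.mem_insert.mp hm with h1 | hm
        · exact d23 h1
        · exact d24 (Finset.mem_singleton.mp hm)
      · intro hm
        rcases Finset.mem_insert.mp hm with h1 | hm
        · exact d12 h1
        rcases Finset.mem_insert.mp hm with h1 | hm
        · exact d13 h1
        · exact d14 (Finset.mem_singleton.mp hm)
    have hsubF : ({x, x⁻¹, y, y⁻¹} : Finset H) ⊆
        Finset.univ.filter (fun k : H => x * k = k * x ∧ cc k = 6) := by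
      intro k hk
      rw [Finset.mem_filter]
      refine ⟨Finset.mem_univ _, ?_⟩
      rcases Finset.mem_insert.mp hk with h1 | hk
      · rw [h1]; exact ⟨rfl, h6⟩
      rcases Finset.mem_insert.mp hk with h1 | hk
      · rw [h1]; exact ⟨hxxi, by rw [g4_cc_inv]; exact h6⟩
      rcases Finset.mem_insert.mp hk with h1 | hk
      · rw [h1]; exact ⟨hxy, hy6⟩
      · rw [Finset.mem_singleton.mp hk]; exact ⟨hxyi, by rw [g4_cc_inv]; exact hy6⟩
    have hle := Finset.card_le_card hsubF
    rw [hF, hw] at hle
    omega
  · exfalso
    have h1 := g4_orderOf_dvd_cc x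
    rw [hx, h8] at h1
    omega

end G

end Cfsg.Agent.Helper26.CG3
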