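import Mathlib
import Cfsg.Agent.Lib.Helper18.LSDefs
import Cfsg.Agent.Lib.Helper12.SLVecTrans

/-!
# S2335 piece O4 (helper21): completing a column to a matrix of determinant one with prescribed
values of a linear functional on the columns
-/

set_option autoImplicit false

namespace Cfsg.Agent.Helper18.LS

open Matrix

section field

variable {F : Type*} [Field F]

/-- the shear step: adjust the columns of `g` by multiples of the column `i₀` -/
theorem o4_shear {n : Type*} [Fintype n] [DecidableEq n] (g : Matrix n n F) (hg : g.det = 1)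
    (l c : n → F) (i₀ j₀ : n) (hd : (l ᵥ* g) i₀ ≠ 0) (h1 : c i₀ = (l ᵥ* g) i₀)
    (h2 : c j₀ = (l ᵥ* g) j₀) :
    ∃ a : Matrix n n F, a.det = 1 ∧ a *ᵥ (Pi.single j₀ 1) = g *ᵥ (Pi.single j₀ 1) ∧
      l ᵥ* a = c := by
  obtain ⟨d, hddef⟩ : ∃ d, d = (l ᵥ* g) i₀ := ⟨_, rfl⟩
  rw [← hddef] at hd h1
  obtain ⟨t, htdef⟩ : ∃ t : n → F, t = fun j => (c j - (l ᵥ* g) j) / d := ⟨_, rfl⟩
  have ht1 : t i₀ = 0 := by
    rw [htdef]
    show (c i₀ - (l ᵥ* g) i₀) / d = 0
    rw [h1, ← hddef, sub_self, zero_div]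
  have ht2 : t j₀ = 0 := by
    rw [htdef]
    show (c j₀ - (l ᵥ* g) j₀) / d = 0
    rw [h2, sub_self, zero_div]
  refine ⟨g * (1 + vecMulVec (Pi.single i₀ 1) t), ?_, ?_, ?_⟩
  · rw [Matrix.det_mul, hg, one_mul, Matrix.vecMulVec_eq Unit,
      Matrix.det_one_add_replicateCol_mul_replicateRow, dotProduct_single_one, ht1, add_zero]
  · rw [← Matrix.mulVec_mulVec, Matrix.add_mulVec, Matrix.one_mulVec, Matrix.vecMulVec_mulVec,
      dotProduct_single_one, ht2, MulOpposite.op_zero, zero_smul, add_zero]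
  · rw [← Matrix.vecMul_vecMul, Matrix.vecMul_add, Matrix.vecMul_one, Matrix.vecMul_vecMulVec,
      dotProduct_single_one, ← hddef]
    ext j
    rw [Pi.add_apply, Pi.smul_apply, smul_eq_mul, htdef]
    show (l ᵥ* g) j + d * ((c j - (l ᵥ* g) j) / d) = c j
    field_simp
    ring

/-- O4: completing a column to a matrix of determinant one with prescribed values of a linear
functional on the columns -/
theorem exists_completion (r : ℕ) (l w c : Fin (r + 1) → F) (hw : w ≠ 0) (hl : l ≠ 0)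
    (hc0 : c 0 = l ⬝ᵥ w)
    (hcase : (l ⬝ᵥ w ≠ 0 ∧ 1 ≤ r) ∨ (2 ≤ r ∧ ∃ j, j ≠ 0 ∧ c j ≠ 0)) :
    ∃ a : Matrix (Fin (r + 1)) (Fin (r + 1)) F, a.det = 1 ∧ a *ᵥ (Pi.single 0 1) = w ∧
      l ᵥ* a = c := by
  have key : ∀ (g : Matrix (Fin (r + 1)) (Fin (r + 1)) F) (j : Fin (r + 1)),
      (l ᵥ* g) j = l ⬝ᵥ (g *ᵥ Pi.single j 1) := fun g j => by
    rw [Matrix.dotProduct_mulVec, dotProduct_single_one]
  by_cases h0 : l ⬝ᵥ w = 0
  · have hcase2 : 2 ≤ r ∧ ∃ j, j ≠ 0 ∧ c j ≠ 0 := by
      rcases hcase with h | h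
      · exact absurd h0 h.1
      · exact h
    obtain ⟨hr, j₁, hj1, hcj⟩ := hcase2
    obtain ⟨i, hi⟩ : ∃ i, l i ≠ 0 := by
      by_contra hcon
      push Not at hcon
      exact hl (funext hcon)
    obtain ⟨k, hkdef⟩ : ∃ k : Fin (r + 1) → F, k = Pi.single i (l i)⁻¹ := ⟨_, rfl⟩
    have hlk : l ⬝ᵥ k = 1 := by rw [hkdef, dotProduct_single, mul_inv_cancel₀ hi]
    have hv : LinearIndependent F
        ![(Pi.single (0 : Fin (r + 1)) (1 : F) : Fin (r + 1) → F), Pi.single j₁ 1] := by
      rw [LinearIndependent.pair_iff]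
      intro s t hst
      have e0 := congrFun hst 0
      have e1 := congrFun hst j₁
      rw [Pi.add_apply, Pi.smul_apply, Pi.smul_apply, Pi.single_eq_same,
        Pi.single_eq_of_ne hj1.symm, smul_eq_mul, smul_eq_mul, mul_one, mul_zero, add_zero,
        Pi.zero_apply] at e0
      rw [Pi.add_apply, Pi.smul_apply, Pi.smul_apply, Pi.single_eq_same,
        Pi.single_eq_of_ne hj1, smul_eq_mul, smul_eq_mul, mul_one, mul_zero, zero_add,
        Pi.zero_apply] at e1
      exact ⟨e0, e1⟩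
    have hw2 : LinearIndependent F ![w, c j₁ • k] := by
      rw [LinearIndependent.pair_iff]
      intro s t hst
      have h3 := congrArg (fun x => l ⬝ᵥ x) hst
      simp only [dotProduct_add, dotProduct_smul, dotProduct_zero, h0, hlk, smul_eq_mul, mul_zero,
        zero_add, mul_one] at h3
      have ht : t = 0 := by
        rcases mul_eq_zero.1 h3 with h | h
        · exact h
        · exact absurd h hcj
      refine ⟨?_, ht⟩
      rw [ht, zero_smul, add_zero] at hst
      rcases smul_eq_zero.1 hst with h | h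
      · exact h
      · exact absurd h hw
    obtain ⟨g, hg⟩ := Cfsg.Agent.Helper12.exists_SL_smul_eq _ _ hv hw2 (by
      rw [Fintype.card_fin, Fintype.card_fin]; omega)
    have hg0 : g.1 *ᵥ Pi.single 0 1 = w := by
      have := hg 0
      rw [Matrix.SpecialLinearGroup.smul_def, Matrix.smul_eq_mulVec] at this
      exact this
    have hg1 : g.1 *ᵥ Pi.single j₁ 1 = c j₁ • k := by
      have := hg 1
      rw [Matrix.SpecialLinearGroup.smul_def, Matrix.smul_eq_mulVec] at this
      exact this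
    have hd : (l ᵥ* g.1) j₁ = c j₁ := by
      rw [key, hg1, dotProduct_smul, hlk, smul_eq_mul, mul_one]
    obtain ⟨a, ha1, ha2, ha3⟩ := o4_shear g.1 g.2 l c j₁ 0 (by rw [hd]; exact hcj) hd.symm
      (by rw [key, hg0, hc0])
    exact ⟨a, ha1, ha2.trans hg0, ha3⟩
  · have hr : 1 ≤ r := by
      rcases hcase with h | h
      · exact h.2
      · omega
    have hv : LinearIndependent F
        (fun _ : Unit => (Pi.single (0 : Fin (r + 1)) (1 : F) : Fin (r + 1) → F)) := by
      rw [linearIndependent_unique_iff]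
      intro h
      have := congrFun h 0
      rw [Pi.single_eq_same, Pi.zero_apply] at this
      exact one_ne_zero this
    have hw2 : LinearIndependent F (fun _ : Unit => w) := by
      rw [linearIndependent_unique_iff]
      exact hw
    obtain ⟨g, hg⟩ := Cfsg.Agent.Helper12.exists_SL_smul_eq _ _ hv hw2 (by
      rw [Fintype.card_unit, Fintype.card_fin]; omega)
    have hg0 : g.1 *ᵥ Pi.single 0 1 = w := by
      have := hg ()
      rw [Matrix.SpecialLinearGroup.smul_def, Matrix.smul_eq_mulVec] at this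
      exact this
    have hd : (l ᵥ* g.1) 0 = l ⬝ᵥ w := by rw [key, hg0]
    obtain ⟨a, ha1, ha2, ha3⟩ := o4_shear g.1 g.2 l c 0 0 (by rw [hd]; exact h0)
      (by rw [hd, hc0]) (by rw [hd, hc0])
    exact ⟨a, ha1, ha2.trans hg0, ha3⟩

end field

end Cfsg.Agent.Helper18.LS
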