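import Mathlib
import Cfsg.Agent.Lib.Helper18.LSDefs
import Cfsg.Agent.Lib.Helper11.HermCount
import Cfsg.Agent.Lib.Helper12.SLVecTrans

/-!
# S2335 piece O3 (helper21): the orbit of a rank one hermitian matrix
-/

set_option autoImplicit false

namespace Cfsg.Agent.Helper18.LS

open Matrix

section field

variable {F : Type*} [Field F]

theorem uu_eq_vecMulVec {ι : Type*} (φ : F →+* F) (u : ι → F) :
    uu φ u = vecMulVec u (fun j => φ (u j)) := by
  ext i j
  rw [uu_apply, vecMulVec_apply]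

theorem mul_uu_mul_ct {ι : Type*} [Fintype ι] (φ : F →+* F) (g : Matrix ι ι F) (u : ι → F) :
    g * uu φ u * ct φ g = uu φ (g *ᵥ u) := by
  rw [uu_eq_vecMulVec, uu_eq_vecMulVec, Matrix.mul_vecMulVec, Matrix.vecMulVec_mul]
  congr 1
  ext j
  simp only [Matrix.vecMul, dotProduct, ct_apply, Matrix.mulVec, map_sum, map_mul]
  exact Finset.sum_congr rfl (fun k _ => mul_comm _ _)

variable [Fintype F] {q : ℕ}

/-- O3: the orbit of a rank one hermitian matrix -/
theorem orbit_rank_one [DecidableEq F] (hF : Fintype.card F = q ^ 2) (φ : F →+* F)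
    (hφ : ∀ x, φ x = x ^ q) (m : ℕ) (hm : 2 ≤ m) (c : F) (u : Fin m → F) (hc0 : c ≠ 0)
    (hc : φ c = c) (hu : u ≠ 0) :
    ∃ t : Finset (Matrix (Fin m) (Fin m) F), (q ^ (2 * m) - 1) / (q + 1) ≤ t.card ∧
      ∀ T' ∈ t, ∃ a : Matrix (Fin m) (Fin m) F, a.det = 1 ∧ T' = ct φ a * (c • uu φ u) * a := by
  have hφφ : ∀ x, φ (φ x) = x := fun x => by
    rw [hφ, hφ, Cfsg.Agent.Helper11.Herm.pow_q_pow_q hF]
  obtain ⟨f, hfdef⟩ : ∃ f : (Fin m → F) → Matrix (Fin m) (Fin m) F,
      f = fun u' => c • uu φ u' := ⟨_, rfl⟩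
  obtain ⟨S, hSdef⟩ : ∃ S : Finset (Fin m → F), S = Finset.univ.erase 0 := ⟨_, rfl⟩
  have hScard : S.card = q ^ (2 * m) - 1 := by
    rw [hSdef, Finset.card_erase_of_mem (Finset.mem_univ _), Finset.card_univ, Fintype.card_fun,
      Fintype.card_fin, hF, ← pow_mul]
  refine ⟨S.image f, ?_, ?_⟩
  · apply Nat.div_le_of_le_mul
    rw [← hScard]
    apply Finset.card_le_mul_card_image
    intro b hb
    obtain ⟨u₁, hu₁S, rfl⟩ := Finset.mem_image.1 hb
    have hu₁ : u₁ ≠ 0 := by
      rw [hSdef] at hu₁S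
      exact (Finset.mem_erase.1 hu₁S).1
    obtain ⟨i₀, hi₀⟩ : ∃ i, u₁ i ≠ 0 := by
      by_contra hcon
      push Not at hcon
      exact hu₁ (funext hcon)
    have hN : (Finset.univ.filter (fun x : F => x * x ^ q = 1)).card = q + 1 := by
      rw [← Cfsg.Agent.Helper11.Herm.card_norm_one hF, Nat.card_eq_fintype_card,
        Fintype.card_subtype]
    rw [← hN]
    -- entries of the fibre
    have hent : ∀ x ∈ S.filter (fun x => f x = f u₁), ∀ i j,
        x i * φ (x j) = u₁ i * φ (u₁ j) := by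
      intro x hx i j
      have h1 := (Finset.mem_filter.1 hx).2
      rw [hfdef] at h1
      have h2 : c • uu φ x = c • uu φ u₁ := h1
      have h3 := congrFun (congrFun h2 i) j
      rw [Matrix.smul_apply, Matrix.smul_apply, uu_apply, uu_apply, smul_eq_mul, smul_eq_mul] at h3
      exact mul_left_cancel₀ hc0 h3
    have hφi₀ : φ (u₁ i₀) ≠ 0 := by
      intro h
      apply hi₀
      rw [← hφφ (u₁ i₀), h, map_zero]
    have hx0 : ∀ x ∈ S.filter (fun x => f x = f u₁), x i₀ ≠ 0 := by
      intro x hx h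
      have := hent x hx i₀ i₀
      rw [h, zero_mul] at this
      exact mul_ne_zero hi₀ hφi₀ this.symm
    apply Finset.card_le_card_of_injOn (fun x => x i₀ / u₁ i₀)
    · intro x hx
      have hx' := Finset.mem_coe.1 hx
      show x i₀ / u₁ i₀ ∈ ((Finset.univ.filter (fun x : F => x * x ^ q = 1) : Finset F) : Set F)
      rw [Finset.mem_coe, Finset.mem_filter]
      refine ⟨Finset.mem_univ _, ?_⟩
      have := hent x hx' i₀ i₀
      rw [← hφ, map_div₀, div_mul_div_comm, this, div_self (mul_ne_zero hi₀ hφi₀)]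
    · intro x hx y hy hxy
      have hx' := Finset.mem_coe.1 hx
      have hy' := Finset.mem_coe.1 hy
      have h1 : x i₀ = y i₀ := by
        have h2 : x i₀ / u₁ i₀ = y i₀ / u₁ i₀ := hxy
        field_simp at h2
        exact h2
      funext i
      have e1 := hent x hx' i i₀
      have e2 := hent y hy' i i₀
      rw [← e2, h1] at e1
      have hne : φ (y i₀) ≠ 0 := by
        intro h
        apply hx0 y hy'
        rw [← hφφ (y i₀), h, map_zero]
      exact mul_right_cancel₀ hne e1
  · intro T' hT'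
    obtain ⟨u', hu'S, rfl⟩ := Finset.mem_image.1 hT'
    have hu' : u' ≠ 0 := by
      rw [hSdef] at hu'S
      exact (Finset.mem_erase.1 hu'S).1
    have hv : LinearIndependent F (fun _ : Unit => u) := by
      rw [linearIndependent_unique_iff]
      exact hu
    have hw2 : LinearIndependent F (fun _ : Unit => u') := by
      rw [linearIndependent_unique_iff]
      exact hu'
    obtain ⟨g, hg⟩ := Cfsg.Agent.Helper12.exists_SL_smul_eq _ _ hv hw2 (by
      rw [Fintype.card_unit, Fintype.card_fin]; omega)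
    have hg0 : g.1 *ᵥ u = u' := by
      have := hg ()
      rw [Matrix.SpecialLinearGroup.smul_def, Matrix.smul_eq_mulVec] at this
      exact this
    refine ⟨ct φ g.1, ?_, ?_⟩
    · rw [ct_det, g.2, map_one]
    · rw [hfdef]
      show c • uu φ u' = ct φ (ct φ g.1) * (c • uu φ u) * ct φ g.1
      rw [ct_ct φ hφφ, Matrix.mul_smul, Matrix.smul_mul, mul_uu_mul_ct, hg0]

end field

end Cfsg.Agent.Helper18.LS
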