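import Mathlib
import Cfsg.Agent.Lib.Helper22.SchPLDefs

/-!
# S4394 piece B0 (helper21): the elements `v⁻¹ α(v)` generate `P`
-/

set_option autoImplicit false

namespace Cfsg.Agent.Helper22.SchPL

variable {p q : ℕ} [Fact p.Prime] {P : Type*} [Group P] [Finite P] {α : MulAut P}

/-- Piece B0: the elements `v⁻¹ α(v)` generate `P`. -/
theorem SchAct.closure_eq_top (h : SchAct p q P α) (hP : IsPGroup p P) :
    Subgroup.closure (Set.range fun v : P => v⁻¹ * α v) = ⊤ := by
  by_contra hK
  have hinv : ∀ k ∈ Subgroup.closure (Set.range fun v : P => v⁻¹ * α v),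
      α k ∈ Subgroup.closure (Set.range fun v : P => v⁻¹ * α v) := by
    intro k hk
    induction hk using Subgroup.closure_induction with
    | mem x hx =>
      obtain ⟨v, rfl⟩ := hx
      apply Subgroup.subset_closure
      exact ⟨α v, by simp only [map_mul, map_inv]⟩
    | one => rw [map_one]; exact one_mem _
    | mul x y _ _ hx hy => rw [map_mul]; exact mul_mem hx hy
    | inv x _ hx => rw [map_inv]; exact inv_mem hx
  have hfix := h.fix _ hK hinv
  apply h.ne_one
  apply MulEquiv.ext
  intro v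
  rw [MulAut.one_apply]
  have hc : v⁻¹ * α v ∈ Subgroup.closure (Set.range fun v : P => v⁻¹ * α v) :=
    Subgroup.subset_closure ⟨v, rfl⟩
  obtain ⟨c, hcdef⟩ : ∃ c, c = v⁻¹ * α v := ⟨_, rfl⟩
  rw [← hcdef] at hc
  have hαc : α c = c := hfix c hc
  have hαv : α v = v * c := by rw [hcdef]; group
  have hpow : ∀ k : ℕ, (α ^ k) v = v * c ^ k := by
    intro k
    induction k with
    | zero => simp
    | succ k ih =>
      rw [pow_succ', MulAut.mul_apply, ih, map_mul, map_pow, hαc, hαv, mul_assoc, ← pow_succ']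
  have h1 := hpow q
  rw [h.pow_eq, MulAut.one_apply] at h1
  have hcq : c ^ q = 1 := by
    have h2 : v * 1 = v * c ^ q := by rw [mul_one]; exact h1
    exact (mul_left_cancel h2).symm
  obtain ⟨k, hk⟩ := hP c
  have hc1 : c = 1 := by
    have hcop : Nat.Coprime (p ^ k) q :=
      Nat.Coprime.pow_left _ ((Nat.coprime_primes Fact.out h.hq).2 (Ne.symm h.hqp))
    have hd1 : orderOf c ∣ p ^ k := orderOf_dvd_of_pow_eq_one hk
    have hd2 : orderOf c ∣ q := orderOf_dvd_of_pow_eq_one hcq
    exact orderOf_eq_one_iff.1 (Nat.eq_one_of_dvd_coprimes hcop hd1 hd2)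
  rw [hαv, hc1, mul_one]

end Cfsg.Agent.Helper22.SchPL
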