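import Mathlib
import Cfsg.Agent.Lib.Helper22.SchPLDefs

/-!
# S4394 piece B1 (helper21): proper normal `α`-invariant subgroups are central
-/

set_option autoImplicit false

namespace Cfsg.Agent.Helper22.SchPL

variable {p q : ℕ} [Fact p.Prime] {P : Type*} [Group P] [Finite P] {α : MulAut P}

/-- Piece B1 (input B0 is the hypothesis `hgen`). -/
theorem SchAct.le_center (h : SchAct p q P α) (hP : IsPGroup p P)
    (hgen : Subgroup.closure (Set.range fun v : P => v⁻¹ * α v) = ⊤)
    (A : Subgroup P) [A.Normal]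
    (hA : A ≠ ⊤) (hinv : ∀ a ∈ A, α a ∈ A) : A ≤ Subgroup.center P := by
  intro a ha
  rw [Subgroup.mem_center_iff]
  have hfix := h.fix A hA hinv
  have hle : Subgroup.closure (Set.range fun v : P => v⁻¹ * α v) ≤
      Subgroup.centralizer ({a} : Set P) := by
    rw [Subgroup.closure_le]
    rintro _ ⟨v, rfl⟩
    rw [SetLike.mem_coe, Subgroup.mem_centralizer_singleton_iff]
    have h1 : v * a * v⁻¹ ∈ A := Subgroup.Normal.conj_mem inferInstance a ha v
    have h2 := hfix _ h1
    rw [map_mul, map_mul, map_inv, hfix a ha] at h2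
    calc v⁻¹ * α v * a = v⁻¹ * (α v * a * (α v)⁻¹) * α v := by group
      _ = v⁻¹ * (v * a * v⁻¹) * α v := by rw [h2]
      _ = a * (v⁻¹ * α v) := by group
  intro g
  have hg : g ∈ Subgroup.centralizer ({a} : Set P) := hle (hgen ▸ Subgroup.mem_top g)
  exact Subgroup.mem_centralizer_singleton_iff.1 hg

end Cfsg.Agent.Helper22.SchPL
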