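import Mathlib
import Cfsg.Agent.Lib.Helper22.SchPLDefs

/-!
# S4394 piece B3A (helper21): the centre lies in the commutator subgroup
(norm map on the abelianization)
-/

set_option autoImplicit false

namespace Cfsg.Agent.Helper22.SchPL

variable {p q : ℕ} [Fact p.Prime] {P : Type*} [Group P] [Finite P] {α : MulAut P}

/-- the norm map `x ↦ ∏_{i<q} α^i(x)` into the abelianization -/
noncomputable def b3aNorm (q : ℕ) (α : MulAut P) : P →* Abelianization P :=
  ∏ i ∈ Finset.range q, (Abelianization.of).comp ((α ^ i : MulAut P).toMonoidHom)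

theorem b3aNorm_apply (q : ℕ) (α : MulAut P) (x : P) :
    b3aNorm q α x = ∏ i ∈ Finset.range q, Abelianization.of ((α ^ i) x) := by
  unfold b3aNorm
  rw [MonoidHom.finset_prod_apply]
  rfl

/-- Piece B3a: the centre lies in the commutator subgroup (norm map on the abelianization). -/
theorem SchAct.center_le_commutator (h : SchAct p q P α) (hP : IsPGroup p P)
    (hgen : Subgroup.closure (Set.range fun v : P => v⁻¹ * α v) = ⊤)
    (hnab : ∃ a b : P, a * b ≠ b * a) : Subgroup.center P ≤ commutator P := by
  have hpp : p.Prime := Fact.out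
  -- the centre is proper and invariant, hence fixed pointwise
  have hZtop : Subgroup.center P ≠ ⊤ := by
    intro htop
    obtain ⟨a, b, hab⟩ := hnab
    apply hab
    have ha : a ∈ Subgroup.center P := htop ▸ Subgroup.mem_top a
    rw [Subgroup.mem_center_iff] at ha
    exact (ha b).symm
  have hZinv : ∀ z ∈ Subgroup.center P, α z ∈ Subgroup.center P := by
    intro z hz
    rw [Subgroup.mem_center_iff] at hz ⊢
    intro g
    have h1 := hz (α.symm g)
    have h2 := congrArg α h1
    rw [map_mul, map_mul, MulEquiv.apply_symm_apply] at h2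
    exact h2
  have hfix := h.fix _ hZtop hZinv
  -- the norm map kills the generators
  have hker : ∀ x : P, b3aNorm q α x = 1 := by
    intro x
    have hx : x ∈ Subgroup.closure (Set.range fun v : P => v⁻¹ * α v) := hgen ▸ Subgroup.mem_top x
    have hle : Subgroup.closure (Set.range fun v : P => v⁻¹ * α v) ≤ (b3aNorm q α).ker := by
      rw [Subgroup.closure_le]
      rintro _ ⟨v, rfl⟩
      rw [SetLike.mem_coe, MonoidHom.mem_ker, b3aNorm_apply]
      have e : ∀ i ∈ Finset.range q, Abelianization.of ((α ^ i) (v⁻¹ * α v)) =
          (fun i => Abelianization.of ((α ^ i) v)) (i + 1) /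
            (fun i => Abelianization.of ((α ^ i) v)) i := by
        intro i _
        simp only
        rw [map_mul, map_inv, map_mul, map_inv, pow_succ, MulAut.mul_apply, div_eq_mul_inv,
          mul_comm]
      rw [Finset.prod_congr rfl e,
        Finset.prod_range_div (fun i => Abelianization.of ((α ^ i) v)) q]
      simp only [pow_zero, MulAut.one_apply]
      rw [h.pow_eq, MulAut.one_apply, div_self']
    exact hle hx
  intro z hz
  -- `z ^ q` lies in the commutator subgroup
  have hpowfix : ∀ i : ℕ, (α ^ i) z = z := by
    intro i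
    induction i with
    | zero => simp
    | succ i ih => rw [pow_succ, MulAut.mul_apply, hfix z hz, ih]
  have hzq : z ^ q ∈ commutator P := by
    rw [← Abelianization.ker_of, MonoidHom.mem_ker, map_pow]
    have h1 := hker z
    rw [b3aNorm_apply] at h1
    rw [Finset.prod_congr rfl (fun i _ => by rw [hpowfix i]), Finset.prod_const,
      Finset.card_range] at h1
    exact h1
  -- coprimality
  obtain ⟨k, hk⟩ := hP z
  have hcop : q.Coprime (orderOf z) := by
    have hd : orderOf z ∣ p ^ k := orderOf_dvd_of_pow_eq_one hk
    have hqp : q.Coprime (p ^ k) :=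
      Nat.Coprime.pow_right _ ((Nat.coprime_primes h.hq hpp).2 h.hqp)
    exact Nat.Coprime.coprime_dvd_right hd hqp
  obtain ⟨m, hm⟩ := exists_pow_eq_self_of_coprime hcop
  rw [← hm]
  exact pow_mem hzq m

end Cfsg.Agent.Helper22.SchPL
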