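import Mathlib

set_option autoImplicit false

open Equiv Equiv.Perm MulAction Subgroup
open scoped Pointwise

namespace Cfsg.Agent.Helper2.AG

namespace PRIM

variable {β : Type*} [Fintype β] [DecidableEq β]

/-- if a power `γ ^ k` with `0 < |k| < q` (q prime) and `γ ^ q = 1` stabilizes a set, so does `γ`. -/
theorem mem_stab_of_zpow {G : Type*} [Group G] (H : Subgroup G) {q : ℕ} (hq : q.Prime)
    (γ : G) (hγq : γ ^ q = 1) (k : ℤ) (hk0 : k ≠ 0) (hkq : k.natAbs < q)
    (hk : γ ^ k ∈ H) : γ ∈ H := by
  have hcop : IsCoprime k (q : ℤ) := by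
    rw [Int.isCoprime_iff_gcd_eq_one]
    have h1 : Nat.Coprime k.natAbs q := by
      apply Nat.Coprime.symm
      rw [hq.coprime_iff_not_dvd]
      intro hdvd
      have := Nat.le_of_dvd (Int.natAbs_pos.mpr hk0) hdvd
      omega
    simpa [Int.gcd] using h1
  obtain ⟨u, v, huv⟩ := hcop
  have h2 : γ = (γ ^ k) ^ u * (γ ^ (q : ℤ)) ^ v := by
    rw [← zpow_mul, ← zpow_mul, ← zpow_add]
    have : k * u + (q : ℤ) * v = 1 := by linarith
    rw [this, zpow_one]
  rw [h2]
  refine H.mul_mem (H.zpow_mem hk u) ?_
  rw [zpow_natCast, hγq, one_zpow]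
  exact H.one_mem

end PRIM

variable {β : Type*} [Fintype β] [DecidableEq β]

/-- PRIM -/
theorem isPreprimitive_of_prime_cycle (G : Subgroup (Perm β)) [IsPretransitive G β]
    {q : ℕ} (hq : q.Prime) {g : Perm β} (hgc : g.IsCycle) (hgq : g.support.card = q)
    (hg : g ∈ G) (hcard : Fintype.card β < 2 * q) : IsPreprimitive G β := by
  refine { isTrivialBlock_of_isBlock := ?_ }
  intro B hB
  by_contra htriv
  unfold IsTrivialBlock at htriv
  rw [not_or] at htriv
  obtain ⟨hns, hnu⟩ := htriv
  rw [Set.not_subsingleton_iff] at hns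
  obtain ⟨b0, hb0, b1, hb1, hb01⟩ := hns
  -- a point of the support
  have hq2 : 2 ≤ q := hq.two_le
  have hsne : g.support.Nonempty := by
    rw [← Finset.card_pos]; omega
  obtain ⟨c, hc⟩ := hsne
  obtain ⟨h, hh⟩ := MulAction.exists_smul_eq G b0 c
  set B' : Set β := h • B with hB'def
  have hB' : IsBlock G B' := hB.translate h
  have hcB' : c ∈ B' := by
    rw [← hh]; exact Set.smul_mem_smul_set hb0
  set d : β := h • b1 with hddef
  have hdB' : d ∈ B' := Set.smul_mem_smul_set hb1
  have hdc : d ≠ c := by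
    rw [← hh]
    intro hcontra
    exact hb01 ((MulAction.injective h hcontra).symm)
  set γ : G := ⟨g, hg⟩ with hγdef
  have hgq' : g ^ q = 1 := by
    rw [← hgq, ← hgc.orderOf]; exact pow_orderOf_eq_one g
  have hγq : γ ^ q = 1 := by
    apply Subtype.ext
    simpa using hgq'
  have hγsmul : ∀ (k : ℤ) (a : β), (γ ^ k) • a = (g ^ k) a := by
    intro k a
    rfl
  by_cases hfix : γ • B' = B'
  · -- the support is contained in B'
    have hstab : γ ∈ stabilizer G B' := hfix
    have hsub : (g.support : Set β) ⊆ B' := by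
      intro e he
      have he' : g e ≠ e := by simpa using he
      have hc' : g c ≠ c := by simpa using hc
      obtain ⟨i, hi⟩ := hgc.sameCycle hc' he'
      have hmem : γ ^ i ∈ stabilizer G B' := (stabilizer G B').zpow_mem hstab i
      have : (γ ^ i) • B' = B' := hmem
      rw [← this, ← hi, ← hγsmul]
      exact Set.smul_mem_smul_set hcB'
    have hle : q ≤ Set.ncard B' := by
      rw [← hgq, ← Set.ncard_coe_finset]
      exact Set.ncard_le_ncard hsub (Set.toFinite _)
    have huniv : B' = Set.univ := by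
      apply hB'.eq_univ_of_card_lt
      rw [Nat.card_eq_fintype_card]
      omega
    apply hnu
    have : h⁻¹ • B' = B := by rw [hB'def, inv_smul_smul]
    rw [← this, huniv]
    exact Set.smul_set_univ
  · -- 2q distinct points
    have hne : ∀ i j : Fin q, i ≠ j → (γ ^ (i : ℕ)) • B' ≠ (γ ^ (j : ℕ)) • B' := by
      intro i j hij heq
      apply hfix
      have hmem : γ ^ ((j : ℤ) - (i : ℤ)) ∈ stabilizer G B' := by
        rw [mem_stabilizer_iff, sub_eq_neg_add, zpow_add, zpow_neg, mul_smul, zpow_natCast,
          zpow_natCast, ← heq, inv_smul_smul]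
      have hk0 : ((j : ℤ) - (i : ℤ)) ≠ 0 := by
        intro h0
        apply hij
        apply Fin.ext
        omega
      have hkq : ((j : ℤ) - (i : ℤ)).natAbs < q := by
        have := i.2; have := j.2
        omega
      exact PRIM.mem_stab_of_zpow (stabilizer G B') hq γ hγq _ hk0 hkq hmem
    let f : Fin q × Fin 2 → β := fun p => if p.2 = 0 then (g ^ (p.1 : ℕ)) c else (g ^ (p.1 : ℕ)) d
    have hfmem : ∀ p : Fin q × Fin 2, f p ∈ (γ ^ (p.1 : ℕ)) • B' := by
      intro p
      have h1 : (g ^ (p.1 : ℕ)) c = (γ ^ (p.1 : ℕ)) • c := rfl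
      have h2 : (g ^ (p.1 : ℕ)) d = (γ ^ (p.1 : ℕ)) • d := rfl
      simp only [f]
      split_ifs
      · rw [h1]; exact Set.smul_mem_smul_set hcB'
      · rw [h2]; exact Set.smul_mem_smul_set hdB'
    have hinj : Function.Injective f := by
      intro p p' hpp
      have h1 : p.1 = p'.1 := by
        by_contra hne1
        have hdisj := hB' (hne p.1 p'.1 hne1)
        have ha := hfmem p
        have hb := hfmem p'
        rw [hpp] at ha
        exact (Set.disjoint_left.mp hdisj ha) hb
      have h2 : p.2 = p'.2 := by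
        simp only [f] at hpp
        rw [← h1] at hpp
        by_cases e0 : p.2 = 0 <;> by_cases e0' : p'.2 = 0
        · rw [e0, e0']
        · exfalso
          rw [if_pos e0, if_neg e0'] at hpp
          exact hdc ((g ^ (p.1 : ℕ)).injective hpp).symm
        · exfalso
          rw [if_neg e0, if_pos e0'] at hpp
          exact hdc ((g ^ (p.1 : ℕ)).injective hpp)
        · omega
      exact Prod.ext h1 h2
    have := Fintype.card_le_of_injective f hinj
    simp only [Fintype.card_prod, Fintype.card_fin] at this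
    omega

end Cfsg.Agent.Helper2.AG
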