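import Mathlib

set_option autoImplicit false

open Equiv Equiv.Perm MulAction Subgroup

namespace Cfsg.Agent.Helper2.AG

variable {β : Type*} [Fintype β] [DecidableEq β]

/-- TRANS -/
theorem isPretransitive_closure_pair (x y : Perm β) (hy : y.IsCycle)
    (hmeet : ∀ a : β, ∃ k : ℕ, (x ^ k) a ∈ y.support) :
    IsPretransitive (closure ({x, y} : Set (Perm β))) β := by
  have hxm : x ∈ closure ({x, y} : Set (Perm β)) := subset_closure (by simp)
  have hym : y ∈ closure ({x, y} : Set (Perm β)) := subset_closure (by simp)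
  refine ⟨fun a b => ?_⟩
  obtain ⟨ka, hka⟩ := hmeet a
  obtain ⟨kb, hkb⟩ := hmeet b
  rw [Equiv.Perm.mem_support] at hka hkb
  obtain ⟨i, hi⟩ := hy.sameCycle hka hkb
  refine ⟨⟨(x ^ kb)⁻¹ * y ^ i * x ^ ka, ?_⟩, ?_⟩
  · exact Subgroup.mul_mem _ (Subgroup.mul_mem _ (Subgroup.inv_mem _ (Subgroup.pow_mem _ hxm _))
      (Subgroup.zpow_mem _ hym _)) (Subgroup.pow_mem _ hxm _)
  · change ((x ^ kb)⁻¹ * y ^ i * x ^ ka) a = b
    simp only [Equiv.Perm.mul_apply]
    rw [hi]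
    simp

end Cfsg.Agent.Helper2.AG
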