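import Mathlib

set_option autoImplicit false

open Equiv Equiv.Perm MulAction Subgroup

namespace Cfsg.Agent.Helper2.AG

variable {β : Type*} [Fintype β] [DecidableEq β]

/-- CYC -/
theorem cycle_or_two_of_prime_order {p : ℕ} (hp : p.Prime) (x : Perm β)
    (hx : orderOf x = p) (hcard : Fintype.card β ≤ 2 * p) :
    (x.IsCycle ∧ x.support.card = p) ∨
      (Fintype.card β = 2 * p ∧ x.cycleType = {p, p}) := by
  have hpr : (orderOf x).Prime := hx ▸ hp
  obtain ⟨n, hn⟩ := Equiv.Perm.cycleType_prime_order hpr
  rw [hx] at hn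
  have hsum : x.support.card = (n + 1) * p := by
    rw [← Equiv.Perm.sum_cycleType, hn, Multiset.sum_replicate, smul_eq_mul]
  have hle : x.support.card ≤ Fintype.card β := Finset.card_le_univ _
  have hp0 : 0 < p := hp.pos
  have hn1 : n + 1 ≤ 2 := by
    by_contra h
    simp only [not_le] at h
    have : 3 * p ≤ (n + 1) * p := Nat.mul_le_mul_right p (by omega)
    omega
  rcases Nat.lt_or_ge n 1 with h0 | h1
  · left
    have hn0 : n = 0 := by omega
    subst hn0
    refine ⟨?_, by simpa using hsum⟩
    rw [← Equiv.Perm.card_cycleType_eq_one, hn]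
    simp
  · right
    have hn1' : n = 1 := by omega
    subst hn1'
    refine ⟨?_, ?_⟩
    · have : x.support.card = 2 * p := by simpa using hsum
      omega
    · rw [hn]
      rfl

end Cfsg.Agent.Helper2.AG
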