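import Mathlib
import Cfsg.Agent.Lib.Helper20.Basic

/-!
# The involution count for groups with a Klein four Sylow 2-subgroup (shared by S4016 / S4018)

`v4_count`: `G` finite, `P ≤ G` of odd order `w`, `y` an involution centralizing `P` with
`|C_G(y)| = 4 w`; a "TI" hypothesis (`g x g⁻¹ ∈ P` for some `1 ≠ x ∈ P` forces `g ∈ C_G(y)`);
all involutions conjugate to `y`; for every involution `s` the square `(y s)^2` is conjugate
into `P`.  Then `|G| ≤ 4 w (4 w^2 - 2 w + 1)`, in particular `|G| < 16 w^3`.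
-/

set_option autoImplicit false

namespace Cfsg.Agent.Helper21.V4C

variable {G : Type*} [Group G]

theorem eq_one_of_sq (P : Subgroup G) (w : ℕ) (hw : Nat.card P = w) (hodd : Odd w)
    {x : G} (hx : x ∈ P) (h2 : x ^ 2 = 1) : x = 1 := by
  have h1 : orderOf x ∣ 2 := orderOf_dvd_of_pow_eq_one h2
  have h3 : orderOf x ∣ w := hw ▸ P.orderOf_dvd_natCard hx
  have h4 : orderOf x ∣ Nat.gcd 2 w := Nat.dvd_gcd h1 h3
  have h5 : Nat.gcd 2 w = 1 := Nat.coprime_two_left.mpr hodd
  rw [h5, Nat.dvd_one, orderOf_eq_one_iff] at h4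
  exact h4

theorem mul_self_of_orderOf {t : G} (ht : orderOf t = 2) : t * t = 1 := by
  rw [← pow_two, ← ht, pow_orderOf_eq_one]

theorem ne_one_of_orderOf {t : G} (ht : orderOf t = 2) : t ≠ 1 := by
  intro h
  rw [h, orderOf_one] at ht
  omega

theorem orderOf_conj_two {t : G} (g : G) (ht : orderOf t = 2) : orderOf (g * t * g⁻¹) = 2 := by
  have := (MulAut.conj g).orderOf_eq t
  rw [MulAut.conj_apply] at this
  rw [this, ht]

/-- The involutions commuting with `y`: there are at most `2 w + 1` of them. -/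
theorem invol_cent_card_le [Fintype G] [DecidableEq G] (P : Subgroup G) (y : G) (w : ℕ)
    (hw : Nat.card P = w) (hodd : Odd w) (hy : orderOf y = 2)
    (hyP : ∀ x ∈ P, x * y = y * x)
    (hCy : Nat.card (Subgroup.centralizer ({y} : Set G)) = 4 * w) :
    (Finset.univ.filter (fun t : G => orderOf t = 2 ∧ t * y = y * t)).card ≤ 2 * w + 1 := by
  classical
  have hy2 : y * y = 1 := mul_self_of_orderOf hy
  have hy1 : y ≠ 1 := ne_one_of_orderOf hy
  set N : Finset G := Finset.univ.filter (fun t : G => t * y = y * t) with hN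
  set Pf : Finset G := Finset.univ.filter (fun t : G => t ∈ P) with hPf
  set Qf : Finset G := Pf.image (fun x => y * x) with hQf
  have hNcard : N.card = 4 * w := by
    rw [← hCy, Nat.card_eq_fintype_card, Fintype.card_subtype]
    congr 1
    ext t
    simp only [hN, Finset.mem_filter, Finset.mem_univ, true_and,
      Subgroup.mem_centralizer_singleton_iff]
  have hPcard : Pf.card = w := by
    rw [← hw, Nat.card_eq_fintype_card, Fintype.card_subtype]
  have hQcard : Qf.card = w := by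
    rw [hQf, Finset.card_image_of_injective _ (mul_right_injective y), hPcard]
  have hyP' : y ∉ P := by
    intro h
    exact hy1 (eq_one_of_sq P w hw hodd h (by rw [pow_two, hy2]))
  have hdisj : Disjoint Pf Qf := by
    rw [Finset.disjoint_left]
    intro t htP htQ
    rw [hQf, Finset.mem_image] at htQ
    obtain ⟨x, hx, rfl⟩ := htQ
    rw [hPf, Finset.mem_filter] at htP hx
    apply hyP'
    have : y = (y * x) * x⁻¹ := by group
    rw [this]
    exact P.mul_mem htP.2 (P.inv_mem hx.2)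
  have hsub : Pf ∪ Qf ⊆ N := by
    intro t ht
    rw [Finset.mem_union] at ht
    rw [hN, Finset.mem_filter]
    refine ⟨Finset.mem_univ _, ?_⟩
    rcases ht with ht | ht
    · rw [hPf, Finset.mem_filter] at ht
      exact hyP t ht.2
    · rw [hQf, Finset.mem_image] at ht
      obtain ⟨x, hx, rfl⟩ := ht
      rw [hPf, Finset.mem_filter] at hx
      rw [mul_assoc, hyP x hx.2]
  have hUcard : (Pf ∪ Qf).card = 2 * w := by
    rw [Finset.card_union_of_disjoint hdisj, hPcard, hQcard]
    ring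
  have hcover : Finset.univ.filter (fun t : G => orderOf t = 2 ∧ t * y = y * t) ⊆
      insert y (N \ (Pf ∪ Qf)) := by
    intro t ht
    rw [Finset.mem_filter] at ht
    obtain ⟨-, ht2, htc⟩ := ht
    rw [Finset.mem_insert, Finset.mem_sdiff]
    by_cases htP : t ∈ Pf
    · exfalso
      rw [hPf, Finset.mem_filter] at htP
      exact ne_one_of_orderOf ht2
        (eq_one_of_sq P w hw hodd htP.2 (by rw [pow_two, mul_self_of_orderOf ht2]))
    by_cases htQ : t ∈ Qf
    · left
      rw [hQf, Finset.mem_image] at htQ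
      obtain ⟨x, hx, rfl⟩ := htQ
      rw [hPf, Finset.mem_filter] at hx
      have hxx : x ^ 2 = 1 := by
        have h1 : (y * x) * (y * x) = 1 := mul_self_of_orderOf ht2
        have h2 : (y * x) * (y * x) = (y * y) * (x * x) := by
          rw [mul_assoc, ← mul_assoc x y x, hyP x hx.2]
          group
        rw [h2, hy2, one_mul] at h1
        rw [pow_two, h1]
      rw [eq_one_of_sq P w hw hodd hx.2 hxx, mul_one]
    · right
      refine ⟨?_, ?_⟩
      · rw [hN, Finset.mem_filter]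
        exact ⟨Finset.mem_univ _, htc⟩
      · rw [Finset.mem_union]
        tauto
  calc (Finset.univ.filter (fun t : G => orderOf t = 2 ∧ t * y = y * t)).card
      ≤ (insert y (N \ (Pf ∪ Qf))).card := Finset.card_le_card hcover
    _ ≤ (N \ (Pf ∪ Qf)).card + 1 := Finset.card_insert_le _ _
    _ = 2 * w + 1 := by
      rw [Finset.card_sdiff_of_subset hsub, hNcard, hUcard]
      omega

/-- The same bound for any conjugate of `y`. -/
theorem invol_cent_card_le' [Fintype G] [DecidableEq G] (P : Subgroup G) (y : G) (w : ℕ)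
    (hw : Nat.card P = w) (hodd : Odd w) (hy : orderOf y = 2)
    (hyP : ∀ x ∈ P, x * y = y * x)
    (hCy : Nat.card (Subgroup.centralizer ({y} : Set G)) = 4 * w) (g : G) :
    (Finset.univ.filter (fun t : G => orderOf t = 2 ∧ t * (g * y * g⁻¹) = (g * y * g⁻¹) * t)).card
      ≤ 2 * w + 1 := by
  refine le_trans ?_ (invol_cent_card_le P y w hw hodd hy hyP hCy)
  refine Finset.card_le_card_of_injOn (fun t => g⁻¹ * t * g) ?_ ?_
  · intro t ht
    rw [Finset.coe_filter, Set.mem_setOf_eq] at ht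
    rw [Finset.coe_filter, Set.mem_setOf_eq]
    obtain ⟨-, ht2, htc⟩ := ht
    refine ⟨Finset.mem_univ _, ?_, ?_⟩
    · have := orderOf_conj_two g⁻¹ ht2
      rwa [inv_inv] at this
    · calc g⁻¹ * t * g * y = g⁻¹ * (t * (g * y * g⁻¹)) * g := by group
        _ = g⁻¹ * ((g * y * g⁻¹) * t) * g := by rw [htc]
        _ = y * (g⁻¹ * t * g) := by group
  · intro a _ b _ hab
    simpa using hab

/-- Every involution not commuting with `y` commutes with some involution `y' ≠ y` that
commutes with `y`. -/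
theorem exists_mid (P : Subgroup G) (y : G) (hy : orderOf y = 2)
    (hTI : ∀ g : G, (∃ x ∈ P, x ≠ 1 ∧ g * x * g⁻¹ ∈ P) → g ∈ Subgroup.centralizer ({y} : Set G))
    (s : G) (hs : orderOf s = 2) (hsy : s * y ≠ y * s)
    (hsq : ∃ g : G, g * (y * s) ^ 2 * g⁻¹ ∈ P) :
    ∃ y' : G, orderOf y' = 2 ∧ y' ≠ y ∧ y' * y = y * y' ∧ s * y' = y' * s := by
  obtain ⟨g, hg⟩ := hsq
  have hy2 : y * y = 1 := mul_self_of_orderOf hy
  have hs2 : s * s = 1 := mul_self_of_orderOf hs
  have hyinv : y⁻¹ = y := inv_eq_of_mul_eq_one_right hy2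
  have hsinv : s⁻¹ = s := inv_eq_of_mul_eq_one_right hs2
  have hu1 : (y * s) ^ 2 ≠ 1 := by
    intro h
    apply hsy
    have h' : y * s * (y * s) = 1 := by rw [← pow_two]; exact h
    calc s * y = y⁻¹ * (y * s * (y * s)) * s⁻¹ := by group
      _ = y * s := by rw [h', hyinv, hsinv, mul_one]
  have hx1 : g * (y * s) ^ 2 * g⁻¹ ≠ 1 := by
    intro h
    apply hu1
    have : (y * s) ^ 2 = g⁻¹ * (g * (y * s) ^ 2 * g⁻¹) * g := by group
    rw [this, h]
    group
  -- `y` inverts `(y s)^2`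
  have hinv : y * (y * s) ^ 2 * y⁻¹ = ((y * s) ^ 2)⁻¹ := by
    have h1 : y * (y * s) * y⁻¹ = (y * s)⁻¹ := by
      rw [mul_inv_rev, hyinv, hsinv, ← mul_assoc, hy2, one_mul]
    rw [← conj_pow, h1, inv_pow]
  have hc1 : g * y * g⁻¹ ∈ Subgroup.centralizer ({y} : Set G) := by
    apply hTI
    refine ⟨g * (y * s) ^ 2 * g⁻¹, hg, hx1, ?_⟩
    have : g * y * g⁻¹ * (g * (y * s) ^ 2 * g⁻¹) * (g * y * g⁻¹)⁻¹ =
        g * (y * (y * s) ^ 2 * y⁻¹) * g⁻¹ := by group
    rw [this, hinv]
    have : g * ((y * s) ^ 2)⁻¹ * g⁻¹ = (g * (y * s) ^ 2 * g⁻¹)⁻¹ := by group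
    rw [this]
    exact P.inv_mem hg
  have hc2 : g * (y * s) * g⁻¹ ∈ Subgroup.centralizer ({y} : Set G) := by
    apply hTI
    refine ⟨g * (y * s) ^ 2 * g⁻¹, hg, hx1, ?_⟩
    have : g * (y * s) * g⁻¹ * (g * (y * s) ^ 2 * g⁻¹) * (g * (y * s) * g⁻¹)⁻¹ =
        g * (y * s) ^ 2 * g⁻¹ := by
      generalize y * s = z
      group
    rw [this]
    exact hg
  rw [Subgroup.mem_centralizer_singleton_iff] at hc1 hc2
  have hyy' : g⁻¹ * y * g * y = y * (g⁻¹ * y * g) := by
    calc g⁻¹ * y * g * y = g⁻¹ * (y * (g * y * g⁻¹)) * g := by group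
      _ = g⁻¹ * (g * y * g⁻¹ * y) * g := by rw [hc1]
      _ = y * (g⁻¹ * y * g) := by group
  have hzy' : (y * s) * (g⁻¹ * y * g) = (g⁻¹ * y * g) * (y * s) := by
    calc (y * s) * (g⁻¹ * y * g) = g⁻¹ * (g * (y * s) * g⁻¹ * y) * g := by group
      _ = g⁻¹ * (y * (g * (y * s) * g⁻¹)) * g := by rw [hc2]
      _ = (g⁻¹ * y * g) * (y * s) := by group
  have hsy' : s * (g⁻¹ * y * g) = (g⁻¹ * y * g) * s := by
    calc s * (g⁻¹ * y * g) = y⁻¹ * ((y * s) * (g⁻¹ * y * g)) := by group
      _ = y⁻¹ * ((g⁻¹ * y * g) * (y * s)) := by rw [hzy']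
      _ = y⁻¹ * ((g⁻¹ * y * g * y) * s) := by group
      _ = y⁻¹ * ((y * (g⁻¹ * y * g)) * s) := by rw [hyy']
      _ = (g⁻¹ * y * g) * s := by group
  refine ⟨g⁻¹ * y * g, ?_, ?_, hyy', hsy'⟩
  · have := orderOf_conj_two g⁻¹ hy
    rwa [inv_inv] at this
  · intro h
    rw [h] at hsy'
    exact hsy hsy'

/-- **The count.** -/
theorem v4_count [Finite G] (P : Subgroup G) (y : G) (w : ℕ)
    (hw : Nat.card P = w) (hodd : Odd w) (hy : orderOf y = 2)
    (hyP : ∀ x ∈ P, x * y = y * x)
    (hCy : Nat.card (Subgroup.centralizer ({y} : Set G)) = 4 * w)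
    (hTI : ∀ g : G, (∃ x ∈ P, x ≠ 1 ∧ g * x * g⁻¹ ∈ P) → g ∈ Subgroup.centralizer ({y} : Set G))
    (hconj : ∀ t : G, orderOf t = 2 → ∃ g : G, g * y * g⁻¹ = t)
    (hsq : ∀ s : G, orderOf s = 2 → ∃ g : G, g * (y * s) ^ 2 * g⁻¹ ∈ P) :
    Nat.card G + 8 * w ^ 2 ≤ 16 * w ^ 3 + 4 * w := by
  classical
  letI : Fintype G := Fintype.ofFinite G
  have hy2 : y * y = 1 := mul_self_of_orderOf hy
  have hy1 : y ≠ 1 := ne_one_of_orderOf hy
  set F : G → Finset G :=
    fun c => Finset.univ.filter (fun t : G => orderOf t = 2 ∧ t * c = c * t) with hF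
  set I : Finset G := Finset.univ.filter (fun t : G => orderOf t = 2) with hI
  have hFle : ∀ c : G, orderOf c = 2 → (F c).card ≤ 2 * w + 1 := by
    intro c hc
    obtain ⟨g, rfl⟩ := hconj c hc
    exact invol_cent_card_le' P y w hw hodd hy hyP hCy g
  have hyF : y ∈ F y := by
    rw [hF, Finset.mem_filter]
    exact ⟨Finset.mem_univ _, hy, rfl⟩
  -- the cover
  have hcover : I ⊆ F y ∪ ((F y).erase y).biUnion (fun c => F c \ {y, c, y * c}) := by
    intro s hs
    rw [hI, Finset.mem_filter] at hs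
    rw [Finset.mem_union]
    by_cases hsy : s * y = y * s
    · left
      rw [hF, Finset.mem_filter]
      exact ⟨Finset.mem_univ _, hs.2, hsy⟩
    · right
      obtain ⟨c, hc2, hcy, hcc, hsc⟩ := exists_mid P y hy hTI s hs.2 hsy (hsq s hs.2)
      rw [Finset.mem_biUnion]
      refine ⟨c, ?_, ?_⟩
      · rw [Finset.mem_erase, hF, Finset.mem_filter]
        exact ⟨hcy, Finset.mem_univ _, hc2, hcc⟩
      · rw [Finset.mem_sdiff, hF, Finset.mem_filter]
        refine ⟨⟨Finset.mem_univ _, hs.2, hsc⟩, ?_⟩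
        rw [Finset.mem_insert, Finset.mem_insert, Finset.mem_singleton]
        rintro (h | h | h)
        · exact hsy (by rw [h])
        · exact hsy (by rw [h]; exact hcc)
        · apply hsy
          rw [h, mul_assoc, hcc]
  -- the pieces
  have hpiece : ∀ c ∈ (F y).erase y, (F c \ {y, c, y * c}).card ≤ 2 * w - 2 := by
    intro c hc
    rw [Finset.mem_erase, hF, Finset.mem_filter] at hc
    obtain ⟨hcy, -, hc2, hcc⟩ := hc
    have hc1 : c ≠ 1 := ne_one_of_orderOf hc2
    have hcsq : c * c = 1 := mul_self_of_orderOf hc2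
    have hyc2 : orderOf (y * c) = 2 := by
      refine orderOf_eq_prime ?_ ?_
      · rw [pow_two]
        calc y * c * (y * c) = y * (c * y) * c := by group
          _ = y * (y * c) * c := by rw [hcc]
          _ = (y * y) * (c * c) := by group
          _ = 1 := by rw [hy2, hcsq, one_mul]
      · intro h
        apply hcy
        have : c = y⁻¹ * (y * c) := by group
        rw [this, h, mul_one]
        exact inv_eq_of_mul_eq_one_right hy2
    have hsub : ({y, c, y * c} : Finset G) ⊆ F c := by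
      intro t ht
      rw [Finset.mem_insert, Finset.mem_insert, Finset.mem_singleton] at ht
      rw [hF, Finset.mem_filter]
      refine ⟨Finset.mem_univ _, ?_⟩
      rcases ht with rfl | rfl | rfl
      · exact ⟨hy, hcc.symm⟩
      · exact ⟨hc2, rfl⟩
      · refine ⟨hyc2, ?_⟩
        rw [← mul_assoc c y c, hcc]
    have h3 : ({y, c, y * c} : Finset G).card = 3 := by
      rw [Finset.card_eq_three]
      refine ⟨y, c, y * c, fun h => hcy h.symm, ?_, ?_, rfl⟩
      · intro h
        apply hc1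
        have : c = y⁻¹ * (y * c) := by group
        rw [this, ← h]
        group
      · intro h
        apply hy1
        have : y = (y * c) * c⁻¹ := by group
        rw [this, ← h]
        group
    rw [Finset.card_sdiff_of_subset hsub, h3]
    have := hFle c hc2
    omega
  have hE : ((F y).erase y).card ≤ 2 * w := by
    rw [Finset.card_erase_of_mem hyF]
    have := hFle y hy
    omega
  have hIle : I.card ≤ (2 * w + 1) + (2 * w) * (2 * w - 2) := by
    calc I.card ≤ (F y ∪ ((F y).erase y).biUnion (fun c => F c \ {y, c, y * c})).card :=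
          Finset.card_le_card hcover
      _ ≤ (F y).card + (((F y).erase y).biUnion (fun c => F c \ {y, c, y * c})).card :=
          Finset.card_union_le _ _
      _ ≤ (2 * w + 1) + ((F y).erase y).card * (2 * w - 2) :=
          Nat.add_le_add (hFle y hy) (Finset.card_biUnion_le_card_mul _ _ _ hpiece)
      _ ≤ (2 * w + 1) + (2 * w) * (2 * w - 2) :=
          Nat.add_le_add_left (Nat.mul_le_mul_right _ hE) _
  -- `|G| = |I| * 4 w`
  have hIcard : I.card = (Subgroup.centralizer ({y} : Set G)).index := by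
    rw [← Cfsg.Agent.Helper20.ncard_isConj_eq_index y, ← Set.ncard_coe_finset]
    congr 1
    ext t
    rw [hI, Finset.coe_filter, Set.mem_setOf_eq, Set.mem_setOf_eq, isConj_iff]
    constructor
    · rintro ⟨-, ht⟩
      exact hconj t ht
    · rintro ⟨g, rfl⟩
      exact ⟨Finset.mem_univ _, orderOf_conj_two g hy⟩
  have hG : Nat.card G = 4 * w * I.card := by
    rw [hIcard, ← hCy]
    exact (Subgroup.card_mul_index _).symm
  rw [hG]
  obtain ⟨k, rfl⟩ := hodd
  have h1 : 4 * (2 * k + 1) * I.card ≤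
      4 * (2 * k + 1) * ((2 * (2 * k + 1) + 1) + (2 * (2 * k + 1)) * (2 * (2 * k + 1) - 2)) :=
    Nat.mul_le_mul_left _ hIle
  have h2 : 2 * (2 * k + 1) - 2 = 4 * k := by omega
  rw [h2] at h1
  nlinarith [h1]

theorem v4_count_lt [Finite G] (P : Subgroup G) (y : G) (w : ℕ)
    (hw : Nat.card P = w) (hodd : Odd w) (hy : orderOf y = 2)
    (hyP : ∀ x ∈ P, x * y = y * x)
    (hCy : Nat.card (Subgroup.centralizer ({y} : Set G)) = 4 * w)
    (hTI : ∀ g : G, (∃ x ∈ P, x ≠ 1 ∧ g * x * g⁻¹ ∈ P) → g ∈ Subgroup.centralizer ({y} : Set G))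
    (hconj : ∀ t : G, orderOf t = 2 → ∃ g : G, g * y * g⁻¹ = t)
    (hsq : ∀ s : G, orderOf s = 2 → ∃ g : G, g * (y * s) ^ 2 * g⁻¹ ∈ P) :
    Nat.card G < 16 * w ^ 3 := by
  have h := v4_count P y w hw hodd hy hyP hCy hTI hconj hsq
  obtain ⟨k, rfl⟩ := hodd
  nlinarith [h]

end Cfsg.Agent.Helper21.V4C
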