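import Mathlib
import Cfsg.Agent.Lib.Helper6.UniDefs

/-!
S2314 farm-out, piece UNI-REIDX (helper21): the Steinberg function of the restricted `(B, N)`-pair of a parabolic
subgroup is the relative Steinberg function.
-/

set_option autoImplicit false
set_option linter.unusedSectionVars false
set_option linter.unusedVariables false

namespace Cfsg.Agent.Helper6.Uni

open Cfsg Cfsg.Agent.Helper2.WordLen Cfsg.Agent.Helper2.BN Cfsg.Agent.Helper17.BNCox

theorem uni_reidx_closure_subgroupOf {G : Type*} [Group G] (K : Subgroup G) (X : Set G) (hX : X ⊆ K) :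
    (Subgroup.closure X).subgroupOf K = Subgroup.closure (K.subtype ⁻¹' X) := by
  have h1 : Subgroup.closure X = (Subgroup.closure (K.subtype ⁻¹' X)).map K.subtype := by
    rw [MonoidHom.map_closure, Set.image_preimage_eq_of_subset]
    rw [Subgroup.coe_subtype, Subtype.range_coe]
    exact hX
  rw [Subgroup.subgroupOf, h1, Subgroup.comap_map_eq_self_of_injective (Subgroup.subtype_injective K)]

variable {G : Type*} [Group G] (P : Cfsg.BNPair G)

/-- a generator in `A` lies in `P_A` -/
theorem uni_reidx_gen_mem_par (A : Set P.S) (s : P.S) (hs : s ∈ A) : (s : G) ∈ par P A := by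
  unfold par BNPair.parabolic
  exact (le_sup_right : Subgroup.closure (Subtype.val '' A) ≤ _)
    (Subgroup.subset_closure ⟨s, hs, rfl⟩)

/-- the closure of the generators in `K ⊆ A` lies in `P_A` -/
theorem uni_reidx_closure_le_par (A K : Set P.S) (hK : K ⊆ A) :
    Subgroup.closure (Subtype.val '' K) ≤ par P A := by
  rw [Subgroup.closure_le]
  rintro _ ⟨s, hs, rfl⟩
  exact uni_reidx_gen_mem_par P A s (hK hs)

section

variable (A : Finset P.S) (Q : Cfsg.BNPair ↥(par P (↑A : Set P.S)))

/-- a distinguished generator of the restricted pair, as a distinguished generator of `P` -/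
noncomputable def uni_reidx_toS (hQ : IsRestr P (↑A : Set P.S) Q) (x : Q.S) : P.S :=
  ⟨((x : ↥(par P (↑A : Set P.S))) : G), by
    have hx := (Set.ext_iff.1 hQ.hS (x : ↥(par P (↑A : Set P.S)))).1 x.2
    obtain ⟨s, _, hs⟩ := hx
    rw [← hs]
    exact s.2⟩

theorem uni_reidx_toS_coe (hQ : IsRestr P (↑A : Set P.S) Q) (x : Q.S) :
    ((uni_reidx_toS P A Q hQ x : P.S) : G) = ((x : ↥(par P (↑A : Set P.S))) : G) := rfl

theorem uni_reidx_toS_mem (hQ : IsRestr P (↑A : Set P.S) Q) (x : Q.S) :
    uni_reidx_toS P A Q hQ x ∈ A := by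
  have hx := (Set.ext_iff.1 hQ.hS (x : ↥(par P (↑A : Set P.S)))).1 x.2
  obtain ⟨s, hsA, hs⟩ := hx
  have : uni_reidx_toS P A Q hQ x = s := Subtype.ext hs.symm
  rw [this]
  exact hsA

theorem uni_reidx_toS_injective (hQ : IsRestr P (↑A : Set P.S) Q) : Function.Injective (uni_reidx_toS P A Q hQ) := by
  intro x y hxy
  have h := congrArg (fun s : P.S => (s : G)) hxy
  simp only [uni_reidx_toS_coe] at h
  exact Subtype.ext (Subtype.ext h)

theorem uni_reidx_toS_surj (hQ : IsRestr P (↑A : Set P.S) Q) (s : P.S) (hs : s ∈ A) : ∃ x : Q.S, uni_reidx_toS P A Q hQ x = s := by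
  have hmem : (s : G) ∈ par P (↑A : Set P.S) := uni_reidx_gen_mem_par P _ s hs
  have hx : (⟨(s : G), hmem⟩ : ↥(par P (↑A : Set P.S))) ∈ Q.S :=
    (Set.ext_iff.1 hQ.hS _).2 ⟨s, hs, rfl⟩
  exact ⟨⟨⟨(s : G), hmem⟩, hx⟩, Subtype.ext rfl⟩

open Classical in
/-- the parabolic subgroups of the restricted pair -/
theorem uni_reidx_par_eq (hQ : IsRestr P (↑A : Set P.S) Q) (K' : Finset Q.S) :
    par Q (↑K' : Set Q.S) =
      (par P (↑(K'.image (uni_reidx_toS P A Q hQ)) : Set P.S)).subgroupOf (par P (↑A : Set P.S)) := by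
  have hKA : (↑(K'.image (uni_reidx_toS P A Q hQ)) : Set P.S) ⊆ (↑A : Set P.S) := by
    intro s hs
    rw [Finset.mem_coe, Finset.mem_image] at hs
    obtain ⟨x, _, rfl⟩ := hs
    exact uni_reidx_toS_mem P A Q hQ x
  have hcl := uni_reidx_closure_le_par P (↑A : Set P.S) _ hKA
  have hX : (Subtype.val '' (↑(K'.image (uni_reidx_toS P A Q hQ)) : Set P.S) : Set G) ⊆
      (par P (↑A : Set P.S) : Set G) := fun y hy => hcl (Subgroup.subset_closure hy)
  show Q.B ⊔ Subgroup.closure (Subtype.val '' (↑K' : Set Q.S)) =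
    (P.B ⊔ Subgroup.closure (Subtype.val '' (↑(K'.image (uni_reidx_toS P A Q hQ)) : Set P.S))).subgroupOf
      (par P (↑A : Set P.S))
  rw [Subgroup.subgroupOf_sup (B_le_par P _) hcl, uni_reidx_closure_subgroupOf _ _ hX, hQ.hB]
  congr 2
  ext y
  constructor
  · rintro ⟨x, hx, rfl⟩
    refine ⟨uni_reidx_toS P A Q hQ x, ?_, rfl⟩
    rw [Finset.mem_coe, Finset.mem_image]
    exact ⟨x, hx, rfl⟩
  · rintro ⟨s, hs, hsy⟩
    rw [Finset.mem_coe, Finset.mem_image] at hs
    obtain ⟨x, hx, rfl⟩ := hs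
    refine ⟨x, hx, ?_⟩
    apply Subtype.ext
    exact hsy

open Classical in
/-- PIECE UNI-REIDX: the Steinberg function of the restricted pair is the relative Steinberg function
(the parabolic subgroups of `Q` are the `(P_K).subgroupOf P_A`, `K ⊆ A`; reindex the sum). -/
theorem St_restr (hQ : IsRestr P (↑A : Set P.S) Q) [Fintype Q.S] (g : ↥(par P (↑A : Set P.S))) :
    St Q g = StA P A g := by
  unfold St StA
  refine Finset.sum_bij' (fun K' _ => K'.image (uni_reidx_toS P A Q hQ))
    (fun K _ => Finset.univ.filter (fun x : Q.S => uni_reidx_toS P A Q hQ x ∈ K)) ?_ ?_ ?_ ?_ ?_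
  · intro K' _
    rw [Finset.mem_powerset]
    intro s hs
    rw [Finset.mem_image] at hs
    obtain ⟨x, _, rfl⟩ := hs
    exact uni_reidx_toS_mem P A Q hQ x
  · intro K _
    exact Finset.mem_univ _
  · intro K' _
    ext x
    simp only [Finset.mem_filter, Finset.mem_univ, true_and, Finset.mem_image]
    constructor
    · rintro ⟨y, hy, hxy⟩
      rwa [← uni_reidx_toS_injective P A Q hQ hxy]
    · intro hx
      exact ⟨x, hx, rfl⟩
  · intro K hK
    rw [Finset.mem_powerset] at hK
    ext s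
    simp only [Finset.mem_filter, Finset.mem_univ, true_and, Finset.mem_image]
    constructor
    · rintro ⟨x, hx, rfl⟩
      exact hx
    · intro hs
      obtain ⟨x, rfl⟩ := uni_reidx_toS_surj P A Q hQ s (hK hs)
      exact ⟨x, hs, rfl⟩
  · intro K' _
    rw [uni_reidx_par_eq P A Q hQ K', Finset.card_image_of_injective _ (uni_reidx_toS_injective P A Q hQ)]

end

end Cfsg.Agent.Helper6.Uni
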