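import Mathlib
import Cfsg.Agent.Lib.Helper6.UniDefs
import Cfsg.Agent.Lib.Helper21.UniREIDX

/-!
S2314 farm-out, piece UNI-STB (helper21), core: the relative Steinberg function on `B`, with the restricted pair
(UNI-RESTR), the descent property (UNI-DESC) and the fixed-coset count (UNI-FPC) as hypotheses.
-/

set_option autoImplicit false
set_option linter.unusedSectionVars false
set_option linter.unusedVariables false

namespace Cfsg.Agent.Helper6.Uni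

open Cfsg Cfsg.Agent.Helper2.WordLen Cfsg.Agent.Helper2.BN Cfsg.Agent.Helper17.BNCox

universe u

variable {G : Type u} [Group G] (P : Cfsg.BNPair G)

theorem uni_stb_core [Finite G] (A : Finset P.S) (n : G) (hn : n ∈ NA P (↑A : Set P.S))
    (b : G) (hb : b ∈ P.B)
    (Q : Cfsg.BNPair ↥(par P (↑A : Set P.S))) (hQ : IsRestr P (↑A : Set P.S) Q)
    (hall : ∀ (n' : Q.N), ((n' : ↥(par P (↑A : Set P.S))) : G) = n →
      ∀ t : Q.S, ℓ Q (π Q n' * σ Q t) < ℓ Q (π Q n'))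
    (hFPC : ∀ {M : Type u} [Group M] [Finite M] (H : Subgroup M) (c : M),
      Nat.card (MulAction.fixedBy (M ⧸ H) c) * Nat.card H = Nat.card {x : M // x⁻¹ * c * x ∈ H}) :
    StA P A ⟨b, B_le_par P _ hb⟩ * (Nat.card (Hn P n) : ℂ) =
      (Nat.card {x : G // x ∈ P.B ∧ x⁻¹ * b * x ∈ Hn P n} : ℂ) := by
  classical
  have : Fintype Q.S := Fintype.ofFinite _
  have hBM : P.B ≤ par P (↑A : Set P.S) := B_le_par P _
  have hnM : n ∈ par P (↑A : Set P.S) := NA_le_par P _ hn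
  have hn'mem : (⟨n, hnM⟩ : ↥(par P (↑A : Set P.S))) ∈ Q.N :=
    (SetLike.ext_iff.1 hQ.hN _).2 (Subgroup.mem_subgroupOf.2 hn)
  have hbM : b ∈ par P (↑A : Set P.S) := hBM hb
  have hQB : ∀ x : ↥(par P (↑A : Set P.S)), x ∈ Q.B ↔ (x : G) ∈ P.B := by
    intro x
    rw [SetLike.ext_iff.1 hQ.hB x, Subgroup.mem_subgroupOf]
  have hbQ : (⟨b, hbM⟩ : ↥(par P (↑A : Set P.S))) ∈ Q.B := (hQB _).2 hb
  have hH₀ : ∀ x ∈ Q.B, x ∈ (Hn P n).subgroupOf (par P (↑A : Set P.S)) ↔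
      (((⟨⟨n, hnM⟩, hn'mem⟩ : Q.N) : ↥(par P (↑A : Set P.S))))⁻¹ * x *
        ((⟨⟨n, hnM⟩, hn'mem⟩ : Q.N) : ↥(par P (↑A : Set P.S))) ∈ Q.B := by
    intro x hx
    rw [hQB] at hx ⊢
    rw [Subgroup.mem_subgroupOf, mem_Hn]
    constructor
    · rintro ⟨_, h2⟩
      exact h2
    · intro h
      exact ⟨hx, h⟩
  have h1 := St_apply_B Q ⟨⟨n, hnM⟩, hn'mem⟩ (hall _ rfl) ((Hn P n).subgroupOf (par P (↑A : Set P.S))) hH₀
    ⟨⟨b, hbM⟩, hbQ⟩
  have h0 : StA P A ⟨b, B_le_par P _ hb⟩ = St Q ⟨b, hbM⟩ := (St_restr P A Q hQ ⟨b, hbM⟩).symm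
  rw [h0]
  have h1' : St Q ⟨b, hbM⟩ = Cfsg.fixedPointCharacter
      (((Hn P n).subgroupOf (par P (↑A : Set P.S))).subgroupOf Q.B) ⟨⟨b, hbM⟩, hbQ⟩ := h1
  rw [h1']
  unfold Cfsg.fixedPointCharacter
  have h2 := hFPC (((Hn P n).subgroupOf (par P (↑A : Set P.S))).subgroupOf Q.B) ⟨⟨b, hbM⟩, hbQ⟩
  have hHnM : Hn P n ≤ par P (↑A : Set P.S) := le_trans (Hn_le P n) hBM
  have hH₀le : (Hn P n).subgroupOf (par P (↑A : Set P.S)) ≤ Q.B := by
    intro x hx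
    rw [hQB]
    exact Hn_le P n (Subgroup.mem_subgroupOf.1 hx)
  have e1 : Nat.card (((Hn P n).subgroupOf (par P (↑A : Set P.S))).subgroupOf Q.B) =
      Nat.card (Hn P n) :=
    (Nat.card_congr (Subgroup.subgroupOfEquivOfLe hH₀le).toEquiv).trans
      (Nat.card_congr (Subgroup.subgroupOfEquivOfLe hHnM).toEquiv)
  have e2 : Nat.card {x : ↥Q.B // x⁻¹ * (⟨⟨b, hbM⟩, hbQ⟩ : ↥Q.B) * x ∈
      ((Hn P n).subgroupOf (par P (↑A : Set P.S))).subgroupOf Q.B} =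
      Nat.card {x : G // x ∈ P.B ∧ x⁻¹ * b * x ∈ Hn P n} := by
    refine Nat.card_congr
      { toFun := fun x => ⟨(((x : ↥Q.B) : ↥(par P (↑A : Set P.S))) : G),
          (hQB _).1 (x : ↥Q.B).2, ?_⟩
        invFun := fun y => ⟨⟨⟨(y : G), hBM y.2.1⟩, (hQB _).2 y.2.1⟩, ?_⟩
        left_inv := fun x => Subtype.ext (Subtype.ext (Subtype.ext rfl))
        right_inv := fun y => Subtype.ext rfl }
    · have hx := x.2
      rw [Subgroup.mem_subgroupOf, Subgroup.mem_subgroupOf] at hx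
      exact hx
    · rw [Subgroup.mem_subgroupOf, Subgroup.mem_subgroupOf]
      exact y.2.2
  rw [← e1, ← e2, ← h2]
  push_cast
  ring

end Cfsg.Agent.Helper6.Uni
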