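import Mathlib
import Cfsg.Agent.Lib.Helper6.UniDefs
import Cfsg.Agent.Lib.Helper21.UniSTBCore
import Cfsg.Agent.Lib.Helper7.UNIFPC
import Cfsg.Agent.Lib.Helper19.UNIDESC

/-!
S2314 farm-out, piece UNI-STB (helper21): the relative Steinberg function on `B`, given a restricted pair
(UNI-RESTR as the only hypothesis; UNI-FPC, UNI-DESC, UNI-REIDX are the landed pieces).
-/

set_option autoImplicit false
set_option linter.unusedSectionVars false
set_option linter.unusedVariables false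

namespace Cfsg.Agent.Helper6.Uni

open Cfsg Cfsg.Agent.Helper2.WordLen Cfsg.Agent.Helper2.BN Cfsg.Agent.Helper17.BNCox

variable {G : Type*} [Group G] (P : Cfsg.BNPair G)

theorem uni_stb_of_restr [Finite G] (A : Finset P.S) (n : G) (hn : n ∈ NA P (↑A : Set P.S))
    (hdesc : ∀ s ∈ A, ∃ b ∈ P.B, ∃ b' ∈ P.B, ∃ b'' ∈ P.B, (s : G) * b * n = b' * n * b'')
    (b : G) (hb : b ∈ P.B)
    (hR : ∃ Q : Cfsg.BNPair ↥(par P (↑A : Set P.S)), IsRestr P (↑A : Set P.S) Q) :
    StA P A ⟨b, B_le_par P _ hb⟩ * (Nat.card (Hn P n) : ℂ) =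
      (Nat.card {x : G // x ∈ P.B ∧ x⁻¹ * b * x ∈ Hn P n} : ℂ) := by
  obtain ⟨Q, hQ⟩ := hR
  refine uni_stb_core P A n hn b hb Q hQ ?_ ?_
  · intro n' hn' t
    exact restr_allDescR P (↑A : Set P.S) Q hQ n hn
      (fun s hs => hdesc s (Finset.mem_coe.1 hs)) n' hn' t
  · intro M _ _ H c
    exact card_fixedBy_mul_card H c

end Cfsg.Agent.Helper6.Uni
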