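import Mathlib
import Cfsg.Agent.Lib.Helper6.UniDefs
import Cfsg.Agent.Lib.Helper21.UniSTBPre
import Cfsg.Agent.Lib.Helper6.UniRESTR

/-!
S2314 farm-out, piece UNI-STB (helper21): exact-name wrapper.
-/

set_option autoImplicit false
set_option linter.unusedSectionVars false
set_option linter.unusedVariables false

namespace Cfsg.Agent.Helper6.Uni

open Cfsg Cfsg.Agent.Helper2.WordLen Cfsg.Agent.Helper2.BN Cfsg.Agent.Helper17.BNCox

variable {G : Type*} [Group G] (P : Cfsg.BNPair G)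

/-- PIECE UNI-STB: on `B` the relative Steinberg function counts the fixed cosets of `B ∩ n B n⁻¹` in `B`
(`St_apply_B` of helper17 for the restricted pair + UNI-FPC + transport to `G`). -/
theorem StA_apply_B [Finite G] (A : Finset P.S) (n : G) (hn : n ∈ NA P (↑A : Set P.S))
    (hdesc : ∀ s ∈ A, ∃ b ∈ P.B, ∃ b' ∈ P.B, ∃ b'' ∈ P.B, (s : G) * b * n = b' * n * b'')
    (b : G) (hb : b ∈ P.B) :
    StA P A ⟨b, B_le_par P _ hb⟩ * (Nat.card (Hn P n) : ℂ) =
      (Nat.card {x : G // x ∈ P.B ∧ x⁻¹ * b * x ∈ Hn P n} : ℂ) :=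
  uni_stb_of_restr P A n hn hdesc b hb (exists_restr P (↑A : Set P.S))

end Cfsg.Agent.Helper6.Uni
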