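import Mathlib
import Cfsg.Prelude.Def_Solvable
import Cfsg.Agent.Lib.Helper20.W3Defs

/-!
# S3300 piece W3-F1 (helper20's farm-out): arcs are symmetric, core version (`star_count` as a hypothesis)
-/

set_option autoImplicit false
set_option linter.unusedSectionVars false
set_option linter.unusedVariables false
set_option linter.deprecated false

namespace Cfsg.Agent.Helper20.W3

open Cfsg.Agent.Helper8.XS Cfsg.Agent.Helper8.AB

section ctx

variable {G : Type*} [Group G] [Finite G] {z : G} {H E K : Subgroup G} {n : ℕ}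

/-- `r z r⁻¹ ∈ H` iff `r⁻¹ z r ∈ H` -/
theorem w3f1_mem_iff (c : Ctx3 z H E K n) (r : G) : r * z * r⁻¹ ∈ H ↔ r⁻¹ * z * r ∈ H := by
  rw [c.hH, c.hH]
  constructor
  · intro h
    calc r⁻¹ * z * r * z = r⁻¹ * (z * (r * z * r⁻¹)) * r := by group
      _ = r⁻¹ * ((r * z * r⁻¹) * z) * r := by rw [h]
      _ = z * (r⁻¹ * z * r) := by group
  · intro h
    calc r * z * r⁻¹ * z = r * (z * (r⁻¹ * z * r)) * r⁻¹ := by group
      _ = r * ((r⁻¹ * z * r) * z) * r⁻¹ := by rw [h]
      _ = z * (r * z * r⁻¹) := by group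

/-- translation by `r` maps `Tset(z, r⁻¹ z r)` into `Tset(z, r z r⁻¹)` -/
theorem w3f1_map [Fintype (G ⧸ H)] (χ : ↥H →* ℤˣ) (r : G) (x : G ⧸ H)
    (hx : x ∈ Tset χ z (r⁻¹ * z * r)) : r • x ∈ Tset χ z (r * z * r⁻¹) := by
  rw [mem_Tset] at hx ⊢
  obtain ⟨h1, h2⟩ := hx
  have hx' : r • x = ((r * x.out : G) : G ⧸ H) := by
    conv_lhs => rw [← QuotientGroup.out_eq' x]
    rfl
  rw [hx', valH_out, valH_out]
  constructor
  · have e : (r * x.out)⁻¹ * z * (r * x.out) = x.out⁻¹ * (r⁻¹ * z * r) * x.out := by group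
    rw [e]; exact h2
  · have e : (r * x.out)⁻¹ * (r * z * r⁻¹) * (r * x.out) = x.out⁻¹ * z * x.out := by group
    rw [e]; exact h1

theorem w3f1_card [Fintype (G ⧸ H)] (χ : ↥H →* ℤˣ) (r : G) :
    (Tset χ z (r⁻¹ * z * r)).card = (Tset χ z (r * z * r⁻¹)).card := by
  apply le_antisymm
  · exact Finset.card_le_card_of_injOn (fun x => r • x) (fun x hx => w3f1_map χ r x hx)
      (fun a _ b _ h => MulAction.injective r h)
  · refine Finset.card_le_card_of_injOn (fun x => r⁻¹ • x) (fun x hx => ?_)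
      (fun a _ b _ h => MulAction.injective r⁻¹ h)
    have h := w3f1_map χ r⁻¹ x (by rw [inv_inv]; exact hx)
    rw [inv_inv] at h
    exact h

/-- PIECE W3-F1, with `star_count` as a hypothesis -/
theorem arc_symm_core (c : Ctx3 z H E K n) (χ : ↥H →* ℤˣ)
    (hcount : ∀ (inst : Fintype (G ⧸ H)) (y : G), y ∈ H → y * y = 1 → y ≠ 1 →
      valH χ y = (-1) ^ (@Tset G _ H inst χ z y).card) (r : G) :
    valH χ (r * z * r⁻¹) = valH χ (r⁻¹ * z * r) := by
  classical
  by_cases h : r * z * r⁻¹ ∈ H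
  · have h' : r⁻¹ * z * r ∈ H := (w3f1_mem_iff c r).1 h
    have inst : Fintype (G ⧸ H) := Fintype.ofFinite _
    have hz1 := c.hz1
    have hzz := c.hzz
    have e1 : (r * z * r⁻¹) * (r * z * r⁻¹) = 1 := by
      calc (r * z * r⁻¹) * (r * z * r⁻¹) = r * (z * z) * r⁻¹ := by group
        _ = 1 := by rw [hzz]; group
    have e2 : (r⁻¹ * z * r) * (r⁻¹ * z * r) = 1 := by
      calc (r⁻¹ * z * r) * (r⁻¹ * z * r) = r⁻¹ * (z * z) * r := by group
        _ = 1 := by rw [hzz]; group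
    have n1 : r * z * r⁻¹ ≠ 1 := by
      intro h0
      apply hz1
      calc z = r⁻¹ * (r * z * r⁻¹) * r := by group
        _ = 1 := by rw [h0]; group
    have n2 : r⁻¹ * z * r ≠ 1 := by
      intro h0
      apply hz1
      calc z = r * (r⁻¹ * z * r) * r⁻¹ := by group
        _ = 1 := by rw [h0]; group
    rw [hcount inst _ h e1 n1, hcount inst _ h' e2 n2, w3f1_card χ r]
  · have h' : r⁻¹ * z * r ∉ H := fun h2 => h ((w3f1_mem_iff c r).2 h2)
    rw [valH_of_not_mem χ h, valH_of_not_mem χ h']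

end ctx

end Cfsg.Agent.Helper20.W3
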