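import Mathlib
import Cfsg.Agent.Lib.Helper20.A5QDefs

set_option autoImplicit false

/-!
Piece A5Q-INITR for S3106: the rank condition `RankSq` passes to subgroups.
-/

namespace Cfsg.Agent.Helper20.A5Q

open Cfsg.Agent.Helper22.SecRank

/-- **A5Q-INITR.** The rank condition passes to subgroups. -/
theorem rankSq_subgroup {X : Type*} [Group X] [Finite X] (h : RankSq X) (L : Subgroup X) :
    RankSq ↥L := by
  intro K M hMK hKN hsq
  have h1 := h (K.map L.subtype) (M.map L.subtype) (Subgroup.map_mono hMK) ?_ ?_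
  · rw [Subgroup.card_map_of_injective L.subtype_injective,
      Subgroup.card_map_of_injective L.subtype_injective] at h1
    exact h1
  · rintro _ ⟨k, hk, rfl⟩
    rw [Subgroup.mem_normalizer_iff]
    intro x
    have hkn := Subgroup.mem_normalizer_iff.mp (hKN hk)
    constructor
    · rintro ⟨m, hm, rfl⟩
      exact ⟨k * m * k⁻¹, (hkn m).mp hm, by simp⟩
    · rintro ⟨m, hm, hmx⟩
      refine ⟨k⁻¹ * m * k, ?_, ?_⟩
      · refine (hkn (k⁻¹ * m * k)).mpr ?_
        have : k * (k⁻¹ * m * k) * k⁻¹ = m := by group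
        rw [this]; exact hm
      · have : L.subtype (k⁻¹ * m * k) = (L.subtype k)⁻¹ * L.subtype m * L.subtype k := by simp
        rw [this, hmx]; group
  · rintro _ ⟨k, hk, rfl⟩
    exact ⟨k ^ 2, hsq k hk, by simp⟩

end Cfsg.Agent.Helper20.A5Q
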