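import Mathlib
import Cfsg.Prelude.Def_Solvable
import Cfsg.Agent.Lib.Helper20.W3Defs

/-!
# S3300 piece W3-FIBER (helper20's farm-out): `Nset` is a disjoint union of `E`-classes, each in bijection
with an `Xset`.
-/

set_option autoImplicit false
set_option linter.unusedSectionVars false
set_option linter.unusedVariables false
set_option linter.deprecated false

namespace Cfsg.Agent.Helper20.W3

open Cfsg.Agent.Helper8.XS Cfsg.Agent.Helper8.AB

/-- a finite set with an equivalence relation all of whose classes are even is even -/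
theorem w3fiber_even_of_classes {α : Type*} [Finite α] (S : Set α) (R : α → α → Prop)
    (hrefl : ∀ a ∈ S, R a a) (hsymm : ∀ a ∈ S, ∀ b ∈ S, R a b → R b a)
    (htrans : ∀ a ∈ S, ∀ b ∈ S, ∀ c ∈ S, R a b → R b c → R a c)
    (hev : ∀ a ∈ S, Even (Set.ncard {b | b ∈ S ∧ R a b})) : Even (Set.ncard S) := by
  classical
  have := Fintype.ofFinite α
  let N : Finset α := S.toFinset
  have hN : ∀ a, a ∈ N ↔ a ∈ S := fun a => Set.mem_toFinset
  let cl : α → Finset α := fun a => N.filter (fun b => R a b)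
  have hcard : Set.ncard S = N.card := by
    rw [Set.ncard_eq_toFinset_card']
  rw [hcard, Finset.card_eq_sum_card_fiberwise (f := cl) (t := N.image cl)
    (fun x hx => Finset.mem_image_of_mem _ hx)]
  apply Finset.even_sum
  intro b hb
  obtain ⟨k, hk, rfl⟩ := Finset.mem_image.1 hb
  have hkS : k ∈ S := (hN k).1 hk
  have hfib : N.filter (fun a => cl a = cl k) = cl k := by
    ext a
    simp only [Finset.mem_filter, cl]
    constructor
    · rintro ⟨haN, hcl⟩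
      refine ⟨haN, ?_⟩
      have haS : a ∈ S := (hN a).1 haN
      have h1 : a ∈ N.filter (fun b => R a b) := Finset.mem_filter.2 ⟨haN, hrefl a haS⟩
      rw [hcl] at h1
      exact (Finset.mem_filter.1 h1).2
    · rintro ⟨haN, hka⟩
      refine ⟨haN, ?_⟩
      have haS : a ∈ S := (hN a).1 haN
      ext b
      simp only [Finset.mem_filter]
      constructor
      · rintro ⟨hbN, hab⟩
        exact ⟨hbN, htrans k hkS a haS b ((hN b).1 hbN) hka hab⟩
      · rintro ⟨hbN, hkb⟩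
        exact ⟨hbN, htrans a haS k hkS b ((hN b).1 hbN) (hsymm k hkS a haS hka) hkb⟩
  rw [hfib]
  have h2 := hev k hkS
  have h3 : Set.ncard {b | b ∈ S ∧ R k b} = (cl k).card := by
    rw [Set.ncard_eq_toFinset_card']
    congr 1
    ext b
    simp only [Set.mem_toFinset, Set.mem_setOf_eq, Finset.mem_filter, cl, hN]
  rw [h3] at h2
  exact h2

section ctx

variable {G : Type*} [Group G] [Finite G] {z : G} {H E K : Subgroup G} {n : ℕ}

/-- `s⁻¹ x s ∈ H = C(z)` iff `x` commutes with `s z s⁻¹` -/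
theorem w3fiber_conj_mem (c : Ctx3 z H E K n) (s x : G) :
    s⁻¹ * x * s ∈ H ↔ x * (s * z * s⁻¹) = (s * z * s⁻¹) * x := by
  rw [c.hH]
  constructor
  · intro h
    calc x * (s * z * s⁻¹) = s * (s⁻¹ * x * s * z) * s⁻¹ := by group
      _ = s * (z * (s⁻¹ * x * s)) * s⁻¹ := by rw [h]
      _ = (s * z * s⁻¹) * x := by group
  · intro h
    calc s⁻¹ * x * s * z = s⁻¹ * (x * (s * z * s⁻¹)) * s := by group
      _ = s⁻¹ * ((s * z * s⁻¹) * x) * s := by rw [h]
      _ = z * (s⁻¹ * x * s) := by group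

/-- the `E`-class of `k` inside `Nset` is `k • Xset` -/
theorem w3fiber_class (c : Ctx3 z H E K n) (χ : ↥H →* ℤˣ) (s : G) (k : G) (hk : k ∈ Nset χ z s) :
    {b | b ∈ Nset χ z s ∧ ∃ e ∈ E, b = e⁻¹ * k * e} =
      (fun x => k * x) '' Xset E (s * z * s⁻¹) (fun x => valH χ (s⁻¹ * x * s)) k := by
  obtain ⟨⟨r, hkr⟩, hk1, hk2⟩ := hk
  have hkH : k ∈ H := val_neg_mem χ hk1
  have hskH : s⁻¹ * k * s ∈ H := val_neg_mem χ hk2
  ext b
  simp only [Set.mem_setOf_eq, Set.mem_image]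
  constructor
  · rintro ⟨⟨_, hb1, hb2⟩, e, he, hbe⟩
    have hsbH : s⁻¹ * b * s ∈ H := val_neg_mem χ hb2
    have hkinvE : k⁻¹ * e⁻¹ * k ∈ E := by
      have h1 : k⁻¹ * z = z * k⁻¹ := by
        have h2 := (c.hH k).1 hkH
        calc k⁻¹ * z = k⁻¹ * (z * k) * k⁻¹ := by group
          _ = k⁻¹ * (k * z) * k⁻¹ := by rw [h2]
          _ = z * k⁻¹ := by group
      have := c.loc.hn k⁻¹ h1 e⁻¹ (E.inv_mem he)
      simpa using this
    have hx : k⁻¹ * e⁻¹ * k * e = k⁻¹ * b := by rw [hbe]; group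
    have hsx : s⁻¹ * (k⁻¹ * b) * s = (s⁻¹ * k * s)⁻¹ * (s⁻¹ * b * s) := by group
    have hsxH : s⁻¹ * (k⁻¹ * b) * s ∈ H := by
      rw [hsx]; exact H.mul_mem (H.inv_mem hskH) hsbH
    refine ⟨k⁻¹ * e⁻¹ * k * e, ⟨E.mul_mem hkinvE he, ?_, ?_, e, he, rfl⟩, ?_⟩
    · rw [hx]
      exact (w3fiber_conj_mem c s _).1 hsxH
    · show valH χ (s⁻¹ * (k⁻¹ * e⁻¹ * k * e) * s) = 1
      rw [hx, hsx, valH_mul χ (H.inv_mem hskH) hsbH, valH_inv χ hskH, hk2, hb2]
      decide
    · rw [hbe]; group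
  · rintro ⟨x, ⟨hxE, hxu, hxν, e, he, hxe⟩, rfl⟩
    have hkx : k * x = e⁻¹ * k * e := by rw [hxe]; group
    have heH : e ∈ H := c.hEH he
    have hsxH : s⁻¹ * x * s ∈ H := (w3fiber_conj_mem c s x).2 hxu
    refine ⟨⟨⟨e⁻¹ * r, ?_⟩, ?_, ?_⟩, e, he, hkx⟩
    · rw [hkx, hkr]; group
    · rw [hkx, valH_conj χ k heH]; exact hk1
    · have e1 : s⁻¹ * (k * x) * s = (s⁻¹ * k * s) * (s⁻¹ * x * s) := by group
      rw [e1, valH_mul χ hskH hsxH, hk2]
      have : valH χ (s⁻¹ * x * s) = 1 := hxν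
      rw [this]
      decide

/-- PIECE W3-FIBER: `Nset` is a disjoint union of pieces `k^E ∩ Nset`, each in bijection with `Xset`. -/
theorem even_of_fibers (c : Ctx3 z H E K n) (χ : ↥H →* ℤˣ)
    (hχ : ∀ h : ↥H, χ h = 1 ↔ (h : G) ∈ K) (s : G) (hs : valH χ (s * z * s⁻¹) = -1)
    (hX : ∀ k ∈ Nset χ z s,
      Even (Set.ncard (Xset E (s * z * s⁻¹) (fun x => valH χ (s⁻¹ * x * s)) k))) :
    Even (Set.ncard (Nset χ z s)) := by
  apply w3fiber_even_of_classes (Nset χ z s) (fun k b => ∃ e ∈ E, b = e⁻¹ * k * e)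
  · intro a _
    exact ⟨1, E.one_mem, by group⟩
  · rintro a _ b _ ⟨e, he, rfl⟩
    exact ⟨e⁻¹, E.inv_mem he, by group⟩
  · rintro a _ b _ d _ ⟨e, he, rfl⟩ ⟨f, hf, rfl⟩
    exact ⟨e * f, E.mul_mem he hf, by group⟩
  · intro k hk
    rw [w3fiber_class c χ s k hk, Set.ncard_image_of_injective _ (mul_right_injective k)]
    exact hX k hk

end ctx

end Cfsg.Agent.Helper20.W3
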