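import Mathlib
import Cfsg.Agent.Lib.Helper20.A5QDefs

set_option autoImplicit false

/-!
Piece A5Q-MAXN for S3106: a normal subgroup of `Sq P` of index at least four, maximal such.
-/

namespace Cfsg.Agent.Helper20.A5Q

open Cfsg.Agent.Helper22.SecRank

section Setting

variable {Y : Type*} [Group Y] [Finite Y] {P : Subgroup Y}

/-- **A5Q-MAXN.** A normal subgroup `N ≤ Φ(P)` of index at least `4` in `Φ(P)`, maximal such:
every normal subgroup strictly between has index at most `2` in `Φ(P)`. -/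
theorem exists_max_N (h : A5S Y P) (h4 : 4 ≤ Nat.card (Sq P)) :
    ∃ N : Subgroup Y, N.Normal ∧ N ≤ Sq P ∧ 4 * Nat.card N ≤ Nat.card (Sq P) ∧
      ∀ K : Subgroup Y, K.Normal → N ≤ K → K ≤ Sq P → K ≠ N →
        Nat.card (Sq P) ≤ 2 * Nat.card K := by
  classical
  let S : Set (Subgroup Y) :=
    {N | N.Normal ∧ N ≤ Sq P ∧ 4 * Nat.card N ≤ Nat.card (Sq P)}
  have hfin : S.Finite := Set.toFinite S
  have hne : S.Nonempty := ⟨⊥, Subgroup.normal_bot, bot_le, by simpa using h4⟩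
  obtain ⟨N, hNS, hmax⟩ := Set.exists_max_image S (fun N => Nat.card N) hfin hne
  refine ⟨N, hNS.1, hNS.2.1, hNS.2.2, ?_⟩
  intro K hKn hNK hKS hKN
  by_contra hlt
  rw [not_le] at hlt
  have hpg : IsPGroup 2 (Sq P) := h.pgroup.to_le (Sq_le P)
  obtain ⟨a, ha⟩ := hpg.exists_card_eq
  have hpgK : IsPGroup 2 K := hpg.to_le hKS
  obtain ⟨b, hb⟩ := hpgK.exists_card_eq
  have h4K : 4 * Nat.card K ≤ Nat.card (Sq P) := by
    rw [ha, hb] at hlt
    rw [ha, hb]
    have hba : b + 1 < a := by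
      have h2 : 2 ^ (b + 1) < 2 ^ a := by rw [pow_succ]; omega
      exact (Nat.pow_lt_pow_iff_right (by norm_num)).mp h2
    calc 4 * 2 ^ b = 2 ^ (b + 2) := by ring
      _ ≤ 2 ^ a := Nat.pow_le_pow_right (by norm_num) (by omega)
  have hKS' : K ∈ S := ⟨hKn, hKS, h4K⟩
  have hle : Nat.card K ≤ Nat.card N := hmax K hKS'
  have : N = K := Subgroup.eq_of_le_of_card_ge hNK hle
  exact hKN this.symm

end Setting

end Cfsg.Agent.Helper20.A5Q
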