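import Mathlib
import Cfsg.Agent.Lib.Helper11.AutAlt
import Cfsg.Agent.S2119

/-!
Groups between `Inn(A_n)` and `Aut(A_n)` without elements of order `pq`.
-/

set_option autoImplicit false

namespace Cfsg.Agent.Helper21.AutAltPQ

open Equiv Equiv.Perm

/-- a `q`-group of permutations of fewer than `q²` points is abelian -/
theorem comm_of_pgroup_small {α : Type*} [Fintype α] [DecidableEq α] (q : ℕ)
    [hq : Fact q.Prime] (hn : Fintype.card α < q * q) (Q : Subgroup (Perm α))
    (hQ : IsPGroup q Q) : ∀ a ∈ Q, ∀ b ∈ Q, a * b = b * a := by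
  intro a ha b hb
  ext x
  set S : Subgroup ↥Q := MulAction.stabilizer ↥Q x with hS
  have hidx : S.index = Nat.card (MulAction.orbit ↥Q x) := MulAction.index_stabilizer ↥Q x
  obtain ⟨k, hk⟩ := hQ.card_orbit x
  have hle : Nat.card (MulAction.orbit ↥Q x) ≤ Fintype.card α := by
    rw [← Nat.card_eq_fintype_card]
    exact Nat.card_le_card_of_injective _ Subtype.val_injective
  have hk1 : k ≤ 1 := by
    by_contra hlt
    push Not at hlt
    have : q * q ≤ q ^ k := by
      calc q * q = q ^ 2 := (sq q).symm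
        _ ≤ q ^ k := Nat.pow_le_pow_right hq.out.pos hlt
    omega
  have h1 : (⟨a, ha⟩ * ⟨b, hb⟩ : ↥Q)⁻¹ * (⟨b, hb⟩ * ⟨a, ha⟩ : ↥Q) ∈ S := by
    interval_cases k
    · have hT : S = ⊤ := Subgroup.index_eq_one.1 (by rw [hidx, hk, pow_zero])
      rw [hT]
      exact Subgroup.mem_top _
    · have hSn : S.Normal := by
        apply Subgroup.normal_of_index_eq_minFac_card
        obtain ⟨m, hm⟩ := IsPGroup.iff_card.1 hQ
        have hm0 : m ≠ 0 := by
          rintro rfl
          rw [pow_zero] at hm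
          have h1 : S.index ∣ Nat.card ↥Q := Subgroup.index_dvd_card S
          rw [hm, hidx, hk, pow_one] at h1
          exact hq.out.one_lt.ne' (Nat.dvd_one.1 h1)
        rw [hidx, hk, pow_one, hm, Nat.pow_minFac hm0, hq.out.minFac_eq]
      have hc : Nat.card (↥Q ⧸ S) = q := by
        rw [← Subgroup.index_eq_card, hidx, hk, pow_one]
      have hcyc : IsCyclic (↥Q ⧸ S) := isCyclic_of_prime_card hc
      have hcomm : ∀ u v : ↥Q ⧸ S, u * v = v * u := by
        intro u v
        obtain ⟨g, hg⟩ := hcyc.exists_generator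
        obtain ⟨i, rfl⟩ := Subgroup.mem_zpowers_iff.1 (hg u)
        obtain ⟨j, rfl⟩ := Subgroup.mem_zpowers_iff.1 (hg v)
        rw [← zpow_add, ← zpow_add, add_comm]
      have h1 := hcomm (QuotientGroup.mk ⟨a, ha⟩) (QuotientGroup.mk ⟨b, hb⟩)
      rw [← QuotientGroup.mk_mul, ← QuotientGroup.mk_mul, QuotientGroup.eq] at h1
      exact h1
  have h2 : ((⟨a, ha⟩ * ⟨b, hb⟩ : ↥Q)⁻¹ * (⟨b, hb⟩ * ⟨a, ha⟩ : ↥Q)) • x = x :=
    MulAction.mem_stabilizer_iff.1 h1
  have h3 : ((a * b)⁻¹ * (b * a)) x = x := h2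
  have h4 : (a * b) (((a * b)⁻¹ * (b * a)) x) = (a * b) x := by rw [h3]
  rw [← Perm.mul_apply, mul_inv_cancel_left] at h4
  exact h4.symm

/-- elements of order `pq` in large alternating groups -/
theorem exists_order_pq (n p q : ℕ) (hp : p.Prime) (hq : q.Prime) (hpq : p < q)
    (hn : q * q ≤ n) : ∃ σ : alternatingGroup (Fin n), orderOf σ = p * q := by
  have hq3 : 3 ≤ q := by have := hp.two_le; omega
  have hqodd : Odd q := hq.odd_of_ne_two (by omega)
  rcases hp.eq_two_or_odd' with rfl | hpodd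
  · have hsum : (q ::ₘ 2 ::ₘ 2 ::ₘ (0 : Multiset ℕ)).sum ≤ Fintype.card (Fin n) := by
      simp only [Multiset.sum_cons, Multiset.sum_zero, Fintype.card_fin]
      nlinarith
    obtain ⟨σ, hσ⟩ := (Equiv.Perm.exists_with_cycleType_iff (Fin n)).2 ⟨hsum, by
      intro a ha
      simp only [Multiset.mem_cons, Multiset.notMem_zero, or_false] at ha
      rcases ha with rfl | rfl | rfl <;> omega⟩
    have hsign : Equiv.Perm.sign σ = 1 := by
      rw [Equiv.Perm.sign_of_cycleType, hσ]
      have hev : Even (q + 4 + 3) := by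
        obtain ⟨k, hk⟩ := hqodd
        exact ⟨k + 4, by omega⟩
      simp
      exact hev.neg_one_pow
    refine ⟨⟨σ, Equiv.Perm.mem_alternatingGroup.2 hsign⟩, ?_⟩
    rw [Subgroup.orderOf_mk, ← Equiv.Perm.lcm_cycleType, hσ]
    simp only [Multiset.lcm_cons, Multiset.lcm_zero]
    have hc : Nat.Coprime q 2 := by
      rw [Nat.coprime_comm, Nat.coprime_primes Nat.prime_two hq]
      omega
    simp only [lcm_eq_nat_lcm, Nat.lcm_one_right, Nat.lcm_self, hc.lcm_eq_mul]
    ring
  · have hsum : (p ::ₘ q ::ₘ (0 : Multiset ℕ)).sum ≤ Fintype.card (Fin n) := by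
      simp only [Multiset.sum_cons, Multiset.sum_zero, Fintype.card_fin]
      nlinarith
    obtain ⟨σ, hσ⟩ := (Equiv.Perm.exists_with_cycleType_iff (Fin n)).2 ⟨hsum, by
      intro a ha
      simp only [Multiset.mem_cons, Multiset.notMem_zero, or_false] at ha
      rcases ha with rfl | rfl
      · exact hp.two_le
      · omega⟩
    have hsign : Equiv.Perm.sign σ = 1 := by
      rw [Equiv.Perm.sign_of_cycleType, hσ]
      have hev : Even (p + q + 2) := by
        obtain ⟨k, hk⟩ := hqodd
        obtain ⟨j, hj⟩ := hpodd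
        exact ⟨k + j + 2, by omega⟩
      simp
      exact hev.neg_one_pow
    refine ⟨⟨σ, Equiv.Perm.mem_alternatingGroup.2 hsign⟩, ?_⟩
    rw [Subgroup.orderOf_mk, ← Equiv.Perm.lcm_cycleType, hσ]
    simp only [Multiset.lcm_cons, Multiset.lcm_zero]
    have hc : Nat.Coprime p q := by
      rw [Nat.coprime_primes hp hq]
      omega
    simp only [lcm_eq_nat_lcm, Nat.lcm_one_right, hc.lcm_eq_mul]

open Cfsg.Agent.Helper11.AutAlt in
/-- an automorphism of the alternating group preserving three-cycles is a conjugation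
(adapted from the proof of S2119) -/
theorem exists_conj_of_threeCycle {n : ℕ} (hn : 4 ≤ n) (φ : MulAut ↥(alternatingGroup (Fin n)))
    (hφ : ∀ x : ↥(alternatingGroup (Fin n)), (x : Perm (Fin n)).IsThreeCycle →
      ((φ x : ↥(alternatingGroup (Fin n))) : Perm (Fin n)).IsThreeCycle) :
    ∃ σ : Perm (Fin n), MulAut.conjNormal σ = φ := by
  classical
  set a0 : Fin n := ⟨0, by omega⟩ with ha0
  set a1 : Fin n := ⟨1, by omega⟩ with ha1
  have h01 : a0 ≠ a1 := by
    intro h
    have := congrArg Fin.val h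
    simp [ha0, ha1] at this
  -- the generators
  let ι := {i : Fin n // i ≠ a0 ∧ i ≠ a1}
  let aI : ι → ↥(alternatingGroup (Fin n)) := fun i =>
    ⟨c3 a0 a1 i, (c3_isThreeCycle h01 i.2.1.symm i.2.2.symm).mem_alternatingGroup⟩
  let b : ι → Perm (Fin n) := fun i => ((φ (aI i) : ↥(alternatingGroup (Fin n))) : Perm (Fin n))
  have hb : ∀ i, (b i).IsThreeCycle := fun i =>
    hφ (aI i) (c3_isThreeCycle h01 i.2.1.symm i.2.2.symm)
  have hij : ∀ i j : ι, i ≠ j → (i : Fin n) ≠ j := fun i j h h' => h (Subtype.ext h')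
  have h2 : ∀ i j, i ≠ j → b i * b j * (b i * b j) = 1 := by
    intro i j h
    have e : aI i * aI j * (aI i * aI j) = 1 := by
      apply Subtype.ext
      exact c3_mul_sq h01 i.2.1 i.2.2 j.2.1 j.2.2 (hij i j h)
    have := congrArg (fun u : ↥(alternatingGroup (Fin n)) => (u : Perm (Fin n)))
      (congrArg φ e)
    simpa [b] using this
  have h1 : ∀ i j, i ≠ j → b i * b j ≠ 1 := by
    intro i j h hone
    have e : φ (aI i * aI j) = 1 := by
      apply Subtype.ext
      simpa [b] using hone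
    have e' : aI i * aI j = 1 := by
      apply φ.injective
      rw [e, map_one]
    have := congrArg (fun u : ↥(alternatingGroup (Fin n)) => (u : Perm (Fin n))) e'
    exact c3_mul_ne_one h01 i.2.1 i.2.2 j.2.1 j.2.2 (hij i j h) this
  have hi2 : (⟨2, by omega⟩ : Fin n) ≠ a0 ∧ (⟨2, by omega⟩ : Fin n) ≠ a1 := by
    constructor <;> intro h <;> have := congrArg Fin.val h <;> simp [ha0, ha1] at this
  have hi3 : (⟨3, by omega⟩ : Fin n) ≠ a0 ∧ (⟨3, by omega⟩ : Fin n) ≠ a1 := by
    constructor <;> intro h <;> have := congrArg Fin.val h <;> simp [ha0, ha1] at this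
  let i₀ : ι := ⟨⟨2, by omega⟩, hi2⟩
  let i₁ : ι := ⟨⟨3, by omega⟩, hi3⟩
  have hi01 : i₀ ≠ i₁ := by
    intro h
    have := congrArg (fun u : ι => ((u : Fin n) : ℕ)) h
    simp [i₀, i₁] at this
  obtain ⟨p, q, hqp, hpq⟩ := exists_common_edge_family b hb h2 h1 i₀ i₁ hi01
  have hbp : ∀ i, b i p ≠ p := fun i => by rw [hpq i]; exact hqp
  -- the permutation
  let f : Fin n → Fin n := fun w =>
    if h0 : w = a0 then p else if h1 : w = a1 then q else b ⟨w, h0, h1⟩ q
  have hr_p : ∀ i, b i q ≠ p := by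
    intro i
    have := apply_apply_ne (hb i) (hbp i)
    rwa [hpq i] at this
  have hr_q : ∀ i, b i q ≠ q := by
    intro i
    have := apply_apply_ne' (hbp i)
    rwa [hpq i] at this
  have hbeq : ∀ i, b i = c3 p q (b i q) := by
    intro i
    have := eq_c3 (hb i) (hbp i)
    rwa [hpq i] at this
  have hr_inj : ∀ i j, b i q = b j q → i = j := by
    intro i j h
    by_contra hne
    apply ne_of_sq (hb i) (h2 i j hne)
    rw [hbeq i, hbeq j, h]
  have hf : Function.Injective f := by
    intro w w' h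
    simp only [f] at h
    by_cases h0 : w = a0 <;> by_cases h0' : w' = a0
    · rw [h0, h0']
    · by_cases h1' : w' = a1
      · simp only [h0, h0', h1', dite_true, dite_false] at h
        exact absurd h.symm hqp
      · simp only [h0, h0', h1', dite_true, dite_false] at h
        exact absurd h.symm (hr_p _)
    · by_cases h1 : w = a1
      · simp only [h0, h0', h1, dite_true, dite_false] at h
        exact absurd h hqp
      · simp only [h0, h0', h1, dite_true, dite_false] at h
        exact absurd h (hr_p _)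
    · by_cases h1 : w = a1 <;> by_cases h1' : w' = a1
      · rw [h1, h1']
      · simp only [h0, h0', h1, h1', dite_true, dite_false] at h
        exact absurd h.symm (hr_q _)
      · simp only [h0, h0', h1, h1', dite_true, dite_false] at h
        exact absurd h (hr_q _)
      · simp only [h0, h0', h1, h1', dite_false] at h
        have := hr_inj _ _ h
        exact congrArg (fun u : ι => (u : Fin n)) this
  let σ : Perm (Fin n) := Equiv.ofBijective f (Finite.injective_iff_bijective.1 hf)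
  have hσ0 : σ a0 = p := by
    show f a0 = p
    simp [f]
  have hσ1 : σ a1 = q := by
    show f a1 = q
    simp [f, Ne.symm h01]
  have hσi : ∀ i : ι, σ i = b i q := by
    intro i
    show f i = b i q
    simp [f, i.2.1, i.2.2]
  refine ⟨σ, ?_⟩
  -- the two automorphisms agree on the generators
  have hgen : Subgroup.closure (Set.range aI) = ⊤ := by
    apply Subgroup.map_injective (alternatingGroup (Fin n)).subtype_injective
    rw [MonoidHom.map_closure, ← MonoidHom.range_eq_map, Subgroup.range_subtype]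
    refine Eq.trans ?_ (closure_c3 h01)
    congr 1
    ext g
    simp only [Set.mem_image, Set.mem_range, Set.mem_setOf_eq]
    constructor
    · rintro ⟨_, ⟨i, rfl⟩, rfl⟩
      exact ⟨i, i.2.1, i.2.2, rfl⟩
    · rintro ⟨x, hx0, hx1, rfl⟩
      exact ⟨_, ⟨⟨x, hx0, hx1⟩, rfl⟩, rfl⟩
  apply MulEquiv.toMonoidHom_injective
  apply MonoidHom.eq_of_eqOn_dense hgen
  rintro _ ⟨i, rfl⟩
  apply Subtype.ext
  show ((MulAut.conjNormal σ (aI i) : ↥(alternatingGroup (Fin n))) : Perm (Fin n)) = b i
  rw [MulAut.conjNormal_apply]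
  show σ * c3 a0 a1 i * σ⁻¹ = b i
  rw [conj_c3, hσ0, hσ1, hσi, ← hbeq]

section six

theorem card_T : (Finset.univ.filter (fun g : Perm (Fin 6) => g.cycleType = {3})).card = 40 := by
  rw [Equiv.Perm.card_of_cycleType]
  simp
  decide

theorem card_D :
    (Finset.univ.filter (fun g : Perm (Fin 6) => g.cycleType = {3, 3})).card = 40 := by
  rw [Equiv.Perm.card_of_cycleType]
  simp
  decide

/-- elements of order three of `Perm (Fin 6)` -/
theorem cycleType_of_order_three (σ : Perm (Fin 6)) (h : orderOf σ = 3) :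
    σ.cycleType = {3} ∨ σ.cycleType = {3, 3} := by
  have hprime : (orderOf σ).Prime := by rw [h]; exact Nat.prime_three
  obtain ⟨k, hk⟩ := Equiv.Perm.cycleType_prime_order hprime
  rw [h] at hk
  have hsum : 3 * (k + 1) ≤ 6 := by
    have h1 := Equiv.Perm.sum_cycleType σ
    rw [hk, Multiset.sum_replicate, smul_eq_mul] at h1
    have h2 := Finset.card_le_univ σ.support
    rw [Fintype.card_fin] at h2
    omega
  have hk1 : k = 0 ∨ k = 1 := by omega
  rcases hk1 with rfl | rfl
  · left; rw [hk]; rfl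
  · right; rw [hk]; rfl

theorem mem_alt_of_DD (σ : Perm (Fin 6)) (h : σ.cycleType = {3, 3}) :
    σ ∈ alternatingGroup (Fin 6) := by
  rw [Equiv.Perm.mem_alternatingGroup, Equiv.Perm.sign_of_cycleType, h]
  decide

/-- if some three-cycle is not mapped to a three-cycle then all are mapped to type (3,3) -/
theorem claimA6 (φ : MulAut ↥(alternatingGroup (Fin 6))) (t₀ : ↥(alternatingGroup (Fin 6)))
    (ht₀ : (t₀ : Perm (Fin 6)).IsThreeCycle)
    (hn : ¬ ((φ t₀ : ↥(alternatingGroup (Fin 6))) : Perm (Fin 6)).IsThreeCycle)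
    (t : ↥(alternatingGroup (Fin 6))) (ht : (t : Perm (Fin 6)).IsThreeCycle) :
    ((φ t : ↥(alternatingGroup (Fin 6))) : Perm (Fin 6)).cycleType = {3, 3} := by
  have hconj : IsConj t₀ t := alternatingGroup.isThreeCycle_isConj (by simp) ht₀ ht
  rw [isConj_iff] at hconj
  obtain ⟨c, hc⟩ := hconj
  have h1 : φ t = φ c * φ t₀ * (φ c)⁻¹ := by rw [← hc, map_mul, map_mul, map_inv]
  have h2 : ((φ t : ↥(alternatingGroup (Fin 6))) : Perm (Fin 6)).cycleType =
      ((φ t₀ : ↥(alternatingGroup (Fin 6))) : Perm (Fin 6)).cycleType := by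
    rw [h1]
    show ((φ c : Perm (Fin 6)) * (φ t₀ : Perm (Fin 6)) * ((φ c : Perm (Fin 6)))⁻¹).cycleType = _
    exact Equiv.Perm.cycleType_conj
  rw [h2]
  have ho : orderOf ((φ t₀ : ↥(alternatingGroup (Fin 6))) : Perm (Fin 6)) = 3 := by
    rw [Subgroup.orderOf_coe, MulEquiv.orderOf_eq, ← Subgroup.orderOf_coe, ht₀.orderOf]
  rcases cycleType_of_order_three _ ho with h | h
  · exact absurd h hn
  · exact h

/-- if all three-cycles are mapped to type (3,3) then type (3,3) is mapped to three-cycles -/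
theorem claimB6 (φ : MulAut ↥(alternatingGroup (Fin 6)))
    (hR : ∀ t : ↥(alternatingGroup (Fin 6)), (t : Perm (Fin 6)).IsThreeCycle →
      ((φ t : ↥(alternatingGroup (Fin 6))) : Perm (Fin 6)).cycleType = {3, 3})
    (d : ↥(alternatingGroup (Fin 6))) (hd : (d : Perm (Fin 6)).cycleType = {3, 3}) :
    ((φ d : ↥(alternatingGroup (Fin 6))) : Perm (Fin 6)).IsThreeCycle := by
  classical
  let g : Perm (Fin 6) → Perm (Fin 6) := fun σ =>
    if h : σ ∈ alternatingGroup (Fin 6) then ((φ ⟨σ, h⟩ : ↥(alternatingGroup (Fin 6))) :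
      Perm (Fin 6)) else σ
  set T := Finset.univ.filter (fun g : Perm (Fin 6) => g.cycleType = {3}) with hT
  set D := Finset.univ.filter (fun g : Perm (Fin 6) => g.cycleType = {3, 3}) with hD
  have hTalt : ∀ σ ∈ T, σ ∈ alternatingGroup (Fin 6) := by
    intro σ hσ
    rw [hT, Finset.mem_filter] at hσ
    exact Equiv.Perm.IsThreeCycle.mem_alternatingGroup hσ.2
  have hgT : ∀ σ (hσ : σ ∈ T), g σ = ((φ ⟨σ, hTalt σ hσ⟩ : ↥(alternatingGroup (Fin 6))) :
      Perm (Fin 6)) := by
    intro σ hσ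
    simp only [g, dif_pos (hTalt σ hσ)]
  have himg : T.image g ⊆ D := by
    intro τ hτ
    rw [Finset.mem_image] at hτ
    obtain ⟨σ, hσ, rfl⟩ := hτ
    rw [hgT σ hσ, hD, Finset.mem_filter]
    refine ⟨Finset.mem_univ _, hR _ ?_⟩
    rw [hT, Finset.mem_filter] at hσ
    exact hσ.2
  have hinj : Set.InjOn g T := by
    intro σ hσ τ hτ h
    rw [hgT σ hσ, hgT τ hτ] at h
    have := φ.injective (Subtype.ext h)
    exact congrArg Subtype.val this
  have hcard : D.card ≤ (T.image g).card := by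
    rw [Finset.card_image_of_injOn hinj, hT, hD, card_T, card_D]
  have heq : T.image g = D := Finset.eq_of_subset_of_card_le himg hcard
  have ho : orderOf ((φ d : ↥(alternatingGroup (Fin 6))) : Perm (Fin 6)) = 3 := by
    rw [Subgroup.orderOf_coe, MulEquiv.orderOf_eq, ← Subgroup.orderOf_coe,
      ← Equiv.Perm.lcm_cycleType, hd]
    rfl
  rcases cycleType_of_order_three _ ho with h | h
  · exact h
  · exfalso
    have hmem : ((φ d : ↥(alternatingGroup (Fin 6))) : Perm (Fin 6)) ∈ D := by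
      rw [hD, Finset.mem_filter]
      exact ⟨Finset.mem_univ _, h⟩
    rw [← heq, Finset.mem_image] at hmem
    obtain ⟨σ, hσ, hσe⟩ := hmem
    rw [hgT σ hσ] at hσe
    have h1 := φ.injective (Subtype.ext hσe)
    have h2 : σ = (d : Perm (Fin 6)) := congrArg Subtype.val h1
    rw [hT, Finset.mem_filter] at hσ
    have h3 := hσ.2
    rw [h2, hd] at h3
    exact absurd h3 (by decide)

/-- automorphisms of odd order of `A_6` preserve three-cycles -/
theorem odd_preserves6 (φ : MulAut ↥(alternatingGroup (Fin 6))) (hodd : Odd (orderOf φ))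
    (t : ↥(alternatingGroup (Fin 6))) (ht : (t : Perm (Fin 6)).IsThreeCycle) :
    ((φ t : ↥(alternatingGroup (Fin 6))) : Perm (Fin 6)).IsThreeCycle := by
  by_contra hn
  have hR := claimA6 φ t ht hn
  have hS := claimB6 φ hR
  have key : ∀ k : ℕ, ((((φ ^ (2 * k)) t : ↥(alternatingGroup (Fin 6))) : Perm (Fin 6)).IsThreeCycle) ∧
      ((((φ ^ (2 * k + 1)) t : ↥(alternatingGroup (Fin 6))) : Perm (Fin 6)).cycleType = {3, 3}) := by
    intro k
    induction k with
    | zero =>
      refine ⟨by simpa using ht, ?_⟩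
      have : (φ ^ (2 * 0 + 1)) t = φ t := by simp
      rw [this]
      exact hR t ht
    | succ k ih =>
      have h1 : (φ ^ (2 * (k + 1))) t = φ ((φ ^ (2 * k + 1)) t) := by
        have : 2 * (k + 1) = (2 * k + 1) + 1 := by ring
        rw [this, pow_succ', MulAut.mul_apply]
      have h2 : (φ ^ (2 * (k + 1) + 1)) t = φ ((φ ^ (2 * (k + 1))) t) := by
        rw [pow_succ', MulAut.mul_apply]
      have h3 : ((((φ ^ (2 * (k + 1))) t : ↥(alternatingGroup (Fin 6))) :
          Perm (Fin 6)).IsThreeCycle) := by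
        rw [h1]
        exact hS _ ih.2
      refine ⟨h3, ?_⟩
      rw [h2]
      exact hR _ h3
  obtain ⟨k, hk⟩ := hodd
  have h1 := (key k).2
  rw [← hk, pow_orderOf_eq_one] at h1
  have h2 : (t : Perm (Fin 6)).cycleType = {3} := ht
  have h3 : ((1 : MulAut ↥(alternatingGroup (Fin 6))) t) = t := rfl
  rw [h3, h2] at h1
  exact absurd h1 (by decide)

end six

theorem conjNormal_injective {n : ℕ} (hn : 4 ≤ n) :
    Function.Injective
      (MulAut.conjNormal : Perm (Fin n) →* MulAut ↥(alternatingGroup (Fin n))) := by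
  rw [injective_iff_map_eq_one]
  intro σ hσ
  apply Cfsg.Agent.S2119.eq_one_of_conj_eq hn σ
  intro g hg
  have := congrArg (fun ψ : MulAut ↥(alternatingGroup (Fin n)) =>
    ((ψ ⟨g, hg⟩ : ↥(alternatingGroup (Fin n))) : Perm (Fin n))) hσ
  simpa [MulAut.conjNormal_apply] using this

theorem preserves_of_odd {n : ℕ} (φ : MulAut ↥(alternatingGroup (Fin n)))
    (hodd : Odd (orderOf φ)) (t : ↥(alternatingGroup (Fin n)))
    (ht : (t : Perm (Fin n)).IsThreeCycle) :
    ((φ t : ↥(alternatingGroup (Fin n))) : Perm (Fin n)).IsThreeCycle := by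
  by_cases h6 : n = 6
  · subst h6
    exact odd_preserves6 φ hodd t ht
  · exact Cfsg.Agent.S2119.map_threeCycle h6 φ t ht

/-- `q`-subgroups of `Aut(A_n)` are abelian for odd `q` with `n < q²` -/
theorem qsubgroup_comm {n : ℕ} (hn : 5 ≤ n) (q : ℕ) [hq : Fact q.Prime] (hq2 : q ≠ 2)
    (hnq : n < q * q) (Q : Subgroup (MulAut ↥(alternatingGroup (Fin n))))
    (hQ : IsPGroup q Q) : ∀ a ∈ Q, ∀ b ∈ Q, a * b = b * a := by
  have hodd : ∀ a ∈ Q, Odd (orderOf a) := by
    intro a ha
    obtain ⟨k, hk⟩ := hQ ⟨a, ha⟩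
    have h1 : orderOf a ∣ q ^ k := by
      apply orderOf_dvd_of_pow_eq_one
      have := congrArg Subtype.val hk
      simpa using this
    have h2 : Odd (q ^ k) := (hq.out.odd_of_ne_two hq2).pow
    exact h2.of_dvd_nat h1
  have hex : ∀ a ∈ Q, ∃ σ : Perm (Fin n), MulAut.conjNormal σ = a := by
    intro a ha
    exact exists_conj_of_threeCycle (by omega) a (preserves_of_odd a (hodd a ha))
  set Q' : Subgroup (Perm (Fin n)) := Q.comap MulAut.conjNormal with hQ'def
  have hQ' : IsPGroup q Q' := hQ.comap_of_injective _ (conjNormal_injective (by omega))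
  have hc := comm_of_pgroup_small q (by simpa using hnq) Q' hQ'
  intro a ha b hb
  obtain ⟨σ, rfl⟩ := hex a ha
  obtain ⟨τ, rfl⟩ := hex b hb
  rw [← map_mul, ← map_mul, hc σ ha τ hb]

theorem conj_injective {n : ℕ} (hn : 5 ≤ n) :
    Function.Injective (MulAut.conj :
      ↥(alternatingGroup (Fin n)) →* MulAut ↥(alternatingGroup (Fin n))) := by
  rw [injective_iff_map_eq_one]
  intro x hx
  have hmem : x ∈ Subgroup.center ↥(alternatingGroup (Fin n)) := by
    rw [Subgroup.mem_center_iff]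
    intro g
    have h1 := congrArg (fun ψ : MulAut ↥(alternatingGroup (Fin n)) => ψ g) hx
    simp only [MulAut.conj_apply, MulAut.one_apply] at h1
    calc g * x = (x * g * x⁻¹) * x := by rw [h1]
      _ = x * g := by group
  rw [alternatingGroup.center_eq_bot (by simp; omega)] at hmem
  exact Subgroup.mem_bot.1 hmem

theorem key {n : ℕ} (hn : 5 ≤ n) (G : Subgroup (MulAut ↥(alternatingGroup (Fin n))))
    (hG : (MulAut.conj :
      ↥(alternatingGroup (Fin n)) →* MulAut ↥(alternatingGroup (Fin n))).range ≤ G)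
    (p q : ℕ) [hp : Fact p.Prime] [hq : Fact q.Prime] (hpq : p < q)
    (h : ∀ g : G, orderOf g ≠ p * q) :
    ∀ Q : Sylow q G, IsMulCommutative (Q : Subgroup G) := by
  have hq2 : q ≠ 2 := by have := hp.out.two_le; omega
  by_cases hnq : q * q ≤ n
  · exfalso
    obtain ⟨σ, hσ⟩ := exists_order_pq n p q hp.out hq.out hpq hnq
    apply h ⟨MulAut.conj σ, hG ⟨σ, rfl⟩⟩
    rw [Subgroup.orderOf_mk, orderOf_injective _ (conj_injective hn), hσ]
  · push Not at hnq
    intro Q
    have hQ : IsPGroup q ((Q : Subgroup G).map G.subtype) := Q.isPGroup'.map _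
    have hc := qsubgroup_comm hn q hq2 hnq _ hQ
    refine ⟨⟨?_⟩⟩
    rintro ⟨a, ha⟩ ⟨b, hb⟩
    apply Subtype.ext
    apply Subtype.ext
    exact hc a.1 ⟨a, ha, rfl⟩ b.1 ⟨b, hb, rfl⟩

theorem main (n : ℕ) (hn : 5 ≤ n) (G : Subgroup (MulAut ↥(alternatingGroup (Fin n))))
    (hG : (MulAut.conj :
      ↥(alternatingGroup (Fin n)) →* MulAut ↥(alternatingGroup (Fin n))).range ≤ G)
    (p q : ℕ) [Fact p.Prime] [Fact q.Prime] (hpq : p ≠ q) (h : ∀ g : G, orderOf g ≠ p * q) :
    (∀ P : Sylow p G, IsMulCommutative (P : Subgroup G)) ∨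
      (∀ Q : Sylow q G, IsMulCommutative (Q : Subgroup G)) := by
  rcases lt_or_gt_of_ne hpq with hlt | hgt
  · exact Or.inr (key hn G hG p q hlt h)
  · exact Or.inl (key hn G hG q p hgt (fun g => by rw [mul_comm]; exact h g))

end Cfsg.Agent.Helper21.AutAltPQ
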