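import Mathlib
import Cfsg.Prelude.Def_FusionSystem
import Cfsg.Agent.Lib.Helper25.Fusion
import Cfsg.Agent.Lib.Helper25.FusionRealized
import Cfsg.Agent.Lib.Helper25.FusionAlperin
import Cfsg.Agent.Lib.Helper25.FusionAut

set_option autoImplicit false

/-! The fusion system over `T` of the semidirect product of `T` by a group `H` of automorphisms of `T`
(helper25's `cycSys`, with a cyclic group replaced by an arbitrary subgroup of `Aut(T)`). -/

namespace Cfsg.Agent.Helper21.AutSys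

open Cfsg Cfsg.FusionSystem Cfsg.Agent.Helper25

variable {Ω : Type*} [Group Ω]

/-- The fusion system over `T` of `T ⋊ H`: its maps are the restrictions of the automorphisms
`c_g ∘ h`, `g ∈ T`, `h ∈ H`. -/
def autSys (T : Subgroup Ω) (H : Subgroup (MulAut T)) : FusionSystem T where
  Hom P := {φ | ∃ hP : P ≤ T, ∃ g : T, ∃ h ∈ H,
    ∀ y : P, φ y = ((g * h ⟨y, hP y.2⟩ * g⁻¹ : T) : Ω)}
  le_of_mem := by
    rintro P φ ⟨hP, g, h, hh, hφ⟩
    exact ⟨hP, fun x => by rw [hφ x]; exact Subtype.property _⟩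
  injective_of_mem := by
    rintro P φ ⟨hP, g, h, hh, hφ⟩ a b hab
    rw [hφ a, hφ b] at hab
    have h1 := Subtype.ext hab
    have h2 : h ⟨a, hP a.2⟩ = h ⟨b, hP b.2⟩ := by
      have := mul_left_cancel (mul_right_cancel h1)
      exact this
    have h3 := h.injective h2
    exact Subtype.ext (congrArg (fun t : T => (t : Ω)) h3)
  conj_mem := by
    intro P g hP hg
    refine ⟨hP, ⟨g, hg⟩, 1, H.one_mem, fun y => ?_⟩
    simp [conjHom_apply]
  comp_mem := by
    rintro P Q φ ψ ⟨hP, g, h, hh, hφ⟩ ⟨hQ, g', h', hh', hψ⟩ hφQ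
    refine ⟨hP, g' * h' g, h' * h, H.mul_mem hh' hh, fun y => ?_⟩
    show ψ ⟨φ y, hφQ y⟩ = _
    rw [hψ]
    have e : (⟨φ y, hQ (hφQ y)⟩ : T) = g * h ⟨y, hP y.2⟩ * g⁻¹ := Subtype.ext (hφ y)
    have e' : (⟨((⟨φ y, hφQ y⟩ : Q) : Ω), hQ (⟨φ y, hφQ y⟩ : Q).2⟩ : T) =
        g * h ⟨y, hP y.2⟩ * g⁻¹ := e
    rw [e']
    congr 1
    rw [map_mul, map_mul, map_inv, MulAut.mul_apply]
    group
  inv_mem := by
    rintro P φ ⟨hP, g, h, hh, hφ⟩
    have hr : φ.range ≤ T := by
      rintro _ ⟨x, rfl⟩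
      rw [hφ x]; exact Subtype.property _
    refine ⟨T.subtype.comp (h⁻¹.toMonoidHom.comp ((MulAut.conj g⁻¹).toMonoidHom.comp
      (Subgroup.inclusion hr))), ⟨hr, h⁻¹ g⁻¹, h⁻¹, H.inv_mem hh, fun z => ?_⟩, fun x => ?_⟩
    · show ((h⁻¹ (g⁻¹ * ⟨z, hr z.2⟩ * g⁻¹⁻¹) : T) : Ω) = _
      congr 1
      rw [map_mul, map_mul, map_inv, map_inv, map_inv]
    · show ((h⁻¹ (g⁻¹ * ⟨φ x, hr ⟨x, rfl⟩⟩ * g⁻¹⁻¹) : T) : Ω) = _
      have e : (⟨φ x, hr ⟨x, rfl⟩⟩ : T) = g * h ⟨x, hP x.2⟩ * g⁻¹ := Subtype.ext (hφ x)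
      rw [e]
      have : g⁻¹ * (g * h ⟨x, hP x.2⟩ * g⁻¹) * g⁻¹⁻¹ = h ⟨x, hP x.2⟩ := by group
      rw [this, MulAut.inv_apply_self]

theorem mem_autSys {T : Subgroup Ω} {H : Subgroup (MulAut T)} {P : Subgroup Ω} {φ : P →* Ω} :
    φ ∈ (autSys T H).Hom P ↔ ∃ hP : P ≤ T, ∃ g : T, ∃ h ∈ H,
      ∀ y : P, φ y = ((g * h ⟨y, hP y.2⟩ * g⁻¹ : T) : Ω) := Iff.rfl

/-- The semidirect product realizing `autSys`. -/
abbrev autGroup' (T : Subgroup Ω) (H : Subgroup (MulAut T)) : Type _ :=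
  T ⋊[H.subtype] H

theorem conj_inl {T : Subgroup Ω} {H : Subgroup (MulAut T)} (g : T) (b : H) (x : T) :
    (SemidirectProduct.inl g * SemidirectProduct.inr b : autGroup' T H) * SemidirectProduct.inl x *
      (SemidirectProduct.inl g * SemidirectProduct.inr b : autGroup' T H)⁻¹ =
    SemidirectProduct.inl (g * (b : MulAut T) x * g⁻¹) := by
  rw [map_mul, map_mul, map_inv]
  have := SemidirectProduct.inl_aut (φ := H.subtype) b x
  rw [Subgroup.coe_subtype] at this
  rw [this, map_inv]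
  group

theorem autSys_isRealizedBy (T : Subgroup Ω) (H : Subgroup (MulAut T)) :
    (autSys T H).IsRealizedBy (SemidirectProduct.inl : T →* autGroup' T H) := by
  refine ⟨SemidirectProduct.inl_injective, fun P hP φ hφ => ⟨?_, ?_⟩⟩
  · rintro ⟨hP', g, h, hh, hφ'⟩
    refine ⟨SemidirectProduct.inl g * SemidirectProduct.inr ⟨h, hh⟩, fun x => ?_⟩
    rw [conj_inl]
    congr 1
    exact Subtype.ext (hφ' x)
  · rintro ⟨w, hw⟩
    refine ⟨hP, w.left, w.right.1, w.right.2, fun x => ?_⟩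
    have h1 := hw x
    rw [← SemidirectProduct.inl_left_mul_inr_right w, conj_inl] at h1
    have h2 := SemidirectProduct.inl_injective h1
    exact congrArg (fun t : T => (t : Ω)) h2

theorem autSys_isSaturated {T : Subgroup Ω} [Finite T] {p : ℕ} [Fact p.Prime] (hT : IsPGroup p T)
    (H : Subgroup (MulAut T)) (hH : Nat.Coprime (Nat.card H) p) : (autSys T H).IsSaturated p := by
  haveI : Finite (MulAut T) := inferInstance
  haveI : Finite H := inferInstance
  haveI : Finite (autGroup' T H) := Finite.of_equiv _ SemidirectProduct.equivProd.symm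
  have hp : p.Prime := Fact.out
  have hpg : IsPGroup p (SemidirectProduct.inl : T →* autGroup' T H).range := by
    have e := MonoidHom.ofInjective (f := (SemidirectProduct.inl : T →* autGroup' T H))
      SemidirectProduct.inl_injective
    exact hT.of_equiv e
  have hidx : ¬ p ∣ (SemidirectProduct.inl : T →* autGroup' T H).range.index := by
    rw [SemidirectProduct.range_inl_eq_ker_rightHom, Subgroup.index_ker,
      MonoidHom.range_eq_top.mpr SemidirectProduct.rightHom_surjective]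
    rw [Nat.card_congr (Subgroup.topEquiv (G := H)).toEquiv]
    intro hdvd
    have := Nat.Coprime.eq_one_of_dvd hH.symm hdvd
    exact hp.one_lt.ne' this
  exact isSaturated_of_realized (autSys T H) _ (autSys_isRealizedBy T H) (hpg.toSylow hidx)
    (IsPGroup.toSylow_coe hpg hidx)

/-- The elements of `H` are automorphisms of `autSys T H`. -/
theorem subtype_comp_mem {T : Subgroup Ω} {H : Subgroup (MulAut T)} {h : MulAut T} (hh : h ∈ H) :
    T.subtype.comp h.toMonoidHom ∈ (autSys T H).Hom T :=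
  ⟨le_rfl, 1, h, hh, fun y => by simp⟩

end Cfsg.Agent.Helper21.AutSys
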