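import Mathlib
import Cfsg.Agent.Lib.Helper14.BG1369A
import Cfsg.Agent.Lib.Helper4.BGSigA

/-!
Towards S1366 (BG Theorem 14.7 (a)), part A: further facts in the "half context"
(a maximal subgroup `H` with a nontrivial Hall `κ(H)`-subgroup `K`), from the frozen statements
S1430, S1431 (helper14's `Half`), S1351 (second half) and S1378 (second half).
-/

set_option autoImplicit false

namespace Cfsg.Agent.Helper21.BG147a

open Cfsg Subgroup
open Cfsg.Agent.Helper10 (IsPiNum)
open Cfsg.Agent.Helper16.BG147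
open Cfsg.Agent.Helper14.BG1369 (Half)

variable {G : Type*} [Group G] [Finite G]

omit [Finite G] in
/-- conjugating a subgroup by one of its elements does nothing -/
theorem map_conj_eq_of_mem {H : Subgroup G} {g : G} (hg : g ∈ H) :
    H.map (MulAut.conj g).toMonoidHom = H := by
  ext x
  constructor
  · rintro ⟨m, hm, rfl⟩
    show g * m * g⁻¹ ∈ H
    exact mul_mem (mul_mem hg hm) (inv_mem hg)
  · intro hx
    refine ⟨g⁻¹ * x * g, mul_mem (mul_mem (inv_mem hg) hx) hg, ?_⟩
    show g * (g⁻¹ * x * g) * g⁻¹ = x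
    group

omit [Finite G] in
theorem mem_map_conj {H : Subgroup G} {g x : G} :
    x ∈ H.map (MulAut.conj g).toMonoidHom ↔ g⁻¹ * x * g ∈ H := by
  constructor
  · rintro ⟨m, hm, rfl⟩
    have : g⁻¹ * ((MulAut.conj g).toMonoidHom m) * g = m := by
      show g⁻¹ * (g * m * g⁻¹) * g = m
      group
    rw [this]; exact hm
  · intro hx
    refine ⟨g⁻¹ * x * g, hx, ?_⟩
    show g * (g⁻¹ * x * g) * g⁻¹ = x
    group

section half

variable {H K : Subgroup G} (c : Half H K)
include c

theorem K_cyc (h51 : St1351b G) : IsCyclic K := h51 H c.hH K c.hall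

theorem K_comm (h51 : St1351b G) : ∀ a ∈ K, ∀ b ∈ K, a * b = b * a := by
  intro a ha b hb
  haveI := K_cyc c h51
  have := mul_comm' (⟨a, ha⟩ : K) ⟨b, hb⟩
  exact congrArg Subtype.val this

theorem Z_le : K ⊔ Kst H K ≤ H := sup_le c.K_le c.Kst_le

/-- `C_G(y) ≤ H` for `y ∈ K*#` (from S1431 (1)) -/
theorem centralizer_Kst_le {y : G} (hy : y ∈ Kst H K) (hy1 : y ≠ 1) :
    centralizer ({y} : Set G) ≤ H := by
  intro g hg
  by_contra hgH
  have h1 := (c.h31 H c.hH K c.hall c.hK1).1 g hgH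
  have h2 : y ∈ Kst H K ⊓ H.map (MulAut.conj g).toMonoidHom := by
    refine Subgroup.mem_inf.mpr ⟨hy, ?_⟩
    rw [mem_map_conj]
    have hc : y * g = g * y := (mem_centralizer_singleton.mp hg)
    have : g⁻¹ * y * g = y := by
      rw [mul_assoc, hc]; group
    rw [this]
    exact c.Kst_le hy
  rw [h1, mem_bot] at h2
  exact hy1 h2

/-- `N_G(Y) ≤ H` for `1 ≠ Y ≤ K*` (from S1431 (1)) -/
theorem normalizer_le_of_le_Kst {Y : Subgroup G} (hY : Y ≤ Kst H K) (hY1 : Y ≠ ⊥) :
    normalizer (Y : Set G) ≤ H := by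
  intro g hg
  by_contra hgH
  have h1 := (c.h31 H c.hH K c.hall c.hK1).1 g hgH
  obtain ⟨y, hy1⟩ := (Subgroup.ne_bot_iff_exists_ne_one).mp hY1
  apply hy1
  have hy : (y : G) ∈ Y := y.2
  have h2 : (y : G) ∈ Kst H K ⊓ H.map (MulAut.conj g).toMonoidHom := by
    refine Subgroup.mem_inf.mpr ⟨hY hy, ?_⟩
    rw [mem_map_conj]
    have hg' : g⁻¹ ∈ normalizer (Y : Set G) := inv_mem hg
    have := (mem_normalizer_iff.mp hg' (y : G)).mp hy
    rw [inv_inv] at this
    exact c.Kst_le (hY this)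
  rw [h1, mem_bot] at h2
  exact Subtype.ext h2

/-- the normalizer in `H` of a prime order subgroup of `K` -/
theorem normalizer_prime (X : Subgroup G) (hXK : X ≤ K) (hX : (Nat.card X).Prime) :
    H ⊓ normalizer (X : Set G) = K ⊔ Kst H K :=
  ((c.h30 H c.hH K c.hall c.hK1).2.2 X hXK hX).1

/-- `K K* ≤ N_G(X)` for `X ≤ K` of prime order (from S1430 (3)) -/
theorem Z_le_normalizer_prime (X : Subgroup G) (hXK : X ≤ K) (hX : (Nat.card X).Prime) :
    K ⊔ Kst H K ≤ normalizer (X : Set G) := by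
  rw [← normalizer_prime c X hXK hX]
  exact inf_le_right

/-- `K ≤ N_G(X)` for `X ≤ K` of prime order (from S1430 (3)): no commutativity of `K` needed -/
theorem K_le_normalizer_prime (X : Subgroup G) (hXK : X ≤ K) (hX : (Nat.card X).Prime) :
    K ≤ normalizer (X : Set G) :=
  le_sup_left.trans (Z_le_normalizer_prime c X hXK hX)

/-- `C_{H_σ}(k) = K*` for `k ∈ K#` -/
theorem Kst_eq_of_mem {k : G} (hk : k ∈ K) (hk1 : k ≠ 1) :
    sigmaCore H ⊓ centralizer ({k} : Set G) = Kst H K :=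
  (c.h30 H c.hH K c.hall c.hK1).1 k hk hk1

/-- `C_H(x) ≤ K K*` for `x ∈ K#` (no commutativity of `K` needed) -/
theorem centralizer_inf_K_le' {x : G} (hx : x ∈ K) (hx1 : x ≠ 1) :
    H ⊓ centralizer ({x} : Set G) ≤ K ⊔ Kst H K := by
  have hne : orderOf x ≠ 1 := by
    rw [Ne, orderOf_eq_one_iff]; exact hx1
  obtain ⟨p, hp, hpd⟩ := Nat.exists_prime_and_dvd hne
  haveI := Fact.mk hp
  have hord : orderOf (x ^ (orderOf x / p)) = p :=
    orderOf_pow_orderOf_div (orderOf_pos x).ne' hpd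
  set X : Subgroup G := zpowers (x ^ (orderOf x / p)) with hX
  have hXK : X ≤ K := by rw [hX, zpowers_le]; exact pow_mem hx _
  have hXcard : (Nat.card X).Prime := by rw [hX, Nat.card_zpowers, hord]; exact hp
  rw [← normalizer_prime c X hXK hXcard]
  refine inf_le_inf_left H ?_
  intro g hg
  rw [mem_centralizer_singleton] at hg
  apply mem_normalizer_fintype
  intro t ht
  have ht' : t ∈ X := ht
  rw [hX, mem_zpowers_iff] at ht'
  obtain ⟨j, rfl⟩ := ht'
  have hc : Commute g x := hg.symm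
  have hc2 : Commute g ((x ^ (orderOf x / p)) ^ j) := (hc.pow_right _).zpow_right _
  have : g * (x ^ (orderOf x / p)) ^ j * g⁻¹ = (x ^ (orderOf x / p)) ^ j := by
    rw [hc2.eq]; group
  rw [this]
  exact ht

/-- `C_H(x) = K K*` for `x ∈ K#` -/
theorem centralizer_inf_K (h51 : St1351b G) {x : G} (hx : x ∈ K) (hx1 : x ≠ 1) :
    H ⊓ centralizer ({x} : Set G) = K ⊔ Kst H K := by
  apply le_antisymm
  · have hne : orderOf x ≠ 1 := by
      rw [Ne, orderOf_eq_one_iff]; exact hx1
    obtain ⟨p, hp, hpd⟩ := Nat.exists_prime_and_dvd hne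
    haveI := Fact.mk hp
    have hord : orderOf (x ^ (orderOf x / p)) = p :=
      orderOf_pow_orderOf_div (orderOf_pos x).ne' hpd
    set X : Subgroup G := zpowers (x ^ (orderOf x / p)) with hX
    have hXK : X ≤ K := by rw [hX, zpowers_le]; exact pow_mem hx _
    have hXcard : (Nat.card X).Prime := by rw [hX, Nat.card_zpowers, hord]; exact hp
    rw [← normalizer_prime c X hXK hXcard]
    refine inf_le_inf_left H ?_
    intro g hg
    rw [mem_centralizer_singleton] at hg
    apply mem_normalizer_fintype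
    intro t ht
    have ht' : t ∈ X := ht
    rw [hX, mem_zpowers_iff] at ht'
    obtain ⟨j, rfl⟩ := ht'
    have hc : Commute g x := hg.symm
    have hc2 : Commute g ((x ^ (orderOf x / p)) ^ j) := (hc.pow_right _).zpow_right _
    have : g * (x ^ (orderOf x / p)) ^ j * g⁻¹ = (x ^ (orderOf x / p)) ^ j := by
      rw [hc2.eq]; group
    rw [this]
    exact ht
  · refine le_inf (Z_le c) (sup_le ?_ ?_)
    · intro g hg
      rw [mem_centralizer_singleton]
      exact K_comm c h51 x hx g hg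
    · intro g hg
      rw [mem_centralizer_singleton]
      exact (mem_centralizer_iff.mp hg.2) x hx

omit c in
/-- a prime dividing `#K*` lies in `σ(H)` -/
theorem mem_sigma_of_dvd_card_Kst {q : ℕ} (hq : q.Prime) (hqd : q ∣ Nat.card ↥(Kst H K)) :
    q ∈ sigma H :=
  card_sigmaCore H q hq (hqd.trans (Subgroup.card_dvd_of_le inf_le_left))

/-- a prime dividing `#K` lies in `κ(H)` -/
theorem mem_kappa_of_dvd_card_K {q : ℕ} (hq : q.Prime) (hqd : q ∣ Nat.card K) : q ∈ kappa H :=
  c.hall.2.1 q hq hqd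

/-- a maximal subgroup `N ≠ H` containing a nontrivial subgroup of `K*` has `σ(N)` disjoint from
`σ(H)` -/
theorem sigma_disj_of_le (h78 : St1378b G) {N : Subgroup G} (hN : IsCoatom N) (hne : N ≠ H)
    {Y : Subgroup G} (hY : Y ≤ Kst H K) (hY1 : Y ≠ ⊥) (hYN : Y ≤ N) :
    ∀ p, p ∈ sigma H → p ∉ sigma N := by
  intro p hp hp'
  obtain ⟨g, hg⟩ := h78 H N c.hH hN ⟨p, hp, hp'⟩
  by_cases hgH : g ∈ H
  · rw [map_conj_eq_of_mem hgH] at hg
    exact hne hg
  · have h1 := (c.h31 H c.hH K c.hall c.hK1).1 g hgH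
    apply hY1
    rw [eq_bot_iff, ← h1]
    intro y hy
    exact Subgroup.mem_inf.mpr ⟨hY hy, hg ▸ hYN hy⟩

end half

/-- coprime `σ`-sets give trivially intersecting `σ`-cores -/
theorem sigmaCore_inf_eq_bot {H N : Subgroup G} (h : ∀ p, p ∈ sigma H → p ∉ sigma N) :
    sigmaCore H ⊓ sigmaCore N = ⊥ :=
  (Subgroup.disjoint_of_coprime_natCard
    (coprime_of_isPiNum h (card_sigmaCore H) (card_sigmaCore N))).eq_bot

end Cfsg.Agent.Helper21.BG147a
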