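import Mathlib
import Cfsg.Agent.Lib.Helper21.BG147aA
import Cfsg.Agent.Lib.Helper21.BG143D
import Cfsg.Agent.Lib.Helper22.BG127E
import Cfsg.Agent.Lib.Helper12.PGroup
import Cfsg.Agent.Lib.Helper5.BG124C
import Cfsg.Agent.Lib.Helper1.PiHall

/-!
S1367 (BG Theorem 14.7 (a)): for `X ≤ K*` of prime order, `M` is the only maximal subgroup
containing `C_G(X)`.  From the frozen statements S1430, S1431 (half context), S1378 (2nd half),
S1350, S1405, S1416, S1417, S1418 and helper22's transvection lemma `partBC`.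
-/

set_option autoImplicit false

namespace Cfsg.Agent.Helper21.BG1367

open Cfsg Subgroup
open Cfsg.Agent.Helper10 (IsPiNum)
open Cfsg.Agent.Helper16.BG147
open Cfsg.Agent.Helper14.BG1369 (Half)
open Cfsg.Agent.Helper14.BGTrans (isSolvable_of_ne_top)
open Cfsg.Agent.Helper22.BG13 (Hyp1350 Hyp1405 Hyp1416 Hyp1417 Hyp1418)
open Cfsg.Agent.Helper21.BG147a

universe u

variable {G : Type u} [Group G] [Finite G]

omit [Finite G] in
/-- an elementary abelian subgroup of order `> q ^ 2` prevents rank at most two -/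
theorem not_pRankLE_two_of_elemAb_gt {q : ℕ} {L B : Subgroup G} (hBL : B ≤ L)
    (hBe : IsElementaryAbelian q B) (hBc : q ^ 2 < Nat.card ↥B) : ¬ PRankLE q 2 ↥L := by
  intro h
  have hc : IsMulCommutative ↥(B.subgroupOf L) := by
    rw [isMulCommutative_iff]
    intro a b
    apply Subtype.ext
    apply Subtype.ext
    haveI := hBe.1
    have := setLike_mul_comm (mem_subgroupOf.mp a.2) (mem_subgroupOf.mp b.2)
    simpa using this
  have he : ∀ a ∈ B.subgroupOf L, a ^ q = 1 := by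
    intro a ha
    apply Subtype.ext
    have := hBe.2 a (mem_subgroupOf.mp ha)
    simpa using this
  have h1 := h (B.subgroupOf L) hc he
  have h2 : Nat.card ↥(B.subgroupOf L) = Nat.card ↥B :=
    Nat.card_congr (Subgroup.subgroupOfEquivOfLe hBL).toEquiv
  rw [h2] at h1
  omega

/-- **BG 14.7 (a), one half**: `M` is the unique maximal subgroup containing `C_G(X)` for
`X ≤ K*` of prime order. -/
theorem unique_of_le_Kst {M K : Subgroup G} (c : Half M K) (h78 : St1378b G) (h50 : Hyp1350 G)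
    (h05 : Hyp1405 G) (h16 : Hyp1416 G) (h17 : Hyp1417 G) (h18 : Hyp1418 G)
    {X : Subgroup G} (hXK : X ≤ Kst M K) (hXp : (Nat.card X).Prime) :
    centralizer (X : Set G) ≤ M ∧
      ∀ L : Subgroup G, IsCoatom L → centralizer (X : Set G) ≤ L → L = M := by
  have hG := c.hG
  have hX1 : X ≠ ⊥ := by
    intro e
    rw [e, Subgroup.card_bot] at hXp
    exact Nat.not_prime_one hXp
  have hNX : normalizer (X : Set G) ≤ M := normalizer_le_of_le_Kst c hXK hX1
  have hCX : centralizer (X : Set G) ≤ M := (Subgroup.centralizer_le_normalizer _).trans hNX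
  refine ⟨hCX, ?_⟩
  intro L hL hCL
  by_contra hne
  obtain ⟨s, hs⟩ : ∃ s, Nat.card X = s := ⟨_, rfl⟩
  have hsp : s.Prime := hs ▸ hXp
  haveI : Fact s.Prime := ⟨hsp⟩
  haveI : IsCyclic ↥X := isCyclic_of_prime_card hs
  have hXcomm : ∀ a ∈ X, ∀ b ∈ X, a * b = b * a := by
    intro a ha b hb
    have := mul_comm' (⟨a, ha⟩ : X) ⟨b, hb⟩
    exact congrArg Subtype.val this
  have hXCX : X ≤ centralizer (X : Set G) := by
    intro a ha
    rw [mem_centralizer_iff]
    intro b hb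
    exact hXcomm b hb a ha
  have hXL : X ≤ L := hXCX.trans hCL
  have hXσ : X ≤ sigmaCore M := hXK.trans inf_le_left
  have hpow : ∀ a ∈ X, a ^ s = 1 := by
    intro a ha
    have := pow_card_eq_one' (G := ↥X) (x := ⟨a, ha⟩)
    rw [hs] at this
    exact congrArg Subtype.val this
  -- `σ(M)` and `σ(L)` are disjoint
  have hdisj := sigma_disj_of_le c h78 hL hne hXK hX1 hXL
  have hsM : s ∈ sigma M :=
    mem_sigma_of_dvd_card_Kst hsp (hs ▸ Subgroup.card_dvd_of_le hXK)
  have hsL : s ∉ sigma L := hdisj s hsM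
  -- a Sylow `s`-subgroup of `M_σ` over `X`
  have hXpg : IsPGroup s ↥(X.subgroupOf (sigmaCore M)) := by
    apply IsPGroup.of_card (n := 1)
    rw [pow_one, ← hs]
    exact Nat.card_congr (Subgroup.subgroupOfEquivOfLe hXσ).toEquiv
  obtain ⟨S, hS⟩ := hXpg.exists_le_sylow
  set S' : Subgroup G := (S : Subgroup ↥(sigmaCore M)).map (sigmaCore M).subtype with hS'
  have hXS' : X ≤ S' := by
    intro a ha
    exact ⟨⟨a, hXσ ha⟩, hS (mem_subgroupOf.mpr ha), rfl⟩
  have h313 := (c.h31 M c.hH K c.hall c.hK1).2.2.1 s hsp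
    (hs ▸ Subgroup.card_dvd_of_le hXK) S
  have hS'p : IsPGroup s ↥S' := S.2.map _
  have hS'L : ¬ S' ≤ L := fun h =>
    hne (h313.1.unique ⟨hL, h⟩ ⟨c.hH, h313.2.1⟩)
  -- `S₁ = C_{S'}(X)` is proper in `S'`
  set S1 : Subgroup G := S' ⊓ centralizer (X : Set G) with hS1
  have hS1L : S1 ≤ L := inf_le_right.trans hCL
  have hS1lt : S1 < S' := by
    refine lt_of_le_of_ne inf_le_left ?_
    intro e
    apply hS'L
    rw [← e]
    exact hS1L
  obtain ⟨g, hgS, hgS1, hgN⟩ :=
    Cfsg.Agent.Helper12.exists_mem_normalizer_not_mem S' hS'p S1 hS1lt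
  -- a central element of order `s`
  have hS'1 : S' ≠ ⊥ := fun e => hX1 (eq_bot_iff.mpr (e ▸ hXS'))
  obtain ⟨z, hzS, hz1, hzs, hzc⟩ := Cfsg.Agent.Helper5.BG124.exists_central_of_isPGroup hS'p hS'1
  have hzX : z ∉ X := by
    intro hz
    apply hS'L
    refine le_trans ?_ hCL
    intro y hy
    rw [mem_centralizer_iff]
    intro a ha
    -- `a` is a power of `z`
    have htop := zpowers_eq_top_of_prime_card (G := ↥X) hs (g := ⟨z, hz⟩)
      (fun e => hz1 (congrArg Subtype.val e))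
    have hmem : (⟨a, ha⟩ : ↥X) ∈ zpowers (⟨z, hz⟩ : ↥X) := by rw [htop]; exact mem_top _
    obtain ⟨k, hk⟩ := mem_zpowers_iff.mp hmem
    have hk' : z ^ k = a := by
      have := congrArg Subtype.val hk
      simpa using this
    rw [← hk']
    have hcz : Commute y z := hzc y hy
    exact (hcz.zpow_right k).eq.symm
  have hzCX : z ∈ centralizer (X : Set G) := by
    rw [mem_centralizer_iff]
    intro a ha
    exact hzc a (hXS' ha)
  obtain ⟨hAe, hAc⟩ := Cfsg.Agent.Helper22.BG13.card_sup_zpowers_eq_sq hs hzCX hzs hzX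
  set A : Subgroup G := X ⊔ zpowers z with hA
  have hAS1 : A ≤ S1 := by
    refine sup_le (le_inf hXS' hXCX) ?_
    rw [zpowers_le]
    exact Subgroup.mem_inf.mpr ⟨hzS, hzCX⟩
  have hAL : A ≤ L := hAS1.trans hS1L
  -- `s ∈ τ₂(L)`
  have hsdL : s ∣ Nat.card ↥L := hs ▸ Subgroup.card_dvd_of_le hXL
  have hr2 : PRankLE s 2 ↥L :=
    Cfsg.Agent.Helper21.BG143.pRankLE_two_of_not_mem_sigma h05 hL hsp hsdL hsL
  have hr1 : ¬ PRankLE s 1 ↥L :=
    Cfsg.Agent.Helper21.BG143.not_pRankLE_one_of_elemAb_sq hsp hAL hAe hAc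
  have hτ : s ∈ tau2 L := ⟨hsp, hsL, hr2, hr1⟩
  -- `g` normalizes `A`
  have hconjX : ∀ a ∈ X, g * a * g⁻¹ ∈ A := by
    intro a ha
    by_contra hw
    have hwS1 : g * a * g⁻¹ ∈ S1 :=
      (mem_normalizer_iff.mp hgN a).mp (Subgroup.mem_inf.mpr ⟨hXS' ha, hXCX ha⟩)
    have hwC : g * a * g⁻¹ ∈ centralizer (A : Set G) := by
      have hle : A ≤ centralizer ({g * a * g⁻¹} : Set G) := by
        refine sup_le ?_ ?_
        · intro b hb
          rw [mem_centralizer_singleton]
          exact ((mem_centralizer_iff.mp hwS1.2) b hb).symm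
        · rw [zpowers_le, mem_centralizer_singleton]
          exact hzc _ hwS1.1
      rw [mem_centralizer_iff]
      intro b hb
      exact (mem_centralizer_singleton.mp (hle hb)).symm
    have hws : (g * a * g⁻¹) ^ s = 1 := by
      rw [conj_pow, hpow a ha]
      group
    obtain ⟨hAe', hlt⟩ := Cfsg.Agent.Helper22.BG13.elemAb_sup_zpowers hAe hwC hws hw
    have hA'L : A ⊔ zpowers (g * a * g⁻¹) ≤ L := by
      refine sup_le hAL ?_
      rw [zpowers_le]
      exact hS1L hwS1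
    rw [hAc] at hlt
    exact not_pRankLE_two_of_elemAb_gt hA'L hAe' hlt hr2
  have hgz : g * z * g⁻¹ = z := by
    rw [hzc g hgS]; group
  have hgA : g ∈ normalizer (A : Set G) := by
    apply mem_normalizer_fintype
    intro a ha
    have hle : A ≤ A.comap (MulAut.conj g).toMonoidHom := by
      refine sup_le ?_ ?_
      · intro b hb
        exact hconjX b hb
      · rw [zpowers_le]
        show g * z * g⁻¹ ∈ A
        rw [hgz]
        exact (le_sup_right : zpowers z ≤ A) (mem_zpowers z)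
    exact hle ha
  -- `g ∉ L`
  have hgL : g ∉ L := by
    intro hgL
    apply hgS1
    refine Subgroup.mem_inf.mpr ⟨hgS, ?_⟩
    have hQp : IsPGroup s ↥((S' ⊓ L).subgroupOf L) := by
      have h1 : IsPGroup s ↥(S' ⊓ L : Subgroup G) := hS'p.to_le inf_le_left
      exact h1.comap_of_injective _ (Subgroup.subtype_injective L)
    obtain ⟨P, hP⟩ := hQp.exists_le_sylow
    have hPab := ((h17 L hL s hτ A ⟨hAL, hAe, hAc⟩).2.1 P).1
    rw [mem_centralizer_iff]
    intro a ha
    have h1 : (⟨a, hXL ha⟩ : ↥L) ∈ (P : Subgroup ↥L) :=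
      hP (mem_subgroupOf.mpr (Subgroup.mem_inf.mpr ⟨hXS' ha, hXL ha⟩))
    have h2 : (⟨g, hgL⟩ : ↥L) ∈ (P : Subgroup ↥L) :=
      hP (mem_subgroupOf.mpr (Subgroup.mem_inf.mpr ⟨hgS, hgL⟩))
    have := mul_comm' (⟨_, h1⟩ : (P : Subgroup ↥L)) ⟨_, h2⟩
    have := congrArg (fun t : (P : Subgroup ↥L) => ((t : ↥L) : G)) this
    simpa using this
  -- a complement of `L_σ` over `A`
  haveI hsolv : Group.IsSolvable ↥L := isSolvable_of_ne_top hG hL.1
  have hAσ : ∀ p : ℕ, p.Prime → p ∣ Nat.card ↥A → p ∉ sigma L := by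
    intro p hp hpd
    rw [hAc] at hpd
    have : p = s := (Nat.prime_dvd_prime_iff_eq hp hsp).mp (hp.dvd_of_dvd_pow hpd)
    rw [this]
    exact hsL
  obtain ⟨E, hE, hAE, -, -⟩ := Cfsg.Agent.Helper1.PiHall.exists_isComplIn_ge
    (h50 L hL).1 (Cfsg.Agent.Helper22.BG13.le_normalizer_sigmaCore L) hAL hAσ
  have hCA : centralizer (A : Set G) ≤ L := (h16 L hL s A ⟨hAL, hAe, hAc⟩).1
  have hgp : IsPGroup s ↥(zpowers g) := hS'p.to_le (zpowers_le.mpr hgS)
  have hBC := Cfsg.Agent.Helper22.BG127.partBC hG h05 h17 h18 hL hE hτ hAE hAe hAc hCA hgp hgL hgA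
  have hXA : X ≤ A := le_sup_left
  by_cases hXA0 : X = A ⊓ centralizer (sigmaCore L : Set G)
  · have hne' : sigmaCore L ⊓ centralizer (X : Set G) ≠ ⊥ := by
      have h1 : sigmaCore L ≤ centralizer (X : Set G) := by
        intro y hy
        rw [mem_centralizer_iff]
        intro a ha
        have ha' : a ∈ A ⊓ centralizer (sigmaCore L : Set G) := hXA0 ▸ ha
        exact ((mem_centralizer_iff.mp ha'.2) y hy).symm
      rw [inf_eq_left.mpr h1]
      exact Cfsg.Agent.Helper19.BG16.sigmaCore_ne_bot hG h05 hL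
    have h2 := (h18 L hL E hE s hτ A ⟨hAE, hAe, hAc⟩).2.2 X hXA hs hne'
    exact hne (h2.2 M c.hH hCX).symm
  · exact ((hBC.2.2 X (hXA.trans hAE) hs hXA0).2) hCL

end Cfsg.Agent.Helper21.BG1367
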