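import Mathlib
import Cfsg.Agent.Lib.Helper21.BG1367A

/-!
S1367 (BG Theorem 14.7 (a)), assembly from the frozen statements S1430, S1431, S1378 (2nd half),
S1350, S1405, S1416, S1417, S1418.
-/

set_option autoImplicit false

namespace Cfsg.Agent.Helper21.BG1367

open Cfsg Subgroup
open Cfsg.Agent.Helper16.BG147
open Cfsg.Agent.Helper14.BG1369 (Half)
open Cfsg.Agent.Helper22.BG13 (Hyp1350 Hyp1405 Hyp1416 Hyp1417 Hyp1418)

universe u

variable {G : Type u} [Group G] [Finite G]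

/-- the frozen statement S1367 -/
theorem main67 (hG : Cfsg.IsMinSimpleOddOrder G) (h30 : St1430 G) (h31 : St1431 G)
    (h78 : St1378b G) (h50 : Hyp1350 G) (h05 : Hyp1405 G) (h16 : Hyp1416 G) (h17 : Hyp1417 G)
    (h18 : Hyp1418 G)
    (M : Subgroup G) (hM : IsCoatom M) (K U : Subgroup G) (hKU : Cfsg.IsSigmaDecomposition M K U) (hK1 : K ≠ ⊥) (Mstar : Subgroup G) (hMstar : IsCoatom Mstar)
    (hKst : K = Cfsg.sigmaCore Mstar ⊓ Subgroup.centralizer ((Cfsg.sigmaCore M ⊓ Subgroup.centralizer (K : Set G)) : Set G))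
    (hKstH : Cfsg.IsPiHallOf (Cfsg.kappa Mstar) (Cfsg.sigmaCore M ⊓ Subgroup.centralizer (K : Set G)) Mstar) :
    (∀ X : Subgroup G, X ≤ (Cfsg.sigmaCore M ⊓ Subgroup.centralizer (K : Set G)) → (Nat.card X).Prime →
        Subgroup.centralizer (X : Set G) ≤ M ∧ ∀ L : Subgroup G, IsCoatom L → Subgroup.centralizer (X : Set G) ≤ L → L = M) ∧
      (∀ Y : Subgroup G, Y ≤ K → (Nat.card Y).Prime →
        Subgroup.centralizer (Y : Set G) ≤ Mstar ∧ ∀ L : Subgroup G, IsCoatom L → Subgroup.centralizer (Y : Set G) ≤ L → L = Mstar) := by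
  have c : Half M K := ⟨hG, hM, hKU.hall, hK1, h30, h31⟩
  have c' : Half Mstar (Kst M K) := ⟨hG, hMstar, hKstH, c.Kst_ne_bot, h30, h31⟩
  refine ⟨?_, ?_⟩
  · intro X hX hXp
    exact unique_of_le_Kst c h78 h50 h05 h16 h17 h18 hX hXp
  · intro Y hY hYp
    have hY' : Y ≤ Kst Mstar (Kst M K) := hY.trans hKst.le
    exact unique_of_le_Kst c' h78 h50 h05 h16 h17 h18 hY' hYp

end Cfsg.Agent.Helper21.BG1367
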