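import Mathlib
import Cfsg.Agent.Lib.Helper21.BG147aA
import Cfsg.Agent.Lib.Helper7.Signalizer

/-!
Towards S1366 (BG Theorem 14.7 (a)), part B: the "home" of a subgroup `X ≤ K` of prime order:
a maximal subgroup `M₁ ≥ N_G(X)` and a Hall `κ(M₁)`-subgroup `K₁ ≥ K*`.
-/

set_option autoImplicit false

namespace Cfsg.Agent.Helper21.BG147a

open Cfsg Subgroup
open Cfsg.Agent.Helper10 (IsPiNum)
open Cfsg.Agent.Helper16.BG147
open Cfsg.Agent.Helper14.BG1369 (Half)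
open Cfsg.Agent.Helper14.BGTrans (isSolvable_of_ne_top)

variable {G : Type*} [Group G] [Finite G]

/-- `X ≤ K` of prime order and a maximal subgroup `M₁ ≥ N_G(X)` -/
structure Pre (M K X M1 : Subgroup G) : Prop where
  c : Half M K
  h32 : St1432 G
  h78 : St1378b G
  hXK : X ≤ K
  hXp : (Nat.card X).Prime
  hM1 : IsCoatom M1
  hN : normalizer (X : Set G) ≤ M1

namespace Pre

variable {M K X M1 : Subgroup G} (h : Pre M K X M1)
include h

theorem X_le_sigmaCore1 : X ≤ sigmaCore M1 :=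
  ((h.c.h30 M h.c.hH K h.c.hall h.c.hK1).2.2 X h.hXK h.hXp).2.2 M1 h.hM1 h.hN

theorem card_X_mem_sigma1 : Nat.card X ∈ sigma M1 :=
  card_sigmaCore M1 _ h.hXp (Subgroup.card_dvd_of_le h.X_le_sigmaCore1)

theorem card_X_mem_kappa : Nat.card X ∈ kappa M :=
  h.c.hall.2.1 _ h.hXp (Subgroup.card_dvd_of_le h.hXK)

theorem M1_ne : M1 ≠ M := by
  intro e
  have h1 := h.card_X_mem_sigma1
  rw [e] at h1
  exact kappa_not_sigma M _ h.card_X_mem_kappa h1

theorem X_ne_bot : X ≠ ⊥ := by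
  intro e
  have := h.hXp
  rw [e, Subgroup.card_bot] at this
  exact Nat.not_prime_one this

theorem exists_X_ne_one : ∃ x ∈ X, x ≠ 1 := by
  obtain ⟨x, hx1⟩ := (Subgroup.ne_bot_iff_exists_ne_one).mp h.X_ne_bot
  exact ⟨x, x.2, fun e => hx1 (Subtype.ext e)⟩

theorem Kst_le_centralizer_X : Kst M K ≤ centralizer (X : Set G) := by
  intro y hy
  rw [mem_centralizer_iff]
  intro x hx
  exact (mem_centralizer_iff.mp hy.2) x (h.hXK hx)

theorem Z_le_M1 : K ⊔ Kst M K ≤ M1 :=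
  (Z_le_normalizer_prime h.c X h.hXK h.hXp).trans h.hN

theorem sigma_disj1 : ∀ q, q ∈ sigma M → q ∉ sigma M1 :=
  sigma_disj_of_le h.c h.h78 h.hM1 h.M1_ne le_rfl h.c.Kst_ne_bot (le_sup_right.trans h.Z_le_M1)

/-- `K*` is a `κ(M₁)`-group -/
theorem Kst_kappa1 : ∀ q : ℕ, q.Prime → q ∣ Nat.card ↥(Kst M K) → q ∈ kappa M1 := by
  intro q hq hqd
  haveI := Fact.mk hq
  obtain ⟨y0, hy0⟩ := exists_prime_orderOf_dvd_card' q hqd
  have hyK : (y0 : G) ∈ Kst M K := y0.2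
  have hord : orderOf (y0 : G) = q := by rw [Subgroup.orderOf_coe]; exact hy0
  have hy1 : (y0 : G) ≠ 1 := by
    intro e
    rw [e, orderOf_one] at hord
    exact hq.one_lt.ne hord
  obtain ⟨x, hxX, hx1⟩ := h.exists_X_ne_one
  have hxσ : x ∈ sigmaCore M1 := h.X_le_sigmaCore1 hxX
  have hyM1 : (y0 : G) ∈ M1 ⊓ centralizer ({x} : Set G) := by
    refine Subgroup.mem_inf.mpr ⟨h.Z_le_M1 (mem_sup_right hyK), ?_⟩
    rw [mem_centralizer_singleton]
    exact (mem_centralizer_iff.mp hyK.2) x (h.hXK hxX)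
  have hσ : ∀ r : ℕ, r.Prime → r ∣ orderOf (y0 : G) → r ∉ sigma M1 := by
    intro r hr hrd
    rw [hord] at hrd
    have e : r = q := (Nat.prime_dvd_prime_iff_eq hr hq).mp hrd
    subst e
    exact h.sigma_disj1 r (mem_sigma_of_dvd_card_Kst hr hqd)
  rcases h.h32 M1 h.hM1 x hxσ hx1 (y0 : G) hyM1 hy1 hσ with hA | hB
  · exact hA.1 q hq (by rw [hord])
  · exfalso
    exact h.M1_ne (hB.2.2.2 M h.c.hH (centralizer_Kst_le h.c hyK hy1)).symm

/-- a Hall `κ(M₁)`-subgroup of `M₁` containing `K*` -/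
theorem exists_K1 : ∃ K1 : Subgroup G, IsPiHallOf (kappa M1) K1 M1 ∧ Kst M K ≤ K1 := by
  have hsolv : Group.IsSolvable ↥M1 := isSolvable_of_ne_top h.c.hG h.hM1.1
  obtain ⟨K1, hle, hhall⟩ := Cfsg.Agent.Helper4.BGSig.exists_isPiHallOf_ge hsolv (kappa M1)
    (le_sup_right.trans h.Z_le_M1) h.Kst_kappa1
  exact ⟨K1, hhall, hle⟩

end Pre

/-- the home context: `X ≤ K` of prime order, `M₁ ≥ N_G(X)` maximal, `K₁ ≥ K*` a Hall
`κ(M₁)`-subgroup of `M₁` -/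
structure Home (M K X M1 K1 : Subgroup G) : Prop where
  pre : Pre M K X M1
  hall1 : IsPiHallOf (kappa M1) K1 M1
  hKsK1 : Kst M K ≤ K1

namespace Home

variable {M K X M1 K1 : Subgroup G} (h : Home M K X M1 K1)
include h

theorem K1_ne_bot : K1 ≠ ⊥ := by
  intro hb
  apply h.pre.c.Kst_ne_bot
  rw [eq_bot_iff, ← hb]
  exact h.hKsK1

theorem half1 : Half M1 K1 :=
  ⟨h.pre.c.hG, h.pre.hM1, h.hall1, h.K1_ne_bot, h.pre.c.h30, h.pre.c.h31⟩

theorem exists_y : ∃ y ∈ Kst M K, y ≠ 1 := by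
  obtain ⟨y, hy1⟩ := (Subgroup.ne_bot_iff_exists_ne_one).mp h.pre.c.Kst_ne_bot
  exact ⟨y, y.2, fun e => hy1 (Subtype.ext e)⟩

theorem K1s_eq {y : G} (hy : y ∈ Kst M K) (hy1 : y ≠ 1) :
    sigmaCore M1 ⊓ centralizer ({y} : Set G) = Kst M1 K1 :=
  Kst_eq_of_mem h.half1 (h.hKsK1 hy) hy1

theorem X_le_K1s : X ≤ Kst M1 K1 := by
  obtain ⟨y, hy, hy1⟩ := h.exists_y
  rw [← h.K1s_eq hy hy1]
  refine le_inf h.pre.X_le_sigmaCore1 ?_
  intro x hx
  rw [mem_centralizer_singleton]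
  exact ((mem_centralizer_iff.mp hy.2) x (h.pre.hXK hx)).symm

theorem K1s_le_M : Kst M1 K1 ≤ M := by
  obtain ⟨y, hy, hy1⟩ := h.exists_y
  intro w hw
  apply centralizer_Kst_le h.pre.c hy hy1
  rw [mem_centralizer_singleton]
  exact (mem_centralizer_iff.mp hw.2) y (h.hKsK1 hy)

/-- a subgroup of prime order of `K*` -/
theorem exists_Y : ∃ Y : Subgroup G, Y ≤ Kst M K ∧ (Nat.card Y).Prime := by
  have hne : Nat.card ↥(Kst M K) ≠ 1 := fun e => h.pre.c.Kst_ne_bot (Subgroup.card_eq_one.mp e)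
  obtain ⟨q, hq, hqd⟩ := Nat.exists_prime_and_dvd hne
  haveI := Fact.mk hq
  obtain ⟨y0, hy0⟩ := exists_prime_orderOf_dvd_card' q hqd
  refine ⟨zpowers (y0 : G), ?_, ?_⟩
  · rw [zpowers_le]; exact y0.2
  · rw [Nat.card_zpowers, Subgroup.orderOf_coe, hy0]; exact hq

theorem K1_le_M : K1 ≤ M := by
  obtain ⟨Y, hY, hYp⟩ := h.exists_Y
  have hY1 : Y ≠ ⊥ := by
    intro e
    rw [e, Subgroup.card_bot] at hYp
    exact Nat.not_prime_one hYp
  exact (K_le_normalizer_prime h.half1 Y (hY.trans h.hKsK1) hYp).trans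
    (normalizer_le_of_le_Kst h.pre.c hY hY1)

/-- `K₁*` is a `κ(M)`-group -/
theorem K1s_kappa : ∀ q : ℕ, q.Prime → q ∣ Nat.card ↥(Kst M1 K1) → q ∈ kappa M := by
  intro q hq hqd
  haveI := Fact.mk hq
  obtain ⟨w0, hw0⟩ := exists_prime_orderOf_dvd_card' q hqd
  have hwK : (w0 : G) ∈ Kst M1 K1 := w0.2
  have hord : orderOf (w0 : G) = q := by rw [Subgroup.orderOf_coe]; exact hw0
  have hw1 : (w0 : G) ≠ 1 := by
    intro e
    rw [e, orderOf_one] at hord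
    exact hq.one_lt.ne hord
  obtain ⟨y, hy, hy1⟩ := h.exists_y
  have hwM : (w0 : G) ∈ M ⊓ centralizer ({y} : Set G) := by
    refine Subgroup.mem_inf.mpr ⟨h.K1s_le_M hwK, ?_⟩
    rw [mem_centralizer_singleton]
    exact (mem_centralizer_iff.mp hwK.2) y (h.hKsK1 hy)
  have hσ : ∀ r : ℕ, r.Prime → r ∣ orderOf (w0 : G) → r ∉ sigma M := by
    intro r hr hrd
    rw [hord] at hrd
    have e : r = q := (Nat.prime_dvd_prime_iff_eq hr hq).mp hrd
    subst e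
    intro hrM
    exact h.pre.sigma_disj1 r hrM (mem_sigma_of_dvd_card_Kst hr hqd)
  rcases h.pre.h32 M h.pre.c.hH y hy.1 hy1 (w0 : G) hwM hw1 hσ with hA | hB
  · exact hA.1 q hq (by rw [hord])
  · exfalso
    exact h.pre.M1_ne (hB.2.2.2 M1 h.pre.hM1 (centralizer_Kst_le h.half1 hwK hw1))

theorem K_le_normalizer_K1s : K ≤ normalizer ((Kst M1 K1 : Subgroup G) : Set G) := by
  obtain ⟨y, hy, hy1⟩ := h.exists_y
  intro k hk
  apply mem_normalizer_fintype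
  intro w hw
  have hw' : w ∈ sigmaCore M1 ⊓ centralizer ({y} : Set G) := by
    rw [h.K1s_eq hy hy1]; exact hw
  show k * w * k⁻¹ ∈ Kst M1 K1
  rw [← h.K1s_eq hy hy1]
  refine Subgroup.mem_inf.mpr ⟨?_, ?_⟩
  · exact conj_mem_sigmaCore (h.pre.Z_le_M1 (mem_sup_left hk)) hw'.1
  · rw [mem_centralizer_singleton]
    have hyk : Commute y k := ((mem_centralizer_iff.mp hy.2) k hk).symm
    have hyw : Commute y w := mem_centralizer_singleton.mp hw'.2
    exact ((hyk.mul_right hyw).mul_right hyk.inv_right).eq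

theorem K1s_le_K : Kst M1 K1 ≤ K := by
  have hdvd := Cfsg.Agent.Helper7.card_sup_dvd_mul_of_le_normalizer
    (X := Kst M1 K1) (Y := K) h.K_le_normalizer_K1s
  have hnum : IsPiNum (kappa M) (Nat.card ↥(Kst M1 K1 ⊔ K)) := by
    intro r hr hrd
    rcases (Nat.Prime.dvd_mul hr).mp (hrd.trans hdvd) with h1 | h1
    · exact h.K1s_kappa r hr h1
    · exact h.pre.c.hall.2.1 r hr h1
  have := eq_of_piHall_le h.pre.c.hall le_sup_right (sup_le h.K1s_le_M h.pre.c.K_le) hnum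
  exact le_sup_left.trans this.le

/-- `K × K* = K₁ × K₁*` -/
theorem Z_eq : K ⊔ Kst M K = K1 ⊔ Kst M1 K1 := by
  obtain ⟨Y, hY, hYp⟩ := h.exists_Y
  apply le_antisymm
  · refine sup_le ?_ (h.hKsK1.trans le_sup_left)
    rw [← normalizer_prime h.half1 Y (hY.trans h.hKsK1) hYp]
    intro k hk
    refine Subgroup.mem_inf.mpr ⟨h.pre.Z_le_M1 (mem_sup_left hk), ?_⟩
    apply Subgroup.centralizer_le_normalizer
    rw [mem_centralizer_iff]
    intro y hy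
    exact ((mem_centralizer_iff.mp (hY hy).2) k hk).symm
  · refine sup_le ?_ (h.K1s_le_K.trans le_sup_left)
    rw [← normalizer_prime h.pre.c X h.pre.hXK h.pre.hXp]
    intro k hk
    refine Subgroup.mem_inf.mpr ⟨h.K1_le_M hk, ?_⟩
    apply Subgroup.centralizer_le_normalizer
    rw [mem_centralizer_iff]
    intro x hx
    exact ((mem_centralizer_iff.mp (h.X_le_K1s hx).2) k hk).symm

/-- `K₁*` is a Hall `σ(M₁)`-subgroup of `M` -/
theorem K1s_hall : IsPiHallOf (sigma M1) (Kst M1 K1) M := by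
  have hsolv : Group.IsSolvable ↥M := isSolvable_of_ne_top h.pre.c.hG h.pre.c.hH.1
  obtain ⟨Y, hle, hY⟩ := Cfsg.Agent.Helper4.BGSig.exists_isPiHallOf_ge hsolv (sigma M1)
    h.K1s_le_M (fun q hq hqd => mem_sigma_of_dvd_card_Kst hq hqd)
  obtain ⟨y, hy, hy1⟩ := h.exists_y
  have hK1s_ne : Kst M1 K1 ≠ ⊥ := h.half1.Kst_ne_bot
  have hYσ : Y ≤ sigmaCore M1 := by
    apply (h.pre.c.h31 M1 h.pre.hM1 K1 h.hall1 h.K1_ne_bot).2.2.2 Y hY.2.1
    rw [inf_eq_right.mpr hle]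
    exact hK1s_ne
  have hYK : Y ≤ Kst M1 K1 := by
    intro u hu
    rw [← h.K1s_eq hy hy1]
    refine Subgroup.mem_inf.mpr ⟨hYσ hu, ?_⟩
    rw [mem_centralizer_singleton]
    have h1 : y * u * y⁻¹ * u⁻¹ ∈ sigmaCore M := by
      have := mul_mem hy.1 (conj_mem_sigmaCore (hY.1 hu) (inv_mem hy.1))
      have e : y * (u * y⁻¹ * u⁻¹) = y * u * y⁻¹ * u⁻¹ := by group
      rwa [e] at this
    have h2 : y * u * y⁻¹ * u⁻¹ ∈ sigmaCore M1 :=
      mul_mem (conj_mem_sigmaCore (h.pre.Z_le_M1 (mem_sup_right hy)) (hYσ hu)) (inv_mem (hYσ hu))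
    have h4 : y * u * y⁻¹ * u⁻¹ ∈ sigmaCore M ⊓ sigmaCore M1 := Subgroup.mem_inf.mpr ⟨h1, h2⟩
    rw [sigmaCore_inf_eq_bot h.pre.sigma_disj1, mem_bot] at h4
    calc y * u = (y * u * y⁻¹ * u⁻¹) * (u * y) := by group
      _ = u * y := by rw [h4, one_mul]
  have e : Y = Kst M1 K1 := le_antisymm hYK hle
  rw [← e]
  exact hY

theorem M_inf_sigmaCore1 : M ⊓ sigmaCore M1 = Kst M1 K1 := by
  apply eq_of_piHall_le h.K1s_hall (le_inf h.K1s_le_M inf_le_left) inf_le_left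
  intro q hq hqd
  exact card_sigmaCore M1 q hq (hqd.trans (Subgroup.card_dvd_of_le inf_le_right))

theorem K_inf_sigmaCore1 : K ⊓ sigmaCore M1 = Kst M1 K1 := by
  apply le_antisymm
  · rw [← h.M_inf_sigmaCore1]
    exact inf_le_inf_right _ h.pre.c.K_le
  · exact le_inf h.K1s_le_K inf_le_left

/-- the good case: `K ≤ (M₁)_σ` gives the conclusion of S1366 for `M₁` -/
theorem of_K_le (hK : K ≤ sigmaCore M1) :
    K = sigmaCore M1 ⊓ centralizer ((Kst M K : Subgroup G) : Set G) ∧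
      IsPiHallOf (kappa M1) (Kst M K) M1 := by
  have hKKs : ∀ a ∈ K, ∀ b ∈ Kst M K, a * b = b * a :=
    fun a ha b hb => (mem_centralizer_iff.mp hb.2) a ha
  have hKK1s : K = Kst M1 K1 := by
    rw [← h.K_inf_sigmaCore1]
    exact (inf_eq_left.mpr hK).symm
  have hbot : K1 ⊓ sigmaCore M1 = ⊥ :=
    (Subgroup.disjoint_of_coprime_natCard h.half1.coprime_K_sigmaCore).eq_bot
  have hK1 : K1 = Kst M K := by
    apply le_antisymm _ h.hKsK1
    intro k1 hk1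
    have hk1Z : k1 ∈ K ⊔ Kst M K := by rw [h.Z_eq]; exact mem_sup_left hk1
    rw [mem_sup_iff_of_commute K (Kst M K) hKKs] at hk1Z
    obtain ⟨k, hk, y, hy, rfl⟩ := hk1Z
    have hkK1 : k ∈ K1 := by
      have := mul_mem hk1 (inv_mem (h.hKsK1 hy))
      rwa [mul_inv_cancel_right] at this
    have hk1' : k ∈ K1 ⊓ sigmaCore M1 := Subgroup.mem_inf.mpr ⟨hkK1, hK hk⟩
    rw [hbot, mem_bot] at hk1'
    rw [hk1', one_mul]
    exact hy
  rw [← hK1]
  exact ⟨hKK1s, h.hall1⟩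

theorem K_le_of_forall (hall : ∀ q : ℕ, q.Prime → q ∣ Nat.card K → q ∈ sigma M1) :
    K ≤ sigmaCore M1 := by
  have e : K = Kst M1 K1 := eq_of_piHall_le h.K1s_hall h.K1s_le_K h.pre.c.K_le hall
  rw [e]
  exact inf_le_left

theorem card_eq :
    Nat.card K1 * Nat.card ↥(Kst M1 K1) = Nat.card K * Nat.card ↥(Kst M K) := by
  rw [← h.half1.card_Z, ← h.pre.c.card_Z, h.Z_eq]

theorem not_prime_card_K1 {q : ℕ} (hq : q.Prime) (hqd : q ∣ Nat.card K) (hqσ : q ∉ sigma M1) :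
    ¬ (Nat.card K1).Prime := by
  intro hp
  have h1 : Nat.card ↥(Kst M K) ∣ Nat.card K1 := Subgroup.card_dvd_of_le h.hKsK1
  have h2 : Nat.card ↥(Kst M K) ≠ 1 := fun e => h.pre.c.Kst_ne_bot (Subgroup.card_eq_one.mp e)
  have h3 : Nat.card ↥(Kst M K) = Nat.card K1 := ((Nat.dvd_prime hp).mp h1).resolve_left h2
  have h4 := h.card_eq
  rw [h3, mul_comm (Nat.card K)] at h4
  have h5 : Nat.card ↥(Kst M1 K1) = Nat.card K := Nat.eq_of_mul_eq_mul_left Nat.card_pos h4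
  have h6 : Kst M1 K1 = K := Subgroup.eq_of_le_of_card_ge h.K1s_le_K h5.ge
  apply hqσ
  apply mem_sigma_of_dvd_card_Kst (H := M1) (K := K1) hq
  rw [h6]
  exact hqd

theorem not_prime_card_K {q : ℕ} (hq : q.Prime) (hqd : q ∣ Nat.card K) (hqσ : q ∉ sigma M1) :
    ¬ (Nat.card K).Prime := by
  intro hp
  have h1 : Nat.card X = Nat.card K :=
    (Nat.prime_dvd_prime_iff_eq h.pre.hXp hp).mp (Subgroup.card_dvd_of_le h.pre.hXK)
  have h2 : q = Nat.card K := (Nat.prime_dvd_prime_iff_eq hq hp).mp hqd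
  apply hqσ
  rw [h2, ← h1]
  exact h.pre.card_X_mem_sigma1

end Home

end Cfsg.Agent.Helper21.BG147a
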