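import Mathlib
import Cfsg.Agent.Lib.Helper21.BG147aB
import Cfsg.Agent.Lib.Helper19.BGKPrime

/-!
S1366 (BG Theorem 14.7 (a)), part C: the family of all homes, the polygon argument, existence and
uniqueness of the partner `M*`.
-/

set_option autoImplicit false

namespace Cfsg.Agent.Helper21.BG147a

open Cfsg Subgroup
open Cfsg.Agent.Helper10 (IsPiNum)
open Cfsg.Agent.Helper16.BG147
open Cfsg.Agent.Helper14.BG1369 (Half)

variable {G : Type*} [Group G] [Finite G]

/-- the generic counting statement over a finite family of type-P maximal subgroups sharing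
`Z = K_H × K_H*` (supplied separately) -/
def HypCount (G : Type*) [Group G] [Finite G] : Prop :=
  ∀ (S : Finset (Subgroup G)) (B : Subgroup G → Subgroup G) (Z : Subgroup G),
    (∀ H ∈ S, Half H (B H)) → (∀ H ∈ S, B H ⊔ Kst H (B H) = Z) →
    (∀ H ∈ S, ∀ H' ∈ S, H ≠ H' → ∀ p, p ∈ sigma H → p ∉ sigma H') →
    (∀ p : ℕ, p.Prime → p ∣ Nat.card Z → ∃ H ∈ S, p ∈ sigma H) →
    (∀ H ∈ S, Nat.card H = Nat.card (B H) * Nat.card ↥(sigmaCore H)) →
    S.card ≤ 1

/-- first clause of the frozen statement S1350 -/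
def St1350a (G : Type*) [Group G] [Finite G] : Prop :=
  ∀ M : Subgroup G, IsCoatom M → IsPiHallOf (sigma M) (sigmaCore M) M

/-- `H` is the home of some subgroup of prime order of `K`, with `B ≥ K*` a Hall
`κ(H)`-subgroup of `H` -/
def IsHome (M K H B : Subgroup G) : Prop := ∃ X : Subgroup G, Home M K X H B

open Classical in
/-- the chosen Hall `κ(H)`-subgroup for a member `H` of the family -/
noncomputable def famB (M K H : Subgroup G) : Subgroup G :=
  if H = M then K else if h : ∃ B, IsHome M K H B then Classical.choose h else ⊥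

open Classical in
/-- the family: `M` together with all homes -/
noncomputable def fam (M K : Subgroup G) : Finset (Subgroup G) :=
  (Set.toFinite {H : Subgroup G | H = M ∨ ∃ B, IsHome M K H B}).toFinset

theorem mem_fam {M K H : Subgroup G} : H ∈ fam M K ↔ H = M ∨ ∃ B, IsHome M K H B := by
  unfold fam
  rw [Set.Finite.mem_toFinset]
  rfl

theorem famB_self (M K : Subgroup G) : famB M K M = K := by
  unfold famB
  rw [if_pos rfl]

theorem isHome_famB {M K H : Subgroup G} (hne : H ≠ M) (h : ∃ B, IsHome M K H B) :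
    IsHome M K H (famB M K H) := by
  unfold famB
  rw [if_neg hne, dif_pos h]
  exact Classical.choose_spec h

/-- a maximal subgroup over `N_G(X)` -/
theorem exists_home_coatom {M K X : Subgroup G} (c : Half M K) (hXK : X ≤ K)
    (hXp : (Nat.card X).Prime) : ∃ M1 : Subgroup G, IsCoatom M1 ∧ normalizer (X : Set G) ≤ M1 := by
  rcases eq_top_or_exists_le_coatom (normalizer (X : Set G)) with htop | ⟨L, hL, hNL⟩
  swap
  · exact ⟨L, hL, hNL⟩
  exfalso
  have hn : X.Normal := Subgroup.normalizer_eq_top_iff.mp htop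
  haveI := c.hG.2.1
  rcases hn.eq_bot_or_eq_top with h1 | h1
  · rw [h1, Subgroup.card_bot] at hXp
    exact Nat.not_prime_one hXp
  · apply c.hH.1
    rw [eq_top_iff, ← h1]
    exact hXK.trans c.K_le

/-- every prime divisor of `#K` has a home in the family -/
theorem exists_home {M K : Subgroup G} (c : Half M K) (h32 : St1432 G)
    (h78 : St1378b G) {r : ℕ} (hr : r.Prime) (hrd : r ∣ Nat.card K) :
    ∃ X M1 K1 : Subgroup G, Home M K X M1 K1 ∧ Nat.card X = r := by
  haveI := Fact.mk hr
  obtain ⟨x0, hx0⟩ := exists_prime_orderOf_dvd_card' r hrd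
  have hXK : zpowers (x0 : G) ≤ K := by rw [zpowers_le]; exact x0.2
  have hXc : Nat.card (zpowers (x0 : G)) = r := by
    rw [Nat.card_zpowers, Subgroup.orderOf_coe, hx0]
  have hXp : (Nat.card (zpowers (x0 : G))).Prime := by rw [hXc]; exact hr
  obtain ⟨M1, hM1, hN⟩ := exists_home_coatom c hXK hXp
  have pre : Pre M K (zpowers (x0 : G)) M1 := ⟨c, h32, h78, hXK, hXp, hM1, hN⟩
  obtain ⟨K1, hall1, hKsK1⟩ := pre.exists_K1
  exact ⟨_, M1, K1, ⟨pre, hall1, hKsK1⟩, hXc⟩

/-- **Existence** in S1366, from the frozen statements S1430, S1431 (in `Half`), S1432,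
S1378, S1350 and the counting statement (no cyclicity of `K` is used). -/
theorem exists_partner {M K : Subgroup G} (c : Half M K) (h32 : St1432 G)
    (h78 : St1378b G) (h50 : St1350a G) (hcount : HypCount G) :
    ∃ Ms : Subgroup G, IsCoatom Ms ∧
      K = sigmaCore Ms ⊓ centralizer ((Kst M K : Subgroup G) : Set G) ∧
      IsPiHallOf (kappa Ms) (Kst M K) Ms := by
  obtain ⟨p, hp, hpK⟩ := Nat.exists_prime_and_dvd (n := Nat.card K)
    (fun e => c.hK1 (Subgroup.card_eq_one.mp e))
  obtain ⟨X, M1, K1, h0, hXc⟩ := exists_home c h32 h78 hp hpK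
  by_cases hK : K ≤ sigmaCore M1
  · exact ⟨M1, h0.pre.hM1, h0.of_K_le hK⟩
  · exfalso
    have hq : ∃ q : ℕ, q.Prime ∧ q ∣ Nat.card K ∧ q ∉ sigma M1 := by
      by_contra hcon
      push Not at hcon
      exact hK (h0.K_le_of_forall hcon)
    obtain ⟨q, hq, hqd, hqσ⟩ := hq
    have hMS : M ∈ fam M K := mem_fam.mpr (Or.inl rfl)
    have hM1S : M1 ∈ fam M K := mem_fam.mpr (Or.inr ⟨K1, X, h0⟩)
    have hmem : ∀ H ∈ fam M K, H ≠ M → ∃ X' : Subgroup G, Home M K X' H (famB M K H) := by
      intro H hH hne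
      rcases mem_fam.mp hH with h | h
      · exact absurd h hne
      · exact isHome_famB hne h
    have hhalf : ∀ H ∈ fam M K, Half H (famB M K H) := by
      intro H hH
      by_cases hne : H = M
      · subst hne
        rw [famB_self]
        exact c
      · obtain ⟨X', hH'⟩ := hmem H hH hne
        exact hH'.half1
    have hZ : ∀ H ∈ fam M K, famB M K H ⊔ Kst H (famB M K H) = K ⊔ Kst M K := by
      intro H hH
      by_cases hne : H = M
      · subst hne
        rw [famB_self]
      · obtain ⟨X', hH'⟩ := hmem H hH hne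
        exact hH'.Z_eq.symm
    have hdisj : ∀ H ∈ fam M K, ∀ H' ∈ fam M K, H ≠ H' → ∀ r, r ∈ sigma H → r ∉ sigma H' := by
      intro H hH H' hH' hne r hr hr'
      by_cases h1 : H = M
      · by_cases h2 : H' = M
        · exact hne (h1.trans h2.symm)
        · obtain ⟨X', hx⟩ := hmem H' hH' h2
          subst h1
          exact hx.pre.sigma_disj1 r hr hr'
      · obtain ⟨X', hx⟩ := hmem H hH h1
        by_cases h2 : H' = M
        · subst h2
          exact hx.pre.sigma_disj1 r hr' hr
        · obtain ⟨X'', hx'⟩ := hmem H' hH' h2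
          exact sigma_disj_of_le hx.half1 h78 hx'.pre.hM1 (Ne.symm hne) hx.X_le_K1s
            hx.pre.X_ne_bot ((hx.pre.hXK.trans le_sup_left).trans hx'.pre.Z_le_M1) r hr hr'
    have hcover : ∀ r : ℕ, r.Prime → r ∣ Nat.card ↥(K ⊔ Kst M K) → ∃ H ∈ fam M K, r ∈ sigma H := by
      intro r hr hrd
      rw [c.card_Z] at hrd
      rcases (Nat.Prime.dvd_mul hr).mp hrd with h | h
      · obtain ⟨X', M', K', hx, hXc'⟩ := exists_home c h32 h78 hr h
        refine ⟨M', mem_fam.mpr (Or.inr ⟨K', X', hx⟩), ?_⟩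
        rw [← hXc']
        exact hx.pre.card_X_mem_sigma1
      · exact ⟨M, hMS, mem_sigma_of_dvd_card_Kst hr h⟩
    have hpσ : p ∈ sigma M1 := by
      rw [← hXc]
      exact h0.pre.card_X_mem_sigma1
    have hP1 : ∀ H ∈ fam M K,
        Nat.card H = Nat.card (famB M K H) * Nat.card ↥(sigmaCore H) := by
      intro H hH
      have hc := hhalf H hH
      have h30 := hc.h30 H hc.hH (famB M K H) hc.hall hc.hK1
      rcases Cfsg.Agent.Helper19.BGKPrime.card_eq_or_prime_of_hall_kappa hc.hG hc.hH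
        (h50 H hc.hH) hc.hall hc.hK1 h30.1 h30.2.1 with h | h
      · exact h
      · exfalso
        by_cases hne : H = M
        · subst hne
          rw [famB_self] at h
          exact h0.not_prime_card_K hq hqd hqσ h
        · obtain ⟨X', hx⟩ := hmem H hH hne
          by_cases h1 : H = M1
          · subst h1
            exact hx.not_prime_card_K1 hq hqd hqσ h
          · exact hx.not_prime_card_K1 hp hpK
              (hdisj M1 hM1S H hH (Ne.symm h1) p hpσ) h
    have hle := hcount (fam M K) (famB M K) (K ⊔ Kst M K) hhalf hZ hdisj hcover hP1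
    have hlt : 1 < (fam M K).card :=
      Finset.one_lt_card.mpr ⟨M, hMS, M1, hM1S, h0.pre.M1_ne.symm⟩
    omega

/-- **Uniqueness** in S1366 -/
theorem partner_unique {M K : Subgroup G} (c : Half M K) (h78 : St1378b G) {M1 M2 : Subgroup G}
    (h1 : IsCoatom M1)
    (e1 : K = sigmaCore M1 ⊓ centralizer ((Kst M K : Subgroup G) : Set G))
    (H1 : IsPiHallOf (kappa M1) (Kst M K) M1)
    (h2 : IsCoatom M2)
    (e2 : K = sigmaCore M2 ⊓ centralizer ((Kst M K : Subgroup G) : Set G)) : M2 = M1 := by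
  by_contra hne
  have c1 : Half M1 (Kst M K) := ⟨c.hG, h1, H1, c.Kst_ne_bot, c.h30, c.h31⟩
  have hK1 : K ≤ Kst M1 (Kst M K) := e1.le
  have hKM2 : K ≤ M2 := by
    rw [e2]
    exact inf_le_left.trans (sigmaCore_le M2)
  have hd := sigma_disj_of_le c1 h78 h2 hne hK1 c.hK1 hKM2
  obtain ⟨p, hp, hpK⟩ := Nat.exists_prime_and_dvd (n := Nat.card K)
    (fun e => c.hK1 (Subgroup.card_eq_one.mp e))
  have hp1 : p ∈ sigma M1 := by
    apply card_sigmaCore M1 p hp
    apply hpK.trans
    apply Subgroup.card_dvd_of_le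
    rw [e1]
    exact inf_le_left
  have hp2 : p ∈ sigma M2 := by
    apply card_sigmaCore M2 p hp
    apply hpK.trans
    apply Subgroup.card_dvd_of_le
    rw [e2]
    exact inf_le_left
  exact hd p hp1 hp2

/-- the frozen statement S1366 from the frozen statements S1430, S1431, S1432,
S1378 (2nd half), S1350 (1st clause) and the counting statement -/
theorem main66 (hG : Cfsg.IsMinSimpleOddOrder G)
    (h30 : St1430 G) (h31 : St1431 G) (h32 : St1432 G) (h78 : St1378b G)
    (h50 : St1350a G) (hcount : HypCount G)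
    (M : Subgroup G) (hM : IsCoatom M) (K U : Subgroup G) (hKU : Cfsg.IsSigmaDecomposition M K U) (hK1 : K ≠ ⊥) :
    ∃! Mstar : Subgroup G, IsCoatom Mstar ∧ K = Cfsg.sigmaCore Mstar ⊓ Subgroup.centralizer ((Cfsg.sigmaCore M ⊓ Subgroup.centralizer (K : Set G)) : Set G) ∧
        Cfsg.IsPiHallOf (Cfsg.kappa Mstar) (Cfsg.sigmaCore M ⊓ Subgroup.centralizer (K : Set G)) Mstar := by
  have c : Half M K := ⟨hG, hM, hKU.hall, hK1, h30, h31⟩
  obtain ⟨Ms, h1, h2, h3⟩ := exists_partner c h32 h78 h50 hcount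
  refine ⟨Ms, ⟨h1, h2, h3⟩, ?_⟩
  rintro M2 ⟨g1, g2, -⟩
  exact partner_unique c h78 h1 h2 h3 g1 g2

end Cfsg.Agent.Helper21.BG147a
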