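import Mathlib
import Cfsg.Prelude.Def_Blocks
import Cfsg.Agent.Lib.Helper21.BHDefs
import Cfsg.Agent.Lib.Helper5.BTADAPT2
import Cfsg.Agent.Lib.Helper24.BHHNUM
import Cfsg.Agent.Lib.Helper24.BHTSUM
import Cfsg.Agent.Lib.Helper22.BHMOMENT
import Cfsg.Agent.Lib.Helper7.BHQUOTA
import Cfsg.Agent.Lib.Helper15.BHQUOTB
import Cfsg.Agent.Lib.Helper19.BHDEFL
import Cfsg.Agent.Lib.Helper27.BHINEQ

/-!
# S4504: assembly of the bound `|G : N_G(P)| = p + 1` (helper21)

Pieces: QUOTA (helper7), QUOTB (helper15), DEFL + GDELTA (helper19), NUM + HNUM + TSUM (helper24), MOMENT (helper22),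
FIBER (lead), GSIDEA + GSIDEB + INEQ (helper27).  See `plans/S4504_proof.md`.
-/

set_option autoImplicit false
set_option linter.unusedSectionVars false
set_option linter.unusedVariables false

namespace Cfsg.Agent.Helper21.BH

open scoped ComplexConjugate
open Cfsg Cfsg.Agent.Helper24 Cfsg.Agent.Helper10.BR996 Cfsg.Agent.Helper21.BT

universe u

section BoundAsm

variable {G : Type u} [Group G] [Fintype G] [Fintype (IrrCharacter G)]
  [Fintype (Subgroup.center G)]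
variable {H : Type u} [Group H] [Fintype H] [Fintype (IrrCharacter H)]
variable {p : ℕ} [Fact p.Prime] {P : Sylow p G} {w : ℕ} {ζ ζ' : IrrCharacter G} {z₁ z₂ : G}
variable (π : G →* H)

local notation "𝒩" => Subgroup.normalizer ((P : Subgroup G) : Set G)

/-- ASSEMBLY: the bound. -/
theorem bound (hπ : Function.Surjective π) (hker : π.ker = Subgroup.center G)
    (C : Cfg p P w ζ ζ' z₁ z₂) (hperf : commutator G = ⊤) (hnn : ¬ (P : Subgroup G).Normal) :
    (𝒩).index = p + 1 := by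
  classical
  have hpp : p.Prime := Fact.out
  have hpw := C.hpw
  have hw := C.hw
  have hcard := quot_card π hπ hker C
  have hcent := quot_cent π hπ hker C
  have hrel := quot_relIndex π hπ hker C
  have hidx := quot_index π hπ hker C
  have hperfH : commutator H = ⊤ := quot_perfect π hπ hperf
  have hp2 : p ≠ 2 := by omega
  obtain ⟨D0⟩ := exists_btData p ((P : Subgroup G).map π) hp2 hcard hcent
  rw [hrel] at D0
  have ht : 2 ≤ (p - 1) / w := by
    have h1 : p - 1 = 2 * w := by omega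
    rw [h1, Nat.mul_div_cancel _ (by omega : 0 < w)]
  set t := (p - 1) / w with htdef
  have D : BTData p ((P : Subgroup G).map π) w t := D0
  obtain ⟨Ξ, Ξ', hΞ, hΞ', hΞv, hΞ'v⟩ := exists_defl π hπ hker C
  set η₁ := (ζ : G → ℂ) z₁ with hη₁
  set η₂ := (ζ : G → ℂ) z₂ with hη₂
  have hw0 : (w : ℂ) ≠ 0 := by
    have : 0 < w := by omega
    exact_mod_cast this.ne'
  -- values at the identity
  have hζ1 : (ζ : G → ℂ) 1 = (w : ℂ) := by
    rw [irr_one_eq_charDegree ζ.2, C.hdeg]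
  have hζ'1 : (ζ' : G → ℂ) 1 = (w : ℂ) := by
    rw [C.hreg 1 (by rw [orderOf_one]; exact hpp.not_dvd_one), hζ1]
  have hΞ1 : Ξ 1 = (w : ℂ) ^ 2 := by
    have := hΞv 1
    rw [map_one, hζ1] at this
    rw [this]
    simp [pow_two]
  have hΞ'1 : Ξ' 1 = (w : ℂ) ^ 2 := by
    have := hΞ'v 1
    rw [map_one, hζ1, hζ'1] at this
    rw [this]
    simp [pow_two]
  -- regular elements
  have hregH : ∀ g : H, ¬ p ∣ orderOf g → Ξ' g = Ξ g := by
    intro g hg
    obtain ⟨x, rfl⟩ := hπ g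
    have hx : ¬ p ∣ orderOf x := fun h => hg ((quot_reg π hπ hker C x).2 h)
    rw [hΞv, hΞ'v, C.hreg x hx]
  -- the cross term
  have hcross : η₁ * conj η₂ + η₂ * conj η₁ = -(w : ℂ) := by
    have h1 : (η₁ + η₂) * conj (η₁ + η₂) = 1 := by
      rw [C.hneg]
      simp
    have h2 := C.hnorm
    rw [map_add] at h1
    linear_combination h1 - h2
  have hsumQ := quot_sum π hπ hker C
  have hd1 : dsum ((P : Subgroup G).map π) Ξ = (w : ℂ) * ((w : ℂ) + 1) := by
    rw [hsumQ Ξ (isClassFunction_of_isCharacter hΞ), hΞv, hΞv, C.hnorm]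
  have hd2 : dsum ((P : Subgroup G).map π) Ξ' = -(w : ℂ) ^ 2 := by
    rw [hsumQ Ξ' (isClassFunction_of_isCharacter hΞ'), hΞ'v, hΞ'v, C.hswap₁, C.hswap₂, hcross]
    ring
  obtain ⟨m1, m2, hm1, hm2, hnum⟩ :=
    hnum hcard hcent hperfH hpw hw hrel D ht hΞ hΞ' hregH hΞ1 hΞ'1 hd1 hd2
  -- the images of `z₁`, `z₂`
  have hy₁ : π z₁ ∈ (P : Subgroup G).map π := Subgroup.mem_map_of_mem π C.hz₁
  have hy₂ : π z₂ ∈ (P : Subgroup G).map π := Subgroup.mem_map_of_mem π C.hz₂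
  have hZp : ∀ z : G, z ∈ (P : Subgroup G) → z ≠ 1 → π z ≠ 1 := by
    intro z hz hz1 h
    have hzo : orderOf z = p := by
      have h1 : orderOf z ∣ p := by
        have := orderOf_dvd_natCard (⟨z, hz⟩ : (P : Subgroup G))
        rw [show Nat.card (P : Subgroup G) = p from C.hP] at this
        rwa [Subgroup.orderOf_mk] at this
      rcases (Nat.dvd_prime hpp).1 h1 with h2 | h2
      · exact absurd (orderOf_eq_one_iff.1 h2) hz1
      · exact h2
    have h1 : ¬ p ∣ orderOf (π z) := by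
      rw [h, orderOf_one]
      exact hpp.not_dvd_one
    exact h1 ((quot_reg π hπ hker C z).2 (by rw [hzo]))
  have hy₁1 : π z₁ ≠ 1 := hZp z₁ C.hz₁ C.hz₁1
  have hy₂1 : π z₂ ≠ 1 := hZp z₂ C.hz₂ C.hz₂1
  -- the class multiplication constants
  have hreal : ∀ g : H, conj (Ξ g) = Ξ g := by
    intro g
    obtain ⟨x, rfl⟩ := hπ g
    rw [hΞv, map_mul, Complex.conj_conj, mul_comm]
  have hT : ∀ g : H, ¬ p ∣ orderOf g →
      ∑ φ : IrrCharacter H, (φ : H → ℂ) (π z₁) * ((φ : H → ℂ) (π z₁) + (φ : H → ℂ) (π z₂)) *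
          conj ((φ : H → ℂ) g) / (φ : H → ℂ) 1 =
        (p : ℂ) * ((w : ℂ) + Ξ g) / ((w : ℂ) * ((w : ℂ) + 1)) := fun g hg =>
    tsum hcard hcent hpw hw D ht hy₁ hy₂ hy₁1 hy₂1 hsumQ hΞ hΞ' hm1 hm2 hnum g hg (hreal g)
      (hregH g hg)
  have hle : ∀ g : H, ¬ p ∣ orderOf g → g ≠ 1 → ∃ r : ℝ, Ξ g = (r : ℂ) ∧ 0 ≤ r ∧ r ≤ 1 := by
    intro g hg hg1
    obtain ⟨x, rfl⟩ := hπ g
    have hx : ¬ p ∣ orderOf x := fun h => hg ((quot_reg π hπ hker C x).2 h)
    have hxZ : x ∉ Subgroup.center G := by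
      intro h
      apply hg1
      rw [← hker] at h
      exact h
    obtain ⟨r, hr, hr0, hr1⟩ := ineq π hπ hker C Ξ hΞv hT x hx hxZ
    exact ⟨r, by rw [hΞv, hr], hr0, hr1⟩
  have hmom := moment hcard hcent hpw hw hrel D ht hy₁ hy₂ hy₁1 hy₂1 hsumQ hΞ hΞ' hm1 hm2 hnum hregH
    hΞ1 η₁ η₂ (hΞv z₁) (hΞv z₂) (by rw [hΞ'v, C.hswap₁]) (by rw [hΞ'v, C.hswap₂]) C.hnorm hle
  rw [hidx] at hmom
  -- Sylow
  have hsyl : Nat.card (Sylow p G) = (𝒩).index := Sylow.card_eq_index_normalizer P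
  have hmod : Nat.card (Sylow p G) ≡ 1 [MOD p] := card_sylow_modEq_one p G
  have hne1 : (𝒩).index ≠ 1 := by
    intro h
    apply hnn
    rw [Subgroup.index_eq_one] at h
    exact Subgroup.normalizer_eq_top_iff.mp h
  rw [hsyl] at hmod
  have hpos : 0 < (𝒩).index := Nat.pos_of_ne_zero Subgroup.index_ne_zero_of_finite
  have h1 := (Nat.modEq_iff_dvd' hpos).1 hmod.symm
  obtain ⟨k, hk⟩ := h1
  have hk0 : k ≠ 0 := by
    rintro rfl
    omega
  have hk1 : k = 1 := by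
    by_contra hne
    have : 2 ≤ k := by omega
    have : p * 2 ≤ p * k := Nat.mul_le_mul_left p this
    have := hpp.two_le
    omega
  rw [hk1, mul_one] at hk
  omega

end BoundAsm

end Cfsg.Agent.Helper21.BH
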