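import Mathlib
import Cfsg.Prelude.Def_Blocks
import Cfsg.Agent.Lib.Helper24.CharLinear
import Cfsg.Agent.Lib.Helper24.CharInduced
import Cfsg.Agent.Lib.Helper24.CharComplete
import Cfsg.Agent.Lib.Helper10.BR996Defs
import Cfsg.Agent.Lib.Helper6.BR996GA
import Cfsg.Agent.Lib.Helper6.BR996P9
import Cfsg.Agent.Lib.Helper6.BR996ENDF

/-!
# S4504, PIECE ENDZ: `Cfsg.Agent.Helper10.BR996.endF` (helper6, Lib/Helper6/BR996ENDF.lean) keeping `ZMod p`
-/

set_option autoImplicit false
set_option linter.unusedSectionVars false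
set_option linter.unusedVariables false
set_option linter.style.haveILetI false

namespace Cfsg.Agent.Helper21.BH

open scoped ComplexConjugate
open Cfsg Cfsg.Agent.Helper24 Cfsg.Agent.Helper10.BR996

universe u

variable {H : Type u} [Group H] [Fintype H] [Fintype (IrrCharacter H)]
variable {p : ℕ} [Fact p.Prime] {Q : Subgroup H}

/-- PIECE ENDZ. -/
theorem endZ (hcard : Nat.card Q = p) (hcent : Subgroup.centralizer (Q : Set H) ≤ Q)
    (hperf : commutator H = ⊤) (hidx : (Subgroup.normalizer (Q : Set H)).index = 1 + p)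
    (hw : Q.relIndex (Subgroup.normalizer (Q : Set H)) < p - 1) :
    Nonempty (H ≃* Matrix.ProjectiveSpecialLinearGroup (Fin 2) (ZMod p)) := by
  have hp : p.Prime := Fact.out
  have hnn : (Subgroup.normalizer (Q : Set H)).index ≠ 1 := by
    rw [hidx]; have := hp.pos; omega
  have hcore := core_normalizer_eq_bot p Q hcard hcent hnn
  haveI : FaithfulSMul H (H ⧸ Subgroup.normalizer (Q : Set H)) := by
    constructor
    intro g₁ g₂ h
    have hker : (MulAction.toPermHom H (H ⧸ Subgroup.normalizer (Q : Set H))).ker = ⊥ := by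
      rw [← Subgroup.normalCore_eq_ker]; exact hcore
    have hinj := (MonoidHom.ker_eq_bot_iff _).mp hker
    apply hinj
    apply Equiv.ext
    intro a
    exact h a
  have hΩ : Nat.card (H ⧸ Subgroup.normalizer (Q : Set H)) = p + 1 := by
    rw [← Subgroup.index_eq_card, hidx, add_comm]
  have hG : Nat.card H = (p + 1) * p * Q.relIndex (Subgroup.normalizer (Q : Set H)) := by
    rw [card_eq p Q hcard, hidx]; ring
  have hw2 := two_le_relIndex p Q hcard hcent hperf
  obtain ⟨h2w, ⟨e⟩⟩ := Cfsg.Agent.Helper6.BR996.psl2p_of_n_eq_one hperf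
    (Ω := H ⧸ Subgroup.normalizer (Q : Set H)) p
    (Q.relIndex (Subgroup.normalizer (Q : Set H))) hp hΩ hG (by omega) (by omega)
  exact ⟨e⟩

end Cfsg.Agent.Helper21.BH
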