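import Mathlib
import Cfsg.Prelude.Def_Blocks
import Cfsg.Agent.Lib.Helper24.CharLinear
import Cfsg.Agent.Lib.Helper24.CharOrtho
import Cfsg.Agent.Lib.Helper5.TLDDefs
import Cfsg.Agent.Lib.Helper12.TLGEXTPOW
import Cfsg.Agent.Lib.Helper12.TLGPOWCHAR
import Cfsg.Agent.Lib.Helper18.PConjCount
import Cfsg.Agent.Lib.Helper18.TLGGALVAL
import Cfsg.Agent.Lib.Helper14.BRBGALIRR
import Cfsg.Agent.Lib.Helper17.BRBPARTNER

/-!
# S4504 PIECE PARTNER2: `Cfsg.Agent.Helper14.BRB.exists_partner` (helper17, Lib/Helper17/BRBPARTNER.lean) keeping the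
exponent `u`: `ζ'(a) = ζ(a ^ u)` on `P`
-/

set_option autoImplicit false
set_option linter.unusedSectionVars false
set_option linter.unusedVariables false

namespace Cfsg.Agent.Helper21.BH

open scoped ComplexConjugate
open Cfsg Cfsg.Agent.Helper24 Cfsg.Agent.Helper5.TLD Cfsg.Agent.Helper14.BRB

universe u

variable {G : Type u} [Group G] [Fintype G] (p : ℕ) [Fact p.Prime]

variable (P : Sylow p G)

/-- PIECE PARTNER2. -/
theorem exists_partner2 (hP : Nat.card P = p) (f : ℕ) (hf1 : f < p - 1)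
    (ν : MulAut (P : Subgroup G)) (hνf : ν ^ f = 1)
    (ζ : IrrCharacter G) (ψ : IrrCharacter (P : Subgroup G)) (m : ℕ)
    (hψ : ψ ≠ principalChar _)
    (hζ : ∀ a : (P : Subgroup G), (ζ : G → ℂ) (a : G) =
      (m : ℂ) * ∑ k ∈ Finset.range f, (ψ : ↥(P : Subgroup G) → ℂ) ((ν ^ k) a)) :
    ∃ (ζ' : IrrCharacter G) (u : ℕ), 1 ≤ u ∧ u < p ∧
      (∀ g : G, ¬ p ∣ orderOf g → (ζ' : G → ℂ) g = (ζ : G → ℂ) g) ∧
      ∑ᶠ a : (P : Subgroup G), (ζ : G → ℂ) (a : G) * conj ((ζ' : G → ℂ) (a : G)) = 0 ∧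
      ∀ a : G, a ∈ (P : Subgroup G) → (ζ' : G → ℂ) a = (ζ : G → ℂ) (a ^ u) := by
  classical
  have hp : p.Prime := Fact.out
  haveI : Fintype (P : Subgroup G) := Fintype.ofFinite _
  obtain ⟨u, hu1, hup, a₀, hu⟩ := partner_exists_u p hP ψ hψ ν f hf1
  obtain ⟨ψ₁, hψ₁, hpow⟩ := Cfsg.Agent.Helper5.TLG.exists_powChar p hP ψ hψ u hu1 hup
  have hG0 : Nat.card G ≠ 0 := Nat.card_pos.ne'
  have hm0 : 0 < Nat.card G / p ^ (Nat.card G).factorization p := Nat.ordCompl_pos p hG0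
  have hpm : ¬ p ∣ Nat.card G / p ^ (Nat.card G).factorization p := Nat.not_dvd_ordCompl hp hG0
  obtain ⟨σ, hσm, hσp⟩ := Cfsg.Agent.Helper5.TLG.exists_ringEquiv_pow p _ hm0 hpm u hu1 hup
  have hprim := Complex.isPrimitiveRoot_exp (Nat.card G / p ^ (Nat.card G).factorization p) hm0.ne'
  -- values of `ζ'` on `P`
  have hζ' : ∀ a : (P : Subgroup G), σ ((ζ : G → ℂ) (a : G)) =
      (m : ℂ) * ∑ k ∈ Finset.range f, (ψ₁ : ↥(P : Subgroup G) → ℂ) ((ν ^ k) a) := by
    intro a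
    rw [hζ a, map_mul, map_natCast, map_sum]
    congr 1
    refine Finset.sum_congr rfl fun k _ => ?_
    rw [hσp _ (Cfsg.Agent.Helper5.TLG.irr_pow_card p hP ψ _), hpow]
  obtain ⟨F, hF⟩ := Cfsg.Agent.Helper5.TLG.powchar_hom p hP ψ
  have hψpow : ∀ c : (P : Subgroup G), (ψ : ↥(P : Subgroup G) → ℂ) (c ^ u) =
      ((ψ : ↥(P : Subgroup G) → ℂ) c) ^ u := by
    intro c
    rw [← hF, ← hF, map_pow, Units.val_pow_eq_pow_val]
  refine ⟨⟨fun g => σ ((ζ : G → ℂ) g), isIrrCharacter_ringEquiv σ ζ.2⟩, u, hu1, hup, ?_, ?_, ?_⟩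
  · intro g hg
    exact Cfsg.Agent.Helper18.PConj.map_char_eq_of_pow_eq_one (isCharacter_of_isIrrCharacter ζ.2) σ
      hm0 hprim (hσm _ hprim.pow_eq_one) (Cfsg.Agent.Helper5.TLG.galval_pow_eq_one p g hg)
  · rw [finsum_eq_sum_of_fintype]
    -- orthogonality of the twists
    have horth : ∀ k ∈ Finset.range f, ∀ k' ∈ Finset.range f,
        ∑ a : (P : Subgroup G), (ψ : ↥(P : Subgroup G) → ℂ) ((ν ^ k) a) *
          conj ((ψ₁ : ↥(P : Subgroup G) → ℂ) ((ν ^ k') a)) = 0 := by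
      intro k hk k' hk'
      rw [Finset.mem_range] at hk hk'
      have hf0 : 0 < f := by omega
      set j := (k + (f - k')) % f with hj
      have hjf : j < f := Nat.mod_lt _ hf0
      have hjk : ν ^ j * ν ^ k' = ν ^ k := by
        rw [← pow_add, partner_pow_mod ν f hνf (j + k'), hj, Nat.mod_add_mod]
        have : k + (f - k') + k' = k + f := by omega
        rw [this, Nat.add_mod_right, Nat.mod_eq_of_lt hk]
      obtain ⟨φ, hφ⟩ := partner_twist p hP ψ (ν ^ j)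
      have hne : φ ≠ ψ₁ := by
        intro h
        apply hu j hjf
        rw [← hφ a₀, h, hpow]
      have h0 := partner_sum_eq_zero φ ψ₁ hne
      rw [← Equiv.sum_comp (ν ^ k').toEquiv] at h0
      rw [← h0]
      refine Finset.sum_congr rfl fun a _ => ?_
      rw [hφ]
      show _ = (ψ : ↥(P : Subgroup G) → ℂ) ((ν ^ j) ((ν ^ k') a)) * _
      rw [← MulAut.mul_apply, hjk]
      rfl
    calc ∑ a : (P : Subgroup G), (ζ : G → ℂ) (a : G) * conj (σ ((ζ : G → ℂ) (a : G)))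
        = ∑ a : (P : Subgroup G), ∑ k ∈ Finset.range f, ∑ k' ∈ Finset.range f,
            (m : ℂ) * (m : ℂ) * ((ψ : ↥(P : Subgroup G) → ℂ) ((ν ^ k) a) *
              conj ((ψ₁ : ↥(P : Subgroup G) → ℂ) ((ν ^ k') a))) := by
          refine Finset.sum_congr rfl fun a _ => ?_
          rw [hζ' a, hζ a, map_mul, map_natCast, map_sum, mul_mul_mul_comm, Finset.sum_mul_sum,
            Finset.mul_sum]
          refine Finset.sum_congr rfl fun k _ => ?_
          rw [Finset.mul_sum]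
      _ = ∑ k ∈ Finset.range f, ∑ k' ∈ Finset.range f, (m : ℂ) * (m : ℂ) *
            ∑ a : (P : Subgroup G), ((ψ : ↥(P : Subgroup G) → ℂ) ((ν ^ k) a) *
              conj ((ψ₁ : ↥(P : Subgroup G) → ℂ) ((ν ^ k') a))) := by
          rw [Finset.sum_comm]
          refine Finset.sum_congr rfl fun k _ => ?_
          rw [Finset.sum_comm]
          refine Finset.sum_congr rfl fun k' _ => ?_
          rw [Finset.mul_sum]
      _ = 0 := by
          refine Finset.sum_eq_zero fun k hk => Finset.sum_eq_zero fun k' hk' => ?_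
          rw [horth k hk k' hk', mul_zero]
  · intro a ha
    show σ ((ζ : G → ℂ) a) = (ζ : G → ℂ) (a ^ u)
    have h1 := hζ' ⟨a, ha⟩
    have h2 := hζ (⟨a, ha⟩ ^ u)
    rw [Subgroup.coe_pow] at h2
    simp only at h1 h2
    rw [h1, h2]
    congr 1
    refine Finset.sum_congr rfl fun k _ => ?_
    rw [hpow, map_pow, hψpow]

end Cfsg.Agent.Helper21.BH
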