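import Mathlib
import Cfsg.Prelude.Def_Blocks
import Cfsg.Agent.Lib.Helper21.BHDefs
import Cfsg.Agent.Lib.Helper21.BHBoundAsm
import Cfsg.Agent.Lib.Helper14.BRBAsm
import Cfsg.Agent.Lib.Helper14.BHTHAB
import Cfsg.Agent.Lib.Helper14.BHIRR
import Cfsg.Agent.Lib.Helper14.BHRCENT
import Cfsg.Agent.Lib.Helper21.BHPARTNER2
import Cfsg.Agent.Lib.Helper21.BHVCENT2
import Cfsg.Agent.Lib.Helper21.BHENDZ
import Cfsg.Agent.Lib.Helper5.BHPLOCAL
import Cfsg.Agent.Lib.Helper23.BHSMALL
import Cfsg.Agent.Lib.Helper23.BHLSETUP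
import Cfsg.Agent.Lib.Helper23.BHSCHUR
import Cfsg.Agent.Lib.Helper25.BHPERF
import Cfsg.Agent.Lib.Helper25.BHSTEP6
import Cfsg.Agent.Lib.Helper25.BHISO

/-!
# S4504: final assembly (helper21): `chain` (Steps A-D at the boundary), `core` (the case `G = ⟨P^G⟩`), `main`

Pieces: THANUMB (helper4), THAB + IRR + RCENT (helper14), PARTNER2 + VCENT2 + ENDZ (helper21), PLOCAL (helper5),
SMALL + LSETUP + SCHUR (helper23), PERF + STEP6 + ISO (helper25).  See `plans/S4504_proof.md`.
-/

set_option autoImplicit false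
set_option linter.unusedSectionVars false
set_option linter.unusedVariables false
set_option linter.style.haveILetI false

namespace Cfsg.Agent.Helper21.BH

open scoped ComplexConjugate
open Cfsg Cfsg.Agent.Helper24 Cfsg.Agent.Helper10.BR996 Cfsg.Agent.Helper21.BT

universe u

section ChainAsm

variable {G : Type u} [Group G] [Fintype G] (p : ℕ) [Fact p.Prime] (P : Sylow p G)

local notation "𝒞" => Subgroup.centralizer ((P : Subgroup G) : Set G)
local notation "𝒩" => Subgroup.normalizer ((P : Subgroup G) : Set G)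

/-- ASSEMBLY: Steps A-D at the boundary. -/
theorem chain (hP : Nat.card P = p) (w : ℕ) (hpw : 2 * w + 1 = p)
    (hnn : ¬ (P : Subgroup G).Normal)
    (hR4 : ∀ K : Subgroup G, K.Normal → ¬ (P : Subgroup G) ≤ K → K ≤ Subgroup.center G)
    (ζ : IrrCharacter G) (hdeg : charDegree (ζ : G → ℂ) = w)
    (hfaith : ∀ g : G, (ζ : G → ℂ) g = (ζ : G → ℂ) 1 → g = 1) :
    ∃ (ζ' : IrrCharacter G) (z₁ z₂ : G), Cfg p P w ζ ζ' z₁ z₂ := by
  classical
  have hpp : p.Prime := Fact.out
  obtain ⟨M, hM⟩ := Cfsg.Agent.Helper24.Glaub.exists_isPModular hpp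
  have hCN : 𝒞 ≤ 𝒩 := Subgroup.centralizer_le_normalizer _
  obtain ⟨ν, hνf, hfpf, hν3, hν4⟩ :=
    Cfsg.Agent.Helper5.TLD.exists_T_package p P hP 𝒩 hCN le_rfl _ rfl
  set f := (𝒞).relIndex 𝒩 with hf
  -- a nonidentity element of `P`
  have hP1 : ∃ x ∈ (P : Subgroup G), x ≠ 1 := by
    by_contra hne
    push Not at hne
    have : (P : Subgroup G) = ⊥ := (Subgroup.eq_bot_iff_forall _).2 hne
    have h1 : Nat.card (P : Subgroup G) = 1 := by rw [this]; exact Subgroup.card_bot
    have h2 : Nat.card (P : Subgroup G) = p := hP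
    have := hpp.one_lt
    omega
  obtain ⟨x, hxP, hx1⟩ := hP1
  have hker : ∃ x ∈ (P : Subgroup G), (ζ : G → ℂ) x ≠ (ζ : G → ℂ) 1 :=
    ⟨x, hxP, fun h => hx1 (hfaith x h)⟩
  obtain ⟨ψ, m, hψ, hm, hζ, hm1⟩ :=
    restrict_structure_bdry p P M hM hP f hf.symm ν hνf hfpf hν3 hν4 ζ (by omega) hker
  have hPcomm : ∀ a b : (P : Subgroup G), a * b = b * a := by
    intro a b
    haveI : IsCyclic (P : Subgroup G) := isCyclic_of_prime_card hP
    exact IsCyclic.commGroup.mul_comm a b
  have hψ1 : (ψ : ↥(P : Subgroup G) → ℂ) 1 = 1 := by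
    haveI : Fintype (P : Subgroup G) := Fintype.ofFinite _
    letI : Fintype (IrrCharacter (P : Subgroup G)) := irrFintype
    rw [irr_one_eq_charDegree ψ.2, charDegree_eq_one_of_comm hPcomm ψ.2]
    simp
  have hn : charDegree (ζ : G → ℂ) = m * f := by
    have h1 := hζ 1
    simp only [map_one, Subgroup.coe_one, hψ1, Finset.sum_const, Finset.card_range,
      nsmul_eq_mul, mul_one] at h1
    rw [irr_one_eq_charDegree ζ.2] at h1
    exact_mod_cast h1
  have hw0 : 0 < w := by
    rcases Nat.eq_zero_or_pos w with h | h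
    · have := hpp.one_lt
      omega
    · exact h
  have hf0 : 0 < f := by
    rcases Nat.eq_zero_or_pos f with h | h
    · rw [hdeg, h, mul_zero] at hn
      omega
    · exact h
  have hfle : f ≤ m * f := Nat.le_mul_of_pos_left f hm
  have hf1 : f < p - 1 := by omega
  obtain ⟨ζ', u, hu1, hup, hreg, hdisj, hpow⟩ := exists_partner2 p P hP f hf1 ν hνf ζ ψ m hψ hζ
  have hK : ∀ χ : IrrCharacter G, χ ∈ principalBlock M G →
      ∑ᶠ a : (P : Subgroup G), (χ : G → ℂ) (a : G) = 0 →
      ∀ v ∈ 𝒞, ¬ p ∣ orderOf v → (χ : G → ℂ) v = (χ : G → ℂ) 1 := by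
    intro χ hχ hfix v hv hvp
    haveI : Fintype (P : Subgroup G) := Fintype.ofFinite _
    rw [finsum_eq_sum_of_fintype] at hfix
    exact Cfsg.Agent.Helper12.BRC.kernel_trick p M hM P hP χ hχ hfix v hv hvp
  have hV : ∀ v ∈ 𝒞, ¬ p ∣ orderOf v → v ∈ Subgroup.center G :=
    fun v hv hvp => pcore_central2 p P M hM hP hR4 hK ζ ζ' hreg hdisj v hv hvp
  have hCcomm : ∀ c ∈ 𝒞, ∀ c' ∈ 𝒞, c * c' = c' * c := by
    obtain ⟨K, n₀, hK1, -, -, hdec, -, -⟩ := Cfsg.Agent.Helper5.TL.exists_pcore p P hP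
    intro c hc c' hc'
    obtain ⟨u, k, hu, hk, rfl⟩ := hdec c (fun u hu => ((Subgroup.mem_centralizer_iff.1 hc) u hu).symm)
    obtain ⟨u', k', hu', hk', rfl⟩ :=
      hdec c' (fun u hu => ((Subgroup.mem_centralizer_iff.1 hc') u hu).symm)
    have hkc : k ∈ Subgroup.center G := hV k ((hK1 k).1 hk).1 ((hK1 k).1 hk).2
    have hkc' : k' ∈ Subgroup.center G := hV k' ((hK1 k').1 hk').1 ((hK1 k').1 hk').2
    have huu : u * u' = u' * u := congrArg Subtype.val (hPcomm ⟨u, hu⟩ ⟨u', hu'⟩)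
    rw [Subgroup.mem_center_iff] at hkc hkc'
    calc u * k * (u' * k') = u * (k * u') * k' := by group
      _ = u * (u' * k) * k' := by rw [hkc u']
      _ = (u * u') * (k * k') := by group
      _ = (u' * u) * (k' * k) := by rw [huu, hkc' k]
      _ = u' * (u * k') * k := by group
      _ = u' * (k' * u) * k := by rw [hkc' u]
      _ = u' * k' * (u * k) := by group
  have hm1' : m = 1 := hm1 hCcomm
  rw [hm1', one_mul] at hn
  have hfw : f = w := by rw [← hn, hdeg]
  -- `2 ≤ w`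
  have hw2 : 2 ≤ w := by
    by_contra hlt
    have hw1 : w = 1 := by omega
    apply hnn
    have hcomm := comm_of_faithful_linear ζ (by rw [hdeg, hw1]) hfaith
    constructor
    intro a ha g
    have : g * a * g⁻¹ = a := by rw [hcomm g a, mul_assoc, mul_inv_cancel, mul_one]
    rw [this]
    exact ha
  have hζ' : ∀ a : (P : Subgroup G), (ζ : G → ℂ) (a : G) =
      ∑ k ∈ Finset.range w, (ψ : ↥(P : Subgroup G) → ℂ) ((ν ^ k) a) := by
    intro a
    rw [hζ a, hm1', hfw]
    simp
  obtain ⟨z₁, z₂, hz₁, hz₂, hz₁1, hz₂1, hsumP, hs1, hs2, hneg, hnorm⟩ :=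
    plocal p P hP w hpw hw0 ν (hfw ▸ hνf) (hfw ▸ hfpf) hν4 ζ ζ' ψ hψ hζ' u hu1 hup hpow hdisj
  exact ⟨ζ', z₁, z₂,
    { hP := hP
      hpw := hpw
      hw := hw2
      hZ := not_dvd_card_center p P hP hnn
      hV := hV
      hf := hfw
      hdeg := hdeg
      hfaith := hfaith
      hreg := hreg
      hz₁ := hz₁
      hz₂ := hz₂
      hz₁1 := hz₁1
      hz₂1 := hz₂1
      hsumP := hsumP
      hswap₁ := hs1
      hswap₂ := hs2
      hneg := hneg
      hnorm := hnorm }⟩

end ChainAsm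

section CoreAsm

variable {G : Type u} [Group G] [Fintype G] (p : ℕ) [Fact p.Prime] (P : Sylow p G)

local notation "𝒞" => Subgroup.centralizer ((P : Subgroup G) : Set G)
local notation "𝒩" => Subgroup.normalizer ((P : Subgroup G) : Set G)
local notation "𝓛" => Subgroup.normalClosure ((P : Subgroup G) : Set G)

/-- ASSEMBLY: the quasisimple case `G = ⟨P^G⟩`. -/
theorem core (hP : Nat.card P = p) (hcl : 𝓛 = ⊤)
    (hnn : ∀ K : Subgroup G, K.Normal → Nat.card K ≠ p) (χ : G → ℂ) (hχ : IsCharacter G χ)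
    (hfaith : ∀ g : G, χ g = χ 1 → g = 1) (w : ℕ) (hdeg : charDegree χ = w)
    (hpw : 2 * w + 1 = p) :
    (𝒞).relIndex 𝒩 = w ∧
      Nonempty ((G ⧸ Subgroup.center G) ≃* Matrix.ProjectiveSpecialLinearGroup (Fin 2) (ZMod p)) := by
  classical
  have hpp : p.Prime := Fact.out
  have hsq : ¬ p ^ 2 ∣ Nat.card G := Cfsg.Agent.Helper14.BRB.RED4_not_sq_dvd p P hP
  have hdiv : p ∣ Nat.card G := by
    have h1 : Nat.card (P : Subgroup G) ∣ Nat.card G := Subgroup.card_subgroup_dvd_card _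
    rwa [show Nat.card (P : Subgroup G) = p from hP] at h1
  have hirr : IsIrrCharacter G χ :=
    irr_of_boundary p hpp hdiv hsq hnn χ hχ hfaith (by omega)
  set ζ : IrrCharacter G := ⟨χ, hirr⟩ with hζdef
  have hnnP : ¬ (P : Subgroup G).Normal := fun h => hnn _ h hP
  have hcent_top : Subgroup.centralizer (𝓛 : Set G) = Subgroup.center G := by
    rw [hcl, Subgroup.coe_top, Subgroup.centralizer_univ]
  have hR4 : ∀ K : Subgroup G, K.Normal → ¬ (P : Subgroup G) ≤ K → K ≤ Subgroup.center G := by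
    intro K hK hPK
    rw [← hcent_top]
    exact normal_centralizes p P hP χ hχ hfaith (by omega) K hK hPK
  have hR4top : ∀ K : Subgroup G, K.Normal → K ≠ ⊤ → K ≤ Subgroup.center G := by
    intro K hK hKtop
    apply hR4 K hK
    intro hPK
    apply hKtop
    rw [eq_top_iff, ← hcl]
    exact Subgroup.normalClosure_le_normal hPK
  have hperf : commutator G = ⊤ := perfect_of_central p P hP hcl hR4top hnnP
  obtain ⟨ζ', z₁, z₂, C⟩ := chain p P hP w hpw hnnP hR4 ζ hdeg hfaith
  refine ⟨C.hf, ?_⟩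
  -- the quotient
  letI : Fintype (IrrCharacter G) := irrFintype
  letI : Fintype (Subgroup.center G) := Fintype.ofFinite _
  letI : Fintype (G ⧸ Subgroup.center G) := Fintype.ofFinite _
  letI : Fintype (IrrCharacter (G ⧸ Subgroup.center G)) := irrFintype
  set π : G →* G ⧸ Subgroup.center G := QuotientGroup.mk' (Subgroup.center G) with hπdef
  have hπ : Function.Surjective π := QuotientGroup.mk'_surjective _
  have hker : π.ker = Subgroup.center G := QuotientGroup.ker_mk' _
  have hidx := bound π hπ hker C hperf hnnP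
  have hcard := quot_card π hπ hker C
  have hcent := quot_cent π hπ hker C
  have hrel := quot_relIndex π hπ hker C
  have hidxH := quot_index π hπ hker C
  have hperfH : commutator (G ⧸ Subgroup.center G) = ⊤ := quot_perfect π hπ hperf
  have hw := C.hw
  exact endZ hcard hcent hperfH (by rw [hidxH, hidx, add_comm]) (by rw [hrel]; omega)

end CoreAsm

section MainAsm

/-- ASSEMBLY: S4504. -/
theorem main {G : Type u} [Group G] [Finite G] (p : ℕ) (hp : p.Prime) (hdiv : p ∣ Nat.card G)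
    (hsq : ¬ p ^ 2 ∣ Nat.card G) (hnn : ∀ K : Subgroup G, K.Normal → Nat.card K ≠ p)
    (χ : G → ℂ) (hχ : IsCharacter G χ) (hfaith : ∀ g : G, χ g = χ 1 → g = 1)
    (hdeg : 2 * charDegree χ + 1 = p) :
    Nonempty ((G ⧸ Subgroup.center G) ≃* Matrix.ProjectiveSpecialLinearGroup (Fin 2) (ZMod p)) := by
  classical
  haveI : Fact p.Prime := ⟨hp⟩
  letI : Fintype G := Fintype.ofFinite G
  have P : Sylow p G := default
  have hP : Nat.card P = p := by
    rw [Sylow.card_eq_multiplicity]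
    have hG0 : Nat.card G ≠ 0 := Nat.card_pos.ne'
    have h1 : 0 < (Nat.card G).factorization p := hp.factorization_pos_of_dvd hG0 hdiv
    have h2 : ¬ 2 ≤ (Nat.card G).factorization p := fun h =>
      hsq ((hp.pow_dvd_iff_le_factorization hG0).mpr h)
    have h3 : (Nat.card G).factorization p = 1 := by omega
    rw [h3, pow_one]
  set w := charDegree χ with hw
  have hirr : IsIrrCharacter G χ := irr_of_boundary p hp hdiv hsq hnn χ hχ hfaith hdeg
  set ζ : IrrCharacter G := ⟨χ, hirr⟩ with hζdef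
  have hnnP : ¬ (P : Subgroup G).Normal := fun h => hnn _ h hP
  -- the subgroup `L`
  set L : Subgroup G := Subgroup.normalClosure ((P : Subgroup G) : Set G) with hLdef
  letI : Fintype L := Fintype.ofFinite _
  have hPL : Nat.card (PL P) = p := lsetup_card p P hP
  have hclL := lsetup_closure p P hP
  have hnnL := lsetup_nn p P hP hnn
  have hχL : IsCharacter L (fun x : L => χ (x : G)) := isCharacter_restrict L hχ
  have hfaithL : ∀ g : L, (fun x : L => χ (x : G)) g = (fun x : L => χ (x : G)) 1 → g = 1 := by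
    intro g hg
    exact Subtype.ext (hfaith (g : G) hg)
  have hdegL : charDegree (fun x : L => χ (x : G)) = w := rfl
  obtain ⟨hfL, ⟨eL⟩⟩ := core p (PL P) hPL hclL hnnL _ hχL hfaithL w hdegL hdeg
  -- `χ|_L` is irreducible
  have hdivL : p ∣ Nat.card L := by
    have h1 : Nat.card ((PL P : Sylow p L) : Subgroup L) ∣ Nat.card L :=
      Subgroup.card_subgroup_dvd_card _
    rwa [show Nat.card ((PL P : Sylow p L) : Subgroup L) = p from hPL] at h1
  have hsqL : ¬ p ^ 2 ∣ Nat.card L := fun h =>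
    hsq (dvd_trans h (Subgroup.card_subgroup_dvd_card L))
  have hirrL : IsIrrCharacter L (fun x : L => χ (x : G)) :=
    irr_of_boundary p hp hdivL hsqL hnnL _ hχL hfaithL hdeg
  have hcen : Subgroup.centralizer (L : Set G) ≤ Subgroup.center G :=
    centralizer_le_center χ hirr hfaith L hirrL
  have hR4 : ∀ K : Subgroup G, K.Normal → ¬ (P : Subgroup G) ≤ K → K ≤ Subgroup.center G := by
    intro K hK hPK
    exact le_trans (normal_centralizes p P hP χ hχ hfaith hdeg K hK hPK) hcen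
  obtain ⟨ζ', z₁, z₂, C⟩ := chain p P hP w hdeg hnnP hR4 ζ rfl hfaith
  have hLZ := eq_mul_center p P hP w hfL C.hf C.hV
  obtain ⟨e⟩ := quotient_iso L hLZ hcen
  exact ⟨e.symm.trans eL⟩

end MainAsm

end Cfsg.Agent.Helper21.BH
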