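import Mathlib
import Cfsg.Agent.Lib.Helper26.CG3Defs

/-!
# S3412 piece G3 (helper21, for helper26): an element of `C(t)` with centralizer of order 54 has
order 3
-/

set_option autoImplicit false
set_option linter.unusedSectionVars false

namespace Cfsg.Agent.Helper26.CG3

universe u

section G

variable {H : Type u} [Group H] [Finite H] {t : H}

omit [Finite H] in
theorem g3_cc_one : cc (1 : H) = Nat.card H := by
  have h1 : Subgroup.centralizer ({1} : Set H) = ⊤ := by
    rw [eq_top_iff]
    intro k _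
    rw [Subgroup.mem_centralizer_singleton_iff]
    simp
  show Nat.card (Subgroup.centralizer ({1} : Set H)) = Nat.card H
  rw [h1, Subgroup.card_top]

/-- the centre of the centralizer of `g`, as a subgroup of `H` -/
def g3_Z (g : H) : Subgroup H where
  carrier := {y | g * y = y * g ∧ ∀ h : H, g * h = h * g → y * h = h * y}
  one_mem' := ⟨by simp, fun h _ => by simp⟩
  mul_mem' := by
    rintro a b ⟨ha1, ha2⟩ ⟨hb1, hb2⟩
    refine ⟨?_, ?_⟩
    · calc g * (a * b) = (g * a) * b := by rw [mul_assoc]
        _ = (a * g) * b := by rw [ha1]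
        _ = a * (g * b) := by rw [mul_assoc]
        _ = a * (b * g) := by rw [hb1]
        _ = a * b * g := by rw [mul_assoc]
    · intro h hh
      calc a * b * h = a * (b * h) := by rw [mul_assoc]
        _ = a * (h * b) := by rw [hb2 h hh]
        _ = (a * h) * b := by rw [mul_assoc]
        _ = (h * a) * b := by rw [ha2 h hh]
        _ = h * (a * b) := by rw [mul_assoc]
  inv_mem' := by
    rintro a ⟨ha1, ha2⟩
    refine ⟨?_, ?_⟩
    · calc g * a⁻¹ = a⁻¹ * (a * g) * a⁻¹ := by group
        _ = a⁻¹ * (g * a) * a⁻¹ := by rw [ha1]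
        _ = a⁻¹ * g := by group
    · intro h hh
      calc a⁻¹ * h = a⁻¹ * (h * a) * a⁻¹ := by group
        _ = a⁻¹ * (a * h) * a⁻¹ := by rw [ha2 h hh]
        _ = h * a⁻¹ := by group

/-- G3 -/
theorem order_of_cc54 (h : LG H t) (g : H) (hg : t * g = g * t) (hc : cc g = 54) : orderOf g = 3 := by
  have hcard : Nat.card (g3_Z g) = 3 := by
    rw [← h.ucen g hg hc]
    exact Nat.card_congr (Equiv.subtypeEquivRight (fun y => Iff.rfl))
  have hgZ : g ∈ g3_Z g := ⟨rfl, fun k hk => hk⟩
  have hg1 : g ≠ 1 := by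
    intro h1
    rw [h1, g3_cc_one, h.card] at hc
    omega
  have hdvd : orderOf g ∣ 3 := by
    have h2 := orderOf_dvd_natCard (⟨g, hgZ⟩ : g3_Z g)
    rw [hcard] at h2
    rwa [Subgroup.orderOf_mk] at h2
  rcases (Nat.dvd_prime Nat.prime_three).mp hdvd with h1 | h3
  · exact absurd (orderOf_eq_one_iff.mp h1) hg1
  · exact h3

end G

end Cfsg.Agent.Helper26.CG3
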