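import Mathlib

/-!
Cyclic extensions: for an abelian group `N`, an automorphism `θ` of `N`, `n > 0` with `θ ^ n = 1`
and `u : N` with `θ u = u`, the group `E θ n u` generated by `N` and an element `β` with
`β x β⁻¹ = θ x` and `β ^ n = u`.  Built as a quotient of `N ⋊ ℤ`.
-/

namespace Cfsg.Agent.Helper21.CycExt

universe u v

variable {N : Type u} [CommGroup N]

/-- the action of `ℤ` on `N` through powers of `θ` -/
def act (θ : MulAut N) : Multiplicative ℤ →* MulAut N := zpowersHom (MulAut N) θ

lemma act_ofAdd (θ : MulAut N) (k : ℤ) : act θ (Multiplicative.ofAdd k) = θ ^ k := by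
  simp [act, zpowersHom_apply]

/-- the split extension -/
abbrev SD (θ : MulAut N) := N ⋊[act θ] Multiplicative ℤ

/-- the element to be killed -/
def zel (θ : MulAut N) (n : ℕ) (u : N) : SD θ := ⟨u⁻¹, Multiplicative.ofAdd (n : ℤ)⟩

/-- the cyclic extension -/
abbrev E (θ : MulAut N) (n : ℕ) (u : N) : Type u :=
  SD θ ⧸ Subgroup.normalClosure ({zel θ n u} : Set (SD θ))

variable (θ : MulAut N) (n : ℕ) (u : N)

/-- the quotient map -/
def proj : SD θ →* E θ n u := QuotientGroup.mk' _

lemma proj_surjective : Function.Surjective (proj θ n u) := QuotientGroup.mk'_surjective _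

/-- the embedding of `N` -/
def ι : N →* E θ n u := (proj θ n u).comp SemidirectProduct.inl

/-- the new generator -/
def β : E θ n u := proj θ n u (SemidirectProduct.inr (Multiplicative.ofAdd 1))

lemma proj_zel : proj θ n u (zel θ n u) = 1 := by
  rw [proj, QuotientGroup.mk'_apply, QuotientGroup.eq_one_iff]
  exact Subgroup.subset_normalClosure (Set.mem_singleton _)

lemma conj_β (x : N) : β θ n u * ι θ n u x * (β θ n u)⁻¹ = ι θ n u (θ x) := by
  have h := SemidirectProduct.inl_aut (φ := act θ) (Multiplicative.ofAdd (1 : ℤ)) x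
  rw [act_ofAdd, zpow_one] at h
  simp only [ι, β, MonoidHom.comp_apply]
  rw [h]
  simp

lemma β_zpow (k : ℤ) : (β θ n u) ^ k =
    proj θ n u (SemidirectProduct.inr (Multiplicative.ofAdd k)) := by
  rw [β, ← map_zpow, ← map_zpow, ← ofAdd_zsmul]
  simp

lemma β_pow : (β θ n u) ^ n = ι θ n u u := by
  have h1 : (β θ n u) ^ n = proj θ n u (SemidirectProduct.inr (Multiplicative.ofAdd (n : ℤ))) := by
    rw [← zpow_natCast, β_zpow]
  have h2 : zel θ n u = SemidirectProduct.inl u⁻¹ *
      SemidirectProduct.inr (Multiplicative.ofAdd (n : ℤ)) := by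
    rw [zel, SemidirectProduct.mk_eq_inl_mul_inr]
  have h3 : proj θ n u (SemidirectProduct.inl u⁻¹ *
      SemidirectProduct.inr (Multiplicative.ofAdd (n : ℤ))) = 1 := by
    rw [← h2]; exact proj_zel θ n u
  rw [map_mul, map_inv] at h3
  rw [h1]
  simp only [ι, MonoidHom.comp_apply]
  exact (inv_mul_eq_one.mp h3).symm

lemma exists_rep_zpow (e : E θ n u) : ∃ (x : N) (k : ℤ), e = ι θ n u x * (β θ n u) ^ k := by
  obtain ⟨w, rfl⟩ := proj_surjective θ n u e
  refine ⟨w.left, Multiplicative.toAdd w.right, ?_⟩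
  rw [β_zpow, ι, MonoidHom.comp_apply, ← map_mul]
  congr 1
  exact (SemidirectProduct.inl_left_mul_inr_right w).symm

lemma conj_β_pow (j : ℕ) (x : N) :
    (β θ n u) ^ j * ι θ n u x * ((β θ n u) ^ j)⁻¹ = ι θ n u ((θ ^ j) x) := by
  induction j generalizing x with
  | zero => simp
  | succ j ih =>
    rw [pow_succ', mul_inv_rev]
    have : β θ n u * β θ n u ^ j * ι θ n u x * ((β θ n u ^ j)⁻¹ * (β θ n u)⁻¹) =
        β θ n u * (β θ n u ^ j * ι θ n u x * (β θ n u ^ j)⁻¹) * (β θ n u)⁻¹ := by group
    rw [this, ih, conj_β, pow_succ', MulAut.mul_apply]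

lemma β_pow_mul_ι (j : ℕ) (x : N) :
    (β θ n u) ^ j * ι θ n u x = ι θ n u ((θ ^ j) x) * (β θ n u) ^ j := by
  rw [← conj_β_pow]; group

lemma exists_rep (hn : 0 < n) (e : E θ n u) :
    ∃ (x : N) (j : ℕ), j < n ∧ e = ι θ n u x * (β θ n u) ^ j := by
  obtain ⟨x, k, rfl⟩ := exists_rep_zpow θ n u e
  have hn' : (n : ℤ) ≠ 0 := by exact_mod_cast hn.ne'
  have hk : k = (k % n) + n * (k / n) := (Int.emod_add_mul_ediv k n).symm
  obtain ⟨j, hj⟩ := Int.eq_ofNat_of_zero_le (Int.emod_nonneg k hn')
  have hjn : j < n := by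
    have := Int.emod_lt_of_pos k (by exact_mod_cast hn : (0 : ℤ) < n)
    omega
  refine ⟨x * (θ ^ j) (u ^ (k / n)), j, hjn, ?_⟩
  have h1 : (β θ n u) ^ k = (β θ n u) ^ j * ι θ n u (u ^ (k / n)) := by
    conv_lhs => rw [hk, hj]
    rw [zpow_add, zpow_natCast, zpow_mul, zpow_natCast, β_pow, map_zpow]
  rw [h1, map_mul, mul_assoc, β_pow_mul_ι]

instance instFiniteE [Finite N] [NeZero n] : Finite (E θ n u) := by
  have hn : 0 < n := Nat.pos_of_ne_zero (NeZero.ne n)
  let f : N × Fin n → E θ n u := fun p => ι θ n u p.1 * (β θ n u) ^ (p.2 : ℕ)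
  have hf : Function.Surjective f := by
    intro e
    obtain ⟨x, j, hj, rfl⟩ := exists_rep θ n u hn e
    exact ⟨(x, ⟨j, hj⟩), rfl⟩
  exact Finite.of_surjective f hf

lemma finite_E [Finite N] (hn : 0 < n) : Finite (E θ n u) := by
  have : NeZero n := ⟨hn.ne'⟩
  infer_instance

section hyp

variable {θ n u}

lemma act_fix (hu : θ u = u) (g : Multiplicative ℤ) : act θ g u = u := by
  have h : ∀ k : ℤ, (θ ^ k) u = u := by
    intro k
    induction k using Int.induction_on with
    | zero => simp
    | succ i ih => rw [zpow_add_one, MulAut.mul_apply, hu, ih]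
    | pred i ih =>
      rw [zpow_sub_one, MulAut.mul_apply]
      have : θ⁻¹ u = u := by
        conv_lhs => rw [← hu]
        simp
      rw [this, ih]
  have := h (Multiplicative.toAdd g)
  rwa [← act_ofAdd, ofAdd_toAdd] at this

lemma zel_mem_center (hθ : θ ^ n = 1) (hu : θ u = u) :
    zel θ n u ∈ Subgroup.center (SD θ) := by
  rw [Subgroup.mem_center_iff]
  intro w
  have h1 : act θ (Multiplicative.ofAdd (n : ℤ)) = 1 := by
    rw [act_ofAdd, zpow_natCast, hθ]
  ext
  · simp only [SemidirectProduct.mul_left, zel]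
    rw [h1, map_inv, act_fix hu, MulAut.one_apply]
    exact mul_comm _ _
  · simp only [SemidirectProduct.mul_right, zel]
    exact mul_comm w.right _

lemma normalClosure_zel (hθ : θ ^ n = 1) (hu : θ u = u) :
    Subgroup.normalClosure ({zel θ n u} : Set (SD θ)) = Subgroup.zpowers (zel θ n u) := by
  have hle : Subgroup.zpowers (zel θ n u) ≤ Subgroup.center (SD θ) := by
    rw [Subgroup.zpowers_le]; exact zel_mem_center hθ hu
  have : (Subgroup.zpowers (zel θ n u)).Normal := by
    constructor
    intro h hh g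
    have hc := hle hh
    rw [Subgroup.mem_center_iff] at hc
    rw [hc g, mul_inv_cancel_right]
    exact hh
  apply le_antisymm
  · apply Subgroup.normalClosure_le_normal
    rw [Set.singleton_subset_iff]
    exact Subgroup.mem_zpowers _
  · rw [Subgroup.zpowers_le]
    exact Subgroup.subset_normalClosure (Set.mem_singleton _)

lemma ι_injective (hn : 0 < n) (hθ : θ ^ n = 1) (hu : θ u = u) :
    Function.Injective (ι θ n u) := by
  rw [injective_iff_map_eq_one]
  intro x hx
  simp only [ι, MonoidHom.comp_apply, proj, QuotientGroup.mk'_apply,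
    QuotientGroup.eq_one_iff] at hx
  rw [normalClosure_zel hθ hu, Subgroup.mem_zpowers_iff] at hx
  obtain ⟨k, hk⟩ := hx
  have h2 := congrArg (SemidirectProduct.rightHom (φ := act θ)) hk
  rw [map_zpow, SemidirectProduct.rightHom_inl] at h2
  have h3 : SemidirectProduct.rightHom (zel θ n u) = Multiplicative.ofAdd (n : ℤ) := rfl
  rw [h3, ← ofAdd_zsmul] at h2
  have h4 : k * (n : ℤ) = 0 := by
    have := congrArg Multiplicative.toAdd h2
    rw [toAdd_one, toAdd_ofAdd, smul_eq_mul] at this
    exact this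
  have hk0 : k = 0 := by
    rcases mul_eq_zero.mp h4 with h | h
    · exact h
    · exfalso; have : (n : ℤ) ≠ 0 := by exact_mod_cast hn.ne'
      exact this h
  rw [hk0, zpow_zero] at hk
  exact SemidirectProduct.inl_injective (by rw [← hk]; rfl)

end hyp

section lift

variable {X : Type v} [Group X] (f : N →* X) (b : X)
  (h1 : ∀ x, b * f x * b⁻¹ = f (θ x)) (h2 : b ^ n = f u)

include h1 in
lemma compat_aux (k : ℤ) (x : N) : f ((θ ^ k) x) = b ^ k * f x * (b ^ k)⁻¹ := by
  induction k using Int.induction_on generalizing x with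
  | zero => simp
  | succ i ih =>
    rw [zpow_add_one, MulAut.mul_apply, ih, ← h1, zpow_add_one]
    group
  | pred i ih =>
    rw [zpow_sub_one, MulAut.mul_apply, ih, zpow_sub_one]
    have : f (θ⁻¹ x) = b⁻¹ * f x * b := by
      have := h1 (θ⁻¹ x)
      rw [MulAut.apply_inv_self] at this
      rw [← this]; group
    rw [this]; group

/-- the universal property -/
def lift : E θ n u →* X :=
  QuotientGroup.lift _
    (SemidirectProduct.lift f (zpowersHom X b) (by
      intro g
      ext x
      simp only [MonoidHom.comp_apply, MulEquiv.coe_toMonoidHom, MulAut.conj_apply]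
      have := compat_aux θ f b h1 (Multiplicative.toAdd g) x
      rw [← act_ofAdd, ofAdd_toAdd] at this
      rw [this, zpowersHom_apply]))
    (by
      apply Subgroup.normalClosure_le_normal
      rw [Set.singleton_subset_iff, SetLike.mem_coe, MonoidHom.mem_ker]
      simp only [zel, SemidirectProduct.lift, MonoidHom.coe_mk, OneHom.coe_mk, map_inv,
        zpowersHom_apply, toAdd_ofAdd, zpow_natCast]
      rw [h2]; simp)

@[simp] lemma lift_ι (x : N) : lift θ n u f b h1 h2 (ι θ n u x) = f x := by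
  simp only [lift, ι, proj, MonoidHom.comp_apply, QuotientGroup.mk'_apply, QuotientGroup.lift_mk,
    SemidirectProduct.lift_inl]

@[simp] lemma lift_β : lift θ n u f b h1 h2 (β θ n u) = b := by
  simp only [lift, β, proj, QuotientGroup.mk'_apply, QuotientGroup.lift_mk,
    SemidirectProduct.lift_inr, zpowersHom_apply, toAdd_ofAdd, zpow_one]

end lift

/-- homs out of `E` are determined on `N` and `β` -/
lemma hom_ext {X : Type v} [Group X] {F F' : E θ n u →* X}
    (hι : ∀ x, F (ι θ n u x) = F' (ι θ n u x)) (hβ : F (β θ n u) = F' (β θ n u)) : F = F' := by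
  refine MonoidHom.ext fun e => ?_
  obtain ⟨x, k, rfl⟩ := exists_rep_zpow θ n u e
  rw [map_mul, map_mul, map_zpow, map_zpow, hι, hβ]

lemma closure_eq_top : Subgroup.closure (Set.range (ι θ n u) ∪ {β θ n u}) = ⊤ := by
  rw [eq_top_iff]
  intro e _
  obtain ⟨x, k, rfl⟩ := exists_rep_zpow θ n u e
  apply Subgroup.mul_mem
  · have h1 : ι θ n u x ∈ Set.range (ι θ n u) ∪ {β θ n u} :=
      Set.mem_union_left _ (Set.mem_range_self x)
    exact Subgroup.subset_closure h1
  · have h2 : β θ n u ∈ Set.range (ι θ n u) ∪ {β θ n u} :=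
      Set.mem_union_right _ (Set.mem_singleton _)
    exact Subgroup.zpow_mem _ (Subgroup.subset_closure h2) _

/-- packaged form of the construction -/
theorem exists_ext {N : Type u} [CommGroup N] [Finite N] (θ : MulAut N) (n : ℕ) (hn : 0 < n)
    (hθ : θ ^ n = 1) (u : N) (hu : θ u = u) :
    ∃ (E : Type u) (_ : Group E) (_ : Finite E) (ι : N →* E) (β : E),
      Function.Injective ι ∧ (∀ x, β * ι x * β⁻¹ = ι (θ x)) ∧ β ^ n = ι u ∧
      Subgroup.closure (Set.range ι ∪ {β}) = ⊤ ∧
      (∀ (X : Type u) [Group X] (f : N →* X) (b : X), (∀ x, b * f x * b⁻¹ = f (θ x)) →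
        b ^ n = f u → ∃ F : E →* X, (∀ x, F (ι x) = f x) ∧ F β = b) :=
  ⟨E θ n u, inferInstance, finite_E θ n u hn, ι θ n u, β θ n u, ι_injective hn hθ hu,
    conj_β θ n u, β_pow θ n u, closure_eq_top θ n u,
    fun X _ f b h1 h2 => ⟨lift θ n u f b h1 h2, lift_ι θ n u f b h1 h2, lift_β θ n u f b h1 h2⟩⟩

/-- a group generated by pairwise commuting elements is commutative -/
lemma comm_of_closure {X : Type v} [Group X] (S : Set X) (hS : Subgroup.closure S = ⊤)
    (hc : ∀ x ∈ S, ∀ y ∈ S, x * y = y * x) (x y : X) : x * y = y * x := by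
  have h1 : ∀ x ∈ S, x ∈ Subgroup.center X := by
    intro x hx
    have : Subgroup.closure S ≤ Subgroup.centralizer {x} := by
      rw [Subgroup.closure_le]
      intro y hy
      rw [SetLike.mem_coe, Subgroup.mem_centralizer_iff]
      intro z hz
      rw [Set.mem_singleton_iff] at hz
      rw [hz]; exact hc x hx y hy
    rw [Subgroup.mem_center_iff]
    intro g
    have hg : g ∈ Subgroup.centralizer {x} := this (by rw [hS]; trivial)
    rw [Subgroup.mem_centralizer_iff] at hg
    exact (hg x rfl).symm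
  have h2 : Subgroup.closure S ≤ Subgroup.center X := by
    rw [Subgroup.closure_le]; exact h1
  have hx : x ∈ Subgroup.center X := h2 (by rw [hS]; trivial)
  rw [Subgroup.mem_center_iff] at hx
  exact (hx y).symm

/-- the case of a trivial action gives an abelian group -/
theorem exists_ext_comm {N : Type u} [CommGroup N] [Finite N] (n : ℕ) (hn : 0 < n) (u : N) :
    ∃ (E : Type u) (_ : CommGroup E) (_ : Finite E) (ι : N →* E) (β : E),
      Function.Injective ι ∧ β ^ n = ι u ∧
      Subgroup.closure (Set.range ι ∪ {β}) = ⊤ ∧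
      (∀ (X : Type u) [Group X] (f : N →* X) (b : X), (∀ x, b * f x = f x * b) →
        b ^ n = f u → ∃ F : E →* X, (∀ x, F (ι x) = f x) ∧ F β = b) := by
  have hcomm : ∀ x y : E (1 : MulAut N) n u, x * y = y * x := by
    apply comm_of_closure _ (closure_eq_top (1 : MulAut N) n u)
    have hβι : ∀ x : N, β (1 : MulAut N) n u * ι 1 n u x = ι 1 n u x * β 1 n u := by
      intro x
      have := conj_β (1 : MulAut N) n u x
      rw [MulAut.one_apply] at this
      calc β (1 : MulAut N) n u * ι 1 n u x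
          = (β (1 : MulAut N) n u * ι 1 n u x * (β 1 n u)⁻¹) * β 1 n u := by group
        _ = ι 1 n u x * β 1 n u := by rw [this]
    rintro x (⟨x', rfl⟩ | hx) y (⟨y', rfl⟩ | hy)
    · rw [← map_mul, ← map_mul, mul_comm]
    · rw [Set.mem_singleton_iff] at hy; rw [hy]; exact (hβι x').symm
    · rw [Set.mem_singleton_iff] at hx; rw [hx]; exact hβι y'
    · rw [Set.mem_singleton_iff] at hx hy; rw [hx, hy]
  let cg : CommGroup (E (1 : MulAut N) n u) :=
    { (inferInstance : Group (E (1 : MulAut N) n u)) with mul_comm := hcomm }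
  refine ⟨E (1 : MulAut N) n u, cg, finite_E 1 n u hn, ι 1 n u, β 1 n u,
    ι_injective hn (one_pow n) rfl, β_pow 1 n u, closure_eq_top 1 n u, ?_⟩
  intro X _ f b h1 h2
  have h1' : ∀ x, b * f x * b⁻¹ = f ((1 : MulAut N) x) := by
    intro x; rw [MulAut.one_apply, h1 x, mul_inv_cancel_right]
  exact ⟨lift 1 n u f b h1' h2, lift_ι 1 n u f b h1' h2, lift_β 1 n u f b h1' h2⟩

end Cfsg.Agent.Helper21.CycExt
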