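import Mathlib

/-!
# Faithful irreducible `F₂`-modules of `3² : D₈` (helper21)

* `exists_pow_mul_pow`: in a commutative group of order `9` and exponent `3`, two independent
  elements generate.
* `d8_data`: generators and relations extracted from an isomorphism with `DihedralGroup 4`,
  and the classification of the four-subgroups.
* `fourSub`: the explicit four-group `{1, z, t, z t}`.
* `main`: the module computation.
-/

set_option autoImplicit false

namespace Cfsg.Agent.Helper21.D8Mod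

section L0

variable {G : Type*} [CommGroup G]

theorem exists_pow_mul_pow [Finite G] (h3 : ∀ x : G, x ^ 3 = 1) (h9 : Nat.card G = 9)
    (v w : G) (hv1 : v ≠ 1) (hind : ∀ k : ℤ, w ≠ v ^ k) :
    ∀ x : G, ∃ i j : ℕ, x = v ^ i * w ^ j := by
  have hov : orderOf v = 3 := orderOf_eq_prime (h3 v) hv1
  -- key: v^i * w^j = 1 (integers) forces 3 ∣ j and 3 ∣ i
  have key : ∀ i j : ℤ, v ^ i * w ^ j = 1 → (3 : ℤ) ∣ j ∧ (3 : ℤ) ∣ i := by
    intro i j hij
    have hj : (3 : ℤ) ∣ j := by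
      by_contra hj
      have hcop : IsCoprime j 3 := by
        have h3p : Prime (3 : ℤ) := Int.prime_iff_natAbs_prime.mpr (by norm_num)
        exact (h3p.coprime_iff_not_dvd.mpr hj).symm
      obtain ⟨u, t, hut⟩ := hcop
      have hw : w = v ^ (-(i * u)) := by
        have h1 : w = w ^ (u * j + t * 3) := by rw [hut, zpow_one]
        have h2 : w ^ (t * 3) = 1 := by
          rw [mul_comm, zpow_mul]
          have : w ^ (3 : ℤ) = 1 := by exact_mod_cast h3 w
          rw [this, one_zpow]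
        have h3' : w ^ j = v ^ (-i) := by
          rw [zpow_neg]; exact eq_inv_of_mul_eq_one_right hij
        rw [h1, zpow_add, h2, mul_one, mul_comm u j, zpow_mul, h3', ← zpow_mul]
        congr 1; ring
      exact hind _ hw
    refine ⟨hj, ?_⟩
    obtain ⟨t, rfl⟩ := hj
    have hw1 : w ^ (3 * t) = 1 := by
      rw [zpow_mul]
      have : w ^ (3 : ℤ) = 1 := by exact_mod_cast h3 w
      rw [this, one_zpow]
    rw [hw1, mul_one] at hij
    have := orderOf_dvd_iff_zpow_eq_one.mpr hij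
    rwa [hov] at this
  let f : Fin 3 × Fin 3 → G := fun p => v ^ (p.1 : ℕ) * w ^ (p.2 : ℕ)
  have hinj : Function.Injective f := by
    rintro ⟨i, j⟩ ⟨i', j'⟩ h
    simp only [f] at h
    have h1 : v ^ ((i : ℕ) - (i' : ℕ) : ℤ) * w ^ ((j : ℕ) - (j' : ℕ) : ℤ) = 1 := by
      rw [zpow_sub, zpow_sub, zpow_natCast, zpow_natCast, zpow_natCast, zpow_natCast]
      calc v ^ (i : ℕ) * (v ^ (i' : ℕ))⁻¹ * (w ^ (j : ℕ) * (w ^ (j' : ℕ))⁻¹)
          = (v ^ (i : ℕ) * w ^ (j : ℕ)) * (v ^ (i' : ℕ) * w ^ (j' : ℕ))⁻¹ := by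
            rw [mul_inv]; exact mul_mul_mul_comm _ _ _ _
        _ = 1 := by rw [h, mul_inv_cancel]
    obtain ⟨hj, hi⟩ := key _ _ h1
    have hi2 := i.isLt
    have hi2' := i'.isLt
    have hj2 := j.isLt
    have hj2' := j'.isLt
    have e1 : (i : ℕ) = i' := by omega
    have e2 : (j : ℕ) = j' := by omega
    exact Prod.ext (Fin.ext e1) (Fin.ext e2)
  have hbij : Function.Bijective f := by
    apply hinj.bijective_of_nat_card_le
    rw [h9]; simp
  intro x
  obtain ⟨⟨i, j⟩, hx⟩ := hbij.2 x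
  exact ⟨i, j, hx.symm⟩

end L0

section D8

open DihedralGroup

theorem d8_gen : ∀ d : DihedralGroup 4, ∃ k : Fin 4,
    d = (r 1 : DihedralGroup 4) ^ (k : ℕ) ∨ d = sr 0 * (r 1 : DihedralGroup 4) ^ (k : ℕ) := by
  decide

theorem d8_four : ∀ p q : DihedralGroup 4, p ≠ 1 → q ≠ 1 → p ≠ q → p ^ 2 = 1 → q ^ 2 = 1 →
    (p * q) ^ 2 = 1 →
    (p = r 1 ^ 2 ∨ q = r 1 ^ 2 ∨ p * q = r 1 ^ 2) ∧
      ((p = sr 0 ∨ q = sr 0 ∨ p * q = sr 0) ∨
        (p = r 1 * sr 0 ∨ q = r 1 * sr 0 ∨ p * q = r 1 * sr 0)) := by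
  decide

variable {S : Type*} [Group S]

theorem d8_data (X : Subgroup S) (φ : X ≃* DihedralGroup 4) :
    ∃ r s : S, r ∈ X ∧ s ∈ X ∧ r ^ 4 = 1 ∧ r ^ 2 ≠ 1 ∧ s ^ 2 = 1 ∧ s ≠ 1 ∧ s ≠ r ^ 2 ∧
      s * r * s⁻¹ = r⁻¹ ∧ X ≤ Subgroup.closure {r, s} ∧
      ∀ B : Subgroup S, B ≤ X → Nat.card B = 4 → (∀ b ∈ B, b ^ 2 = 1) →
        r ^ 2 ∈ B ∧ (s ∈ B ∨ r * s ∈ B) := by
  set r₀ : X := φ.symm (r 1) with hr₀
  set s₀ : X := φ.symm (sr 0) with hs₀
  have hφr : φ r₀ = r 1 := by simp [hr₀]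
  have hφs : φ s₀ = sr 0 := by simp [hs₀]
  -- transfer principle
  have tr : ∀ x y : X, φ x = φ y → (x : S) = y := fun x y h => by rw [φ.injective h]
  refine ⟨r₀, s₀, r₀.2, s₀.2, ?_, ?_, ?_, ?_, ?_, ?_, ?_, ?_⟩
  · have : r₀ ^ 4 = 1 := φ.injective (by rw [map_pow, hφr, map_one]; decide)
    exact_mod_cast congrArg Subtype.val this
  · intro h
    have : r₀ ^ 2 = 1 := Subtype.ext (by simpa using h)
    have h2 := congrArg φ this
    rw [map_pow, hφr, map_one] at h2
    revert h2; decide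
  · have : s₀ ^ 2 = 1 := φ.injective (by rw [map_pow, hφs, map_one]; decide)
    exact_mod_cast congrArg Subtype.val this
  · intro h
    have : s₀ = 1 := Subtype.ext (by simpa using h)
    have h2 := congrArg φ this
    rw [hφs, map_one] at h2
    revert h2; decide
  · intro h
    have : s₀ = r₀ ^ 2 := Subtype.ext (by simpa using h)
    have h2 := congrArg φ this
    rw [map_pow, hφs, hφr] at h2
    revert h2; decide
  · have : s₀ * r₀ * s₀⁻¹ = r₀⁻¹ := φ.injective (by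
      rw [map_mul, map_mul, map_inv, map_inv, hφr, hφs]; decide)
    exact_mod_cast congrArg Subtype.val this
  · intro x hx
    obtain ⟨k, hk | hk⟩ := d8_gen (φ ⟨x, hx⟩)
    · have : (⟨x, hx⟩ : X) = r₀ ^ (k : ℕ) := φ.injective (by rw [hk, map_pow, hφr])
      have hx' : x = (r₀ : S) ^ (k : ℕ) := by
        have h := congrArg Subtype.val this
        simpa using h
      rw [hx']
      exact pow_mem (Subgroup.subset_closure (by simp)) _
    · have : (⟨x, hx⟩ : X) = s₀ * r₀ ^ (k : ℕ) := φ.injective (by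
        rw [hk, map_mul, map_pow, hφr, hφs])
      have hx' : x = (s₀ : S) * (r₀ : S) ^ (k : ℕ) := by
        have h := congrArg Subtype.val this
        simpa using h
      rw [hx']
      exact mul_mem (Subgroup.subset_closure (by simp))
        (pow_mem (Subgroup.subset_closure (by simp)) _)
  · intro B hBX hB4 hB2
    have : Finite B := Nat.finite_of_card_ne_zero (by rw [hB4]; norm_num)
    -- two distinct nonidentity elements
    have hex : ∃ x y : B, x ≠ 1 ∧ y ≠ 1 ∧ x ≠ y := by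
      classical
      haveI : Fintype B := Fintype.ofFinite B
      have h3 : 2 < Fintype.card B := by
        rw [← Nat.card_eq_fintype_card, hB4]; norm_num
      obtain ⟨a, b, c, hab, hac, hbc⟩ := Fintype.two_lt_card_iff.mp h3
      by_cases ha : a = 1
      · refine ⟨b, c, ?_, ?_, hbc⟩
        · rintro rfl; exact hab ha
        · rintro rfl; exact hac ha
      · by_cases hb : b = 1
        · refine ⟨a, c, ha, ?_, hac⟩
          rintro rfl; exact hbc hb
        · exact ⟨a, b, ha, hb, hab⟩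
    obtain ⟨x, y, hx1, hy1, hxy⟩ := hex
    set x' : X := ⟨x, hBX x.2⟩ with hx'
    set y' : X := ⟨y, hBX y.2⟩ with hy'
    have e1 : φ x' ≠ 1 := by
      intro h
      have : x' = 1 := φ.injective (by rw [h, map_one])
      apply hx1
      exact Subtype.ext (by simpa [hx'] using congrArg Subtype.val this)
    have e2 : φ y' ≠ 1 := by
      intro h
      have : y' = 1 := φ.injective (by rw [h, map_one])
      apply hy1
      exact Subtype.ext (by simpa [hy'] using congrArg Subtype.val this)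
    have e3 : φ x' ≠ φ y' := by
      intro h
      have : x' = y' := φ.injective h
      apply hxy
      exact Subtype.ext (by simpa [hx', hy'] using congrArg Subtype.val this)
    have sq : ∀ u : X, (u : S) ∈ B → (φ u) ^ 2 = 1 := by
      intro u hu
      have : u ^ 2 = 1 := Subtype.ext (by simpa using hB2 _ hu)
      rw [← map_pow, this, map_one]
    have e4 := sq x' x.2
    have e5 := sq y' y.2
    have e6 : (φ x' * φ y') ^ 2 = 1 := by
      rw [← map_mul]
      exact sq _ (by simpa [hx', hy'] using B.mul_mem x.2 y.2)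
    obtain ⟨hz, hs⟩ := d8_four _ _ e1 e2 e3 e4 e5 e6
    -- membership transfer
    have mem : ∀ u : X, (u : S) ∈ B → ∀ d, φ u = d → ((φ.symm d : X) : S) ∈ B := by
      intro u hu d hd
      rw [← hd]; simpa using hu
    have hxB : (x' : S) ∈ B := x.2
    have hyB : (y' : S) ∈ B := y.2
    have hxyB : ((x' * y' : X) : S) ∈ B := by simpa [hx', hy'] using B.mul_mem x.2 y.2
    have hr2 : ((φ.symm (r 1 ^ 2) : X) : S) = (r₀ : S) ^ 2 := by
      rw [map_pow]; simp [hr₀]
    have hrs : ((φ.symm (r 1 * sr 0) : X) : S) = (r₀ : S) * s₀ := by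
      rw [map_mul]; simp [hr₀, hs₀]
    refine ⟨?_, ?_⟩
    · rw [← hr2]
      rcases hz with h | h | h
      · exact mem _ hxB _ h
      · exact mem _ hyB _ h
      · exact mem _ hxyB _ (by rw [map_mul]; exact h)
    · rcases hs with h | h
      · left
        rcases h with h | h | h
        · exact mem _ hxB _ h
        · exact mem _ hyB _ h
        · exact mem _ hxyB _ (by rw [map_mul]; exact h)
      · right
        rw [← hrs]
        rcases h with h | h | h
        · exact mem _ hxB _ h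
        · exact mem _ hyB _ h
        · exact mem _ hxyB _ (by rw [map_mul]; exact h)

/-- the explicit four-group `{1, z, t, z * t}` -/
def fourSub (z t : S) (hz : z * z = 1) (ht : t * t = 1) (hc : z * t = t * z) : Subgroup S where
  carrier := {x | x = 1 ∨ x = z ∨ x = t ∨ x = z * t}
  one_mem' := Or.inl rfl
  mul_mem' := by
    have e1 : z * (z * t) = t := by rw [← mul_assoc, hz, one_mul]
    have e2 : t * (z * t) = z := by rw [← mul_assoc, ← hc, mul_assoc, ht, mul_one]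
    have e3 : z * t * z = t := by rw [hc, mul_assoc, hz, mul_one]
    have e4 : z * t * t = z := by rw [mul_assoc, ht, mul_one]
    have e5 : z * t * (z * t) = 1 := by rw [mul_assoc, e2, hz]
    rintro a b (rfl | rfl | rfl | rfl) (rfl | rfl | rfl | rfl) <;>
      simp only [Set.mem_ofPred_eq, one_mul, mul_one, hz, ht, e1, e2, e3, e4, e5, true_or, or_true,
        ← hc]
  inv_mem' := by
    have i1 : z⁻¹ = z := inv_eq_of_mul_eq_one_right hz
    have i2 : t⁻¹ = t := inv_eq_of_mul_eq_one_right ht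
    have i3 : (z * t)⁻¹ = z * t := by rw [mul_inv_rev, i1, i2, hc]
    rintro a (rfl | rfl | rfl | rfl) <;>
      simp only [Set.mem_ofPred_eq, inv_one, i1, i2, i3, true_or, or_true]

theorem mem_fourSub {z t : S} {hz : z * z = 1} {ht : t * t = 1} {hc : z * t = t * z} {x : S} :
    x ∈ fourSub z t hz ht hc ↔ x = 1 ∨ x = z ∨ x = t ∨ x = z * t := Iff.rfl

theorem sq_fourSub {z t : S} {hz : z * z = 1} {ht : t * t = 1} {hc : z * t = t * z} :
    ∀ b ∈ fourSub z t hz ht hc, b ^ 2 = 1 := by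
  rintro b (rfl | rfl | rfl | rfl)
  · exact one_pow 2
  · rw [sq]; exact hz
  · rw [sq]; exact ht
  · rw [sq, mul_assoc, ← mul_assoc t, ← hc, mul_assoc, ht, mul_one, hz]

theorem fourSub_le {z t : S} {hz : z * z = 1} {ht : t * t = 1} {hc : z * t = t * z}
    {B : Subgroup S} (hzB : z ∈ B) (htB : t ∈ B) : fourSub z t hz ht hc ≤ B := by
  rintro b (rfl | rfl | rfl | rfl)
  · exact B.one_mem
  · exact hzB
  · exact htB
  · exact B.mul_mem hzB htB

theorem card_fourSub {z t : S} {hz : z * z = 1} {ht : t * t = 1} {hc : z * t = t * z}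
    (hz1 : z ≠ 1) (ht1 : t ≠ 1) (htz : t ≠ z) : Nat.card (fourSub z t hz ht hc) = 4 := by
  classical
  have hset : ((fourSub z t hz ht hc : Subgroup S) : Set S) = {1, z, t, z * t} := by
    ext x; simp [← SetLike.mem_coe, fourSub]
  have h1 : (1 : S) ∉ ({z, t, z * t} : Set S) := by
    simp only [Set.mem_insert_iff, Set.mem_singleton_iff, not_or]
    refine ⟨fun h => hz1 h.symm, fun h => ht1 h.symm, fun h => ?_⟩
    apply htz
    have : t = z⁻¹ := eq_inv_of_mul_eq_one_right h.symm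
    rw [this]; exact inv_eq_of_mul_eq_one_right hz
  have h2 : z ∉ ({t, z * t} : Set S) := by
    simp only [Set.mem_insert_iff, Set.mem_singleton_iff, not_or]
    refine ⟨fun h => htz h.symm, fun h => ht1 ?_⟩
    exact (mul_eq_left.mp h.symm)
  have h3 : t ∉ ({z * t} : Set S) := by
    simp only [Set.mem_singleton_iff]
    intro h
    exact hz1 (mul_eq_right.mp h.symm)
  have : Nat.card (fourSub z t hz ht hc) = Set.ncard ((fourSub z t hz ht hc : Subgroup S) : Set S) := by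
    rw [← Nat.card_coe_set_eq]; rfl
  rw [this, hset, Set.ncard_insert_of_notMem h1, Set.ncard_insert_of_notMem h2,
    Set.ncard_insert_of_notMem h3, Set.ncard_singleton]

end D8

section Rel

variable {S : Type*} [Group S]

theorem gen_of_ind (A : Subgroup S) (comm : ∀ x ∈ A, ∀ y ∈ A, x * y = y * x)
    (exp3 : ∀ x ∈ A, x ^ 3 = 1) (card9 : Nat.card A = 9) {v w : S} (hv : v ∈ A) (hw : w ∈ A)
    (hv1 : v ≠ 1) (hind : ∀ k : ℤ, w ≠ v ^ k) :
    ∀ x ∈ A, ∃ i j : ℕ, x = v ^ i * w ^ j := by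
  intro x hx
  let _ : CommGroup A :=
    { (inferInstance : Group A) with
      mul_comm := fun x y => Subtype.ext (comm x x.2 y y.2) }
  have : Finite A := Nat.finite_of_card_ne_zero (by rw [card9]; norm_num)
  obtain ⟨i, j, hij⟩ := exists_pow_mul_pow (G := A)
    (fun x => Subtype.ext (by simpa using exp3 x x.2)) card9 ⟨v, hv⟩ ⟨w, hw⟩
    (by simpa [Subtype.ext_iff] using hv1)
    (fun k h => hind k (by simpa [Subtype.ext_iff] using h)) ⟨x, hx⟩
  refine ⟨i, j, ?_⟩
  simpa [Subtype.ext_iff] using hij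

/-- the relations of `⟨r, s⟩ ≅ D₈` acting on `A ≅ 3²`, with `a ∈ C_A(s)` -/
structure Rel (A : Subgroup S) (r s a : S) : Prop where
  comm : ∀ x ∈ A, ∀ y ∈ A, x * y = y * x
  exp3 : ∀ x ∈ A, x ^ 3 = 1
  card9 : Nat.card A = 9
  conj_mem : ∀ x ∈ A, ∀ g : S, g * x * g⁻¹ ∈ A
  r4 : r ^ 4 = 1
  s2 : s ^ 2 = 1
  sr : s * r * s⁻¹ = r⁻¹
  zinv : ∀ x ∈ A, r ^ 2 * x * (r ^ 2)⁻¹ = x⁻¹
  ha : a ∈ A
  ha1 : a ≠ 1
  sa : s * a * s⁻¹ = a

namespace Rel

variable {A : Subgroup S} {r s a : S} (R : Rel A r s a)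
include R

theorem zz : r ^ 2 * r ^ 2 = 1 := by rw [← pow_add]; exact R.r4

theorem z_inv : (r ^ 2)⁻¹ = r ^ 2 := inv_eq_of_mul_eq_one_right R.zz

theorem ss : s * s = 1 := by rw [← sq]; exact R.s2

theorem s_inv : s⁻¹ = s := inv_eq_of_mul_eq_one_right R.ss

theorem r_inv : r⁻¹ = r * r ^ 2 := by
  apply inv_eq_of_mul_eq_one_right
  rw [← mul_assoc, ← sq, ← pow_add]; exact R.r4

theorem sz : s * r ^ 2 = r ^ 2 * s := by
  have h : s * r ^ 2 * s⁻¹ = r ^ 2 := by rw [← conj_pow, R.sr, inv_pow, R.z_inv]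
  rw [mul_inv_eq_iff_eq_mul] at h; exact h

theorem hb : r * a * r⁻¹ ∈ A := R.conj_mem a R.ha r

theorem rb : r * (r * a * r⁻¹) * r⁻¹ = a⁻¹ := by
  rw [← R.zinv a R.ha, sq]; group

theorem sb : s * (r * a * r⁻¹) * s⁻¹ = (r * a * r⁻¹)⁻¹ := by
  have h := R.zinv a⁻¹ (A.inv_mem R.ha)
  rw [inv_inv] at h
  calc s * (r * a * r⁻¹) * s⁻¹ = (s * r * s⁻¹) * (s * a * s⁻¹) * (s * r * s⁻¹)⁻¹ := by group
    _ = r⁻¹ * a * r := by rw [R.sr, R.sa, inv_inv]
    _ = r⁻¹ * (r ^ 2 * a⁻¹ * (r ^ 2)⁻¹) * r := by rw [h]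
    _ = (r * a * r⁻¹)⁻¹ := by rw [sq]; group

theorem a3 : a ^ 3 = 1 := R.exp3 a R.ha

theorem ind : ∀ k : ℤ, r * a * r⁻¹ ≠ a ^ k := by
  intro k h
  have h1 := R.sb
  rw [h, ← conj_zpow, R.sa] at h1
  -- a^k = (a^k)⁻¹
  have h3 : (a ^ k) ^ 3 = 1 := by
    rw [← zpow_natCast, ← zpow_mul, mul_comm, zpow_mul]
    have : a ^ ((3 : ℕ) : ℤ) = 1 := by rw [zpow_natCast]; exact R.a3
    rw [this, one_zpow]
  have h2 : (a ^ k) ^ 2 = 1 := by
    rw [sq]; nth_rewrite 1 [h1]; exact inv_mul_cancel _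
  have h4 : a ^ k = 1 := by
    have : (a ^ k) ^ 3 = (a ^ k) ^ 2 * a ^ k := pow_succ _ 2
    rw [h3, h2, one_mul] at this; exact this.symm
  rw [h4] at h
  exact R.ha1 (conj_eq_one_iff.mp h)

theorem gen : ∀ x ∈ A, ∃ i j : ℕ, x = a ^ i * (r * a * r⁻¹) ^ j := by
  intro x hx
  let _ : CommGroup A :=
    { (inferInstance : Group A) with
      mul_comm := fun x y => Subtype.ext (R.comm x x.2 y y.2) }
  have : Finite A := Nat.finite_of_card_ne_zero (by rw [R.card9]; norm_num)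
  obtain ⟨i, j, hij⟩ := exists_pow_mul_pow (G := A)
    (fun x => Subtype.ext (by simpa using R.exp3 x x.2)) R.card9 ⟨a, R.ha⟩ ⟨_, R.hb⟩
    (by simpa [Subtype.ext_iff] using R.ha1)
    (fun k h => R.ind k (by simpa [Subtype.ext_iff] using h)) ⟨x, hx⟩
  refine ⟨i, j, ?_⟩
  simpa [Subtype.ext_iff] using hij

theorem g1 : r * a * r⁻¹ * r = r * a := by group

theorem g2 : a * r = r * (r * a * r⁻¹)⁻¹ := by
  have h := R.rb
  generalize r * a * r⁻¹ = b at h ⊢
  have : a = r * b⁻¹ * r⁻¹ := by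
    rw [← inv_inv a, ← h, mul_inv_rev, mul_inv_rev, inv_inv, mul_assoc]
  rw [this, inv_mul_cancel_right]

theorem g3 : a * s = s * a := by
  have h := R.sa
  rw [mul_inv_eq_iff_eq_mul] at h; exact h.symm

theorem g4 : r * a * r⁻¹ * s = s * (r * a * r⁻¹)⁻¹ := by
  have h := R.sb
  have : r * a * r⁻¹ = s⁻¹ * (r * a * r⁻¹)⁻¹ * s := by
    rw [← h]; group
  calc r * a * r⁻¹ * s = s⁻¹ * (r * a * r⁻¹)⁻¹ * s * s := by rw [← this]
    _ = s * (r * a * r⁻¹)⁻¹ := by rw [R.s_inv, mul_assoc, R.ss, mul_one]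

end Rel

end Rel

section Main

variable {S : Type*} [Group S] {M : Type*} [AddCommGroup M] [Module (ZMod 2) M]

theorem rho_mul (ρ : Representation (ZMod 2) S M) (g h : S) (m : M) :
    ρ g (ρ h m) = ρ (g * h) m := by
  rw [map_mul]; rfl

theorem rho_one (ρ : Representation (ZMod 2) S M) (m : M) : ρ 1 m = m := by
  rw [map_one]; rfl

theorem fix_conj (ρ : Representation (ZMod 2) S M) {g x y : S} (h : y * g = g * x) {m : M}
    (hm : ρ x m = m) : ρ y (ρ g m) = ρ g m := by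
  rw [rho_mul, h, ← rho_mul, hm]

theorem fix_inv (ρ : Representation (ZMod 2) S M) {x : S} {m : M} (hm : ρ x m = m) :
    ρ x⁻¹ m = m := by
  conv_lhs => rw [← hm]
  rw [rho_mul, inv_mul_cancel, rho_one]

theorem fix_of_inv (ρ : Representation (ZMod 2) S M) {x : S} {m : M} (hm : ρ x⁻¹ m = m) :
    ρ x m = m := by
  have := fix_inv ρ hm
  rwa [inv_inv] at this

theorem rho_inj (ρ : Representation (ZMod 2) S M) (g : S) {m : M} (hm : ρ g m = 0) : m = 0 := by
  have : ρ g⁻¹ (ρ g m) = m := by rw [rho_mul, inv_mul_cancel, rho_one]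
  rw [← this, hm, map_zero]

/-- the fixed space of an element -/
def fixS (ρ : Representation (ZMod 2) S M) (g : S) : Submodule (ZMod 2) M where
  carrier := {m | ρ g m = m}
  add_mem' := fun {x y} hx hy => by
    simp only [Set.mem_ofPred_eq] at *; rw [map_add, hx, hy]
  zero_mem' := by simp
  smul_mem' := fun c x hx => by
    simp only [Set.mem_ofPred_eq] at *; rw [map_smul, hx]

theorem mem_fixS {ρ : Representation (ZMod 2) S M} {g : S} {m : M} :
    m ∈ fixS ρ g ↔ ρ g m = m := Iff.rfl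

theorem pow_inv_of_inv (f : Module.End (ZMod 2) M) (N : Submodule (ZMod 2) M)
    (h : ∀ m ∈ N, f m ∈ N) (i : ℕ) : ∀ m ∈ N, (f ^ i) m ∈ N := by
  induction i with
  | zero => intro m hm; simpa using hm
  | succ n ih =>
    intro m hm
    rw [pow_succ, Module.End.mul_apply]
    exact ih _ (h m hm)

theorem zmod2_cases : ∀ i : ZMod 2, i = 0 ∨ i = 1 := by decide

theorem inv_invariant [Finite S] (ρ : Representation (ZMod 2) S M) (N : Submodule (ZMod 2) M)
    (g : S) (h : ∀ m ∈ N, ρ g m ∈ N) : ∀ m ∈ N, ρ g⁻¹ m ∈ N := by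
  have hg : g⁻¹ = g ^ (orderOf g - 1) := by
    apply inv_eq_of_mul_eq_one_right
    rw [← pow_succ', Nat.sub_add_cancel (orderOf_pos g), pow_orderOf_eq_one]
  rw [hg, map_pow]
  exact pow_inv_of_inv _ _ h _

theorem sigma_fix (ρ : Representation (ZMod 2) S M) (g : S) (hg : g * g * g = 1) (x : M) :
    ρ g (x + ρ g x + ρ g (ρ g x)) = x + ρ g x + ρ g (ρ g x) := by
  have : ρ g (ρ g (ρ g x)) = x := by rw [rho_mul, rho_mul, hg, rho_one]
  rw [map_add, map_add, this]; abel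

/-- decomposition of a module for `3²` in characteristic `2` into the fixed spaces of the four
subgroups of order `3` -/
theorem decomp (ρ : Representation (ZMod 2) S M) (a b : S) (hab : a * b = b * a)
    (ha3 : a * a * a = 1) (hb3 : b * b * b = 1) (m : M) :
    ∃ m₁ m₂ m₃ m₄ : M, ρ a m₁ = m₁ ∧ ρ b m₂ = m₂ ∧ ρ (a * b) m₃ = m₃ ∧ ρ (a⁻¹ * b) m₄ = m₄ ∧
      m = m₁ + m₂ + m₃ + m₄ := by
  have h2 : ∀ m : M, m + m = 0 := ZModModule.add_self
  have ainv : a⁻¹ = a * a := by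
    apply inv_eq_of_mul_eq_one_right; rw [← mul_assoc]; exact ha3
  have binv : b⁻¹ = b * b := by
    apply inv_eq_of_mul_eq_one_right; rw [← mul_assoc]; exact hb3
  have hab' : Commute a b := hab
  have e1 : a * b * (a * b) = a * (a * (b * b)) := by
    calc a * b * (a * b) = a * (b * a) * b := by group
      _ = a * (a * b) * b := by rw [hab]
      _ = a * (a * (b * b)) := by group
  have e0 : a * b * (a * b) * (a * b) = 1 := by
    calc a * b * (a * b) * (a * b) = a * (a * (b * b)) * (a * b) := by rw [e1]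
      _ = a * a * (b * b * a) * b := by group
      _ = a * a * (a * (b * b)) * b := by
          rw [(hab'.symm.mul_left hab'.symm).eq]
      _ = (a * a * a) * (b * b * b) := by group
      _ = 1 := by rw [ha3, hb3, one_mul]
  have hab2 : Commute (a * a) b := hab'.mul_left hab'
  have f1 : a⁻¹ * b * (a⁻¹ * b) = a * (b * b) := by
    rw [ainv]
    calc a * a * b * (a * a * b) = a * a * (b * (a * a)) * b := by group
      _ = a * a * (a * a * b) * b := by rw [hab2.symm.eq]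
      _ = (a * a * a) * a * (b * b) := by group
      _ = a * (b * b) := by rw [ha3, one_mul]
  have f0 : a⁻¹ * b * (a⁻¹ * b) * (a⁻¹ * b) = 1 := by
    rw [f1, ainv]
    calc a * (b * b) * (a * a * b) = a * (b * b * (a * a)) * b := by group
      _ = a * (a * a * (b * b)) * b := by
          rw [(hab2.symm.mul_left hab2.symm).eq]
      _ = (a * a * a) * (b * b * b) := by group
      _ = 1 := by rw [ha3, hb3, one_mul]
  refine ⟨(m + ρ b m + ρ b (ρ b m)) + ρ a (m + ρ b m + ρ b (ρ b m)) +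
      ρ a (ρ a (m + ρ b m + ρ b (ρ b m))) + (m + ρ a m + ρ a (ρ a m)),
    m + ρ b m + ρ b (ρ b m), m + ρ (a * b) m + ρ (a * b) (ρ (a * b) m),
    m + ρ (a⁻¹ * b) m + ρ (a⁻¹ * b) (ρ (a⁻¹ * b) m), ?_, sigma_fix ρ b hb3 m,
    sigma_fix ρ _ e0 m, sigma_fix ρ _ f0 m, ?_⟩
  · rw [map_add, sigma_fix ρ a ha3, sigma_fix ρ a ha3]
  · have c1 : ρ (a * b) m = ρ a (ρ b m) := (rho_mul ρ a b m).symm
    have c2 : ρ (a * b) (ρ (a * b) m) = ρ a (ρ a (ρ b (ρ b m))) := by
      rw [rho_mul, e1, ← rho_mul, ← rho_mul, ← rho_mul]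
    have c3 : ρ (a⁻¹ * b) m = ρ a (ρ a (ρ b m)) := by
      rw [ainv, ← rho_mul, ← rho_mul]
    have c4 : ρ (a⁻¹ * b) (ρ (a⁻¹ * b) m) = ρ a (ρ b (ρ b m)) := by
      rw [rho_mul, f1, ← rho_mul, ← rho_mul]
    rw [c2, c1, c4, c3]
    simp only [map_add]
    generalize ρ a (ρ a (ρ b (ρ b m))) = C22
    generalize ρ a (ρ a (ρ b m)) = C21
    generalize ρ a (ρ b (ρ b m)) = C12
    generalize ρ a (ρ b m) = C11
    generalize ρ a (ρ a m) = A2
    generalize ρ a m = A1
    generalize ρ b (ρ b m) = B2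
    generalize ρ b m = B1
    have key : m + B1 + B2 + (A1 + C11 + C12) + (A2 + C21 + C22) + (m + A1 + A2) + (m + B1 + B2) +
        (m + C11 + C22) + (m + C21 + C12) =
        m + ((m + m + A1 + A2 + B1 + B2 + C11 + C12 + C21 + C22) +
          (m + m + A1 + A2 + B1 + B2 + C11 + C12 + C21 + C22)) := by abel
    rw [key, h2, add_zero]

theorem fix_fourSub (ρ : Representation (ZMod 2) S M) {z t : S} {hz : z * z = 1}
    {ht : t * t = 1} {hc : z * t = t * z} (m : M) :
    (∀ b ∈ fourSub z t hz ht hc, ρ b m = m) ↔ ρ z m = m ∧ ρ t m = m := by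
  constructor
  · intro h
    exact ⟨h z (Or.inr (Or.inl rfl)), h t (Or.inr (Or.inr (Or.inl rfl)))⟩
  · rintro ⟨h1, h2⟩ b (rfl | rfl | rfl | rfl)
    · exact rho_one ρ m
    · exact h1
    · exact h2
    · rw [← rho_mul, h2, h1]

theorem main [Finite M] [Nontrivial M] (ρ : Representation (ZMod 2) S M) {A : Subgroup S}
    {r s a : S} (R : Rel A r s a) (hρa : ρ a ≠ 1)
    (hirr : ∀ N : Submodule (ZMod 2) M, (∀ x ∈ A, ∀ m ∈ N, ρ x m ∈ N) → (∀ m ∈ N, ρ r m ∈ N) →
      (∀ m ∈ N, ρ s m ∈ N) → N = ⊥ ∨ N = ⊤)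
    (hsum : ∀ m : M, ∃ m₁ m₂ : M, ρ a m₁ = m₁ ∧ ρ (r * a * r⁻¹) m₂ = m₂ ∧ m = m₁ + m₂) :
    Nat.card M = 16 ∧ Nat.card {m : M // ρ (r ^ 2) m = m ∧ ρ s m = m} = 4 ∧
      Nat.card {m : M // ρ (r ^ 2) m = m ∧ ρ (r * s) m = m} = 2 := by
  have h2 : ∀ m : M, m + m = 0 := ZModModule.add_self
  obtain ⟨z, hz⟩ : ∃ z, z = r ^ 2 := ⟨_, rfl⟩
  obtain ⟨b, hb⟩ : ∃ b, b = r * a * r⁻¹ := ⟨_, rfl⟩
  rw [← hz]
  rw [← hb] at hsum
  have hbA : b ∈ A := hb ▸ R.hb
  have haA : a ∈ A := R.ha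
  -- group identities
  have zz : z * z = 1 := hz ▸ R.zz
  have zrr : z = r * r := by rw [hz, sq]
  have ss : s * s = 1 := R.ss
  have sz : s * z = z * s := hz ▸ R.sz
  have rz : r * z = z * r := by rw [zrr, mul_assoc]
  have g1 : b * r = r * a := by rw [hb]; group
  have g2 : a * r = r * b⁻¹ := by
    have h := R.rb
    rw [← hb] at h
    have : a = r * b⁻¹ * r⁻¹ := by rw [← inv_inj, ← h]; group
    rw [this]; group
  have g3 : a * s = s * a := by
    have h := R.sa
    rw [mul_inv_eq_iff_eq_mul] at h; exact h.symm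
  have g4 : b * s = s * b⁻¹ := by
    have h := R.sb
    rw [← hb] at h
    have : b = s⁻¹ * b⁻¹ * s := by
      rw [← h]; group
    calc b * s = s⁻¹ * b⁻¹ * s * s := by rw [← this]
      _ = s * b⁻¹ := by rw [R.s_inv, mul_assoc, ss, mul_one]
  have g5 : s * r = r * (z * s) := by
    have h := R.sr
    rw [mul_inv_eq_iff_eq_mul] at h
    rw [h, R.r_inv, ← hz, mul_assoc]
  have b3 : b * b * b = 1 := by
    have := R.exp3 b hbA
    rw [pow_succ, sq] at this; exact this
  have binv : b⁻¹ = b * b := by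
    apply inv_eq_of_mul_eq_one_right
    rw [← mul_assoc]; exact b3
  have zb : z * b = b⁻¹ * z := by
    have h := R.zinv b hbA
    rw [← hz, mul_inv_eq_iff_eq_mul] at h; exact h
  have ab : a * b = b * a := R.comm a haA b hbA
  -- fixed space transfer
  have r12 : ∀ m, ρ a m = m → ρ b (ρ r m) = ρ r m := fun m hm => fix_conj ρ g1 hm
  have r21 : ∀ m, ρ b m = m → ρ a (ρ r m) = ρ r m := fun m hm => fix_conj ρ g2 (fix_inv ρ hm)
  have s11 : ∀ m, ρ a m = m → ρ a (ρ s m) = ρ s m := fun m hm => fix_conj ρ g3 hm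
  have s22 : ∀ m, ρ b m = m → ρ b (ρ s m) = ρ s m := fun m hm => fix_conj ρ g4 (fix_inv ρ hm)
  have zrr' : ∀ m, ρ z m = ρ r (ρ r m) := fun m => by rw [rho_mul, ← zrr]
  have z11 : ∀ m, ρ a m = m → ρ a (ρ z m) = ρ z m := fun m hm => by
    rw [zrr']; exact r21 _ (r12 _ hm)
  have z22 : ∀ m, ρ b m = m → ρ b (ρ z m) = ρ z m := fun m hm => by
    rw [zrr']; exact r12 _ (r21 _ hm)
  have A11 : ∀ x ∈ A, ∀ m, ρ a m = m → ρ a (ρ x m) = ρ x m := fun x hx m hm =>
    fix_conj ρ (R.comm a haA x hx) hm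
  have A22 : ∀ x ∈ A, ∀ m, ρ b m = m → ρ b (ρ x m) = ρ x m := fun x hx m hm =>
    fix_conj ρ (R.comm b hbA x hx) hm
  -- F₁ ⊓ F₂ = 0
  have h12 : ∀ m, ρ a m = m → ρ b m = m → m = 0 := by
    rcases hirr (fixS ρ a ⊓ fixS ρ b)
      (fun x hx m hm => ⟨A11 x hx m hm.1, A22 x hx m hm.2⟩)
      (fun m hm => ⟨r21 m hm.2, r12 m hm.1⟩)
      (fun m hm => ⟨s11 m hm.1, s22 m hm.2⟩) with h | h
    · intro m h1 h2'
      have : m ∈ fixS ρ a ⊓ fixS ρ b := ⟨h1, h2'⟩
      rw [h] at this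
      exact (Submodule.mem_bot _).mp this
    · exfalso
      apply hρa
      ext m
      have : m ∈ fixS ρ a ⊓ fixS ρ b := by rw [h]; trivial
      exact this.1
  -- F₁ ≠ 0
  have hF1 : ∃ m, m ≠ 0 ∧ ρ a m = m := by
    by_contra hcon
    push Not at hcon
    obtain ⟨m, hm⟩ := exists_ne (0 : M)
    obtain ⟨m₁, m₂, h1, h2', rfl⟩ := hsum m
    have e1 : m₁ = 0 := by
      by_contra h; exact hcon m₁ h h1
    have e2 : m₂ = 0 := by
      have : ρ r m₂ = 0 := by
        by_contra h; exact hcon _ h (r21 _ h2')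
      exact rho_inj ρ r this
    rw [e1, e2, add_zero] at hm
    exact hm rfl
  -- involutions preserving F₁ have nonzero fixed points there
  have invol : ∀ t : S, t * t = 1 → (∀ m, ρ a m = m → ρ a (ρ t m) = ρ t m) →
      ∃ m, m ≠ 0 ∧ ρ a m = m ∧ ρ t m = m := by
    intro t htt ht1
    obtain ⟨m, hm0, hm⟩ := hF1
    by_cases hcase : m + ρ t m = 0
    · refine ⟨m, hm0, hm, ?_⟩
      have : ρ t m = -m := by rw [eq_neg_iff_add_eq_zero, add_comm]; exact hcase
      rw [this, ZModModule.neg_eq_self]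
    · refine ⟨m + ρ t m, hcase, ?_, ?_⟩
      · rw [map_add, hm, ht1 m hm]
      · rw [map_add, rho_mul, htt, rho_one, add_comm]
  -- the sub-lemma: a nonzero subspace of F₁ invariant under b, z, s is F₁
  have SL : ∀ U : Submodule (ZMod 2) M, (∀ m ∈ U, ρ a m = m) → U ≠ ⊥ →
      (∀ m ∈ U, ρ b m ∈ U) → (∀ m ∈ U, ρ z m ∈ U) → (∀ m ∈ U, ρ s m ∈ U) →
      ∀ m, ρ a m = m → m ∈ U := by
    intro U hU1 hU0 hUb hUz hUs
    have inU : ∀ u ∈ U, u ∈ U ⊔ U.map (ρ r) := fun u hu => (le_sup_left : U ≤ _) hu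
    have inrU : ∀ u ∈ U, ρ r u ∈ U ⊔ U.map (ρ r) := fun u hu =>
      (le_sup_right : U.map (ρ r) ≤ _) (Submodule.mem_map_of_mem hu)
    have hNa : ∀ m ∈ U ⊔ U.map (ρ r), ρ a m ∈ U ⊔ U.map (ρ r) := by
      intro m hm
      obtain ⟨u, hu, v, hv, rfl⟩ := Submodule.mem_sup.mp hm
      obtain ⟨u', hu', rfl⟩ := Submodule.mem_map.mp hv
      rw [map_add]
      refine add_mem ?_ ?_
      · rw [hU1 u hu]; exact inU u hu
      · rw [rho_mul, g2, ← rho_mul, binv, ← rho_mul]
        exact inrU _ (hUb _ (hUb _ hu'))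
    have hNb : ∀ m ∈ U ⊔ U.map (ρ r), ρ b m ∈ U ⊔ U.map (ρ r) := by
      intro m hm
      obtain ⟨u, hu, v, hv, rfl⟩ := Submodule.mem_sup.mp hm
      obtain ⟨u', hu', rfl⟩ := Submodule.mem_map.mp hv
      rw [map_add]
      refine add_mem (inU _ (hUb u hu)) ?_
      rw [rho_mul, g1, ← rho_mul, hU1 u' hu']
      exact inrU _ hu'
    have hNr : ∀ m ∈ U ⊔ U.map (ρ r), ρ r m ∈ U ⊔ U.map (ρ r) := by
      intro m hm
      obtain ⟨u, hu, v, hv, rfl⟩ := Submodule.mem_sup.mp hm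
      obtain ⟨u', hu', rfl⟩ := Submodule.mem_map.mp hv
      rw [map_add]
      refine add_mem (inrU u hu) ?_
      rw [← zrr']
      exact inU _ (hUz u' hu')
    have hNs : ∀ m ∈ U ⊔ U.map (ρ r), ρ s m ∈ U ⊔ U.map (ρ r) := by
      intro m hm
      obtain ⟨u, hu, v, hv, rfl⟩ := Submodule.mem_sup.mp hm
      obtain ⟨u', hu', rfl⟩ := Submodule.mem_map.mp hv
      rw [map_add]
      refine add_mem (inU _ (hUs u hu)) ?_
      rw [rho_mul, g5, ← rho_mul, ← rho_mul]
      exact inrU _ (hUz _ (hUs _ hu'))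
    have hNA : ∀ x ∈ A, ∀ m ∈ U ⊔ U.map (ρ r), ρ x m ∈ U ⊔ U.map (ρ r) := by
      intro x hx m hm
      obtain ⟨i, j, hij⟩ := R.gen x hx
      rw [← hb] at hij
      rw [hij, map_mul, map_pow, map_pow, Module.End.mul_apply]
      exact pow_inv_of_inv _ _ hNa i _ (pow_inv_of_inv _ _ hNb j _ hm)
    have hN : U ⊔ U.map (ρ r) = ⊤ := by
      rcases hirr _ hNA hNr hNs with h | h
      · exfalso
        apply hU0
        rw [eq_bot_iff, ← h]; exact le_sup_left
      · exact h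
    intro m hm
    have hmN : m ∈ U ⊔ U.map (ρ r) := by rw [hN]; trivial
    obtain ⟨u, hu, v, hv, huv⟩ := Submodule.mem_sup.mp hmN
    obtain ⟨u', hu', rfl⟩ := Submodule.mem_map.mp hv
    have e1 : ρ r u' = m + u := by
      rw [← huv, add_comm u, add_assoc, h2, add_zero]
    have e2 : ρ r u' = 0 := by
      apply h12
      · rw [e1, map_add, hm, hU1 u hu]
      · exact r12 _ (hU1 u' hu')
    rw [e2, add_zero] at huv
    rw [← huv]; exact hu
  -- c = s z acts trivially on F₁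
  have cc : s * z * (s * z) = 1 := by
    rw [mul_assoc, ← mul_assoc z, ← sz, mul_assoc s z, zz, mul_one, ss]
  have c11 : ∀ m, ρ a m = m → ρ a (ρ (s * z) m) = ρ (s * z) m := fun m hm => by
    rw [← rho_mul]; exact s11 _ (z11 _ hm)
  have cb : s * z * b = b * (s * z) := by
    -- s z b = s b⁻¹ z = b s z
    have h4 : s * b⁻¹ = b * s := g4.symm
    rw [mul_assoc, zb, ← mul_assoc, h4, mul_assoc]
  have cz : s * z * z = z * (s * z) := by rw [← mul_assoc, sz]
  have cs : s * z * s = s * (s * z) := by rw [mul_assoc, ← sz]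
  have hc : ∀ m, ρ a m = m → ρ (s * z) m = m := by
    have hU0 : fixS ρ a ⊓ fixS ρ (s * z) ≠ ⊥ := by
      obtain ⟨m, hm0, hm1, hm2⟩ := invol (s * z) cc c11
      intro h
      have : m ∈ fixS ρ a ⊓ fixS ρ (s * z) := ⟨hm1, hm2⟩
      rw [h] at this
      exact hm0 ((Submodule.mem_bot _).mp this)
    intro m hm
    exact (SL (fixS ρ a ⊓ fixS ρ (s * z)) (fun m hm => hm.1) hU0
      (fun m hm => ⟨A11 b hbA m hm.1, fix_conj ρ cb hm.2⟩)
      (fun m hm => ⟨z11 m hm.1, fix_conj ρ cz hm.2⟩)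
      (fun m hm => ⟨s11 m hm.1, fix_conj ρ cs hm.2⟩) m hm).2
  have hsz' : ∀ m, ρ a m = m → ρ s m = ρ z m := by
    intro m hm
    have : s = s * z * z := by rw [mul_assoc, zz, mul_one]
    conv_lhs => rw [this]
    rw [← rho_mul]
    exact hc _ (z11 _ hm)
  -- the vector m₀
  obtain ⟨m₀, hm0, hm0a, hm0z⟩ := invol z zz z11
  have hbm0a : ρ a (ρ b m₀) = ρ b m₀ := A11 b hbA m₀ hm0a
  have hrel : ρ b (ρ b m₀) = m₀ + ρ b m₀ := by
    have ht : m₀ + ρ b m₀ + ρ b (ρ b m₀) = 0 := by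
      apply h12
      · rw [map_add, map_add, hm0a, hbm0a, A11 b hbA _ hbm0a]
      · rw [map_add, map_add]
        have : ρ b (ρ b (ρ b m₀)) = m₀ := by
          rw [rho_mul, rho_mul, b3, rho_one]
        rw [this]; abel
    have : ρ b (ρ b m₀) = -(m₀ + ρ b m₀) := by
      rw [eq_neg_iff_add_eq_zero, add_comm]; exact ht
    rw [this, ZModModule.neg_eq_self]
  have hzb0 : ρ z (ρ b m₀) = m₀ + ρ b m₀ := by
    rw [rho_mul, zb, ← rho_mul, hm0z, binv, ← rho_mul, hrel]
  have hspan : ∀ m, ρ a m = m → ∃ i j : ZMod 2, m = i • m₀ + j • ρ b m₀ := by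
    have hU1 : ∀ m ∈ Submodule.span (ZMod 2) {m₀, ρ b m₀}, ρ a m = m := by
      have : Submodule.span (ZMod 2) {m₀, ρ b m₀} ≤ fixS ρ a := by
        rw [Submodule.span_le]
        rintro x (rfl | rfl)
        · exact hm0a
        · exact hbm0a
      exact fun m hm => this hm
    have hm0U : m₀ ∈ Submodule.span (ZMod 2) {m₀, ρ b m₀} :=
      Submodule.subset_span (by simp)
    have hbm0U : ρ b m₀ ∈ Submodule.span (ZMod 2) {m₀, ρ b m₀} :=
      Submodule.subset_span (by simp)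
    have hU0 : Submodule.span (ZMod 2) {m₀, ρ b m₀} ≠ ⊥ := by
      intro h
      rw [h] at hm0U
      exact hm0 ((Submodule.mem_bot _).mp hm0U)
    have hUb : ∀ m ∈ Submodule.span (ZMod 2) {m₀, ρ b m₀},
        ρ b m ∈ Submodule.span (ZMod 2) {m₀, ρ b m₀} := by
      have : Submodule.map (ρ b) (Submodule.span (ZMod 2) {m₀, ρ b m₀}) ≤
          Submodule.span (ZMod 2) {m₀, ρ b m₀} := by
        rw [Submodule.map_span_le]
        rintro x (rfl | rfl)
        · exact hbm0U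
        · rw [hrel]; exact add_mem hm0U hbm0U
      exact fun m hm => this (Submodule.mem_map_of_mem hm)
    have hUz : ∀ m ∈ Submodule.span (ZMod 2) {m₀, ρ b m₀},
        ρ z m ∈ Submodule.span (ZMod 2) {m₀, ρ b m₀} := by
      have : Submodule.map (ρ z) (Submodule.span (ZMod 2) {m₀, ρ b m₀}) ≤
          Submodule.span (ZMod 2) {m₀, ρ b m₀} := by
        rw [Submodule.map_span_le]
        rintro x (rfl | rfl)
        · rw [hm0z]; exact hm0U
        · rw [hzb0]; exact add_mem hm0U hbm0U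
      exact fun m hm => this (Submodule.mem_map_of_mem hm)
    have hUs : ∀ m ∈ Submodule.span (ZMod 2) {m₀, ρ b m₀},
        ρ s m ∈ Submodule.span (ZMod 2) {m₀, ρ b m₀} := by
      intro m hm
      rw [hsz' m (hU1 m hm)]; exact hUz m hm
    intro m hm
    have := SL _ hU1 hU0 hUb hUz hUs m hm
    obtain ⟨i, j, hij⟩ := Submodule.mem_span_pair.mp this
    exact ⟨i, j, hij.symm⟩
  -- independence of m₀, b m₀
  have hindep : ∀ i j : ZMod 2, i • m₀ + j • ρ b m₀ = 0 → i = 0 ∧ j = 0 := by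
    intro i j hij
    have hb0 : ρ b m₀ ≠ 0 := fun h => hm0 (rho_inj ρ b h)
    rcases zmod2_cases i with rfl | rfl <;> rcases zmod2_cases j with rfl | rfl
    · exact ⟨rfl, rfl⟩
    · exfalso; rw [zero_smul, zero_add, one_smul] at hij; exact hb0 hij
    · exfalso; rw [zero_smul, add_zero, one_smul] at hij; exact hm0 hij
    · exfalso
      rw [one_smul, one_smul] at hij
      have : ρ b m₀ = m₀ := by
        have : ρ b m₀ = -m₀ := by rw [eq_neg_iff_add_eq_zero, add_comm]; exact hij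
        rw [this, ZModModule.neg_eq_self]
      exact hm0 (h12 m₀ hm0a this)
  -- coordinates
  let e : (Fin 4 → ZMod 2) → M := fun x =>
    x 0 • m₀ + x 1 • ρ b m₀ + ρ r (x 2 • m₀ + x 3 • ρ b m₀)
  have hpa : ∀ i j : ZMod 2, ρ a (i • m₀ + j • ρ b m₀) = i • m₀ + j • ρ b m₀ := by
    intro i j; rw [map_add, map_smul, map_smul, hm0a, hbm0a]
  have einj : Function.Injective e := by
    intro x y hxy
    simp only [e] at hxy
    -- difference
    have hd : ((x 0 - y 0) • m₀ + (x 1 - y 1) • ρ b m₀) +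
        ρ r ((x 2 - y 2) • m₀ + (x 3 - y 3) • ρ b m₀) = 0 := by
      have : ((x 0 - y 0) • m₀ + (x 1 - y 1) • ρ b m₀) +
          ρ r ((x 2 - y 2) • m₀ + (x 3 - y 3) • ρ b m₀) =
          (x 0 • m₀ + x 1 • ρ b m₀ + ρ r (x 2 • m₀ + x 3 • ρ b m₀)) -
          (y 0 • m₀ + y 1 • ρ b m₀ + ρ r (y 2 • m₀ + y 3 • ρ b m₀)) := by
        simp only [sub_smul, map_add, map_sub]; abel
      rw [this, hxy, sub_self]
    have hq : ρ r ((x 2 - y 2) • m₀ + (x 3 - y 3) • ρ b m₀) = 0 := by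
      apply h12
      · have : ρ r ((x 2 - y 2) • m₀ + (x 3 - y 3) • ρ b m₀) =
            -((x 0 - y 0) • m₀ + (x 1 - y 1) • ρ b m₀) := by
          rw [eq_neg_iff_add_eq_zero, add_comm]; exact hd
        rw [this, map_neg, hpa]
      · exact r12 _ (hpa _ _)
    rw [hq, add_zero] at hd
    have hq' := rho_inj ρ r hq
    obtain ⟨h0, h1⟩ := hindep _ _ hd
    obtain ⟨h2', h3⟩ := hindep _ _ hq'
    funext k
    fin_cases k
    · exact sub_eq_zero.mp h0
    · exact sub_eq_zero.mp h1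
    · exact sub_eq_zero.mp h2'
    · exact sub_eq_zero.mp h3
  have esurj : Function.Surjective e := by
    intro m
    obtain ⟨m₁, m₂, h1, h2', rfl⟩ := hsum m
    obtain ⟨i, j, hij⟩ := hspan m₁ h1
    have h3 : ρ a (ρ z (ρ r m₂)) = ρ z (ρ r m₂) := z11 _ (r21 _ h2')
    obtain ⟨k, l, hkl⟩ := hspan _ h3
    refine ⟨![i, j, k, l], ?_⟩
    simp only [e, Matrix.cons_val_zero, Matrix.cons_val_one, Matrix.cons_val]
    rw [← hij, ← hkl, rho_mul, rho_mul, rz, mul_assoc, ← zrr, zz, rho_one]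
  have ebij : Function.Bijective e := ⟨einj, esurj⟩
  -- the actions in coordinates
  have hzp : ∀ i j : ZMod 2, ρ z (i • m₀ + j • ρ b m₀) = (i + j) • m₀ + j • ρ b m₀ := by
    intro i j
    rw [map_add, map_smul, map_smul, hm0z, hzb0]; module
  have hze : ∀ x, ρ z (e x) = e ![x 0 + x 1, x 1, x 2 + x 3, x 3] := by
    intro x
    simp only [e, Matrix.cons_val_zero, Matrix.cons_val_one, Matrix.cons_val]
    rw [map_add, hzp, rho_mul, ← rz, ← rho_mul, hzp]
  have hse : ∀ x, ρ s (e x) = e ![x 0 + x 1, x 1, x 2, x 3] := by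
    intro x
    simp only [e, Matrix.cons_val_zero, Matrix.cons_val_one, Matrix.cons_val]
    rw [map_add, hsz' _ (hpa _ _), hzp, rho_mul, g5, ← rho_mul, ← rho_mul, hsz' _ (hpa _ _),
      rho_mul ρ z z, zz, rho_one]
  have hrse : ∀ x, ρ (r * s) (e x) = e ![x 2 + x 3, x 3, x 0 + x 1, x 1] := by
    intro x
    rw [← rho_mul, hse]
    simp only [e, Matrix.cons_val_zero, Matrix.cons_val_one, Matrix.cons_val]
    rw [map_add, ← zrr', hzp, add_comm]
  refine ⟨?_, ?_, ?_⟩
  · rw [← Nat.card_congr (Equiv.ofBijective e ebij)]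
    simp [Nat.card_eq_fintype_card]
  · have c1 : Nat.card {m : M // ρ z m = m ∧ ρ s m = m} =
        Nat.card {x : Fin 4 → ZMod 2 // (![x 0 + x 1, x 1, x 2 + x 3, x 3] = x ∧
          ![x 0 + x 1, x 1, x 2, x 3] = x)} := by
      symm
      apply Nat.card_congr
      exact Equiv.subtypeEquiv (Equiv.ofBijective e ebij) (fun x => by
        simp only [Equiv.ofBijective_apply]
        rw [hze, hse]
        exact ⟨fun h => ⟨congrArg e h.1, congrArg e h.2⟩, fun h => ⟨einj h.1, einj h.2⟩⟩)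
    rw [c1, Nat.card_eq_fintype_card]
    decide
  · have c1 : Nat.card {m : M // ρ z m = m ∧ ρ (r * s) m = m} =
        Nat.card {x : Fin 4 → ZMod 2 // (![x 0 + x 1, x 1, x 2 + x 3, x 3] = x ∧
          ![x 2 + x 3, x 3, x 0 + x 1, x 1] = x)} := by
      symm
      apply Nat.card_congr
      exact Equiv.subtypeEquiv (Equiv.ofBijective e ebij) (fun x => by
        simp only [Equiv.ofBijective_apply]
        rw [hze, hrse]
        exact ⟨fun h => ⟨congrArg e h.1, congrArg e h.2⟩, fun h => ⟨einj h.1, einj h.2⟩⟩)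
    rw [c1, Nat.card_eq_fintype_card]
    decide

end Main

end Cfsg.Agent.Helper21.D8Mod
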