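import Mathlib
import Cfsg.Prelude.Def_Transfer
import Cfsg.Agent.Lib.Helper19.PGroupBasic
import Cfsg.Agent.Lib.Helper22.ClassTwo
import Cfsg.Agent.Lib.Helper24.NilpotentSplit
import Cfsg.Agent.Lib.Helper26.OrderCube
import Cfsg.Agent.Lib.Lead.DihedralRecog
import Cfsg.Agent.Lib.Helper14.PowerTransv

set_option autoImplicit false

/-! Generalized extraspecial `p`-groups (Frattini subgroup = derived subgroup of order `p`) in which
the centralizer of some element is elementary abelian: such a group is `E × A` with `E` of order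
`p ^ 3`, and `E` is dihedral or of exponent `p` unless every element outside that centralizer has
order `p ^ 2`. -/

namespace Cfsg.Agent.Helper21.GenExtra

open scoped commutatorElement

section Complement

variable {V : Type*} [Group V] [Finite V] {p : ℕ} [hp : Fact p.Prime]

omit [Finite V] in
theorem mem_zpowers_zpow_of_exp (hexp : ∀ v : V, v ^ p = 1) (c : V) (i : ℤ) (hci : c ^ i ≠ 1) :
    c ∈ Subgroup.zpowers (c ^ i) := by
  have hpi : ¬ (p : ℤ) ∣ i := by
    rintro ⟨j, rfl⟩
    apply hci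
    rw [zpow_mul, zpow_natCast, hexp, one_zpow]
  obtain ⟨k', m, hm⟩ := Cfsg.Agent.Helper14.PowerTransv.exists_inv_mod i hpi
  refine ⟨k', ?_⟩
  show (c ^ i) ^ k' = c
  rw [← zpow_mul]
  have : i * k' = 1 + (p : ℤ) * m := by linarith
  rw [this, zpow_add, zpow_one, zpow_mul, zpow_natCast, hexp, one_zpow, mul_one]

/-- in an elementary abelian `p`-group every subgroup disjoint from `H` extends to a complement
of `H` -/
theorem exists_complement_ge (hcomm : ∀ a b : V, a * b = b * a) (hexp : ∀ v : V, v ^ p = 1)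
    (H K0 : Subgroup V) (h0 : H ⊓ K0 = ⊥) :
    ∃ K : Subgroup V, K0 ≤ K ∧ H ⊓ K = ⊥ ∧ H ⊔ K = ⊤ := by
  classical
  letI : CommGroup V := { (inferInstance : Group V) with mul_comm := hcomm }
  have hfin : {K : Subgroup V | K0 ≤ K ∧ H ⊓ K = ⊥}.Finite := Set.toFinite _
  obtain ⟨K, -, hKmax⟩ := hfin.exists_le_maximal (a := K0) ⟨le_rfl, h0⟩
  obtain ⟨hK0, hHK⟩ := hKmax.prop
  refine ⟨K, hK0, hHK, ?_⟩
  by_contra hne
  obtain ⟨c, hc⟩ : ∃ c : V, c ∉ H ⊔ K := by
    by_contra h
    push Not at h
    exact hne (eq_top_iff.mpr fun x _ => h x)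
  have hK' : K0 ≤ K ⊔ Subgroup.zpowers c ∧ H ⊓ (K ⊔ Subgroup.zpowers c) = ⊥ := by
    refine ⟨hK0.trans le_sup_left, ?_⟩
    rw [eq_bot_iff]
    intro y hy
    obtain ⟨hyH, hyK'⟩ := Subgroup.mem_inf.mp hy
    obtain ⟨k, hk, z, hz, rfl⟩ := Subgroup.mem_sup.mp hyK'
    obtain ⟨i, rfl⟩ := Subgroup.mem_zpowers_iff.mp hz
    by_cases hci : c ^ i = 1
    · rw [hci, mul_one] at hyH ⊢
      rw [← hHK]; exact ⟨hyH, hk⟩
    · exfalso
      apply hc
      have h1 : c ^ i ∈ H ⊔ K := by
        have : c ^ i = (k * c ^ i) * k⁻¹ := by rw [mul_comm, inv_mul_cancel_left]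
        rw [this]
        exact Subgroup.mul_mem _ (Subgroup.mem_sup_left hyH)
          (Subgroup.mem_sup_right (K.inv_mem hk))
      have h2 := mem_zpowers_zpow_of_exp hexp c i hci
      exact (Subgroup.zpowers_le.mpr h1) h2
  have hle := hKmax.le_of_ge hK' le_sup_left
  exact hc (Subgroup.mem_sup_right (hle (Subgroup.mem_sup_right (Subgroup.mem_zpowers c))))

end Complement

section Class2

variable {X : Type*} [Group X]

/-- `u ↦ ⁅u, v⁆` as a homomorphism when commutators are central -/
def commHom (hc : ∀ a b : X, ⁅a, b⁆ ∈ Subgroup.center X) (v : X) : X →* X where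
  toFun u := ⁅u, v⁆
  map_one' := commutatorElement_one_left v
  map_mul' u u' := by
    have h1 := Subgroup.mem_center_iff.mp (hc u' v)
    have h2 : ⁅u * u', v⁆ = u * ⁅u', v⁆ * u⁻¹ * ⁅u, v⁆ := by
      simp only [commutatorElement_def]; group
    rw [h2, h1 u, mul_inv_cancel_right, ← h1 ⁅u, v⁆]

theorem commHom_apply (hc : ∀ a b : X, ⁅a, b⁆ ∈ Subgroup.center X) (v u : X) :
    commHom hc v u = ⁅u, v⁆ := rfl

theorem commHom_eq_one_iff (hc : ∀ a b : X, ⁅a, b⁆ ∈ Subgroup.center X) (v u : X) :
    commHom hc v u = 1 ↔ Commute u v := by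
  rw [commHom_apply, commutatorElement_eq_one_iff_commute]

theorem commHom_ker (hc : ∀ a b : X, ⁅a, b⁆ ∈ Subgroup.center X) (v : X) :
    (commHom hc v).ker = Subgroup.centralizer {v} := by
  ext u
  rw [MonoidHom.mem_ker, commHom_eq_one_iff, Subgroup.mem_centralizer_singleton_iff]
  exact ⟨fun h => h.eq, fun h => h⟩

theorem commHom_range_le (hc : ∀ a b : X, ⁅a, b⁆ ∈ Subgroup.center X) (v : X) :
    (commHom hc v).range ≤ commutator X := by
  rintro _ ⟨u, rfl⟩
  rw [commHom_apply, commutator_def]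
  exact Subgroup.commutator_mem_commutator (Subgroup.mem_top u) (Subgroup.mem_top v)

/-- a subgroup of prime index is maximal -/
theorem eq_top_of_index_prime {p : ℕ} (hp : p.Prime) {H K : Subgroup X} (hHK : H ≤ K)
    (hidx : H.index = p) {t : X} (htK : t ∈ K) (htH : t ∉ H) : K = ⊤ := by
  have h1 := Subgroup.relIndex_mul_index hHK
  rw [hidx] at h1
  have h2 : K.index ∣ p := Dvd.intro_left _ h1
  rcases (Nat.dvd_prime hp).mp h2 with h3 | h3
  · exact Subgroup.index_eq_one.mp h3
  · exfalso
    rw [h3] at h1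
    have h4 : H.relIndex K = 1 := by
      have : H.relIndex K * p = 1 * p := by rw [h1, one_mul]
      exact Nat.eq_of_mul_eq_mul_right hp.pos this
    exact htH (Subgroup.relIndex_eq_one.mp h4 htK)

/-- the `p`-th power of `d * x` when `d` has order `p`, in class two, `p` odd -/
theorem mul_pow_of_pow_eq_one {p : ℕ} [hp : Fact p.Prime] (hp2 : p ≠ 2)
    (hc : ∀ a b : X, ⁅a, b⁆ ∈ Subgroup.center X) (hcp : ∀ a b : X, ⁅a, b⁆ ^ p = 1)
    (d x : X) (hd : d ^ p = 1) : (d * x) ^ p = x ^ p := by
  have hc' : ∀ g : X, g * ⁅x, d⁆ = ⁅x, d⁆ * g :=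
    fun g => Subgroup.mem_center_iff.mp (hc x d) g
  have h := Cfsg.Agent.Helper22.mul_pow_eq_of_central d x ⁅x, d⁆ hc'
    (Cfsg.Agent.Helper22.mul_eq_commutator_mul d x) p
  have hdvd : p ∣ p.choose 2 := by
    apply hp.out.dvd_choose_self (by norm_num)
    have := hp.out.two_le
    omega
  obtain ⟨k, hk⟩ := hdvd
  rw [h, hk, pow_mul, hcp, one_pow, hd, one_mul, one_mul]

end Class2

section GE

variable {X : Type*} [Group X] [Finite X] {p : ℕ} [hp : Fact p.Prime]

/-- the index of the centralizer of a non-central element -/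
theorem index_centralizer (hc : ∀ a b : X, ⁅a, b⁆ ∈ Subgroup.center X)
    (hZ : Nat.card (commutator X) = p) {v t : X} (htv : ¬ Commute t v) :
    (Subgroup.centralizer ({v} : Set X)).index = p := by
  rw [← commHom_ker hc v, Subgroup.index_ker]
  have h1 : Nat.card (commHom hc v).range ∣ p := by
    rw [← hZ]; exact Subgroup.card_dvd_of_le (commHom_range_le hc v)
  rcases (Nat.dvd_prime hp.out).mp h1 with h2 | h2
  · exfalso
    have h3 : (commHom hc v).range = ⊥ := Subgroup.card_eq_one.mp h2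
    have h4 : commHom hc v t ∈ (commHom hc v).range := ⟨t, rfl⟩
    rw [h3, Subgroup.mem_bot, commHom_eq_one_iff] at h4
    exact htv h4
  · exact h2

/-- the splitting of a generalized extraspecial group with an elementary abelian centralizer -/
theorem ge_split (hX : IsPGroup p X) (hΦ : frattini X = commutator X)
    (hZ : Nat.card (commutator X) = p) (z1 t : X)
    (hab : ∀ u v : X, Commute u z1 → Commute v z1 → Commute u v)
    (hexp : ∀ u : X, Commute u z1 → u ^ p = 1)
    (htz : ¬ Commute t z1) (htp : t ^ p = 1) :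
    ∃ E M : Subgroup X, E.IsComplement' M ∧ (∀ x ∈ E, ∀ y ∈ M, x * y = y * x) ∧
      Nat.card E = p ^ 3 ∧ t ∈ E ∧ z1 ∈ E ∧ (∀ m ∈ M, m ^ p = 1) ∧
      (∀ m ∈ M, ∀ m' ∈ M, m * m' = m' * m) := by
  classical
  have hpp := hp.out
  have hcen : commutator X ≤ Subgroup.center X :=
    Cfsg.Agent.Helper19.normal_card_prime_le_center hX _ hZ
  have hc : ∀ a b : X, ⁅a, b⁆ ∈ Subgroup.center X := fun a b => hcen (by
    rw [commutator_def]
    exact Subgroup.commutator_mem_commutator (Subgroup.mem_top a) (Subgroup.mem_top b))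
  have hcz : ∀ c ∈ Subgroup.center X, ∀ g : X, Commute c g := fun c hcC g =>
    (Subgroup.mem_center_iff.mp hcC g).symm
  have hcexp : ∀ c ∈ Subgroup.center X, c ^ p = 1 := fun c hcC => hexp c (hcz c hcC z1)
  have hz1p : z1 ^ p = 1 := hexp z1 (Commute.refl z1)
  obtain ⟨w, hw⟩ : ∃ w : X, w = ⁅t, z1⁆ := ⟨_, rfl⟩
  have hw1 : w ≠ 1 := by
    rw [hw]; intro h; exact htz (commutatorElement_eq_one_iff_commute.mp h)
  have hwC : w ∈ Subgroup.center X := hw ▸ hc t z1
  have hwp : w ^ p = 1 := hcexp w hwC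
  have hwo : orderOf w = p := orderOf_eq_prime hwp hw1
  have hw' : ⁅z1, t⁆ = w⁻¹ := by rw [hw, commutatorElement_inv]
  -- the centralizer of `z1`
  obtain ⟨B, hB⟩ : ∃ B : Subgroup X, B = Subgroup.centralizer ({z1} : Set X) := ⟨_, rfl⟩
  have hBmem : ∀ u : X, u ∈ B ↔ Commute u z1 := by
    intro u
    rw [hB, Subgroup.mem_centralizer_singleton_iff]
    exact ⟨fun h => h, fun h => h⟩
  have hBidx : B.index = p := hB ▸ index_centralizer hc hZ htz
  have htB : t ∉ B := fun h => htz ((hBmem t).mp h)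
  have hcenB : Subgroup.center X ≤ B := fun c hcC => (hBmem c).mpr (hcz c hcC z1)
  have hBcen : ∀ b ∈ B, Commute b t → b ∈ Subgroup.center X := by
    intro b hbB hbt
    have h1 : Subgroup.centralizer ({b} : Set X) = ⊤ := by
      apply eq_top_of_index_prime hpp (H := B) ?_ hBidx (t := t) ?_ htB
      · intro u huB
        rw [Subgroup.mem_centralizer_singleton_iff]
        exact (hab u b ((hBmem u).mp huB) ((hBmem b).mp hbB)).eq
      · rw [Subgroup.mem_centralizer_singleton_iff]
        exact hbt.symm.eq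
    rw [Subgroup.mem_center_iff]
    intro g
    have : g ∈ Subgroup.centralizer ({b} : Set X) := h1 ▸ Subgroup.mem_top g
    exact Subgroup.mem_centralizer_singleton_iff.mp this
  -- cardinalities
  have hcardB : Nat.card B = p * Nat.card (Subgroup.center X) := by
    obtain ⟨g, hg⟩ : ∃ g : ↥B →* X, g = (commHom hc t).comp B.subtype := ⟨_, rfl⟩
    have hgapp : ∀ b : ↥B, g b = ⁅(b : X), t⁆ := fun b => by rw [hg]; rfl
    have hker : g.ker = (Subgroup.center X).subgroupOf B := by
      ext b
      rw [MonoidHom.mem_ker, Subgroup.mem_subgroupOf, hgapp,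
        commutatorElement_eq_one_iff_commute]
      exact ⟨fun h => hBcen b b.2 h, fun h => hcz _ h t⟩
    have hrange : Nat.card g.range = p := by
      have h1 : Nat.card g.range ∣ p := by
        rw [← hZ]; apply Subgroup.card_dvd_of_le
        rintro _ ⟨b, rfl⟩
        rw [hgapp, commutator_def]
        exact Subgroup.commutator_mem_commutator (Subgroup.mem_top _) (Subgroup.mem_top _)
      rcases (Nat.dvd_prime hpp).mp h1 with h2 | h2
      · exfalso
        have h3 : g.range = ⊥ := Subgroup.card_eq_one.mp h2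
        have h4 : g ⟨z1, (hBmem z1).mpr (Commute.refl z1)⟩ ∈ g.range := ⟨_, rfl⟩
        rw [h3, Subgroup.mem_bot, hgapp] at h4
        have h5 : ⁅z1, t⁆ = 1 := h4
        rw [hw', inv_eq_one] at h5
        exact hw1 h5
      · exact h2
    have h5 := Subgroup.card_mul_index g.ker
    rw [Subgroup.index_ker, hrange, hker] at h5
    rw [← h5, Nat.card_congr (Subgroup.subgroupOfEquivOfLe hcenB).toEquiv, mul_comm]
  have hcardX : Nat.card X = p * Nat.card B := by
    rw [← Subgroup.card_mul_index B, hBidx, mul_comm]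
  -- a complement to the commutator subgroup in the centre
  obtain ⟨M', hM'1, hM'2⟩ : ∃ M' : Subgroup ↥(Subgroup.center X),
      (commutator X).subgroupOf (Subgroup.center X) ⊓ M' = ⊥ ∧
      (commutator X).subgroupOf (Subgroup.center X) ⊔ M' = ⊤ := by
    obtain ⟨K, -, h1, h2⟩ := exists_complement_ge (p := p) (V := ↥(Subgroup.center X))
      (fun a b => Subtype.ext (Subgroup.mem_center_iff.mp b.2 a))
      (fun v => Subtype.ext (by rw [Subgroup.coe_pow, Subgroup.coe_one]; exact hcexp v v.2))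
      ((commutator X).subgroupOf (Subgroup.center X)) ⊥ (inf_bot_eq _)
    exact ⟨K, h1, h2⟩
  have hcardC : Nat.card (Subgroup.center X) = p * Nat.card M' := by
    have hcomp : ((commutator X).subgroupOf (Subgroup.center X)).IsComplement' M' := by
      apply Subgroup.isComplement'_of_disjoint_and_mul_eq_univ (disjoint_iff.mpr hM'1)
      apply Set.eq_univ_of_forall
      intro x
      rw [← Subgroup.normal_mul, hM'2]
      exact Subgroup.mem_top x
    have h1 := hcomp.card_mul_card
    rw [Nat.card_congr (Subgroup.subgroupOfEquivOfLe hcen).toEquiv, hZ] at h1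
    exact h1.symm
  obtain ⟨M, hM⟩ : ∃ M : Subgroup X, M = M'.map (Subgroup.center X).subtype := ⟨_, rfl⟩
  have hMC : M ≤ Subgroup.center X := by
    rw [hM]; rintro _ ⟨m, -, rfl⟩; exact m.2
  have hcardM : Nat.card M = Nat.card M' := by
    rw [hM]; exact Subgroup.card_map_of_injective (Subgroup.subtype_injective _)
  have hMZ : ∀ x ∈ M, x ∈ commutator X → x = 1 := by
    rw [hM]
    rintro _ ⟨m, hm, rfl⟩ hx
    have h1 : m ∈ (commutator X).subgroupOf (Subgroup.center X) ⊓ M' := ⟨hx, hm⟩
    rw [hM'1, Subgroup.mem_bot] at h1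
    rw [h1]; rfl
  have hXM : Nat.card X = p ^ 3 * Nat.card M := by
    rw [hcardX, hcardB, hcardC, hcardM]; ring
  -- the Frattini quotient
  obtain ⟨q, hq⟩ : ∃ q : X →* X ⧸ commutator X, q = QuotientGroup.mk' (commutator X) := ⟨_, rfl⟩
  have hqker : ∀ u : X, q u = 1 ↔ u ∈ commutator X := fun u => by
    rw [hq]; exact QuotientGroup.eq_one_iff u
  have hqsurj : Function.Surjective q := by rw [hq]; exact QuotientGroup.mk'_surjective _
  have hVcomm : ∀ a b : X ⧸ commutator X, a * b = b * a := fun a b =>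
    @mul_comm (Abelianization X) _ a b
  have hVexp : ∀ v : X ⧸ commutator X, v ^ p = 1 := by
    intro v
    obtain ⟨u, rfl⟩ := hqsurj v
    rw [← map_pow, hqker, ← hΦ]
    exact Cfsg.Agent.Helper22.pow_prime_mem_frattini hX u
  have hzpow : ∀ (g : X) (i : ℤ), g ^ p = 1 → (p : ℤ) ∣ i → g ^ i = 1 := by
    rintro g i hg ⟨k, rfl⟩
    rw [zpow_mul, zpow_natCast, hg, one_zpow]
  have hdisj : M.map q ⊓ Subgroup.closure {q t, q z1} = ⊥ := by
    letI : CommGroup (X ⧸ commutator X) :=
      { (inferInstance : Group (X ⧸ commutator X)) with mul_comm := hVcomm }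
    rw [eq_bot_iff]
    rintro y ⟨⟨m, hmM, rfl⟩, hy2⟩
    obtain ⟨i, j, hij⟩ := Subgroup.mem_closure_pair.mp hy2
    rw [Subgroup.mem_bot]
    have h1 : q (t ^ i * z1 ^ j) = q m := by rw [map_mul, map_zpow, map_zpow]; exact hij
    have h2 : (t ^ i * z1 ^ j)⁻¹ * m ∈ commutator X := by
      rw [← hqker, map_mul, map_inv, h1, inv_mul_cancel]
    have hgC : t ^ i * z1 ^ j ∈ Subgroup.center X := by
      have : t ^ i * z1 ^ j = m * ((t ^ i * z1 ^ j)⁻¹ * m)⁻¹ := by group
      rw [this]
      exact Subgroup.mul_mem _ (hMC hmM) (Subgroup.inv_mem _ (hcen h2))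
    have h3 : commHom hc z1 (t ^ i * z1 ^ j) = 1 :=
      (commHom_eq_one_iff hc z1 _).mpr (hcz _ hgC z1)
    rw [map_mul, map_zpow, map_zpow, commHom_apply, commHom_apply, commutatorElement_self,
      one_zpow, mul_one, ← hw] at h3
    have hi : (p : ℤ) ∣ i := by
      rw [← hwo]; exact orderOf_dvd_iff_zpow_eq_one.mpr h3
    have hti : t ^ i = 1 := hzpow t i htp hi
    have h4 : commHom hc t (t ^ i * z1 ^ j) = 1 :=
      (commHom_eq_one_iff hc t _).mpr (hcz _ hgC t)
    rw [map_mul, map_zpow, map_zpow, commHom_apply, commHom_apply, commutatorElement_self,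
      one_zpow, one_mul, hw', inv_zpow, inv_eq_one] at h4
    have hj : (p : ℤ) ∣ j := by
      rw [← hwo]; exact orderOf_dvd_iff_zpow_eq_one.mpr h4
    have hzj : z1 ^ j = 1 := hzpow z1 j hz1p hj
    rw [← h1, hti, hzj, mul_one, map_one]
  obtain ⟨Ebar, hK0E, hME1, hME2⟩ :=
    exists_complement_ge (p := p) hVcomm hVexp (M.map q) _ hdisj
  have htE : q t ∈ Ebar := hK0E (Subgroup.subset_closure (by simp))
  have hzE : q z1 ∈ Ebar := hK0E (Subgroup.subset_closure (by simp))
  have hcomp : (Ebar.comap q).IsComplement' M := by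
    apply Subgroup.isComplement'_of_disjoint_and_mul_eq_univ
    · rw [disjoint_iff, eq_bot_iff]
      rintro x ⟨hx1, hx2⟩
      rw [Subgroup.mem_bot]
      apply hMZ x hx2
      rw [← hqker, ← Subgroup.mem_bot, ← hME1]
      exact ⟨⟨x, hx2, rfl⟩, hx1⟩
    · letI : CommGroup (X ⧸ commutator X) :=
        { (inferInstance : Group (X ⧸ commutator X)) with mul_comm := hVcomm }
      apply Set.eq_univ_of_forall
      intro u
      have hu : q u ∈ M.map q ⊔ Ebar := hME2 ▸ Subgroup.mem_top _
      obtain ⟨a, ⟨m, hmM, rfl⟩, b, hb, hab'⟩ := Subgroup.mem_sup.mp hu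
      refine Set.mem_mul.mpr ⟨u * m⁻¹, ?_, m, hmM, by group⟩
      show q (u * m⁻¹) ∈ Ebar
      rw [map_mul, map_inv, ← hab', mul_comm (q m) b, mul_inv_cancel_right]
      exact hb
  refine ⟨Ebar.comap q, M, hcomp, ?_, ?_, htE, hzE, ?_, ?_⟩
  · intro x _ y hy
    exact Subgroup.mem_center_iff.mp (hMC hy) x
  · have h1 := hcomp.card_mul_card
    rw [hXM] at h1
    exact Nat.eq_of_mul_eq_mul_right Nat.card_pos h1
  · intro m hm
    exact hcexp m (hMC hm)
  · intro m _ m' hm'
    exact Subgroup.mem_center_iff.mp (hMC hm') m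

/-- the structure theorem: a generalized extraspecial group in which the centralizer of `z1` is
elementary abelian is `D₈ × A`, or `p₊^{1+2} × A`, or every element outside that centralizer has
order `p ^ 2`. -/
theorem ge_main (hX : IsPGroup p X) (hΦ : frattini X = commutator X)
    (hZ : Nat.card (commutator X) = p) (z1 : X)
    (hab : ∀ u v : X, Commute u z1 → Commute v z1 → Commute u v)
    (hexp : ∀ u : X, Commute u z1 → u ^ p = 1) :
    (p = 2 ∧ ∃ (A : Type) (_ : CommGroup A), (∀ a : A, a ^ 2 = 1) ∧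
        Nonempty (X ≃* DihedralGroup 4 × A)) ∨
    (p ≠ 2 ∧ ∃ (E : Type) (_ : Group E) (A : Type) (_ : CommGroup A),
        Cfsg.IsExtraspecial p E ∧ Nat.card E = p ^ 3 ∧ Monoid.exponent E = p ∧
        (∀ a : A, a ^ p = 1) ∧ Nonempty (X ≃* E × A)) ∨
    (p ≠ 2 ∧ ∀ u : X, ¬ Commute u z1 → u ^ p ≠ 1) := by
  classical
  have hpp := hp.out
  have hcen : commutator X ≤ Subgroup.center X :=
    Cfsg.Agent.Helper19.normal_card_prime_le_center hX _ hZ
  have hcm : ∀ a b : X, ⁅a, b⁆ ∈ commutator X := fun a b => by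
    rw [commutator_def]
    exact Subgroup.commutator_mem_commutator (Subgroup.mem_top a) (Subgroup.mem_top b)
  have hc : ∀ a b : X, ⁅a, b⁆ ∈ Subgroup.center X := fun a b => hcen (hcm a b)
  have hcz : ∀ c ∈ Subgroup.center X, ∀ g : X, Commute c g := fun c hcC g =>
    (Subgroup.mem_center_iff.mp hcC g).symm
  have hcexp : ∀ c ∈ Subgroup.center X, c ^ p = 1 := fun c hcC => hexp c (hcz c hcC z1)
  have hz1p : z1 ^ p = 1 := hexp z1 (Commute.refl z1)
  obtain ⟨t, htz⟩ : ∃ t : X, ¬ Commute t z1 := by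
    by_contra hcon
    push Not at hcon
    have h1 : commutator X ≤ ⊥ := by
      rw [commutator_def, Subgroup.commutator_le]
      intro a _ b _
      rw [Subgroup.mem_bot, commutatorElement_eq_one_iff_commute]
      exact hab a b (hcon a) (hcon b)
    rw [le_bot_iff] at h1
    rw [h1, Subgroup.card_bot] at hZ
    exact hpp.one_lt.ne hZ
  by_cases hp2 : p = 2
  · left
    refine ⟨hp2, ?_⟩
    subst hp2
    -- an involution outside the centralizer
    obtain ⟨t', ht'z, ht'2⟩ : ∃ t' : X, ¬ Commute t' z1 ∧ t' ^ 2 = 1 := by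
      by_cases ht2 : t ^ 2 = 1
      · exact ⟨t, htz, ht2⟩
      obtain ⟨w, hw⟩ : ∃ w : X, w = ⁅t, z1⁆ := ⟨_, rfl⟩
      have hw1 : w ≠ 1 := by
        rw [hw]; intro h; exact htz (commutatorElement_eq_one_iff_commute.mp h)
      have hwC : w ∈ Subgroup.center X := hw ▸ hc t z1
      have hw2 : w ^ 2 = 1 := hcexp w hwC
      have hwc : ∀ g : X, g * w = w * g := Subgroup.mem_center_iff.mp hwC
      have ht2m : t ^ 2 ∈ commutator X := by
        rw [← hΦ]; exact Cfsg.Agent.Helper22.pow_prime_mem_frattini hX t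
      have ht2w : t ^ 2 = w := by
        have h1 : (⟨t ^ 2, ht2m⟩ : ↥(commutator X)) ∈
            Subgroup.zpowers (⟨w, hw ▸ hcm t z1⟩ : ↥(commutator X)) :=
          mem_zpowers_of_prime_card hZ (fun h => hw1 (congrArg Subtype.val h))
        obtain ⟨i, hi⟩ := Subgroup.mem_zpowers_iff.mp h1
        have hi' : w ^ i = t ^ 2 := by
          have := congrArg Subtype.val hi
          simpa using this
        obtain ⟨k, hk | hk⟩ := Int.even_or_odd' i
        · exfalso
          apply ht2
          rw [← hi', hk, zpow_mul, zpow_ofNat, hw2, one_zpow]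
        · rw [← hi', hk, zpow_add, zpow_mul, zpow_ofNat, hw2, one_zpow, one_mul, zpow_one]
      have hz12 : z1 ^ 2 = 1 := hz1p
      have hrel : t * z1 = w * z1 * t := by rw [hw, commutatorElement_def]; group
      refine ⟨t * z1, ?_, ?_⟩
      · intro h
        apply htz
        have h1 : t * z1 * z1 = z1 * t * z1 := by rw [h.eq, mul_assoc]
        exact mul_right_cancel h1
      · calc (t * z1) ^ 2 = t * z1 * (t * z1) := pow_two _
          _ = w * z1 * t * (t * z1) := by rw [← hrel]
          _ = w * z1 * t ^ 2 * z1 := by rw [pow_two]; group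
          _ = w * (z1 * w) * z1 := by rw [ht2w]; group
          _ = w * (w * z1) * z1 := by rw [hwc z1]
          _ = w ^ 2 * z1 ^ 2 := by rw [pow_two, pow_two]; group
          _ = 1 := by rw [hw2, hz12, one_mul]
    obtain ⟨E, M, hcomp, hcomm, hcardE, ht'E, hz1E, hMexp, hMc⟩ :=
      ge_split (p := 2) hX hΦ hZ z1 t' hab hexp ht'z ht'2
    -- `E` is dihedral
    have hz12 : z1 * z1 = 1 := by rw [← pow_two]; exact hz1p
    have ht'2' : t' * t' = 1 := by rw [← pow_two]; exact ht'2
    have hz1inv : z1⁻¹ = z1 := inv_eq_of_mul_eq_one_right hz12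
    have ht'inv : t'⁻¹ = t' := inv_eq_of_mul_eq_one_right ht'2'
    obtain ⟨w, hw⟩ : ∃ w : X, w = ⁅t', z1⁆ := ⟨_, rfl⟩
    have hw1 : w ≠ 1 := by
      rw [hw]; intro h; exact ht'z (commutatorElement_eq_one_iff_commute.mp h)
    have hw2 : w ^ 2 = 1 := hcexp w (hw ▸ hc t' z1)
    have hxx : (t' * z1) ^ 2 = w := by
      rw [hw, commutatorElement_def, ht'inv, hz1inv, pow_two]; group
    have hxo : orderOf (t' * z1) = 2 ^ (1 + 1) := by
      apply orderOf_eq_prime_pow
      · rw [pow_one, hxx]; exact hw1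
      · have : (2 : ℕ) ^ (1 + 1) = 2 * 2 := by norm_num
        rw [this, pow_mul, hxx, hw2]
    obtain ⟨e1⟩ : Nonempty (↥E ≃* DihedralGroup 4) := by
      apply Cfsg.Agent.Lead.nonempty_mulEquiv_dihedral 4
        (⟨t' * z1, E.mul_mem ht'E hz1E⟩ : ↥E) ⟨z1, hz1E⟩
      · rw [Subgroup.orderOf_mk, hxo]; norm_num
      · exact Subtype.ext hz12
      · apply Subtype.ext
        show z1 * (t' * z1) * z1 = (t' * z1)⁻¹
        rw [mul_inv_rev, hz1inv, ht'inv, mul_assoc, mul_assoc, hz12, mul_one]
      · intro hmem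
        obtain ⟨i, hi⟩ := Subgroup.mem_zpowers_iff.mp hmem
        have hi' : (t' * z1) ^ i = z1 := by
          have := congrArg Subtype.val hi
          simpa using this
        apply ht'z
        have h1 : Commute (t' * z1) z1 := by
          have : Commute (t' * z1) ((t' * z1) ^ i) := (Commute.refl _).zpow_right i
          rwa [hi'] at this
        have h2 : t' * z1 * z1 = z1 * t' * z1 := by rw [h1.eq, mul_assoc]
        exact mul_right_cancel h2
      · rw [hcardE]; norm_num
    letI : CommGroup ↥M :=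
      { (inferInstance : Group ↥M) with
        mul_comm := fun a b => Subtype.ext (hMc a a.2 b b.2) }
    obtain ⟨eM⟩ : Nonempty (Shrink.{0} ↥M ≃* ↥M) := ⟨Shrink.mulEquiv⟩
    refine ⟨Shrink.{0} ↥M, inferInstance, ?_, ?_⟩
    · intro a
      apply eM.injective
      rw [map_pow, map_one]
      exact Subtype.ext (by rw [Subgroup.coe_pow, Subgroup.coe_one]; exact hMexp _ (Subtype.prop _))
    · exact ⟨(Cfsg.Agent.Helper24.prodEquivOfComplement E M hcomp hcomm).symm.trans
        (MulEquiv.prodCongr e1 eM.symm)⟩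
  · right
    by_cases hex : ∃ t' : X, ¬ Commute t' z1 ∧ t' ^ p = 1
    · left
      refine ⟨hp2, ?_⟩
      obtain ⟨t', ht'z, ht'p⟩ := hex
      obtain ⟨E, M, hcomp, hcomm, hcardE, ht'E, hz1E, hMexp, hMc⟩ :=
        ge_split hX hΦ hZ z1 t' hab hexp ht'z ht'p
      -- all elements have order dividing `p`
      have hall : ∀ g : X, g ^ p = 1 := by
        intro g
        apply Cfsg.Agent.Helper22.pow_prime_eq_one_of_mem_closure hp2 hc g
        have htop : Subgroup.closure {x : X | x ^ p = 1} = ⊤ := by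
          apply eq_top_of_index_prime hpp (H := Subgroup.centralizer ({z1} : Set X)) ?_
            (index_centralizer hc hZ ht'z) (t := t') (Subgroup.subset_closure ht'p) ?_
          · intro u hu
            apply Subgroup.subset_closure
            exact hexp u (Subgroup.mem_centralizer_singleton_iff.mp hu)
          · intro h
            exact ht'z (Subgroup.mem_centralizer_singleton_iff.mp h)
        rw [htop]; exact Subgroup.mem_top g
      obtain ⟨eE⟩ : Nonempty (Shrink.{0} ↥E ≃* ↥E) := ⟨Shrink.mulEquiv⟩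
      have hcard0 : Nat.card (Shrink.{0} ↥E) = p ^ 3 := by
        rw [Nat.card_congr eE.toEquiv, hcardE]
      have hna : ¬ IsMulCommutative (Shrink.{0} ↥E) := by
        intro h
        apply ht'z
        have h1 := h.is_comm.comm (eE.symm ⟨t', ht'E⟩) (eE.symm ⟨z1, hz1E⟩)
        rw [← map_mul, ← map_mul] at h1
        have h2 := eE.symm.injective h1
        exact congrArg Subtype.val h2
      have hexp0 : ∀ a : Shrink.{0} ↥E, a ^ p = 1 := by
        intro a
        apply eE.injective
        rw [map_pow, map_one]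
        exact Subtype.ext (by rw [Subgroup.coe_pow, Subgroup.coe_one]; exact hall _)
      letI : CommGroup ↥M :=
        { (inferInstance : Group ↥M) with
          mul_comm := fun a b => Subtype.ext (hMc a a.2 b b.2) }
      obtain ⟨eM⟩ : Nonempty (Shrink.{0} ↥M ≃* ↥M) := ⟨Shrink.mulEquiv⟩
      refine ⟨Shrink.{0} ↥E, inferInstance, Shrink.{0} ↥M, inferInstance,
        Cfsg.Agent.Helper26.isExtraspecial_of_card_cube p hcard0 hna, hcard0, ?_, ?_, ?_⟩
      · have h1 : Monoid.exponent (Shrink.{0} ↥E) ∣ p :=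
          Monoid.exponent_dvd_of_forall_pow_eq_one hexp0
        rcases (Nat.dvd_prime hpp).mp h1 with h2 | h2
        · exfalso
          have h3 := Monoid.exp_eq_one_iff.mp h2
          have h4 : Nat.card (Shrink.{0} ↥E) = 1 := Nat.card_unique
          rw [hcard0] at h4
          have : 1 < p ^ 3 := Nat.one_lt_pow (by norm_num) hpp.one_lt
          omega
        · exact h2
      · intro a
        apply eM.injective
        rw [map_pow, map_one]
        exact Subtype.ext
          (by rw [Subgroup.coe_pow, Subgroup.coe_one]; exact hMexp _ (Subtype.prop _))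
      · exact ⟨(Cfsg.Agent.Helper24.prodEquivOfComplement E M hcomp hcomm).symm.trans
          (MulEquiv.prodCongr eE.symm eM.symm)⟩
    · right
      refine ⟨hp2, ?_⟩
      intro u hu hup
      exact hex ⟨u, hu, hup⟩

end GE

end Cfsg.Agent.Helper21.GenExtra
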