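import Mathlib
import Cfsg.Agent.Lib.Helper14.PowerTransv

set_option autoImplicit false

/-! A variant of helper14's theorem on power transvections: the pair of conjugates generating a
non-`p`-group is given explicitly, and only the kernel of the action on the subgroup they generate
is assumed to consist of `p`-elements. The proof is helper14's, with the two hypotheses replaced. -/

namespace Cfsg.Agent.Helper21.GenExtraWeyl

open Cfsg.Agent.Helper4.QR Cfsg.Agent.Helper14.PowerTransv

variable {Γ W : Type*} [Group Γ] [Finite Γ] [CommGroup W] [Finite W] {p : ℕ} [hp : Fact p.Prime]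

/-- **No power transvections**, explicit version. -/
theorem no_power_transvection' (hp2 : p ≠ 2) (act : Γ →* MulAut W) (hW : ∀ w : W, w ^ p = 1)
    (a g : Γ) (hg : ¬ IsPGroup p ↥(Subgroup.closure ({a, g * a * g⁻¹} : Set Γ)))
    (hker : ∀ h ∈ Subgroup.closure ({a, g * a * g⁻¹} : Set Γ), act h = 1 →
      ∃ k : ℕ, h ^ p ^ k = 1)
    (e : W) (ha : act a ≠ 1)
    (htr : ∀ w : W, act a w / w ∈ Subgroup.zpowers e)
    (hcompat : ∀ z : Γ, act (z * a * z⁻¹) = act a → act z e = e) : False := by
  classical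
  obtain ⟨ρ, hρ⟩ : ∃ ρ : Γ →* AddMonoid.End (Additive W), ρ = (toEnd W).comp act := ⟨_, rfl⟩
  have hρapp : ∀ (x : Γ) (w : W), ρ x (Additive.ofMul w) = Additive.ofMul (act x w) := by
    intro x w; rw [hρ]; rfl
  have hρinj : ∀ x y : Γ, ρ x = ρ y → act x = act y := by
    intro x y h
    rw [hρ] at h
    exact toEnd_injective h
  have hpA : ∀ v : Additive W, p • v = 0 := by
    intro v
    obtain ⟨w, rfl⟩ := Additive.ofMul.surjective v
    rw [← ofMul_pow, hW, ofMul_one]
  have hpR : ((p : ℕ) : AddMonoid.End (Additive W)) = 0 := by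
    ext v
    rw [AddMonoid.End.natCast_apply, hpA]; rfl
  have hdvdR : ∀ k : ℤ, (p : ℤ) ∣ k → (k : AddMonoid.End (Additive W)) = 0 := by
    rintro k ⟨k', rfl⟩
    rw [Int.cast_mul, Int.cast_natCast, hpR, zero_mul]
  have hdvdA : ∀ (k : ℤ) (v : Additive W), (p : ℤ) ∣ k → k • v = 0 := by
    rintro k v ⟨k', rfl⟩
    rw [mul_comm, mul_zsmul, natCast_zsmul, hpA, smul_zero]
  have hunit : ∀ k k' : ℤ, (p : ℤ) ∣ k' * k - 1 →
      (k' : AddMonoid.End (Additive W)) * (k : AddMonoid.End (Additive W)) = 1 := by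
    intro k k' h
    have := hdvdR _ h
    rw [Int.cast_sub, Int.cast_mul, Int.cast_one, sub_eq_zero] at this
    exact this
  -- cancellation of scalars prime to `p`
  have hcancel : ∀ (k : ℤ) (r : AddMonoid.End (Additive W)), ¬ (p : ℤ) ∣ k →
      (k : AddMonoid.End (Additive W)) * r = 0 → r = 0 := by
    intro k r hk h
    obtain ⟨k', hk'⟩ := exists_inv_mod k hk
    calc r = ((k' : AddMonoid.End (Additive W)) * (k : AddMonoid.End (Additive W))) * r := by
          rw [hunit k k' hk', one_mul]
      _ = 0 := by rw [mul_assoc, h, mul_zero]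
  -- the transvection `N`
  obtain ⟨N, hN⟩ : ∃ N : AddMonoid.End (Additive W), N = ρ a - 1 := ⟨_, rfl⟩
  have hρa : ρ a = 1 + N := by rw [hN]; abel
  obtain ⟨e', he'⟩ : ∃ e' : Additive W, e' = Additive.ofMul e := ⟨_, rfl⟩
  have hN0 : N ≠ 0 := by
    intro h
    apply ha
    have h1 : ρ a = ρ 1 := by rw [hρa, h, add_zero, map_one]
    have h2 := hρinj _ _ h1
    rw [h2, map_one]
  have hNim : ∀ v : Additive W, ∃ k : ℤ, N v = k • e' := by
    intro v
    obtain ⟨w, rfl⟩ := Additive.ofMul.surjective v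
    obtain ⟨k, hk⟩ := Subgroup.mem_zpowers_iff.mp (htr w)
    refine ⟨k, ?_⟩
    rw [hN, he']
    show ρ a (Additive.ofMul w) - Additive.ofMul w = k • Additive.ofMul e
    rw [hρapp, ← ofMul_div, ← hk, ofMul_zpow]
  have hNe : N e' = 0 := by
    have h1 := hcompat a (by rw [mul_inv_cancel_right])
    rw [hN, he']
    show ρ a (Additive.ofMul e) - Additive.ofMul e = 0
    rw [hρapp, h1, sub_self]
  have hNN : N * N = 0 := by
    ext v
    obtain ⟨k, hk⟩ := hNim v
    show N (N v) = 0
    rw [hk, map_zsmul, hNe, smul_zero]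
  obtain ⟨b, hb⟩ : ∃ b : Γ, b = g * a * g⁻¹ := ⟨_, rfl⟩
  rw [← hb] at hg hker
  -- the second transvection `M`
  obtain ⟨M, hM⟩ : ∃ M : AddMonoid.End (Additive W), M = ρ b - 1 := ⟨_, rfl⟩
  have hρb : ρ b = 1 + M := by rw [hM]; abel
  have hgg : ρ g⁻¹ * ρ g = 1 := by rw [← map_mul, inv_mul_cancel, map_one]
  have hgg' : ρ g * ρ g⁻¹ = 1 := by rw [← map_mul, mul_inv_cancel, map_one]
  have hMconj : M = ρ g * N * ρ g⁻¹ := by
    rw [hM, hN, hb, map_mul, map_mul, mul_sub, sub_mul, mul_one, hgg']
  obtain ⟨f', hf'⟩ : ∃ f' : Additive W, f' = ρ g e' := ⟨_, rfl⟩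
  have hMim : ∀ v : Additive W, ∃ k : ℤ, M v = k • f' := by
    intro v
    obtain ⟨k, hk⟩ := hNim (ρ g⁻¹ v)
    refine ⟨k, ?_⟩
    rw [hMconj, hf']
    show ρ g (N (ρ g⁻¹ v)) = k • ρ g e'
    rw [hk, map_zsmul]
  have hMf : M f' = 0 := by
    rw [hMconj, hf']
    show ρ g (N (ρ g⁻¹ (ρ g e'))) = 0
    have h1 : ρ g⁻¹ (ρ g e') = e' := by
      have := congrArg (fun r : AddMonoid.End (Additive W) => r e') hgg
      exact this
    rw [h1, hNe, map_zero]
  have hMM : M * M = 0 := by
    ext v
    obtain ⟨k, hk⟩ := hMim v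
    show M (M v) = 0
    rw [hk, map_zsmul, hMf, smul_zero]
  -- the structure constants
  obtain ⟨c, hc⟩ := hNim (M e')
  have hNMN : N * M * N = (c : AddMonoid.End (Additive W)) * N := by
    ext v
    obtain ⟨k, hk⟩ := hNim v
    show N (M (N v)) = (c : AddMonoid.End (Additive W)) (N v)
    rw [AddMonoid.End.intCast_apply, hk, map_zsmul, map_zsmul, hc, smul_comm]
  obtain ⟨c', hc'⟩ := hMim (N f')
  have hMNM : M * N * M = (c' : AddMonoid.End (Additive W)) * M := by
    ext v
    obtain ⟨k, hk⟩ := hMim v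
    show M (N (M v)) = (c' : AddMonoid.End (Additive W)) (M v)
    rw [AddMonoid.End.intCast_apply, hk, map_zsmul, map_zsmul, hc', smul_comm]
  have hcc : ((c - c' : ℤ) : AddMonoid.End (Additive W)) * (N * M) = 0 := by
    have h1 : N * M * N * M = (c : AddMonoid.End (Additive W)) * (N * M) := by
      rw [hNMN, mul_assoc]
    have h2 : N * M * N * M = (c' : AddMonoid.End (Additive W)) * (N * M) := by
      rw [mul_assoc (N * M), mul_assoc N M (N * M), ← mul_assoc M N M, hMNM, ← mul_assoc N,
        ← (Int.cast_commute c' N).eq, mul_assoc]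
    rw [Int.cast_sub, sub_mul, ← h1, ← h2, sub_self]
  by_cases hpc : (p : ℤ) ∣ c
  · -- the unipotent case
    have hNMN0 : N * M * N = 0 := by rw [hNMN, hdvdR c hpc, zero_mul]
    have hMNM0 : M * N * M = 0 := by
      by_cases hpc' : (p : ℤ) ∣ c'
      · rw [hMNM, hdvdR c' hpc', zero_mul]
      · have hd : ¬ (p : ℤ) ∣ c - c' := by
          intro h
          apply hpc'
          have : c' = c - (c - c') := by ring
          rw [this]
          exact dvd_sub hpc h
        have hNM : N * M = 0 := hcancel _ _ hd hcc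
        rw [mul_assoc, hNM, mul_zero]
    have hSt : ∀ h ∈ Subgroup.closure ({a, b} : Set Γ), St N M (ρ h) := by
      intro h hh
      induction hh using Subgroup.closure_induction with
      | mem x hx =>
        rcases hx with rfl | hx
        · rw [hρa]
          refine st_one_add_left N M (fun v => ?_) (fun v => ?_)
          · have := congrArg (fun r : AddMonoid.End (Additive W) => r v) hNN
            exact this
          · have := congrArg (fun r : AddMonoid.End (Additive W) => r v) hNMN0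
            exact this
        · rw [Set.mem_singleton_iff] at hx
          rw [hx, hρb]
          refine st_one_add_right N M (fun v => ?_) (fun v => ?_)
          · have := congrArg (fun r : AddMonoid.End (Additive W) => r v) hMM
            exact this
          · have := congrArg (fun r : AddMonoid.End (Additive W) => r v) hMNM0
            exact this
      | one => rw [map_one]; exact st_one N M
      | mul x y _ _ hx hy => rw [map_mul]; exact hx.mul hy
      | inv x _ hx => exact hx.inv (by rw [← map_mul, inv_mul_cancel, map_one])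
    apply hg
    rintro ⟨h, hh⟩
    have h3 := (hSt h hh).cube
    have h4 : ρ h ^ p = 1 := by
      have := one_add_pow_prime p hp.out hp2 hpR (ρ h - 1) h3
      rwa [add_sub_cancel] at this
    have h5 : act (h ^ p) = 1 := by
      have h6 : ρ (h ^ p) = ρ 1 := by rw [map_pow, h4, map_one]
      have h7 := hρinj _ _ h6
      rw [h7, map_one]
    obtain ⟨k, hk⟩ := hker (h ^ p) (Subgroup.pow_mem _ hh p) h5
    refine ⟨k + 1, ?_⟩
    apply Subtype.ext
    have h8 : (h ^ p) ^ p ^ k = 1 := hk
    show h ^ p ^ (k + 1) = 1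
    rw [pow_succ', pow_mul]; exact h8
  · -- the `SL₂` case
    have hNM0 : N * M ≠ 0 := by
      intro h
      apply hN0
      apply hcancel c N hpc
      rw [← hNMN, h, zero_mul]
    have hcc' : (p : ℤ) ∣ c - c' := by
      by_contra hd
      exact hNM0 (hcancel _ _ hd hcc)
    have hceq : (c' : AddMonoid.End (Additive W)) = (c : AddMonoid.End (Additive W)) := by
      have := hdvdR _ hcc'
      rw [Int.cast_sub, sub_eq_zero] at this
      exact this.symm
    have hc0 : ((c : ℤ) : ZMod p) ≠ 0 := by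
      rw [Ne, ZMod.intCast_zmod_eq_zero_iff_dvd]; exact hpc
    obtain ⟨j, hj⟩ : ∃ j : ℕ, (p : ℤ) ∣ (j : ℤ) * c + 1 := by
      refine ⟨(-(c : ZMod p)⁻¹).val, ?_⟩
      rw [← ZMod.intCast_zmod_eq_zero_iff_dvd]
      push_cast
      rw [ZMod.natCast_zmod_val, neg_mul, inv_mul_cancel₀ hc0, neg_add_cancel]
    have hjc : (j : AddMonoid.End (Additive W)) * (c : AddMonoid.End (Additive W)) + 1 = 0 := by
      have h := hdvdR _ hj
      rw [Int.cast_add, Int.cast_mul, Int.cast_natCast, Int.cast_one] at h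
      exact h
    have hjcomm : ∀ r : AddMonoid.End (Additive W),
        r * (j : AddMonoid.End (Additive W)) = (j : AddMonoid.End (Additive W)) * r :=
      fun r => ((Nat.cast_commute j r).eq).symm
    obtain ⟨M', hM'⟩ : ∃ M' : AddMonoid.End (Additive W),
        M' = (j : AddMonoid.End (Additive W)) * M := ⟨_, rfl⟩
    obtain ⟨hM'M', hNM'N, hM'NM'⟩ := scaled_relations N M (j : AddMonoid.End (Additive W))
      (c : AddMonoid.End (Additive W)) hjcomm hMM hNMN (by rw [hMNM, hceq]) hjc
    rw [← hM'] at hM'M' hNM'N hM'NM'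
    obtain ⟨k1, k2⟩ := weyl_sq N M' hNN hM'M' hNM'N hM'NM'
    have hρbj : ρ (b ^ j) = 1 + M' := by
      rw [map_pow, hρb, one_add_pow_of_sq_zero M hMM j, hM']
    obtain ⟨z, hz⟩ : ∃ z : Γ, z = (a * b ^ j * a) ^ 2 := ⟨_, rfl⟩
    have hρz : ρ z = ((1 + N) * (1 + M') * (1 + N)) * ((1 + N) * (1 + M') * (1 + N)) := by
      rw [hz, pow_two, map_mul, map_mul, map_mul, hρa, hρbj]
    have hzcomm : ρ (z * a) = ρ (a * z) := by
      rw [map_mul, map_mul, hρa, mul_add, mul_one, add_mul, one_mul, hρz, k1, k2]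
    have hzconj : act (z * a * z⁻¹) = act a := by
      apply hρinj
      rw [map_mul, hzcomm, map_mul, mul_assoc, ← map_mul, mul_inv_cancel, map_one, mul_one]
    have hze := hcompat z hzconj
    -- `e'` lies in the image of `N`
    obtain ⟨v, hv⟩ : ∃ v : Additive W, N v ≠ 0 := by
      by_contra h
      push Not at h
      exact hN0 (by ext v; exact h v)
    obtain ⟨k, hk⟩ := hNim v
    have hkp : ¬ (p : ℤ) ∣ k := by
      intro h
      apply hv
      rw [hk, hdvdA k e' h]
    obtain ⟨k', hk'⟩ := exists_inv_mod k hkp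
    have hv0 : N (k' • v) = e' := by
      rw [map_zsmul, hk, smul_smul]
      have h1 : k' * k = (k' * k - 1) + 1 := by ring
      rw [h1, add_zsmul, one_zsmul, hdvdA _ e' hk', zero_add]
    have h1 : ρ z e' = -e' := by
      rw [← hv0]
      show (ρ z * N) (k' • v) = -(N (k' • v))
      rw [hρz, k1]; rfl
    have h2 : ρ z e' = e' := by
      rw [he', hρapp, hze]
    have h3 : e' = 0 := by
      have h4 : (2 : ℤ) • e' = 0 := by
        rw [two_zsmul]
        nth_rewrite 1 [← h2]
        rw [h1, neg_add_cancel]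
      have hodd : Odd p := hp.out.odd_of_ne_two hp2
      obtain ⟨m, hm⟩ := hodd
      have h5 : ((p : ℤ)) • e' = 0 := hdvdA _ e' dvd_rfl
      have h6 : (p : ℤ) = 2 * (m : ℤ) + 1 := by exact_mod_cast hm
      rw [h6, add_zsmul, one_zsmul, mul_comm, mul_zsmul, h4, smul_zero, zero_add] at h5
      exact h5
    apply hv
    rw [hk, h3, smul_zero]


end Cfsg.Agent.Helper21.GenExtraWeyl
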