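import Mathlib
import Cfsg.Agent.Lib.Helper21.Metacyclic
import Cfsg.Agent.Lib.Helper21.PGroupFrattini
import Cfsg.Agent.Lib.Helper8.AutQuot
import Cfsg.Agent.Lib.Helper1.AbEssC
import Cfsg.Agent.Lib.Helper22.ClassTwo

set_option autoImplicit false

/-! Metacyclic `2`-groups with an automorphism of odd order: they are homocyclic of rank two
or quaternion of order eight. -/

namespace Cfsg.Agent.Helper21.MetaAut

open Cfsg.Agent.Helper21 Cfsg.Agent.Helper8
open scoped commutatorElement

variable {H : Type*} [Group H]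

/-- no invariant subgroup of index two -/
def NI (α : MulAut H) : Prop :=
  ∀ M : Subgroup H, M.index = 2 → (∀ x ∈ M, α x ∈ M) → False

/-- quaternion of order eight, by generators -/
def Quat (H : Type*) [Group H] : Prop :=
  Nat.card H = 8 ∧ ∃ x t : H, orderOf x = 4 ∧ t ^ 2 = x ^ 2 ∧ t * x * t⁻¹ = x⁻¹ ∧
    t ∉ Subgroup.zpowers x

theorem pow_apply_mem (α : MulAut H) (M : Subgroup H) (h : ∀ x ∈ M, α x ∈ M) (k : ℕ) :
    ∀ x ∈ M, (α ^ k) x ∈ M := by
  induction k with
  | zero => intro x hx; simpa using hx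
  | succ k ih =>
    intro x hx
    rw [pow_succ', MulAut.mul_apply]
    exact h _ (ih x hx)

theorem inv_apply_mem [Finite H] (α : MulAut H) (M : Subgroup H) (h : ∀ x ∈ M, α x ∈ M) :
    ∀ x ∈ M, α⁻¹ x ∈ M := by
  have hfin : IsOfFinOrder α := isOfFinOrder_of_finite α
  have h1 : α⁻¹ = α ^ (orderOf α - 1) := by
    rw [eq_comm, ← mul_eq_one_iff_eq_inv', ← pow_succ']
    have : orderOf α - 1 + 1 = orderOf α := Nat.sub_add_cancel hfin.orderOf_pos
    rw [this, pow_orderOf_eq_one]
  rw [h1]
  exact pow_apply_mem α M h _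

theorem apply_mem_iff [Finite H] (α : MulAut H) (M : Subgroup H) (h : ∀ x ∈ M, α x ∈ M) (x : H) :
    α x ∈ M ↔ x ∈ M := by
  constructor
  · intro hx
    have := inv_apply_mem α M h _ hx
    simpa using this
  · exact h x

/-- a quotient generated by two elements of order at most two has order at most four -/
theorem index_le_four [Finite H] (M0 : MCGen H) (K : Subgroup H) [K.Normal]
    (ha : M0.a ^ 2 ∈ K) (hb : M0.b ^ 2 ∈ K) : K.index ≤ 4 := by
  classical
  have hqa : (QuotientGroup.mk M0.a : H ⧸ K) ^ 2 = 1 := by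
    rw [← QuotientGroup.mk_pow, QuotientGroup.eq_one_iff]; exact ha
  have hqb : (QuotientGroup.mk M0.b : H ⧸ K) ^ 2 = 1 := by
    rw [← QuotientGroup.mk_pow, QuotientGroup.eq_one_iff]; exact hb
  let f : Fin 2 × Fin 2 → H ⧸ K := fun ji =>
    (QuotientGroup.mk M0.b : H ⧸ K) ^ (ji.1 : ℕ) * (QuotientGroup.mk M0.a : H ⧸ K) ^ (ji.2 : ℕ)
  have hf : Function.Surjective f := by
    intro q
    obtain ⟨g, rfl⟩ := QuotientGroup.mk_surjective q
    obtain ⟨j, i, rfl⟩ := M0.gen g
    refine ⟨(⟨j % 2, Nat.mod_lt _ (by norm_num)⟩, ⟨i % 2, Nat.mod_lt _ (by norm_num)⟩), ?_⟩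
    show (QuotientGroup.mk M0.b : H ⧸ K) ^ (j % 2) * (QuotientGroup.mk M0.a : H ⧸ K) ^ (i % 2) = _
    rw [← pow_eq_pow_mod j hqb, ← pow_eq_pow_mod i hqa]
    simp
  have h1 := Nat.card_le_card_of_surjective f hf
  rw [Subgroup.index_eq_card]
  simpa using h1

/-- a subgroup of index two of a finite group is a coatom -/
theorem isCoatom_of_index_two [Finite H] (M : Subgroup H) (hM : M.index = 2) : IsCoatom M := by
  constructor
  · intro h
    rw [h, Subgroup.index_top] at hM
    omega
  · intro N hN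
    have h1 : N.index ∣ M.index := Subgroup.index_dvd_of_le hN.le
    rw [hM] at h1
    have h2 : N.index = 1 ∨ N.index = 2 := by
      have := Nat.le_of_dvd (by norm_num) h1
      have h0 : N.index ≠ 0 := Subgroup.index_ne_zero_of_finite
      omega
    rcases h2 with h2 | h2
    · exact Subgroup.index_eq_one.mp h2
    · exfalso
      have h3 : M.relIndex N = 1 := by
        have := Subgroup.relIndex_mul_index hN.le
        rw [hM, h2] at this
        omega
      have h4 : N ≤ M := Subgroup.relIndex_eq_one.mp h3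
      exact lt_irrefl _ (lt_of_lt_of_le hN h4)

theorem frattini_apply_mem_iff (α : MulAut H) (x : H) : α x ∈ frattini H ↔ x ∈ frattini H := by
  have h := (frattini_characteristic (G := H)).fixed α
  constructor
  · intro hx
    rw [← h]
    exact hx
  · intro hx
    rw [← h] at hx
    exact hx

/-- an automorphism of odd order of a two-generated `2`-group leaves no subgroup of index two
invariant -/
theorem NI_of_odd [Finite H] (hH : IsPGroup 2 H) (M0 : MCGen H) (α : MulAut H) (hα : α ≠ 1)
    (hodd : Odd (orderOf α)) : NI α := by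
  intro M hM hinv
  haveI : Fact (Nat.Prime 2) := ⟨Nat.prime_two⟩
  have hΦM : frattini H ≤ M := frattini_le_coatom (isCoatom_of_index_two M hM)
  have hΦidx : (frattini H).index ≤ 4 :=
    index_le_four M0 _ (pow_mem_frattini_of_isPGroup hH _) (pow_mem_frattini_of_isPGroup hH _)
  have h1 : ∀ x, x⁻¹ * α x ∈ M := by
    intro x
    rw [Subgroup.mul_mem_iff_of_index_two hM, inv_mem_iff, apply_mem_iff α M hinv]
  have h2 : ∀ m ∈ M, m⁻¹ * α m ∈ frattini H := by
    intro m hm
    have hrel : (frattini H).relIndex M * M.index = (frattini H).index :=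
      Subgroup.relIndex_mul_index hΦM
    have hle : (frattini H).relIndex M ≤ 2 := by rw [hM] at hrel; omega
    have hne : (frattini H).relIndex M ≠ 0 := Subgroup.index_ne_zero_of_finite
    have hcases : (frattini H).relIndex M = 1 ∨ (frattini H).relIndex M = 2 := by omega
    rcases hcases with h | h
    · have hMΦ : M ≤ frattini H := Subgroup.relIndex_eq_one.mp h
      exact Subgroup.mul_mem _ (Subgroup.inv_mem _ (hMΦ hm)) (hMΦ (hinv m hm))
    · have h3 := Subgroup.mul_mem_iff_of_index_two (H := (frattini H).subgroupOf M) h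
        (a := (⟨m, hm⟩ : M)⁻¹) (b := ⟨α m, hinv m hm⟩)
      rw [Subgroup.mem_subgroupOf, Subgroup.mem_subgroupOf, Subgroup.mem_subgroupOf] at h3
      apply h3.mpr
      show ((m⁻¹ : H) ∈ frattini H ↔ α m ∈ frattini H)
      rw [inv_mem_iff, frattini_apply_mem_iff]
  have hker : α ^ 2 ∈ (autQuot (frattini H)).ker := by
    rw [mem_ker_autQuot]
    intro x
    have hx1 := h1 x
    have hx2 := h2 _ hx1
    have hsq : (x⁻¹ * α x) ^ 2 ∈ frattini H := pow_mem_frattini_of_isPGroup hH _
    have : x⁻¹ * (α ^ 2) x = (x⁻¹ * α x) ^ 2 * ((x⁻¹ * α x)⁻¹ * α (x⁻¹ * α x)) := by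
      rw [pow_two α, MulAut.mul_apply, map_mul, map_inv, pow_two]
      group
    rw [this]
    exact Subgroup.mul_mem _ hsq hx2
  obtain ⟨r, hr⟩ := hodd
  have hα2 : α = (α ^ 2) ^ (r + 1) := by
    rw [← pow_mul, show 2 * (r + 1) = orderOf α + 1 by omega, pow_succ, pow_orderOf_eq_one, one_mul]
  have hker' : α ∈ (autQuot (frattini H)).ker := by
    rw [hα2]
    exact Subgroup.pow_mem _ hker _
  have hcop : (orderOf α).Coprime 2 := by
    rw [hr]
    exact Nat.coprime_two_right.mpr ⟨r, rfl⟩
  exact hα (eq_one_of_autQuot_frattini hH α hcop hker')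

/-- passing to a characteristic quotient -/
theorem NI_quot (K : Subgroup H) [K.Characteristic] (α : MulAut H) (h : NI α) :
    NI (autQuot K α) := by
  intro M hM hinv
  apply h (M.comap (QuotientGroup.mk' K))
  · rw [Subgroup.index_comap_of_surjective _ (QuotientGroup.mk'_surjective K)]
    exact hM
  · intro x hx
    rw [Subgroup.mem_comap] at hx ⊢
    have := hinv _ hx
    rwa [QuotientGroup.mk'_apply, autQuot_mk] at this

/-- the index of a subgroup of a finite `2`-group bounded by four is `1`, `2` or `4` -/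
theorem index_cases [Finite H] (hH : IsPGroup 2 H) (K : Subgroup H) (h : K.index ≤ 4) :
    K.index = 1 ∨ K.index = 2 ∨ K.index = 4 := by
  haveI : Fact (Nat.Prime 2) := ⟨Nat.prime_two⟩
  obtain ⟨n, hn⟩ := IsPGroup.iff_card.mp hH
  have h1 : K.index ∣ 2 ^ n := by rw [← hn]; exact Subgroup.index_dvd_card K
  obtain ⟨k, -, hk⟩ := (Nat.dvd_prime_pow Nat.prime_two).mp h1
  rw [hk] at h ⊢
  have hk2 : k ≤ 2 := by
    by_contra hcon
    have : 2 ^ 3 ≤ 2 ^ k := Nat.pow_le_pow_right (by norm_num) (by omega)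
    omega
  interval_cases k <;> simp

/-- an abelian two-generated `2`-group with no invariant subgroup of index two is homocyclic
of rank two -/
theorem homocyclic_of_comm [Finite H] [Nontrivial H] (hH : IsPGroup 2 H)
    (hc : ∀ x y : H, x * y = y * x) (M0 : MCGen H) (α : MulAut H) (hNI : NI α) :
    ∃ e : ℕ, 1 ≤ e ∧ Nonempty (H ≃* Multiplicative (ZMod (2 ^ e) × ZMod (2 ^ e))) := by
  haveI : Fact (Nat.Prime 2) := ⟨Nat.prime_two⟩
  letI : CommGroup H := { (inferInstance : Group H) with mul_comm := hc }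
  set P2 : Subgroup H := (powMonoidHom 2 : H →* H).range with hP2
  have hP2mem : ∀ y : H, y ^ 2 ∈ P2 := fun y => ⟨y, rfl⟩
  have hP2inv : ∀ x ∈ P2, α x ∈ P2 := by
    rintro _ ⟨y, rfl⟩
    refine ⟨α y, ?_⟩
    simp [powMonoidHom_apply]
  have hidx4 : P2.index ≤ 4 := index_le_four M0 P2 (hP2mem _) (hP2mem _)
  have hidx : P2.index = 2 ^ 2 := by
    rcases index_cases hH P2 hidx4 with h | h | h
    · exfalso
      have htop : P2 = ⊤ := Subgroup.index_eq_one.mp h
      have hsurj : Function.Surjective (powMonoidHom 2 : H →* H) :=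
        MonoidHom.range_eq_top.mp htop
      have hinj : Function.Injective (powMonoidHom 2 : H →* H) :=
        Finite.injective_iff_surjective.mpr hsurj
      obtain ⟨n, hn⟩ := IsPGroup.iff_card.mp hH
      have hn0 : n ≠ 0 := by
        rintro rfl
        rw [pow_zero] at hn
        have := Finite.one_lt_card (α := H)
        omega
      have h2 : 2 ∣ Nat.card H := by rw [hn]; exact dvd_pow_self 2 hn0
      obtain ⟨x, hx⟩ := exists_prime_orderOf_dvd_card' 2 h2
      have hx2 : x ^ 2 = 1 := by rw [← hx]; exact pow_orderOf_eq_one x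
      have hx1 : x = 1 := by
        apply hinj
        simp [powMonoidHom_apply, hx2]
      rw [hx1, orderOf_one] at hx
      omega
    · exact (hNI P2 h hP2inv).elim
    · rw [h]; norm_num
  -- the exponent
  have hex : ∃ e : ℕ, ∀ h : H, h ^ 2 ^ e = 1 := by
    obtain ⟨n, hn⟩ := IsPGroup.iff_card.mp hH
    exact ⟨n, fun h => by rw [← hn]; exact pow_card_eq_one'⟩
  classical
  set e := Nat.find hex with he
  have hexp : ∀ h : H, h ^ 2 ^ e = 1 := Nat.find_spec hex
  have he1 : 1 ≤ e := by
    by_contra hcon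
    have he0 : e = 0 := by omega
    obtain ⟨x, hx⟩ := exists_ne (1 : H)
    have := hexp x
    rw [he0, pow_zero, pow_one] at this
    exact hx this
  have hmin : ¬ ∀ h : H, h ^ 2 ^ (e - 1) = 1 := Nat.find_min hex (by omega)
  set Om : Subgroup H := (powMonoidHom (2 ^ (e - 1)) : H →* H).ker with hOm
  have hP2Om : P2 ≤ Om := by
    rintro _ ⟨y, rfl⟩
    rw [hOm, MonoidHom.mem_ker, powMonoidHom_apply, powMonoidHom_apply, ← pow_mul]
    have : 2 * 2 ^ (e - 1) = 2 ^ e := by
      rw [← pow_succ']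
      congr 1
      omega
    rw [this]
    exact hexp y
  have hOmtop : Om ≠ ⊤ := by
    intro h
    apply hmin
    intro x
    have : x ∈ Om := h ▸ Subgroup.mem_top x
    rwa [hOm, MonoidHom.mem_ker, powMonoidHom_apply] at this
  have hOminv : ∀ x ∈ Om, α x ∈ Om := by
    intro x hx
    rw [hOm, MonoidHom.mem_ker, powMonoidHom_apply] at hx ⊢
    rw [← map_pow, hx, map_one]
  have hOmidx : Om.index = 4 := by
    have hdvd : Om.index ∣ P2.index := Subgroup.index_dvd_of_le hP2Om
    have hle : Om.index ≤ 4 := by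
      rw [hidx] at hdvd
      exact Nat.le_of_dvd (by norm_num) hdvd
    rcases index_cases hH Om hle with h | h | h
    · exact (hOmtop (Subgroup.index_eq_one.mp h)).elim
    · exact (hNI Om h hOminv).elim
    · exact h
  have hOmeq : Om = P2 := by
    apply le_antisymm _ hP2Om
    have h1 := Subgroup.relIndex_mul_index hP2Om
    rw [hOmidx, hidx] at h1
    have h2 : P2.relIndex Om = 1 := by omega
    exact Subgroup.relIndex_eq_one.mp h2
  exact ⟨e, he1, Cfsg.Agent.Helper1.AbEss.nonempty_equiv_homocyclic hH e he1 hexp hOmeq hidx⟩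

/-- a quotient generated by two elements of order at most `n` has order at most `n * n` -/
theorem index_le_mul [Finite H] (M0 : MCGen H) (K : Subgroup H) [K.Normal] (n : ℕ) (hn : 0 < n)
    (ha : M0.a ^ n ∈ K) (hb : M0.b ^ n ∈ K) : K.index ≤ n * n := by
  classical
  have hqa : (QuotientGroup.mk M0.a : H ⧸ K) ^ n = 1 := by
    rw [← QuotientGroup.mk_pow, QuotientGroup.eq_one_iff]; exact ha
  have hqb : (QuotientGroup.mk M0.b : H ⧸ K) ^ n = 1 := by
    rw [← QuotientGroup.mk_pow, QuotientGroup.eq_one_iff]; exact hb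
  let f : Fin n × Fin n → H ⧸ K := fun ji =>
    (QuotientGroup.mk M0.b : H ⧸ K) ^ (ji.1 : ℕ) * (QuotientGroup.mk M0.a : H ⧸ K) ^ (ji.2 : ℕ)
  have hf : Function.Surjective f := by
    intro q
    obtain ⟨g, rfl⟩ := QuotientGroup.mk_surjective q
    obtain ⟨j, i, rfl⟩ := M0.gen g
    refine ⟨(⟨j % n, Nat.mod_lt _ hn⟩, ⟨i % n, Nat.mod_lt _ hn⟩), ?_⟩
    show (QuotientGroup.mk M0.b : H ⧸ K) ^ (j % n) * (QuotientGroup.mk M0.a : H ⧸ K) ^ (i % n) = _
    rw [← pow_eq_pow_mod j hqb, ← pow_eq_pow_mod i hqa]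
    simp
  have h1 := Nat.card_le_card_of_surjective f hf
  rw [Subgroup.index_eq_card]
  simpa using h1

theorem commutator_apply_mem_iff (α : MulAut H) (x : H) :
    α x ∈ commutator H ↔ x ∈ commutator H := by
  have h := (inferInstance : (commutator H).Characteristic).fixed α
  constructor
  · intro hx
    rw [← h]
    exact hx
  · intro hx
    rw [← h] at hx
    exact hx

theorem mem_zpowers_iff_exists_pow [Finite H] (c x : H) :
    x ∈ Subgroup.zpowers c ↔ ∃ k : ℕ, x = c ^ k := by
  rw [← (isOfFinOrder_of_finite c).mem_powers_iff_mem_zpowers, Submonoid.mem_powers_iff]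
  constructor
  · rintro ⟨k, hk⟩; exact ⟨k, hk.symm⟩
  · rintro ⟨k, hk⟩; exact ⟨k, hk.symm⟩

/-- the abelianisation of a nonabelian two-generated `2`-group with `NI` -/
theorem abelianization_homocyclic [Finite H] [Nontrivial H] (hH : IsPGroup 2 H) (M0 : MCGen H)
    (α : MulAut H) (hNI : NI α) :
    ∃ e : ℕ, 1 ≤ e ∧ Nat.card (H ⧸ commutator H) = 2 ^ (2 * e) ∧
      ∀ x : H, x ^ 2 ^ e ∈ commutator H := by
  haveI : Fact (Nat.Prime 2) := ⟨Nat.prime_two⟩
  haveI : Group.IsNilpotent H := hH.isNilpotent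
  have hlt : commutator H < ⊤ := Group.IsSolvable.commutator_lt_top_of_nontrivial H
  haveI : Nontrivial (H ⧸ commutator H) := by
    rw [← Finite.one_lt_card_iff_nontrivial, ← Subgroup.index_eq_card]
    have h0 : (commutator H).index ≠ 0 := Subgroup.index_ne_zero_of_finite
    have h1 : (commutator H).index ≠ 1 := fun h => hlt.ne (Subgroup.index_eq_one.mp h)
    omega
  obtain ⟨e, he, ⟨E⟩⟩ := homocyclic_of_comm (hH.to_quotient (commutator H))
    (fun x y => by
      induction x using QuotientGroup.induction_on with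
      | _ x =>
        induction y using QuotientGroup.induction_on with
        | _ y =>
          rw [← QuotientGroup.mk_mul, ← QuotientGroup.mk_mul, QuotientGroup.eq]
          have : (x * y)⁻¹ * (y * x) = ⁅y⁻¹, x⁻¹⁆ := by
            rw [commutatorElement_def]; group
          rw [this, commutator_def]
          exact Subgroup.commutator_mem_commutator (Subgroup.mem_top _) (Subgroup.mem_top _))
    (M0.quotient (commutator H)) (autQuot (commutator H) α) (NI_quot _ α hNI)
  refine ⟨e, he, ?_, ?_⟩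
  · rw [Nat.card_congr E.toEquiv]
    have : Nat.card (Multiplicative (ZMod (2 ^ e) × ZMod (2 ^ e))) =
        Nat.card (ZMod (2 ^ e) × ZMod (2 ^ e)) := rfl
    rw [this, Nat.card_prod, Nat.card_zmod, ← pow_add]
    congr 1
    omega
  · intro x
    rw [← QuotientGroup.eq_one_iff, QuotientGroup.mk_pow]
    apply E.injective
    rw [map_pow, map_one]
    generalize E (QuotientGroup.mk x) = z
    apply Multiplicative.toAdd.injective
    rw [toAdd_pow, toAdd_one]
    have h0 : ((2 : ZMod (2 ^ e)) ^ e) = 0 := by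
      have := ZMod.natCast_self (2 ^ e)
      push_cast at this
      exact this
    ext
    · simp [h0]
    · simp [h0]

theorem choose_two_even (e : ℕ) (he : 2 ≤ e) : Even ((2 ^ e).choose 2) := by
  obtain ⟨m, hm⟩ : ∃ m, 2 ^ e = 4 * m := by
    refine ⟨2 ^ (e - 2), ?_⟩
    have : e = (e - 2) + 2 := by omega
    rw [this, pow_add]
    simp
    ring
  rw [Nat.choose_two_right, hm]
  have hpos : 1 ≤ 4 * m := by
    have : 0 < 2 ^ e := pow_pos (by norm_num) e
    omega
  have : 4 * m * (4 * m - 1) = 2 * (2 * (m * (4 * m - 1))) := by ring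
  rw [this, Nat.mul_div_cancel_left _ (by norm_num : 0 < 2)]
  exact ⟨m * (4 * m - 1), by ring⟩

/-- the abelianisation of a nonabelian metacyclic `2`-group with `NI` is elementary abelian -/
theorem not_two_le [Finite H] (hH : IsPGroup 2 H) (M0 : MCGen H) (α : MulAut H) (hNI : NI α)
    (hc1 : ⁅M0.b, M0.a⁆ ≠ 1) (e : ℕ) (he : 2 ≤ e)
    (hcard : Nat.card (H ⧸ commutator H) = 2 ^ (2 * e))
    (hexp : ∀ x : H, x ^ 2 ^ e ∈ commutator H) : False := by
  haveI : Fact (Nat.Prime 2) := ⟨Nat.prime_two⟩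
  set c := ⁅M0.b, M0.a⁆ with hc
  have hcomm : commutator H = Subgroup.zpowers c := M0.commutator_eq hH
  have hca : c ∈ Subgroup.zpowers M0.a := M0.commutator_ba_mem
  have hc2a : c ^ 2 ∈ Subgroup.zpowers M0.a := Subgroup.pow_mem _ hca 2
  haveI hKn : (Subgroup.zpowers (c ^ 2)).Normal := M0.zpowers_normal hH hc2a
  set K := Subgroup.zpowers (c ^ 2) with hK
  set cb : H ⧸ K := QuotientGroup.mk c with hcb
  have hcb2 : cb ^ 2 = 1 := by
    rw [hcb, ← QuotientGroup.mk_pow, QuotientGroup.eq_one_iff]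
    exact Subgroup.mem_zpowers _
  have hcent : ∀ g : H ⧸ K, g * cb = cb * g := by
    intro g
    obtain ⟨x, rfl⟩ := QuotientGroup.mk_surjective g
    obtain ⟨u, hu1, hu⟩ := M0.exists_conj hH x
    have h1 := hu c hca
    have hodd : u % 2 = 1 := hu1
    have h2 : (QuotientGroup.mk (x * c * x⁻¹) : H ⧸ K) = cb := by
      rw [h1, QuotientGroup.mk_pow, ← hcb, pow_eq_pow_mod u hcb2, hodd, pow_one]
    rw [QuotientGroup.mk_mul, QuotientGroup.mk_mul, QuotientGroup.mk_inv] at h2
    calc (QuotientGroup.mk x : H ⧸ K) * cb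
        = ((QuotientGroup.mk x : H ⧸ K) * cb * (QuotientGroup.mk x : H ⧸ K)⁻¹) *
            (QuotientGroup.mk x : H ⧸ K) := by group
      _ = cb * (QuotientGroup.mk x : H ⧸ K) := by rw [h2]
  have hcommq : ∀ x' y' : H ⧸ K, ∃ k : ℕ, ⁅y', x'⁆ = cb ^ k := by
    intro x' y'
    obtain ⟨x, rfl⟩ := QuotientGroup.mk_surjective x'
    obtain ⟨y, rfl⟩ := QuotientGroup.mk_surjective y'
    have h1 : ⁅y, x⁆ ∈ Subgroup.zpowers c := M0.commutator_mem hH y x
    rw [mem_zpowers_iff_exists_pow] at h1
    obtain ⟨k, hk⟩ := h1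
    refine ⟨k, ?_⟩
    show ⁅(QuotientGroup.mk' K) y, (QuotientGroup.mk' K) x⁆ = _
    rw [← map_commutatorElement, hk, map_pow]
    rfl
  have hmulpow : ∀ x' y' : H ⧸ K, (x' * y') ^ 2 ^ e = x' ^ 2 ^ e * y' ^ 2 ^ e := by
    intro x' y'
    obtain ⟨k, hk⟩ := hcommq x' y'
    have hc' : ∀ g : H ⧸ K, g * ⁅y', x'⁆ = ⁅y', x'⁆ * g := by
      intro g
      rw [hk]
      exact (Commute.pow_right (hcent g) k)
    rw [Cfsg.Agent.Helper22.mul_pow_eq_of_central x' y' ⁅y', x'⁆ hc'
      (Cfsg.Agent.Helper22.mul_eq_commutator_mul x' y') (2 ^ e)]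
    obtain ⟨r, hr⟩ := choose_two_even e he
    have : ⁅y', x'⁆ ^ (2 ^ e).choose 2 = 1 := by
      rw [hr, hk, ← pow_mul, ← two_mul, mul_comm k, mul_assoc, pow_mul, hcb2, one_pow]
    rw [this, one_mul]
  let φ : (H ⧸ K) →* (H ⧸ K) := MonoidHom.mk' (fun x' => x' ^ 2 ^ e) hmulpow
  have hφ : ∀ x', φ x' = x' ^ 2 ^ e := fun _ => rfl
  have hrange : φ.range ≤ Subgroup.zpowers cb := by
    rintro _ ⟨x', rfl⟩
    obtain ⟨x, rfl⟩ := QuotientGroup.mk_surjective x'
    rw [hφ, ← QuotientGroup.mk_pow]
    have h1 := hexp x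
    rw [hcomm, mem_zpowers_iff_exists_pow] at h1
    obtain ⟨k, hk⟩ := h1
    rw [hk, QuotientGroup.mk_pow]
    exact Subgroup.pow_mem _ (Subgroup.mem_zpowers _) k
  have hcardr : Nat.card φ.range ≤ 2 := by
    have h1 : Nat.card φ.range ≤ Nat.card (Subgroup.zpowers cb) := Subgroup.card_le_of_le hrange
    have h2 : Nat.card (Subgroup.zpowers cb) ≤ 2 := by
      rw [Nat.card_zpowers]
      exact orderOf_le_of_pow_eq_one (by norm_num) hcb2
    omega
  set M : Subgroup H := φ.ker.comap (QuotientGroup.mk' K) with hM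
  have hMidx : M.index ≤ 2 := by
    rw [hM, Subgroup.index_comap_of_surjective _ (QuotientGroup.mk'_surjective K),
      Subgroup.index_ker]
    exact hcardr
  have hMmem : ∀ x : H, x ∈ M ↔ x ^ 2 ^ e ∈ K := by
    intro x
    rw [hM, Subgroup.mem_comap, MonoidHom.mem_ker, hφ, QuotientGroup.mk'_apply,
      ← QuotientGroup.mk_pow, QuotientGroup.eq_one_iff]
  have hαc : ∃ k : ℕ, α c = c ^ k := by
    have h1 : α c ∈ commutator H := by
      rw [commutator_apply_mem_iff, hcomm]
      exact Subgroup.mem_zpowers _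
    rwa [hcomm, mem_zpowers_iff_exists_pow] at h1
  have hKinv : ∀ z ∈ K, α z ∈ K := by
    intro z hz
    rw [hK, mem_zpowers_iff_exists_pow] at hz
    obtain ⟨j, rfl⟩ := hz
    obtain ⟨k, hk⟩ := hαc
    rw [map_pow, map_pow, hk, ← pow_mul, ← pow_mul,
      show k * (2 * j) = 2 * (k * j) by ring, pow_mul]
    exact Subgroup.pow_mem _ (Subgroup.mem_zpowers _) _
  have hMinv : ∀ x ∈ M, α x ∈ M := by
    intro x hx
    rw [hMmem] at hx ⊢
    rw [← map_pow]
    exact hKinv _ hx
  have hMtop : M = ⊤ := by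
    have h0 : M.index ≠ 0 := Subgroup.index_ne_zero_of_finite
    have h12 : M.index = 1 ∨ M.index = 2 := by omega
    rcases h12 with h | h
    · exact Subgroup.index_eq_one.mp h
    · exact (hNI M h hMinv).elim
  have hall : ∀ x : H, x ^ 2 ^ e ∈ K := by
    intro x
    rw [← hMmem, hMtop]
    exact Subgroup.mem_top x
  -- counting
  have hle : K.index ≤ 2 ^ e * 2 ^ e :=
    index_le_mul M0 K (2 ^ e) (pow_pos (by norm_num) e) (hall _) (hall _)
  have hcardH : Nat.card H = 2 ^ (2 * e) * orderOf c := by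
    rw [← hcard, ← Nat.card_zpowers c, ← hcomm]
    exact Subgroup.card_eq_card_quotient_mul_card_subgroup (commutator H)
  have hKcard : Nat.card K = orderOf (c ^ 2) := Nat.card_zpowers _
  obtain ⟨m, hm⟩ := (IsPGroup.iff_orderOf.mp hH) c
  have hm0 : m ≠ 0 := by
    rintro rfl
    rw [pow_zero, orderOf_eq_one_iff] at hm
    exact hc1 hm
  have hord2 : orderOf (c ^ 2) = 2 ^ (m - 1) := by
    rw [orderOf_pow, hm]
    have h1 : Nat.gcd (2 ^ m) 2 = 2 := by
      apply Nat.gcd_eq_right
      exact dvd_pow_self 2 hm0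
    rw [h1]
    have : m = (m - 1) + 1 := by omega
    conv_lhs => rw [this, pow_succ]
    simp
  have hmul : K.index * Nat.card K = Nat.card H := by
    rw [mul_comm]; exact Subgroup.card_mul_index K
  rw [hKcard, hord2, hcardH, hm] at hmul
  have h2m : 2 ^ m = 2 * 2 ^ (m - 1) := by
    have : m = (m - 1) + 1 := by omega
    conv_lhs => rw [this, pow_succ]
    ring
  rw [h2m] at hmul
  have hpos : 0 < 2 ^ (m - 1) := pow_pos (by norm_num) _
  have hidx : K.index = 2 ^ (2 * e) * 2 := by
    have : K.index * 2 ^ (m - 1) = (2 ^ (2 * e) * 2) * 2 ^ (m - 1) := by rw [hmul]; ring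
    exact Nat.eq_of_mul_eq_mul_right hpos this
  rw [hidx, ← pow_add, two_mul] at hle
  have hpos2 : 0 < 2 ^ (e + e) := pow_pos (by norm_num) _
  omega

/-- a nonabelian metacyclic `2`-group with `NI` is quaternion of order eight -/
theorem quat_of_noncomm [Finite H] (hH : IsPGroup 2 H) (M0 : MCGen H) (α : MulAut H) (hNI : NI α)
    (hc1 : ⁅M0.b, M0.a⁆ ≠ 1) : Quat H := by
  haveI : Fact (Nat.Prime 2) := ⟨Nat.prime_two⟩
  haveI : Nontrivial H := ⟨⟨_, 1, hc1⟩⟩
  obtain ⟨e, he, hcard, hexp⟩ := abelianization_homocyclic hH M0 α hNI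
  have he1 : e = 1 := by
    by_contra hne
    exact not_two_le hH M0 α hNI hc1 e (by omega) hcard hexp
  subst he1
  set a := M0.a with ha
  set b := M0.b with hb
  set c := ⁅b, a⁆ with hc
  have hcomm : commutator H = Subgroup.zpowers c := M0.commutator_eq hH
  have hca : c ∈ Subgroup.zpowers a := M0.commutator_ba_mem
  have hsq : ∀ x : H, x ^ 2 ∈ Subgroup.zpowers a := by
    intro x
    have := hexp x
    rw [pow_one, hcomm] at this
    exact (Subgroup.zpowers_le.mpr hca) this
  have hb2 : b ^ 2 ∈ Subgroup.zpowers a := hsq b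
  have hcommZ : ∀ z ∈ Subgroup.zpowers a, z * a = a * z := by
    intro z hz
    rw [Subgroup.mem_zpowers_iff] at hz
    obtain ⟨k, rfl⟩ := hz
    exact ((Commute.refl a).zpow_left k).eq
  set C : Subgroup H := Subgroup.centralizer (commutator H : Set H) with hC
  have hmemC : ∀ g : H, g ∈ C ↔ c * g = g * c := by
    intro g
    rw [hC, Subgroup.mem_centralizer_iff]
    constructor
    · intro h
      apply h
      rw [SetLike.mem_coe, hcomm]
      exact Subgroup.mem_zpowers c
    · intro h z hz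
      rw [SetLike.mem_coe, hcomm, Subgroup.mem_zpowers_iff] at hz
      obtain ⟨k, rfl⟩ := hz
      exact ((Commute.zpow_left (show Commute c g from h) k)).eq
  have haC : a ∈ C := by
    rw [hmemC]
    exact hcommZ c hca
  have hZC : Subgroup.zpowers a ≤ C := Subgroup.zpowers_le.mpr haC
  have hCinv : ∀ x ∈ C, α x ∈ C := by
    intro x hx
    rw [hC, Subgroup.mem_centralizer_iff] at hx ⊢
    intro z hz
    have hz' : α⁻¹ z ∈ commutator H := by
      rw [← commutator_apply_mem_iff α]
      simpa using hz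
    have h1 := hx _ hz'
    have h2 := congrArg α h1
    rw [map_mul, map_mul] at h2
    simpa using h2
  have hbC : b ∈ C := by
    by_contra hbn
    apply hNI C _ hCinv
    have hkey : ∀ j i : ℕ, b ^ j * a ^ i ∈ C ↔ Even j := by
      intro j i
      have hai : a ^ i ∈ C := Subgroup.pow_mem _ haC i
      rw [Subgroup.mul_mem_cancel_right _ hai]
      constructor
      · intro h
        by_contra hodd
        rw [Nat.not_even_iff_odd] at hodd
        obtain ⟨r, rfl⟩ := hodd
        apply hbn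
        have h2 : (b ^ 2) ^ r ∈ C := Subgroup.pow_mem _ (hZC hb2) r
        have h3 : b = b ^ (2 * r + 1) * ((b ^ 2) ^ r)⁻¹ := by
          rw [pow_succ, pow_mul]; group
        rw [h3]
        exact Subgroup.mul_mem _ h (Subgroup.inv_mem _ h2)
      · rintro ⟨r, rfl⟩
        rw [← two_mul, pow_mul]
        exact Subgroup.pow_mem _ (hZC hb2) r
    rw [Subgroup.index_eq_two_iff']
    refine ⟨b, fun g => ?_⟩
    obtain ⟨j, i, rfl⟩ := M0.gen g
    have h1 : b * (M0.b ^ j * M0.a ^ i) = b ^ (j + 1) * a ^ i := by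
      show b * (b ^ j * a ^ i) = b ^ (j + 1) * a ^ i
      rw [pow_succ']; group
    rw [h1, hkey, hkey, Nat.even_add_one]
    by_cases hj : Even j
    · exact Or.inr ⟨hj, fun h => h hj⟩
    · exact Or.inl ⟨hj, hj⟩
  have hccent : c ∈ Subgroup.center H := by
    rw [Subgroup.mem_center_iff]
    intro g
    obtain ⟨j, i, rfl⟩ := M0.gen g
    have h1 : Commute (M0.b ^ j * M0.a ^ i) c := by
      apply Commute.mul_left
      · exact (Commute.pow_left (show Commute b c from ((hmemC b).mp hbC).symm) j)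
      · exact (Commute.pow_left (show Commute a c from ((hmemC a).mp haC).symm) i)
    exact h1.eq
  have hc2 : c ^ 2 = 1 := by
    have h1 := Cfsg.Agent.Helper22.commutator_pow_left_of_central a b hccent 2
    rw [← h1, commutatorElement_eq_one_iff_commute]
    exact hcommZ _ hb2
  have hordc : orderOf c = 2 := orderOf_eq_prime hc2 hc1
  have hcardH : Nat.card H = 8 := by
    rw [Subgroup.card_eq_card_quotient_mul_card_subgroup (commutator H), hcard, hcomm,
      Nat.card_zpowers, hordc]
    norm_num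
  -- the order of `a`
  have hidx : (Subgroup.zpowers a).index ≤ 2 := by
    have hZn : (Subgroup.zpowers a).Normal := M0.normal
    have hqb : (QuotientGroup.mk b : H ⧸ Subgroup.zpowers a) ^ 2 = 1 := by
      rw [← QuotientGroup.mk_pow, QuotientGroup.eq_one_iff]; exact hb2
    let f : Fin 2 → H ⧸ Subgroup.zpowers a := fun j =>
      (QuotientGroup.mk b : H ⧸ Subgroup.zpowers a) ^ (j : ℕ)
    have hf : Function.Surjective f := by
      intro q
      obtain ⟨g, rfl⟩ := QuotientGroup.mk_surjective q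
      obtain ⟨j, i, rfl⟩ := M0.gen g
      refine ⟨⟨j % 2, Nat.mod_lt _ (by norm_num)⟩, ?_⟩
      show (QuotientGroup.mk b : H ⧸ Subgroup.zpowers a) ^ (j % 2) = _
      rw [← pow_eq_pow_mod j hqb, QuotientGroup.mk_mul, QuotientGroup.mk_pow,
        QuotientGroup.mk_pow]
      have : (QuotientGroup.mk M0.a : H ⧸ Subgroup.zpowers a) = 1 := by
        rw [QuotientGroup.eq_one_iff]; exact Subgroup.mem_zpowers _
      rw [this, one_pow, mul_one]
    have h1 := Nat.card_le_card_of_surjective f hf
    rw [Subgroup.index_eq_card]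
    simpa using h1
  have hbZ : b ∉ Subgroup.zpowers a := by
    intro h
    apply hc1
    rw [commutatorElement_eq_one_iff_commute]
    exact hcommZ b h
  have horda : orderOf a = 4 := by
    have h1 := Subgroup.card_mul_index (Subgroup.zpowers a)
    rw [hcardH, Nat.card_zpowers] at h1
    have h0 : (Subgroup.zpowers a).index ≠ 0 := Subgroup.index_ne_zero_of_finite
    have h12 : (Subgroup.zpowers a).index = 1 ∨ (Subgroup.zpowers a).index = 2 := by omega
    rcases h12 with h | h
    · exfalso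
      have : Subgroup.zpowers a = ⊤ := Subgroup.index_eq_one.mp h
      exact hbZ (this ▸ Subgroup.mem_top b)
    · rw [h] at h1; omega
  have ha4 : a ^ 4 = 1 := by rw [← horda]; exact pow_orderOf_eq_one a
  have ha2 : a ^ 2 ≠ 1 := by
    intro h
    have := orderOf_le_of_pow_eq_one (by norm_num) h
    omega
  have hZidx : (Subgroup.zpowers a).index = 2 := by
    have h1 := Subgroup.card_mul_index (Subgroup.zpowers a)
    rw [hcardH, Nat.card_zpowers, horda] at h1
    omega
  have hpowcases : ∀ z ∈ Subgroup.zpowers a, z = 1 ∨ z = a ∨ z = a ^ 2 ∨ z = a ^ 3 := by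
    intro z hz
    rw [mem_zpowers_iff_exists_pow] at hz
    obtain ⟨k, rfl⟩ := hz
    rw [pow_eq_pow_mod k ha4]
    have : k % 4 < 4 := Nat.mod_lt _ (by norm_num)
    interval_cases (k % 4) <;> simp
  have hca2 : c = a ^ 2 := by
    rcases hpowcases c hca with h | h | h | h
    · exact (hc1 h).elim
    · rw [h] at hc2; exact (ha2 hc2).elim
    · exact h
    · exfalso
      rw [h, ← pow_mul] at hc2
      have : a ^ (3 * 2) = a ^ 4 * a ^ 2 := by rw [← pow_add]
      rw [this, ha4, one_mul] at hc2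
      exact ha2 hc2
  have hconj : b * a * b⁻¹ = a⁻¹ := by
    have h1 : b * a * b⁻¹ = c * a := by rw [hc, commutatorElement_def]; group
    rw [h1, hca2, ← pow_succ, eq_inv_iff_mul_eq_one, ← pow_succ, ha4]
  have hconjpow : ∀ k : ℕ, b * a ^ k * b⁻¹ = (a ^ k)⁻¹ := by
    intro k
    rw [← conj_pow, hconj, inv_pow]
  have hb2cases : b ^ 2 = 1 ∨ b ^ 2 = a ^ 2 := by
    have hcomb : b * b ^ 2 * b⁻¹ = b ^ 2 := by group
    rcases hpowcases _ hb2 with h | h | h | h
    · exact Or.inl h
    · exfalso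
      rw [h, hconj] at hcomb
      have : a ^ 2 = 1 := by
        calc a ^ 2 = a * a := pow_two a
          _ = a * a⁻¹ := by rw [hcomb]
          _ = 1 := mul_inv_cancel a
      exact ha2 this
    · exact Or.inr h
    · exfalso
      rw [h, hconjpow] at hcomb
      have h6 : a ^ 6 = 1 := by
        calc a ^ 6 = a ^ 3 * a ^ 3 := by rw [← pow_add]
          _ = a ^ 3 * (a ^ 3)⁻¹ := by rw [hcomb]
          _ = 1 := mul_inv_cancel _
      have : a ^ 6 = a ^ 4 * a ^ 2 := by rw [← pow_add]
      rw [this, ha4, one_mul] at h6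
      exact ha2 h6
  rcases hb2cases with hb1 | hb1
  · exfalso
    apply hNI (Subgroup.zpowers a) hZidx
    have hαa : α a ∈ Subgroup.zpowers a := by
      obtain ⟨j, i, hji⟩ := M0.gen (α a)
      rcases Nat.even_or_odd j with ⟨r, hr⟩ | ⟨r, hr⟩
      · rw [hji, hr, ← two_mul, pow_mul]
        show (b ^ 2) ^ r * a ^ i ∈ _
        rw [hb1, one_pow, one_mul]
        exact Subgroup.pow_mem _ (Subgroup.mem_zpowers a) i
      · exfalso
        have hbj : M0.b ^ j = b := by
          rw [hr, pow_succ, pow_mul]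
          show (b ^ 2) ^ r * b = b
          rw [hb1, one_pow, one_mul]
        rw [hbj] at hji
        have hsq1 : (α a) ^ 2 = 1 := by
          rw [hji, pow_two]
          have : b * M0.a ^ i * (b * M0.a ^ i) = (b * a ^ i * b⁻¹) * b ^ 2 * a ^ i := by
            show b * a ^ i * (b * a ^ i) = (b * a ^ i * b⁻¹) * b ^ 2 * a ^ i
            rw [pow_two]; group
          rw [this, hconjpow, hb1, mul_one, inv_mul_cancel]
        rw [← map_pow] at hsq1
        have : a ^ 2 = 1 := by
          apply α.injective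
          rw [hsq1, map_one]
        exact ha2 this
    intro x hx
    rw [mem_zpowers_iff_exists_pow] at hx
    obtain ⟨k, rfl⟩ := hx
    rw [map_pow]
    exact Subgroup.pow_mem _ hαa k
  · exact ⟨hcardH, a, b, horda, hb1, hconj, hbZ⟩

theorem comm_of_commutator_eq_one (M0 : MCGen H) (hc1 : ⁅M0.b, M0.a⁆ = 1) :
    ∀ x y : H, x * y = y * x := by
  rw [commutatorElement_eq_one_iff_commute] at hc1
  intro x y
  obtain ⟨j, i, rfl⟩ := M0.gen x
  obtain ⟨j', i', rfl⟩ := M0.gen y
  have h : Commute (M0.b ^ j * M0.a ^ i) (M0.b ^ j' * M0.a ^ i') := by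
    apply Commute.mul_left
    · apply Commute.mul_right
      · exact Commute.pow_pow (Commute.refl _) _ _
      · exact Commute.pow_pow hc1 _ _
    · apply Commute.mul_right
      · exact Commute.pow_pow hc1.symm _ _
      · exact Commute.pow_pow (Commute.refl _) _ _
  exact h.eq

/-- **Mazurov's lemma**: a metacyclic `2`-group with a nontrivial automorphism of odd order is
homocyclic of rank two or quaternion of order eight -/
theorem mazurov [Finite H] (hH : IsPGroup 2 H) (M0 : MCGen H) (α : MulAut H) (hα : α ≠ 1)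
    (hodd : Odd (orderOf α)) :
    (∃ e : ℕ, 1 ≤ e ∧ Nonempty (H ≃* Multiplicative (ZMod (2 ^ e) × ZMod (2 ^ e)))) ∨
      Quat H := by
  have hNI := NI_of_odd hH M0 α hα hodd
  by_cases hc1 : ⁅M0.b, M0.a⁆ = 1
  · left
    haveI : Nontrivial H := by
      by_contra hnt
      rw [not_nontrivial_iff_subsingleton] at hnt
      apply hα
      ext x
      exact Subsingleton.elim _ _
    exact homocyclic_of_comm hH (comm_of_commutator_eq_one M0 hc1) M0 α hNI
  · right
    exact quat_of_noncomm hH M0 α hNI hc1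

end Cfsg.Agent.Helper21.MetaAut
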