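import Mathlib
import Cfsg.Agent.Lib.Helper21.MetaAut
import Cfsg.Agent.Lib.Helper16.MaxClass
import Cfsg.Agent.Lib.Helper16.Center
import Cfsg.Agent.Lib.Helper16.Q8Aut
import Cfsg.Agent.Lib.Helper2.QuaternionRecog

set_option autoImplicit false

/-! Configurations inside metacyclic `2`-groups: a homocyclic normal subgroup of index two is
acted on trivially modulo squares. -/

namespace Cfsg.Agent.Helper21.MetaAut

open Cfsg.Agent.Helper21 Cfsg.Agent.Helper8
open scoped commutatorElement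

/-- a normal abelian subgroup `D` of index two in a metacyclic `2`-group in which all involutions
are squares is acted on trivially modulo squares -/
theorem conj_sq_of_index_two {T : Type*} [Group T] [Finite T] (hT : IsPGroup 2 T) (M : MCGen T)
    (D : Subgroup T) (hidx : D.index = 2) (hcomm : ∀ x ∈ D, ∀ y ∈ D, x * y = y * x)
    (hΩ : ∀ d ∈ D, d ^ 2 = 1 → ∃ y ∈ D, d = y ^ 2) (t : T) (d : T) (hd : d ∈ D) :
    ∃ y ∈ D, d⁻¹ * (t * d * t⁻¹) = y ^ 2 := by
  haveI : Fact (Nat.Prime 2) := ⟨Nat.prime_two⟩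
  haveI hDn : D.Normal := Subgroup.normal_of_index_eq_two hidx
  by_cases ht : t ∈ D
  · refine ⟨1, D.one_mem, ?_⟩
    rw [hcomm t ht d hd]
    group
  -- reduce to conjugation by a fixed element outside `D`
  have hred : ∀ s : T, s ∉ D → t * d * t⁻¹ = s * d * s⁻¹ := by
    intro s hs
    have h1 : s⁻¹ * t ∈ D := by
      rw [Subgroup.mul_mem_iff_of_index_two hidx, inv_mem_iff]
      exact ⟨fun h => (hs h).elim, fun h => (ht h).elim⟩
    have h2 := hcomm _ h1 d hd
    have : t * d * t⁻¹ = s * ((s⁻¹ * t) * d * (s⁻¹ * t)⁻¹) * s⁻¹ := by group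
    rw [this, h2]
    group
  by_cases hA : M.a ∈ D
  · have hB : M.b ∉ D := by
      intro hB
      have : D = ⊤ := by
        rw [eq_top_iff]
        intro g _
        obtain ⟨j, i, rfl⟩ := M.gen g
        exact D.mul_mem (D.pow_mem hB j) (D.pow_mem hA i)
      rw [this, Subgroup.index_top] at hidx
      omega
    rw [hred _ hB]
    obtain ⟨j, i, hji⟩ := M.gen d
    obtain ⟨u, hu1, hu⟩ := M.exists_conj hT M.b
    have hconj : M.b * M.a ^ i * M.b⁻¹ = (M.a ^ i) ^ u :=
      hu _ (Subgroup.pow_mem _ (Subgroup.mem_zpowers _) i)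
    have huodd : u % 2 = 1 := hu1
    obtain ⟨k, hk⟩ : ∃ k, u = 2 * k + 1 := ⟨u / 2, by omega⟩
    refine ⟨(M.a ^ i) ^ k, D.pow_mem (D.pow_mem hA i) k, ?_⟩
    have h1 : M.b * d * M.b⁻¹ = M.b ^ j * (M.b * M.a ^ i * M.b⁻¹) := by
      rw [hji]
      have : M.b * M.b ^ j = M.b ^ j * M.b := (Commute.pow_right (Commute.refl M.b) j).eq
      calc M.b * (M.b ^ j * M.a ^ i) * M.b⁻¹ = (M.b * M.b ^ j) * M.a ^ i * M.b⁻¹ := by group
        _ = (M.b ^ j * M.b) * M.a ^ i * M.b⁻¹ := by rw [this]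
        _ = M.b ^ j * (M.b * M.a ^ i * M.b⁻¹) := by group
    rw [h1, hconj, hji, hk]
    have : (M.b ^ j * M.a ^ i)⁻¹ * (M.b ^ j * (M.a ^ i) ^ (2 * k + 1)) =
        (M.a ^ i)⁻¹ * (M.a ^ i) ^ (2 * k + 1) := by group
    rw [this, pow_succ', inv_mul_cancel_left, mul_comm 2 k, pow_mul]
  · rw [hred _ hA]
    set δ := d⁻¹ * (M.a * d * M.a⁻¹) with hδ
    have hδD : δ ∈ D := D.mul_mem (D.inv_mem hd) (hDn.conj_mem d hd M.a)
    have hδZ : δ ∈ Subgroup.zpowers M.a := by
      have : δ = ⁅d⁻¹, M.a⁆ := by rw [hδ, commutatorElement_def]; group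
      rw [this]
      exact M.commutator_mem_zpowers_a hT _ _
    have hδcomm : M.a * δ * M.a⁻¹ = δ := by
      rw [Subgroup.mem_zpowers_iff] at hδZ
      obtain ⟨k, hk⟩ := hδZ
      rw [← hk]
      group
    have hA2 : M.a ^ 2 ∈ D := Subgroup.sq_mem_of_index_two hidx _
    have hA2d : M.a ^ 2 * d = d * M.a ^ 2 := hcomm _ hA2 d hd
    have hδinv : M.a * δ * M.a⁻¹ = δ⁻¹ := by
      have h1 : M.a * δ * M.a⁻¹ = (M.a * d * M.a⁻¹)⁻¹ * (M.a ^ 2 * d * (M.a ^ 2)⁻¹) := by
        rw [hδ]; group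
      have h2 : M.a ^ 2 * d * (M.a ^ 2)⁻¹ = d := by rw [hA2d]; group
      have h3 : M.a * d * M.a⁻¹ = d * δ := by rw [hδ]; group
      rw [h1, h2, h3]
      group
    have hδ2 : δ ^ 2 = 1 := by
      have : δ = δ⁻¹ := hδcomm.symm.trans hδinv
      rw [pow_two]
      nth_rewrite 1 [this]
      exact inv_mul_cancel δ
    exact hΩ δ hδD hδ2

/-- involutions of a homocyclic group of exponent at least four are squares -/
theorem involution_is_square {X : Type*} [Group X] (e : ℕ) (he : 2 ≤ e)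
    (E : X ≃* Multiplicative (ZMod (2 ^ e) × ZMod (2 ^ e))) (d : X) (hd : d ^ 2 = 1) :
    ∃ y : X, d = y ^ 2 := by
  have hkey : ∀ u : ZMod (2 ^ e), 2 * u = 0 → ∃ w : ZMod (2 ^ e), u = 2 * w := by
    intro u hu
    haveI : NeZero (2 ^ e) := ⟨by positivity⟩
    have h1 : ((2 * u.val : ℕ) : ZMod (2 ^ e)) = 0 := by
      push_cast
      rw [ZMod.natCast_zmod_val]
      exact hu
    rw [ZMod.natCast_eq_zero_iff] at h1
    obtain ⟨m, hm⟩ : ∃ m, e = m + 2 := ⟨e - 2, by omega⟩
    have h2 : 2 ^ (m + 1) ∣ u.val := by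
      have h3 : 2 ^ (m + 1) * 2 ∣ u.val * 2 := by
        have h4 : 2 ^ e = 2 ^ (m + 1) * 2 := by rw [hm, pow_succ]
        rw [← h4, mul_comm u.val 2]
        exact h1
      exact Nat.dvd_of_mul_dvd_mul_right (by norm_num) h3
    obtain ⟨k, hk⟩ := h2
    refine ⟨((2 ^ m * k : ℕ) : ZMod (2 ^ e)), ?_⟩
    rw [← ZMod.natCast_zmod_val u, hk]
    push_cast
    ring
  have h1 : (2 : ℕ) • Multiplicative.toAdd (E d) = 0 := by
    rw [← toAdd_pow, ← map_pow, hd, map_one, toAdd_one]
  obtain ⟨w1, hw1⟩ := hkey (Multiplicative.toAdd (E d)).1 (by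
    have := congrArg Prod.fst h1
    simpa using this)
  obtain ⟨w2, hw2⟩ := hkey (Multiplicative.toAdd (E d)).2 (by
    have := congrArg Prod.snd h1
    simpa using this)
  refine ⟨E.symm (Multiplicative.ofAdd (w1, w2)), ?_⟩
  apply E.injective
  rw [map_pow, MulEquiv.apply_symm_apply]
  apply Multiplicative.toAdd.injective
  rw [toAdd_pow, toAdd_ofAdd]
  ext
  · simp [hw1]
  · simp [hw2]

/-- enumeration of a four-group -/
theorem four_enum {G : Type*} [Group G] (E : Subgroup G) (hE4 : Nat.card E = 4)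
    (hexp : ∀ f ∈ E, f ^ 2 = 1) (u v : G) (hu : u ∈ E) (hv : v ∈ E) (hu1 : u ≠ 1) (hv1 : v ≠ 1)
    (huv : u ≠ v) : ∀ f ∈ E, f = 1 ∨ f = u ∨ f = v ∨ f = u * v := by
  have hfinE : Finite E := Nat.finite_of_card_ne_zero (by rw [hE4]; norm_num)
  have hordu : orderOf u = 2 := orderOf_eq_prime (hexp u hu) hu1
  have hzu : ∀ g ∈ Subgroup.zpowers u, g = 1 ∨ g = u := by
    intro g hg
    rw [Subgroup.mem_zpowers_iff] at hg
    obtain ⟨k, rfl⟩ := hg
    rcases Int.even_or_odd k with ⟨r, hr⟩ | ⟨r, hr⟩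
    · left
      rw [hr, ← two_mul, zpow_mul, zpow_two, ← pow_two, hexp u hu, one_zpow]
    · right
      rw [hr, zpow_add, zpow_mul, zpow_two, ← pow_two, hexp u hu, one_zpow, one_mul, zpow_one]
  set U : Subgroup E := (Subgroup.zpowers u).subgroupOf E with hU
  have hUle : Subgroup.zpowers u ≤ E := Subgroup.zpowers_le.mpr hu
  have hUcard : Nat.card U = 2 := by
    rw [hU, Nat.card_congr (Subgroup.subgroupOfEquivOfLe hUle).toEquiv, Nat.card_zpowers, hordu]
  have hUidx : U.index = 2 := by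
    have := Subgroup.card_mul_index U
    rw [hUcard, hE4] at this
    omega
  have hvU : (⟨v, hv⟩ : E) ∉ U := by
    rw [hU, Subgroup.mem_subgroupOf]
    intro h
    rcases hzu v h with h | h
    · exact hv1 h
    · exact huv h.symm
  intro f hf
  by_cases hfU : (⟨f, hf⟩ : E) ∈ U
  · rw [hU, Subgroup.mem_subgroupOf] at hfU
    rcases hzu f hfU with h | h
    · exact Or.inl h
    · exact Or.inr (Or.inl h)
  · have h1 : (⟨f, hf⟩ : E)⁻¹ * ⟨v, hv⟩ ∈ U := by
      rw [Subgroup.mul_mem_iff_of_index_two hUidx, inv_mem_iff]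
      exact ⟨fun h => (hfU h).elim, fun h => (hvU h).elim⟩
    rw [hU, Subgroup.mem_subgroupOf] at h1
    have h2 : f⁻¹ * v = 1 ∨ f⁻¹ * v = u := hzu _ h1
    have huinv : u⁻¹ = u := by
      rw [inv_eq_iff_mul_eq_one, ← pow_two]; exact hexp u hu
    have hcomm : ∀ x ∈ E, ∀ y ∈ E, x * y = y * x := by
      intro x hx y hy
      have h1 : x * y = (x * y)⁻¹ := by
        rw [eq_inv_iff_mul_eq_one, ← pow_two]; exact hexp _ (E.mul_mem hx hy)
      have hxi : x⁻¹ = x := by rw [inv_eq_iff_mul_eq_one, ← pow_two]; exact hexp x hx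
      have hyi : y⁻¹ = y := by rw [inv_eq_iff_mul_eq_one, ← pow_two]; exact hexp y hy
      rw [h1, mul_inv_rev, hxi, hyi]
    rcases h2 with h | h
    · right; right; left
      rw [inv_mul_eq_one] at h
      exact h
    · right; right; right
      have h3 : f = v * u⁻¹ := by rw [← h]; group
      rw [h3, huinv]
      exact hcomm v hv u hu

universe u

/-- a `2`-group with a self-centralising four-subgroup is dihedral or quasidihedral -/
theorem dihedral_or_sd_of_four {Q : Type u} [Group Q] [Finite Q] (hQ : IsPGroup 2 Q)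
    (D : Subgroup Q) (hD4 : Nat.card D = 4) (hDexp : ∀ d ∈ D, d ^ 2 = 1)
    (hC : Subgroup.centralizer (D : Set Q) ≤ D) (hne : D ≠ ⊤) :
    (∃ n : ℕ, Nonempty (Q ≃* DihedralGroup n)) ∨ Cfsg.IsQuasiDihedral Q := by
  haveI : Fact (Nat.Prime 2) := ⟨Nat.prime_two⟩
  have hDnc : ¬ D ≤ Subgroup.center Q := by
    intro h
    apply hne
    rw [eq_top_iff]
    intro g _
    apply hC
    rw [Subgroup.mem_centralizer_iff]
    intro d hd
    have := h hd
    rw [Subgroup.mem_center_iff] at this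
    exact (this g).symm
  obtain ⟨x, hxD, hxc⟩ := SetLike.not_le_iff_exists.mp hDnc
  haveI : Nontrivial Q := ⟨⟨x, 1, by rintro rfl; exact hxc (Subgroup.one_mem _)⟩⟩
  obtain ⟨z, hzc, hz1⟩ : ∃ z ∈ Subgroup.center Q, z ≠ 1 := by
    haveI := hQ.center_nontrivial
    obtain ⟨⟨z, hz⟩, hz1⟩ := exists_ne (1 : Subgroup.center Q)
    exact ⟨z, hz, fun h => hz1 (Subtype.ext h)⟩
  have hzcomm : ∀ g : Q, g * z = z * g := Subgroup.mem_center_iff.mp hzc
  have hzD : z ∈ D := by
    apply hC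
    rw [Subgroup.mem_centralizer_iff]
    intro d _
    exact hzcomm d
  have hx1 : x ≠ 1 := by rintro rfl; exact hxc (Subgroup.one_mem _)
  have hxz : x ≠ z := by rintro rfl; exact hxc hzc
  have hordx : orderOf x = 2 := orderOf_eq_prime (hDexp x hxD) hx1
  have henum := four_enum D hD4 hDexp x z hxD hzD hx1 hz1 hxz
  have hCx : Subgroup.centralizer ({x} : Set Q) = D := by
    apply le_antisymm
    · intro g hg
      apply hC
      rw [Subgroup.mem_centralizer_iff] at hg ⊢
      have hgx : x * g = g * x := hg x (Set.mem_singleton x)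
      intro d hd
      rcases henum d hd with rfl | rfl | rfl | rfl
      · simp
      · exact hgx
      · exact (hzcomm g).symm
      · rw [mul_assoc, ← hzcomm g, ← mul_assoc, hgx, mul_assoc]
    · intro d hd
      rw [Subgroup.mem_centralizer_iff]
      intro y hy
      rw [Set.mem_singleton_iff] at hy
      subst hy
      rcases henum d hd with rfl | rfl | rfl | rfl
      · simp
      · rfl
      · exact hzcomm y
      · rw [mul_assoc, hzcomm]
  have hCcard : Nat.card (Subgroup.centralizer ({x} : Set Q)) = 4 := by rw [hCx]; exact hD4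
  obtain ⟨m, hm⟩ := IsPGroup.iff_card.mp hQ
  have hm3 : 3 ≤ m := by
    by_contra hcon
    apply hne
    apply Subgroup.eq_top_of_le_card
    rw [hD4, hm]
    have : m ≤ 2 := by omega
    calc 2 ^ m ≤ 2 ^ 2 := Nat.pow_le_pow_right (by norm_num) this
      _ = 4 := by norm_num
  obtain ⟨a, hao, hxa⟩ :=
    Cfsg.Agent.Helper16.exists_cyclic_max_of_centralizer_four m hm3 Q hm x hordx hCcard
  exact Cfsg.Agent.Helper16.dihedral_or_quasiDihedral_of_cyclic_max (k := m - 1) (by omega)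
    (by rw [hm]; congr 1; omega) a x hao hordx hxa hCcard

theorem quat_equiv {X : Type*} [Group X] (h : Quat X) : Nonempty (X ≃* QuaternionGroup 2) := by
  obtain ⟨hcard, x, t, hx, ht, htx, -⟩ := h
  exact Cfsg.Agent.Helper2.nonempty_mulEquiv_quaternion 2 le_rfl x t (by rw [hx])
    (by rw [← pow_two]; exact ht) htx (by rw [hcard])

open Cfsg.Agent.Helper16.Q8 in
/-- facts about a quaternion subgroup of order eight, read in the ambient group -/
theorem quat_facts {Q : Type*} [Group Q] (D : Subgroup Q) (ε : ↥D ≃* QuaternionGroup 2) :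
    (∀ p ∈ D, p ^ 4 = 1) ∧
    (∀ p ∈ D, ∀ d ∈ D, d ^ 2 ≠ 1 → p ^ 2 = 1 → p = 1 ∨ p = d ^ 2) ∧
    (∀ d ∈ D, ∀ w ∈ D, d ^ 2 ≠ 1 → w ∉ Subgroup.zpowers d → w * d * w⁻¹ = d⁻¹) ∧
    (∃ d1 ∈ D, ∃ d2 ∈ D, d1 ^ 2 ≠ 1 ∧ d2 ^ 2 ≠ 1 ∧ (d1 * d2) ^ 2 ≠ 1) ∧ Nat.card D = 8 := by
  have hsq : ∀ (d : Q) (hd : d ∈ D), d ^ 2 ≠ 1 → (⟨d, hd⟩ : D) ^ 2 ≠ 1 := by
    intro d hd h h'
    apply h
    have := congrArg Subtype.val h'
    simpa using this
  refine ⟨?_, ?_, ?_, ?_, ?_⟩
  · intro p hp
    have h1 : (⟨p, hp⟩ : D) ^ 4 = 1 := by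
      apply ε.injective
      rw [map_pow, map_one]
      exact F4 _
    have := congrArg Subtype.val h1
    simpa using this
  · intro p hp d hd hd2 hp2
    have hp2' : (⟨p, hp⟩ : D) ^ 2 = 1 := by
      apply Subtype.ext
      simpa using hp2
    rcases G6 ε (hsq d hd hd2) hp2' with h | h
    · left
      have := congrArg Subtype.val h
      simpa using this
    · right
      have := congrArg Subtype.val h
      simpa using this
  · intro d hd w hw hd2 hwd
    have hout : out (⟨d, hd⟩ : D) ⟨w, hw⟩ := by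
      refine ⟨?_, ?_, ?_, ?_⟩
      · intro h
        apply hwd
        have := congrArg Subtype.val h
        simp only [Subgroup.coe_one] at this
        rw [this]
        exact Subgroup.one_mem _
      · intro h
        apply hwd
        have := congrArg Subtype.val h
        simp only at this
        rw [this]
        exact Subgroup.mem_zpowers _
      · intro h
        apply hwd
        have := congrArg Subtype.val h
        simp only [Subgroup.coe_pow] at this
        rw [this]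
        exact Subgroup.pow_mem _ (Subgroup.mem_zpowers _) _
      · intro h
        apply hwd
        have := congrArg Subtype.val h
        simp only [Subgroup.coe_pow] at this
        rw [this]
        exact Subgroup.pow_mem _ (Subgroup.mem_zpowers _) _
    have h1 := (G1 ε (hsq d hd hd2) hout).2
    have := congrArg Subtype.val h1
    simpa using this
  · have ha : ((QuaternionGroup.a 1 : QuaternionGroup 2)) ^ 2 ≠ 1 := by decide
    have hb : ((QuaternionGroup.xa 0 : QuaternionGroup 2)) ^ 2 ≠ 1 := by decide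
    have hab : ((QuaternionGroup.a 1 : QuaternionGroup 2) * QuaternionGroup.xa 0) ^ 2 ≠ 1 := by
      decide
    have key : ∀ q : QuaternionGroup 2, q ^ 2 ≠ 1 → ((ε.symm q : D) : Q) ^ 2 ≠ 1 := by
      intro q hq h
      apply hq
      have h1 : (ε.symm q) ^ 2 = 1 := by
        apply Subtype.ext
        simpa using h
      have := congrArg ε h1
      simpa using this
    refine ⟨_, (ε.symm (QuaternionGroup.a 1)).2, _, (ε.symm (QuaternionGroup.xa 0)).2,
      key _ ha, key _ hb, ?_⟩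
    have := key _ hab
    rw [map_mul] at this
    simpa using this
  · rw [Nat.card_congr ε.toEquiv, Nat.card_eq_fintype_card, QuaternionGroup.card]

/-- a `2`-group with a self-centralising quaternion subgroup of order eight has no normal
four-subgroup -/
theorem no_normal_four_of_quat {Q : Type*} [Group Q] [Finite Q] (hQ : IsPGroup 2 Q)
    (D : Subgroup Q) (ε : ↥D ≃* QuaternionGroup 2)
    (hC : Subgroup.centralizer (D : Set Q) ≤ D) (E : Subgroup Q) [hEn : E.Normal]
    (hE4 : Nat.card E = 4) (hEexp : ∀ e ∈ E, e ^ 2 = 1) : False := by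
  haveI : Fact (Nat.Prime 2) := ⟨Nat.prime_two⟩
  obtain ⟨h4, hinv, hconj, ⟨d1, hd1, d2, hd2, hd1sq, hd2sq, hd12sq⟩, hD8⟩ := quat_facts D ε
  have hEne : E ≠ ⊥ := by
    intro h
    rw [h, Subgroup.card_bot] at hE4
    omega
  obtain ⟨z, hzE, hzc, hz1⟩ :=
    Cfsg.Agent.Helper16.exists_mem_center_of_normal_ne_bot' hQ E hEne
  have hzcomm : ∀ g : Q, g * z = z * g := Subgroup.mem_center_iff.mp hzc
  have hzD : z ∈ D := hC (by rw [Subgroup.mem_centralizer_iff]; intro d _; exact hzcomm d)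
  have hz2 : z ^ 2 = 1 := hEexp z hzE
  have hzsq : ∀ d ∈ D, d ^ 2 ≠ 1 → d ^ 2 = z := by
    intro d hd hd2
    rcases hinv z hzD d hd hd2 hz2 with h | h
    · exact (hz1 h).elim
    · exact h.symm
  obtain ⟨e, heE, heD⟩ : ∃ e ∈ E, e ∉ D := by
    by_contra hcon
    push Not at hcon
    have hle : E ≤ Subgroup.zpowers z := by
      intro f hf
      rcases hinv f (hcon f hf) d1 hd1 hd1sq (hEexp f hf) with h | h
      · rw [h]; exact Subgroup.one_mem _
      · rw [h, hzsq d1 hd1 hd1sq]; exact Subgroup.mem_zpowers _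
    have := Subgroup.card_le_of_le hle
    rw [hE4, Nat.card_zpowers, orderOf_eq_prime hz2 hz1] at this
    omega
  have he1 : e ≠ 1 := by rintro rfl; exact heD (Subgroup.one_mem _)
  have hez : e ≠ z := by rintro rfl; exact heD hzD
  have henum := four_enum E hE4 hEexp z e hzE heE hz1 he1 (Ne.symm hez)
  have hconje : ∀ g : Q, g * e * g⁻¹ = e ∨ g * e * g⁻¹ = z * e := by
    intro g
    rcases henum _ (hEn.conj_mem e heE g) with h | h | h | h
    · exfalso
      apply he1
      have : e = g⁻¹ * (g * e * g⁻¹) * g := by group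
      rw [this, h]; group
    · exfalso
      apply hez
      have : e = g⁻¹ * (g * e * g⁻¹) * g := by group
      rw [this, h, mul_assoc, ← hzcomm g, ← mul_assoc, inv_mul_cancel, one_mul]
    · left; exact h
    · right; exact h
  have hzconj : ∀ g : Q, g * z * g⁻¹ = z := by
    intro g
    rw [hzcomm g, mul_assoc, mul_inv_cancel, mul_one]
  obtain ⟨y, hyD, hy2, hye⟩ : ∃ y ∈ D, y ^ 2 ≠ 1 ∧ y * e * y⁻¹ = e := by
    rcases hconje d1 with h1 | h1
    · exact ⟨d1, hd1, hd1sq, h1⟩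
    rcases hconje d2 with h2 | h2
    · exact ⟨d2, hd2, hd2sq, h2⟩
    refine ⟨d1 * d2, D.mul_mem hd1 hd2, hd12sq, ?_⟩
    calc d1 * d2 * e * (d1 * d2)⁻¹ = d1 * (d2 * e * d2⁻¹) * d1⁻¹ := by group
      _ = d1 * (z * e) * d1⁻¹ := by rw [h2]
      _ = (d1 * z * d1⁻¹) * (d1 * e * d1⁻¹) := by group
      _ = z * (z * e) := by rw [h1, hzconj d1]
      _ = e := by rw [← mul_assoc, ← pow_two, hz2, one_mul]
  have hordy : orderOf y = 4 := by
    have := orderOf_eq_prime_pow (p := 2) (n := 1) (x := y) (by simpa using hy2)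
      (by simpa using h4 y hyD)
    simpa using this
  obtain ⟨w, hwD, hwy⟩ : ∃ w ∈ D, w ∉ Subgroup.zpowers y := by
    by_contra hcon
    push Not at hcon
    have hfin : Finite D := inferInstance
    have := Subgroup.card_le_of_le (show D ≤ Subgroup.zpowers y from hcon)
    rw [hD8, Nat.card_zpowers, hordy] at this
    omega
  have hwconj := hconj y hyD w hwD hy2 hwy
  have hyz : y ^ 2 = z := hzsq y hyD hy2
  have hgen : ∀ v : Q, v * y = y * v → v * w = w * v →
      v ∈ Subgroup.centralizer (D : Set Q) := by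
    intro v hvy hvw
    rw [Subgroup.mem_centralizer_iff]
    have hvpow : ∀ g ∈ Subgroup.zpowers y, g * v = v * g := by
      intro g hg
      rw [Subgroup.mem_zpowers_iff] at hg
      obtain ⟨k, rfl⟩ := hg
      exact ((Commute.zpow_right (show Commute v y from hvy) k)).symm.eq
    set U : Subgroup D := (Subgroup.zpowers y).subgroupOf D with hU
    have hUle : Subgroup.zpowers y ≤ D := Subgroup.zpowers_le.mpr hyD
    have hUcard : Nat.card U = 4 := by
      rw [hU, Nat.card_congr (Subgroup.subgroupOfEquivOfLe hUle).toEquiv, Nat.card_zpowers,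
        hordy]
    have hUidx : U.index = 2 := by
      have := Subgroup.card_mul_index U
      rw [hUcard, hD8] at this
      omega
    intro g hg
    by_cases hgU : g ∈ Subgroup.zpowers y
    · exact hvpow g hgU
    · have h1 : (⟨w, hwD⟩ : D)⁻¹ * ⟨g, hg⟩ ∈ U := by
        rw [Subgroup.mul_mem_iff_of_index_two hUidx, inv_mem_iff]
        constructor
        · intro h
          exact (hwy (Subgroup.mem_subgroupOf.mp h)).elim
        · intro h
          exact (hgU (Subgroup.mem_subgroupOf.mp h)).elim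
      rw [hU, Subgroup.mem_subgroupOf] at h1
      have h2 : w⁻¹ * g ∈ Subgroup.zpowers y := h1
      have h3 := hvpow _ h2
      have : g = w * (w⁻¹ * g) := by group
      rw [this, mul_assoc, h3, ← mul_assoc, ← hvw, mul_assoc]
  have hey : e * y = y * e := by
    have : y * e = (y * e * y⁻¹) * y := by group
    rw [this, hye]
  rcases hconje w with hw | hw
  · have hew : e * w = w * e := by
      have : w * e = (w * e * w⁻¹) * w := by group
      rw [this, hw]
    exact heD (hC (hgen e hey hew))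
  · have h1 : e * y * y = y * (e * y) := by
      calc e * y * y = (y * e) * y := by rw [hey]
        _ = y * (e * y) := by group
    have h2 : e * y * w = w * (e * y) := by
      have h3 : w * (e * y) = (w * e * w⁻¹) * (w * y * w⁻¹) * w := by group
      rw [h3, hw, hwconj]
      have h5 : z * e = e * z := (hzcomm e).symm
      have h6 : y⁻¹ = z⁻¹ * y := by rw [← hyz, pow_two]; group
      rw [h5, h6]
      group
    have h7 := hC (hgen (e * y) h1 h2)
    apply heD
    have := D.mul_mem h7 (D.inv_mem hyD)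
    simpa using this

/-- the subgroup generated by the squares of the elements of `D` -/
def sqSub {G : Type*} [Group G] (D : Subgroup G) : Subgroup G :=
  Subgroup.closure {y | ∃ x ∈ D, y = x ^ 2}

theorem sq_mem_sqSub {G : Type*} [Group G] (D : Subgroup G) {x : G} (hx : x ∈ D) :
    x ^ 2 ∈ sqSub D := Subgroup.subset_closure ⟨x, hx, rfl⟩

theorem sqSub_le {G : Type*} [Group G] (D : Subgroup G) : sqSub D ≤ D := by
  rw [sqSub, Subgroup.closure_le]
  rintro _ ⟨x, hx, rfl⟩
  exact D.pow_mem hx 2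

/-- restriction of an automorphism to an invariant subgroup -/
noncomputable def restrictAut {R : Type*} [Group R] [Finite R] (D : Subgroup R) (α : MulAut R)
    (hD : ∀ d ∈ D, α d ∈ D) : MulAut D where
  toFun d := ⟨α d, hD d d.2⟩
  invFun d := ⟨α⁻¹ d, inv_apply_mem α D hD d d.2⟩
  left_inv d := by apply Subtype.ext; simp
  right_inv d := by apply Subtype.ext; simp
  map_mul' x y := by apply Subtype.ext; simp

theorem restrictAut_apply {R : Type*} [Group R] [Finite R] (D : Subgroup R) (α : MulAut R)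
    (hD : ∀ d ∈ D, α d ∈ D) (d : D) : ((restrictAut D α hD d : D) : R) = α d := rfl

theorem restrictAut_pow {R : Type*} [Group R] [Finite R] (D : Subgroup R) (α : MulAut R)
    (hD : ∀ d ∈ D, α d ∈ D) (k : ℕ) (d : D) :
    (((restrictAut D α hD) ^ k) d : R) = (α ^ k) d := by
  induction k generalizing d with
  | zero => simp
  | succ k ih =>
    rw [pow_succ', pow_succ', MulAut.mul_apply, MulAut.mul_apply, restrictAut_apply, ih]

/-- an automorphism of odd order of a finite `2`-group which acts trivially on `R / D` and on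
`D` modulo squares is trivial -/
theorem stab_eq_one {R : Type*} [Group R] [Finite R] (hR : IsPGroup 2 R) (D : Subgroup R)
    (α : MulAut R) (hodd : Odd (orderOf α)) (hD : ∀ d ∈ D, α d ∈ D)
    (h1 : ∀ y, y⁻¹ * α y ∈ D) (h2 : ∀ d ∈ D, d⁻¹ * α d ∈ sqSub D) : α = 1 := by
  haveI : Fact (Nat.Prime 2) := ⟨Nat.prime_two⟩
  set β := restrictAut D α hD with hβ
  have hDp : IsPGroup 2 D := hR.to_subgroup D
  have hβpow : β ^ orderOf α = 1 := by
    ext d
    rw [restrictAut_pow, pow_orderOf_eq_one]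
    simp
  have hβcop : (orderOf β).Coprime 2 := by
    rw [Nat.coprime_two_right]
    exact Odd.of_dvd_nat hodd (orderOf_dvd_of_pow_eq_one hβpow)
  have hle : sqSub D ≤ (frattini D).map D.subtype := by
    rw [sqSub, Subgroup.closure_le]
    rintro _ ⟨x, hx, rfl⟩
    exact ⟨(⟨x, hx⟩ : D) ^ 2, pow_mem_frattini_of_isPGroup hDp _, by simp⟩
  have hβker : β ∈ (autQuot (frattini D)).ker := by
    rw [mem_ker_autQuot]
    intro d
    obtain ⟨f, hf, hfe⟩ := hle (h2 d d.2)
    have : f = d⁻¹ * β d := by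
      apply Subtype.ext
      rw [show ((D.subtype f : R)) = (f : R) from rfl] at hfe
      rw [hfe]
      simp [hβ, restrictAut_apply]
    rw [← this]
    exact hf
  have hβ1 : β = 1 := eq_one_of_autQuot_frattini hDp β hβcop hβker
  have hfix : ∀ d ∈ D, α d = d := by
    intro d hd
    have := congrArg (fun γ : MulAut D => ((γ ⟨d, hd⟩ : D) : R)) hβ1
    simpa [hβ, restrictAut_apply] using this
  ext y
  have hc := h1 y
  obtain ⟨k, hk⟩ := hR (y⁻¹ * α y)
  have hc1 : y⁻¹ * α y = 1 :=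
    Cfsg.Agent.Helper16.Q8.eq_one_of_odd_aut_stab' α (orderOf α) hodd (pow_orderOf_eq_one α)
      y (y⁻¹ * α y) (hfix _ hc) k hk (by group)
  rw [MulAut.one_apply]
  have : α y = y * (y⁻¹ * α y) := by group
  rw [this, hc1, mul_one]

/-- a group of automorphisms acting trivially on `R / D` and on `D` modulo squares is a
`2`-group -/
theorem isPGroup_of_stab {R : Type*} [Group R] [Finite R] (hR : IsPGroup 2 R) (D : Subgroup R)
    (K : Subgroup (MulAut R)) (hD : ∀ α ∈ K, ∀ d ∈ D, α d ∈ D)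
    (h1 : ∀ α ∈ K, ∀ y, y⁻¹ * α y ∈ D) (h2 : ∀ α ∈ K, ∀ d ∈ D, d⁻¹ * α d ∈ sqSub D) :
    IsPGroup 2 K := by
  intro ⟨α, hα⟩
  have hpos : orderOf α ≠ 0 := (isOfFinOrder_of_finite α).orderOf_pos.ne'
  obtain ⟨k, m, hm, hkm⟩ := Nat.exists_eq_two_pow_mul_odd hpos
  refine ⟨k, ?_⟩
  apply Subtype.ext
  rw [Subgroup.coe_pow, Subgroup.coe_one]
  have hβK : α ^ 2 ^ k ∈ K := K.pow_mem hα _
  apply stab_eq_one hR D (α ^ 2 ^ k) ?_ (hD _ hβK) (h1 _ hβK) (h2 _ hβK)
  have : orderOf (α ^ 2 ^ k) = m := by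
    rw [orderOf_pow' _ (by positivity), hkm, Nat.gcd_eq_right (Dvd.intro _ rfl)]
    exact Nat.mul_div_cancel_left m (by positivity)
  rw [this]
  exact hm

theorem map_sqSub_mem {R : Type*} [Group R] (D : Subgroup R) (β : MulAut R)
    (hβ : ∀ d ∈ D, β d ∈ D) : ∀ s ∈ sqSub D, β s ∈ sqSub D := by
  intro s hs
  unfold sqSub at hs
  induction hs using Subgroup.closure_induction with
  | mem x hx =>
    obtain ⟨d, hd, rfl⟩ := hx
    rw [map_pow]
    exact sq_mem_sqSub D (hβ d hd)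
  | one => rw [map_one]; exact Subgroup.one_mem _
  | mul x y _ _ hx hy => rw [map_mul]; exact Subgroup.mul_mem _ hx hy
  | inv x _ hx => rw [map_inv]; exact Subgroup.inv_mem _ hx

/-- automorphisms in `A` acting trivially on `R / D` and on `D / N` -/
def stabSub {R : Type*} [Group R] (A : Subgroup (MulAut R)) (D N : Subgroup R)
    (hD : ∀ α ∈ A, ∀ d ∈ D, α d ∈ D) : Subgroup (MulAut R) where
  carrier := {α | α ∈ A ∧ (∀ y, y⁻¹ * α y ∈ D) ∧ ∀ d ∈ D, d⁻¹ * α d ∈ N}
  one_mem' := ⟨A.one_mem, fun y => by simp [D.one_mem], fun d _ => by simp [N.one_mem]⟩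
  mul_mem' := by
    rintro α β ⟨hαA, hα1, hα2⟩ ⟨hβA, hβ1, hβ2⟩
    refine ⟨A.mul_mem hαA hβA, fun y => ?_, fun d hd => ?_⟩
    · have : y⁻¹ * (α * β) y = (y⁻¹ * β y) * ((β y)⁻¹ * α (β y)) := by
        rw [MulAut.mul_apply]; group
      rw [this]
      exact D.mul_mem (hβ1 y) (hα1 _)
    · have : d⁻¹ * (α * β) d = (d⁻¹ * β d) * ((β d)⁻¹ * α (β d)) := by
        rw [MulAut.mul_apply]; group
      rw [this]
      exact N.mul_mem (hβ2 d hd) (hα2 _ (hD β hβA d hd))
  inv_mem' := by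
    rintro α ⟨hαA, hα1, hα2⟩
    refine ⟨A.inv_mem hαA, fun y => ?_, fun d hd => ?_⟩
    · have : y⁻¹ * α⁻¹ y = ((α⁻¹ y)⁻¹ * α (α⁻¹ y))⁻¹ := by simp
      rw [this]
      exact D.inv_mem (hα1 _)
    · have : d⁻¹ * α⁻¹ d = ((α⁻¹ d)⁻¹ * α (α⁻¹ d))⁻¹ := by simp
      rw [this]
      exact N.inv_mem (hα2 _ (hD α⁻¹ (A.inv_mem hαA) d hd))

theorem mem_stabSub {R : Type*} [Group R] (A : Subgroup (MulAut R)) (D N : Subgroup R)
    (hD : ∀ α ∈ A, ∀ d ∈ D, α d ∈ D) (α : MulAut R) :
    α ∈ stabSub A D N hD ↔ α ∈ A ∧ (∀ y, y⁻¹ * α y ∈ D) ∧ ∀ d ∈ D, d⁻¹ * α d ∈ N := Iff.rfl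

theorem stabSub_le {R : Type*} [Group R] (A : Subgroup (MulAut R)) (D N : Subgroup R)
    (hD : ∀ α ∈ A, ∀ d ∈ D, α d ∈ D) : stabSub A D N hD ≤ A := fun _ h => h.1

theorem stabSub_normal {R : Type*} [Group R] (A : Subgroup (MulAut R)) (D N : Subgroup R)
    (hD : ∀ α ∈ A, ∀ d ∈ D, α d ∈ D) (hN : ∀ α ∈ A, ∀ d ∈ N, α d ∈ N) :
    ((stabSub A D N hD).subgroupOf A).Normal := by
  constructor
  rintro ⟨α, hαA⟩ hα ⟨β, hβA⟩
  rw [Subgroup.mem_subgroupOf] at hα ⊢
  obtain ⟨-, hα1, hα2⟩ := hα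
  refine ⟨A.mul_mem (A.mul_mem hβA hαA) (A.inv_mem hβA), fun y => ?_, fun d hd => ?_⟩
  · have : y⁻¹ * (β * α * β⁻¹) y = β ((β⁻¹ y)⁻¹ * α (β⁻¹ y)) := by
      simp [MulAut.mul_apply]
    show y⁻¹ * (β * α * β⁻¹) y ∈ D
    rw [this]
    exact hD β hβA _ (hα1 _)
  · have : d⁻¹ * (β * α * β⁻¹) d = β ((β⁻¹ d)⁻¹ * α (β⁻¹ d)) := by
      simp [MulAut.mul_apply]
    show d⁻¹ * (β * α * β⁻¹) d ∈ N
    rw [this]
    exact hN β hβA _ (hα2 _ (hD β⁻¹ (A.inv_mem hβA) d hd))

/-- transport of metacyclic generators along an isomorphism -/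
def mcGenOfEquiv {G G' : Type*} [Group G] [Group G'] (e : G ≃* G') (M : MCGen G) : MCGen G' where
  a := e M.a
  b := e M.b
  normal := by
    have h : Subgroup.zpowers (e M.a) = (Subgroup.zpowers M.a).map e.toMonoidHom := by
      rw [MonoidHom.map_zpowers]; rfl
    rw [h]
    exact Subgroup.Normal.map M.normal _ e.surjective
  gen := by
    intro g
    obtain ⟨j, i, h⟩ := M.gen (e.symm g)
    refine ⟨j, i, ?_⟩
    rw [← map_pow, ← map_pow, ← map_mul, ← h]
    simp

end Cfsg.Agent.Helper21.MetaAut
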