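import Mathlib
import Cfsg.Prelude.Def_FusionSystem
import Cfsg.Agent.Lib.Helper21.MetaAut2
import Cfsg.Agent.Lib.Helper21.MetacyclicAbelian
import Cfsg.Agent.Lib.Helper25.FusionNormal3
import Cfsg.Agent.Lib.Helper25.FusionModel
import Cfsg.Agent.Lib.Helper20.IrrP1
import Cfsg.Agent.S5086

set_option autoImplicit false

/-! Strongly closed metacyclic `2`-subgroups of saturated fusion systems. -/

namespace Cfsg.Agent.Helper21.MetaFusion

open Cfsg Cfsg.FusionSystem Cfsg.Agent.Helper25 Cfsg.Agent.Helper21 Cfsg.Agent.Helper21.MetaAut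

variable {Ω : Type*} [Group Ω]

/-- subgroups of a metacyclic `2`-group are metacyclic -/
theorem mcGen_of_le {Q T : Subgroup Ω} [Finite Q] (hQ2 : IsPGroup 2 Q)
    (hm : Cfsg.IsMetacyclic ↥Q) (hT : T ≤ Q) : Nonempty (MCGen ↥T) := by
  haveI : Fact (Nat.Prime 2) := ⟨Nat.prime_two⟩
  obtain ⟨N, hNn, hNc, hQc⟩ := hm
  obtain ⟨M⟩ := exists_mcGen N hNc hQc
  obtain ⟨M'⟩ := M.exists_subgroup_mcGen hQ2 (T.subgroupOf Q)
  exact ⟨mcGenOfEquiv (Subgroup.subgroupOfEquivOfLe hT) M'⟩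

/-- a power of `x₀` lies outside `R` with its square inside -/
theorem exists_sq_mem (R : Subgroup Ω) (x0 : Ω) (hx0 : x0 ∉ R) (hfin : ∃ n : ℕ, x0 ^ 2 ^ n = 1) :
    ∃ k : ℕ, x0 ^ 2 ^ k ∉ R ∧ (x0 ^ 2 ^ k) ^ 2 ∈ R := by
  classical
  have hex : ∃ n : ℕ, x0 ^ 2 ^ n ∈ R := by
    obtain ⟨n, hn⟩ := hfin
    exact ⟨n, hn ▸ R.one_mem⟩
  have h0 : Nat.find hex ≠ 0 := by
    intro h
    have := Nat.find_spec hex
    rw [h, pow_zero, pow_one] at this
    exact hx0 this
  refine ⟨Nat.find hex - 1, Nat.find_min hex (by omega), ?_⟩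
  have := Nat.find_spec hex
  rw [← pow_mul, ← pow_succ]
  have h1 : Nat.find hex - 1 + 1 = Nat.find hex := by omega
  rw [h1]
  exact this

/-- index two from a square -/
theorem index_two_of_sq {T : Type*} [Group T] (D : Subgroup T) (x : T) (hx : x ∉ D)
    (hx2 : x ^ 2 ∈ D) (hgen : ∀ t : T, ∃ k : ℤ, ∃ d ∈ D, t = x ^ k * d) : D.index = 2 := by
  have hpow : ∀ k : ℤ, x ^ k ∈ D ↔ Even k := by
    intro k
    constructor
    · intro h
      by_contra hodd
      rw [Int.not_even_iff_odd] at hodd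
      obtain ⟨r, rfl⟩ := hodd
      apply hx
      have h2 : (x ^ 2) ^ r ∈ D := D.zpow_mem hx2 r
      have h3 : x = ((x ^ 2) ^ r)⁻¹ * x ^ (2 * r + 1) := by
        rw [zpow_add, zpow_mul, zpow_one]
        simp
      rw [h3]
      exact D.mul_mem (D.inv_mem h2) h
    · rintro ⟨r, rfl⟩
      rw [← two_mul, zpow_mul]
      exact D.zpow_mem (by simpa using hx2) r
  rw [Subgroup.index_eq_two_iff']
  refine ⟨x, fun t => ?_⟩
  obtain ⟨k, d, hd, rfl⟩ := hgen t
  have h1 : x * (x ^ k * d) = x ^ (k + 1) * d := by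
    rw [zpow_add, zpow_one]
    have : x * x ^ k = x ^ k * x := ((Commute.refl x).zpow_right k).eq
    rw [← mul_assoc, this]
  rw [h1, Subgroup.mul_mem_cancel_right _ hd, Subgroup.mul_mem_cancel_right _ hd, hpow, hpow,
    Int.even_add_one]
  by_cases hk : Even k
  · exact Or.inr ⟨hk, fun h => h hk⟩
  · exact Or.inl ⟨hk, hk⟩

section Fusion

variable {S : Subgroup Ω}

/-- the subgroup `(Q ⊓ R)` seen inside `R` -/
abbrev dSub (Q R : Subgroup Ω) : Subgroup R := (Q ⊓ R).subgroupOf R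

theorem mem_dSub {Q R : Subgroup Ω} (y : R) : y ∈ dSub Q R ↔ (y : Ω) ∈ Q := by
  rw [dSub, Subgroup.mem_subgroupOf, Subgroup.mem_inf]
  exact ⟨fun h => h.1, fun h => ⟨h, y.2⟩⟩

theorem aut_dSub (F : FusionSystem S) {Q R : Subgroup Ω} (hQ : F.StronglyClosed Q) (hRS : R ≤ S) :
    ∀ α ∈ F.autGroup R, ∀ d ∈ dSub Q R, α d ∈ dSub Q R := by
  intro α hα d hd
  rw [mem_dSub] at hd ⊢
  exact aut_mem_of_stronglyClosed F hQ hRS hα hd

/-- in a radical subgroup, a normal `2`-subgroup of the automizer consists of inner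
automorphisms -/
theorem le_inn_of_radical (F : FusionSystem S) {R : Subgroup Ω} (hRr : F.IsRadical 2 R)
    (K : Subgroup (MulAut R)) (hKA : K ≤ F.autGroup R)
    (hKn : (K.subgroupOf (F.autGroup R)).Normal) (hK2 : IsPGroup 2 K) : K ≤ Inn R := by
  intro α hα
  have h1 : IsPGroup 2 (K.subgroupOf (F.autGroup R)) :=
    hK2.of_equiv (Subgroup.subgroupOfEquivOfLe hKA).symm
  have h2 := le_pCore hKn h1
  rw [← hRr.2]
  exact ⟨⟨α, hKA hα⟩, h2 (Subgroup.mem_subgroupOf.mpr hα), rfl⟩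

/-- the conjugation automorphism of `R` induced by an element of `Q` normalising `R` -/
theorem conj_mem_stab (F : FusionSystem S) {Q R : Subgroup Ω} (hQ : F.StronglyClosed Q)
    (hRS : R ≤ S) {x : Ω} (hxQ : x ∈ Q) (hxN : x ∈ Subgroup.normalizer (R : Set Ω)) :
    R.normalizerMonoidHom ⟨x, hxN⟩ ∈
      stabSub (F.autGroup R) (dSub Q R) (dSub Q R) (aut_dSub F hQ hRS) := by
  have hA : R.normalizerMonoidHom ⟨x, hxN⟩ ∈ F.autGroup R := by
    apply autInducedBy_le_autGroup F hRS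
    exact (mem_autInducedBy_iff _).mpr ⟨x, hQ.1 hxQ, fun y => rfl⟩
  have h1 : ∀ y : R, y⁻¹ * R.normalizerMonoidHom ⟨x, hxN⟩ y ∈ dSub Q R := by
    intro y
    rw [mem_dSub]
    show (y : Ω)⁻¹ * (x * (y : Ω) * x⁻¹) ∈ Q
    have h2 : (y : Ω)⁻¹ * x * (y : Ω) ∈ Q := conj_mem_of_stronglyClosed' F hQ (hRS y.2) hxQ
    have : (y : Ω)⁻¹ * (x * (y : Ω) * x⁻¹) = ((y : Ω)⁻¹ * x * (y : Ω)) * x⁻¹ := by group
    rw [this]
    exact Q.mul_mem h2 (Q.inv_mem hxQ)
  refine ⟨hA, h1, fun d hd => ?_⟩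
  exact h1 d

/-- an element of `Q` normalising the centric radical `R` and acting trivially on
`(Q ⊓ R)` modulo squares lies in `R` -/
theorem mem_of_trivial_mod_sq [Finite S] (hS : IsPGroup 2 S) (F : FusionSystem S)
    {Q R : Subgroup Ω} (hQ : F.StronglyClosed Q) (hRc : F.IsCentric R) (hRr : F.IsRadical 2 R)
    {x : Ω} (hxQ : x ∈ Q) (hxN : x ∈ Subgroup.normalizer (R : Set Ω))
    (h : ∀ d : R, d ∈ dSub Q R → d⁻¹ * R.normalizerMonoidHom ⟨x, hxN⟩ d ∈ sqSub (dSub Q R)) :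
    x ∈ R := by
  have hRS : R ≤ S := hRc.1
  haveI : Finite R := finite_of_le_finite hRS
  have hR2 : IsPGroup 2 R := hS.to_le hRS
  have hcen : centralizerIn S R ≤ R := hRc.2 R (isConj_refl F hRS)
  have hAD := aut_dSub F hQ hRS
  set K0 := stabSub (F.autGroup R) (dSub Q R) (sqSub (dSub Q R)) hAD with hK0
  have hK0n : (K0.subgroupOf (F.autGroup R)).Normal :=
    stabSub_normal _ _ _ hAD (fun α hα => map_sqSub_mem _ α (hAD α hα))
  have hK02 : IsPGroup 2 K0 :=
    isPGroup_of_stab hR2 (dSub Q R) K0 (fun α hα => hAD α hα.1) (fun α hα => hα.2.1)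
      (fun α hα => hα.2.2)
  have hK0I := le_inn_of_radical F hRr K0 (stabSub_le _ _ _ hAD) hK0n hK02
  have hc1 := conj_mem_stab F hQ hRS hxQ hxN
  have hc0 : R.normalizerMonoidHom ⟨x, hxN⟩ ∈ K0 := ⟨hc1.1, hc1.2.1, h⟩
  exact mem_of_induces_inner hRS hcen (hK0I hc0) (hQ.1 hxQ) (fun y => rfl)

/-- if `Q ≰ R` then some automorphism of odd order in `Aut_F(R)` acts trivially on `R / (Q ⊓ R)` -/
theorem exists_odd_aut [Finite S] (hS : IsPGroup 2 S) (F : FusionSystem S)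
    {Q R : Subgroup Ω} (hQ : F.StronglyClosed Q) (hRc : F.IsCentric R) (hRr : F.IsRadical 2 R)
    {x : Ω} (hxQ : x ∈ Q) (hxN : x ∈ Subgroup.normalizer (R : Set Ω)) (hxR : x ∉ R) :
    ∃ β : MulAut R, β ≠ 1 ∧ Odd (orderOf β) ∧ (∀ d ∈ dSub Q R, β d ∈ dSub Q R) ∧
      ∀ y, y⁻¹ * β y ∈ dSub Q R := by
  have hRS : R ≤ S := hRc.1
  haveI : Finite R := finite_of_le_finite hRS
  have hcen : centralizerIn S R ≤ R := hRc.2 R (isConj_refl F hRS)
  have hAD := aut_dSub F hQ hRS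
  set K1 := stabSub (F.autGroup R) (dSub Q R) (dSub Q R) hAD with hK1
  have hK1n : (K1.subgroupOf (F.autGroup R)).Normal := stabSub_normal _ _ _ hAD hAD
  have hc1 : R.normalizerMonoidHom ⟨x, hxN⟩ ∈ K1 := conj_mem_stab F hQ hRS hxQ hxN
  have hnot : ¬ IsPGroup 2 K1 := by
    intro hK12
    have hK1I := le_inn_of_radical F hRr K1 (stabSub_le _ _ _ hAD) hK1n hK12
    exact hxR (mem_of_induces_inner hRS hcen (hK1I hc1) (hQ.1 hxQ) (fun y => rfl))
  unfold IsPGroup at hnot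
  push Not at hnot
  obtain ⟨⟨α, hα⟩, hαk⟩ := hnot
  have hpos : orderOf α ≠ 0 := (isOfFinOrder_of_finite α).orderOf_pos.ne'
  obtain ⟨k, m, hm, hkm⟩ := Nat.exists_eq_two_pow_mul_odd hpos
  have hβK : α ^ 2 ^ k ∈ K1 := K1.pow_mem hα _
  refine ⟨α ^ 2 ^ k, ?_, ?_, fun d hd => hAD _ hβK.1 d hd, hβK.2.1⟩
  · intro h
    apply hαk k
    apply Subtype.ext
    rw [Subgroup.coe_pow, Subgroup.coe_one]
    exact h
  · have : orderOf (α ^ 2 ^ k) = m := by
      rw [orderOf_pow' _ (by positivity), hkm, Nat.gcd_eq_right (Dvd.intro _ rfl)]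
      exact Nat.mul_div_cancel_left m (by positivity)
    rw [this]
    exact hm

/-- If `C ≰ P` with `C` normalized by `P` then some element of `C` normalizes `P` without lying
in it. -/
theorem exists_mem_normalizer_not_mem_of_not_le' [Finite S] {p : ℕ} [Fact p.Prime]
    (hS : IsPGroup p S) {P C : Subgroup Ω} (hPS : P ≤ S) (hCS : C ≤ S)
    (hCn : ∀ u ∈ P, ∀ v ∈ C, u⁻¹ * v * u ∈ C) (h : ¬ C ≤ P) :
    ∃ x ∈ C, x ∈ Subgroup.normalizer (P : Set Ω) ∧ x ∉ P := by
  have hPCS : P ⊔ C ≤ S := sup_le hPS hCS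
  haveI : Finite ↥(P ⊔ C) := finite_of_le_finite hPCS
  have hne : P ≠ P ⊔ C := by
    intro h'
    apply h
    rw [h']; exact le_sup_right
  have hPCp : IsPGroup p ↥(P ⊔ C) := hS.to_le hPCS
  obtain ⟨g, hgN, hgP⟩ := exists_mem_normalizerIn_not_mem hPCp le_sup_left hne
  obtain ⟨u, hu, v, hv, rfl⟩ := exists_mul_of_mem_sup hCn hgN.1
  refine ⟨v, hv, ?_, fun hvP => hgP (P.mul_mem hu hvP)⟩
  have huN : u ∈ Subgroup.normalizer (P : Set Ω) := Subgroup.le_normalizer hu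
  have : v = u⁻¹ * (u * v) := by group
  rw [this]
  exact Subgroup.mul_mem _ (Subgroup.inv_mem _ huN) hgN.2

/-- the key step: a strongly closed metacyclic `2`-subgroup which is not dihedral, quasidihedral
or quaternion lies in every centric radical subgroup -/
theorem le_of_centric_radical [Finite S] (hS : IsPGroup 2 S) (F : FusionSystem S)
    {Q R : Subgroup Ω} (hQ : F.StronglyClosed Q) (hm : Cfsg.IsMetacyclic ↥Q)
    (hd : ¬ ∃ m : ℕ, Nonempty (↥Q ≃* DihedralGroup m))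
    (hq : ¬ ∃ m : ℕ, Nonempty (↥Q ≃* QuaternionGroup m))
    (hsd : ¬ Cfsg.IsQuasiDihedral ↥Q)
    (hRc : F.IsCentric R) (hRr : F.IsRadical 2 R) : Q ≤ R := by
  haveI : Fact (Nat.Prime 2) := ⟨Nat.prime_two⟩
  by_contra hQR
  have hRS : R ≤ S := hRc.1
  have hQS : Q ≤ S := hQ.1
  haveI : Finite R := finite_of_le_finite hRS
  haveI : Finite Q := finite_of_le_finite hQS
  have hQ2 : IsPGroup 2 Q := hS.to_le hQS
  have hR2 : IsPGroup 2 R := hS.to_le hRS
  have hQn : ∀ g ∈ S, ∀ v ∈ Q, g⁻¹ * v * g ∈ Q :=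
    fun g hg v hv => conj_mem_of_stronglyClosed' F hQ hg hv
  obtain ⟨x0, hx0Q, hx0N, hx0R⟩ :=
    exists_mem_normalizer_not_mem_of_not_le hS hRS hQS hQn hQR
  obtain ⟨β, hβ1, hβodd, hβD, hβ1'⟩ := exists_odd_aut hS F hQ hRc hRr hx0Q hx0N hx0R
  set D' := dSub Q R with hD'
  set γ := restrictAut D' β hβD with hγ
  have hγ1 : γ ≠ 1 := by
    intro h
    apply hβ1
    apply stab_eq_one hR2 D' β hβodd hβD hβ1'
    intro d hd
    have : β d = d := by
      have := congrArg (fun δ : MulAut D' => ((δ ⟨d, hd⟩ : D') : R)) h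
      simpa [hγ, restrictAut_apply] using this
    rw [this, inv_mul_cancel]
    exact Subgroup.one_mem _
  have hγodd : Odd (orderOf γ) := by
    have hpow : γ ^ orderOf β = 1 := by
      ext d
      rw [restrictAut_pow, pow_orderOf_eq_one]
      simp
    exact Odd.of_dvd_nat hβodd (orderOf_dvd_of_pow_eq_one hpow)
  set D : Subgroup Ω := Q ⊓ R with hD
  have hDQ : D ≤ Q := inf_le_left
  have hDR : D ≤ R := inf_le_right
  obtain ⟨MD⟩ := mcGen_of_le hQ2 hm hDQ
  let φD : ↥D' ≃* ↥D := Subgroup.subgroupOfEquivOfLe hDR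
  have hφD : ∀ y : D', ((φD y : D) : Ω) = ((y : R) : Ω) := fun y => rfl
  have MD' : MCGen ↥D' := mcGenOfEquiv φD.symm MD
  have hD'2 : IsPGroup 2 D' := hR2.to_subgroup D'
  -- the element `x1`
  obtain ⟨k, hx1R, hx1sq⟩ := exists_sq_mem R x0 hx0R (by
    obtain ⟨n, hn⟩ := hS ⟨x0, hQS hx0Q⟩
    exact ⟨n, by simpa using congrArg Subtype.val hn⟩)
  set x1 := x0 ^ 2 ^ k with hx1
  have hx1Q : x1 ∈ Q := Q.pow_mem hx0Q _
  have hx1N : x1 ∈ Subgroup.normalizer (R : Set Ω) := Subgroup.pow_mem _ hx0N _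
  -- elements of `Q` normalising `R` and centralising `D` lie in `R`
  have hcentral : ∀ x ∈ Q, x ∈ Subgroup.normalizer (R : Set Ω) → (∀ d ∈ D, x * d = d * x) →
      x ∈ R := by
    intro x hxQ hxN hcomm
    apply mem_of_trivial_mod_sq hS F hQ hRc hRr hxQ hxN
    intro d hd
    have : d⁻¹ * R.normalizerMonoidHom ⟨x, hxN⟩ d = 1 := by
      apply Subtype.ext
      show ((d : R) : Ω)⁻¹ * (x * (d : Ω) * x⁻¹) = 1
      rw [hcomm d ⟨(mem_dSub d).mp hd, d.2⟩]
      group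
    rw [this]
    exact Subgroup.one_mem _
  have hDnorm : ∀ u ∈ R, ∀ d ∈ D, u * d * u⁻¹ ∈ D := by
    intro u hu d hd
    exact ⟨conj_mem_of_stronglyClosed F hQ (hRS hu) hd.1,
      R.mul_mem (R.mul_mem hu hd.2) (R.inv_mem hu)⟩
  have hCQD : ∀ g ∈ Q, (∀ d ∈ D, g * d = d * g) → g ∈ D := by
    set C : Subgroup Ω := Q ⊓ Subgroup.centralizer (D : Set Ω) with hC
    have hCR : C ≤ R := by
      by_contra hCR
      have hn : ∀ u ∈ R, ∀ v ∈ C, u⁻¹ * v * u ∈ C := by
        intro u hu v hv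
        refine ⟨hQn u (hRS hu) v hv.1, ?_⟩
        show u⁻¹ * v * u ∈ Subgroup.centralizer (D : Set Ω)
        rw [Subgroup.mem_centralizer_iff]
        intro d hd
        have h1 := (Subgroup.mem_centralizer_iff.mp hv.2) (u * d * u⁻¹) (hDnorm u hu d hd)
        calc d * (u⁻¹ * v * u) = u⁻¹ * ((u * d * u⁻¹) * v) * u := by group
          _ = u⁻¹ * (v * (u * d * u⁻¹)) * u := by rw [h1]
          _ = u⁻¹ * v * u * d := by group
      obtain ⟨v, hvC, hvN, hvR⟩ :=
        exists_mem_normalizer_not_mem_of_not_le' hS hRS (inf_le_left.trans hQS) hn hCR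
      exact hvR (hcentral v hvC.1 hvN
        (fun d hd => ((Subgroup.mem_centralizer_iff.mp hvC.2) d hd).symm))
    intro g hgQ hg
    exact ⟨hgQ, hCR ⟨hgQ, Subgroup.mem_centralizer_iff.mpr (fun d hd => (hg d hd).symm)⟩⟩
  -- the subgroup `D` inside the group `Q`
  set DQ : Subgroup ↥Q := D.subgroupOf Q with hDQdef
  have hCQ : Subgroup.centralizer (DQ : Set ↥Q) ≤ DQ := by
    intro g hg
    rw [Subgroup.mem_centralizer_iff] at hg
    rw [hDQdef, Subgroup.mem_subgroupOf]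
    apply hCQD (g : Ω) g.2
    intro d hd
    have := hg ⟨d, hDQ hd⟩ (Subgroup.mem_subgroupOf.mpr hd)
    exact (congrArg Subtype.val this).symm
  have hDQne : DQ ≠ ⊤ := by
    intro h
    have : (⟨x0, hx0Q⟩ : ↥Q) ∈ DQ := h ▸ Subgroup.mem_top _
    rw [hDQdef, Subgroup.mem_subgroupOf] at this
    exact hx0R this.2
  let φQ : ↥DQ ≃* ↥D' := (Subgroup.subgroupOfEquivOfLe hDQ).trans φD.symm
  have hφQ : ∀ y : DQ, (((φQ y : D') : R) : Ω) = ((y : ↥Q) : Ω) := fun y => rfl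
  rcases mazurov hD'2 MD' γ hγ1 hγodd with ⟨e, he, ⟨E⟩⟩ | hquat
  · by_cases he2 : 2 ≤ e
    · -- homocyclic of exponent at least four
      have hDcomm : ∀ a ∈ D, ∀ b ∈ D, a * b = b * a := by
        intro a ha b hb
        have h1 : E (φD.symm ⟨a, ha⟩ * φD.symm ⟨b, hb⟩) =
            E (φD.symm ⟨b, hb⟩ * φD.symm ⟨a, ha⟩) := by
          rw [map_mul, map_mul, mul_comm]
        have h2 := E.injective h1
        rw [← map_mul, ← map_mul] at h2
        have h3 := φD.symm.injective h2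
        exact congrArg Subtype.val h3
      set T1 : Subgroup Ω := Subgroup.zpowers x1 ⊔ D with hT1
      have hT1Q : T1 ≤ Q := sup_le (Subgroup.zpowers_le.mpr hx1Q) hDQ
      have hDT1 : D ≤ T1 := le_sup_right
      have hx1T1 : x1 ∈ T1 := (le_sup_left : Subgroup.zpowers x1 ≤ T1) (Subgroup.mem_zpowers x1)
      haveI : Finite T1 := finite_of_le_finite (hT1Q.trans hQS)
      have hT12 : IsPGroup 2 T1 := hS.to_le (hT1Q.trans hQS)
      obtain ⟨MT⟩ := mcGen_of_le hQ2 hm hT1Q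
      set D1 : Subgroup T1 := D.subgroupOf T1 with hD1
      have hx1S : x1 ∈ S := hQS hx1Q
      have hnormx : ∀ u ∈ Subgroup.zpowers x1, ∀ v ∈ D, u⁻¹ * v * u ∈ D := by
        intro u hu v hv
        have huS : u ∈ S := (Subgroup.zpowers_le.mpr hx1S) hu
        have huN : u ∈ Subgroup.normalizer (R : Set Ω) := (Subgroup.zpowers_le.mpr hx1N) hu
        refine ⟨hQn u huS v hv.1, ?_⟩
        have := (Subgroup.mem_normalizer_iff.mp (Subgroup.inv_mem _ huN) v).mp hv.2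
        simpa using this
      have hgen : ∀ t : T1, ∃ k : ℤ, ∃ d ∈ D1, t = (⟨x1, hx1T1⟩ : T1) ^ k * d := by
        intro t
        obtain ⟨u, hu, v, hv, huv⟩ := exists_mul_of_mem_sup hnormx t.2
        rw [Subgroup.mem_zpowers_iff] at hu
        obtain ⟨k, rfl⟩ := hu
        refine ⟨k, ⟨v, hDT1 hv⟩, Subgroup.mem_subgroupOf.mpr hv, ?_⟩
        apply Subtype.ext
        simp [huv]
      have hidx : D1.index = 2 := by
        apply index_two_of_sq D1 ⟨x1, hx1T1⟩ _ _ hgen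
        · rw [hD1, Subgroup.mem_subgroupOf]
          exact fun h => hx1R h.2
        · rw [hD1, Subgroup.mem_subgroupOf]
          exact ⟨Q.pow_mem hx1Q 2, hx1sq⟩
      have hcomm1 : ∀ a ∈ D1, ∀ b ∈ D1, a * b = b * a := by
        intro a ha b hb
        apply Subtype.ext
        exact hDcomm a (Subgroup.mem_subgroupOf.mp ha) b (Subgroup.mem_subgroupOf.mp hb)
      let ψ : ↥D1 ≃* Multiplicative (ZMod (2 ^ e) × ZMod (2 ^ e)) :=
        ((Subgroup.subgroupOfEquivOfLe hDT1).trans φD.symm).trans E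
      have hΩ : ∀ d ∈ D1, d ^ 2 = 1 → ∃ y ∈ D1, d = y ^ 2 := by
        intro d hd hd2
        obtain ⟨y, hy⟩ := involution_is_square e he2 ψ ⟨d, hd⟩ (by
          apply Subtype.ext
          simpa using hd2)
        exact ⟨y, y.2, by simpa using congrArg Subtype.val hy⟩
      apply hx1R
      apply mem_of_trivial_mod_sq hS F hQ hRc hRr hx1Q hx1N
      intro d hd
      have hdD : ((d : R) : Ω) ∈ D := ⟨(mem_dSub d).mp hd, d.2⟩
      obtain ⟨y, hy, hrel⟩ := conj_sq_of_index_two hT12 MT D1 hidx hcomm1 hΩ ⟨x1, hx1T1⟩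
        ⟨d, hDT1 hdD⟩ (Subgroup.mem_subgroupOf.mpr hdD)
      have hyD : ((y : T1) : Ω) ∈ D := Subgroup.mem_subgroupOf.mp hy
      have hrel' : ((d : R) : Ω)⁻¹ * (x1 * (d : Ω) * x1⁻¹) = ((y : T1) : Ω) ^ 2 := by
        simpa using congrArg Subtype.val hrel
      have hfin : d⁻¹ * R.normalizerMonoidHom ⟨x1, hx1N⟩ d = (⟨y, hyD.2⟩ : R) ^ 2 := by
        apply Subtype.ext
        exact hrel'
      rw [hfin]
      exact sq_mem_sqSub _ ((mem_dSub _).mpr hyD.1)
    · -- a four-group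
      have he1 : e = 1 := by omega
      subst he1
      have h20 : (2 : ZMod (2 ^ 1)) = 0 := by
        have := ZMod.natCast_self (2 ^ 1)
        simpa using this
      have hD'card : Nat.card D' = 4 := by
        rw [Nat.card_congr E.toEquiv]
        have : Nat.card (Multiplicative (ZMod (2 ^ 1) × ZMod (2 ^ 1))) =
            Nat.card (ZMod (2 ^ 1) × ZMod (2 ^ 1)) := rfl
        rw [this, Nat.card_prod, Nat.card_zmod]
        norm_num
      have hD'exp : ∀ d : D', d ^ 2 = 1 := by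
        intro d
        apply E.injective
        rw [map_pow, map_one]
        apply Multiplicative.toAdd.injective
        rw [toAdd_pow, toAdd_one]
        ext
        · simp [h20]
        · simp [h20]
      have hDQcard : Nat.card DQ = 4 := by
        rw [Nat.card_congr φQ.toEquiv]
        exact hD'card
      have hDQexp : ∀ d ∈ DQ, d ^ 2 = 1 := by
        intro d hd
        have h1 := hD'exp (φQ ⟨d, hd⟩)
        have h2 : (φQ ⟨d, hd⟩ ^ 2 : D') = φQ (⟨d, hd⟩ ^ 2) := (map_pow φQ _ 2).symm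
        rw [h2] at h1
        have h3 : (⟨d, hd⟩ : DQ) ^ 2 = 1 := by
          apply φQ.injective
          rw [h1, map_one]
        have := congrArg Subtype.val h3
        simpa using this
      rcases dihedral_or_sd_of_four hQ2 DQ hDQcard hDQexp hCQ hDQne with ⟨n, hn⟩ | h
      · exact hd ⟨n, hn⟩
      · exact hsd h
  · -- quaternion
    obtain ⟨εD'⟩ := quat_equiv hquat
    let εQ : ↥DQ ≃* QuaternionGroup 2 := φQ.trans εD'
    have hnc : ¬ IsCyclic ↥Q := by
      intro hcyc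
      obtain ⟨-, x, t, hxo, -, htx, -⟩ := hquat
      have hcommQ : ∀ a b : ↥Q, a * b = b * a := by
        intro a b
        letI := IsCyclic.commGroup (α := ↥Q)
        exact mul_comm a b
      have hxQ : (((x : D') : R) : Ω) ∈ Q := (mem_dSub (x : R)).mp x.2
      have htQ : (((t : D') : R) : Ω) ∈ Q := (mem_dSub (t : R)).mp t.2
      have h0 := congrArg Subtype.val (hcommQ ⟨_, htQ⟩ ⟨_, hxQ⟩)
      have h1 : t * x * t⁻¹ = x := by
        apply Subtype.ext
        apply Subtype.ext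
        show (((t : D') : R) : Ω) * (((x : D') : R) : Ω) * (((t : D') : R) : Ω)⁻¹ =
          (((x : D') : R) : Ω)
        have h0' : (((t : D') : R) : Ω) * (((x : D') : R) : Ω) =
            (((x : D') : R) : Ω) * (((t : D') : R) : Ω) := h0
        rw [h0']
        group
      rw [htx] at h1
      have h2 : x ^ 2 = 1 := by
        rw [pow_two]
        nth_rewrite 1 [← h1]
        exact inv_mul_cancel x
      have := orderOf_le_of_pow_eq_one (by norm_num) h2
      omega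
    obtain ⟨Esub, hEn, hE4, hEexp⟩ := Cfsg.Agent.Helper20.IrrP.exists_normal_sq 2 hQ2 hnc
      (fun n h => hq ⟨n, h⟩) (fun n h => hd ⟨n, h⟩) hsd
    haveI := hEn
    exact no_normal_four_of_quat hQ2 DQ εQ hCQ Esub (by rw [hE4]; norm_num) hEexp

end Fusion

end Cfsg.Agent.Helper21.MetaFusion
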