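import Mathlib
import Cfsg.Agent.Lib.Helper14.PowerTransv
import Cfsg.Agent.Lib.Helper1.AbEssA
import Cfsg.Agent.Lib.Helper8.AutQuot
import Cfsg.Agent.Lib.Helper21.MetaAut2

set_option autoImplicit false

/-! Abstract group theory for strongly closed metacyclic subgroups at odd primes. -/

namespace Cfsg.Agent.Helper21.MetaOdd

open Cfsg.Agent.Helper8 Cfsg.Agent.Helper21.MetaAut

section AL

variable {V : Type*} [CommGroup V] [Finite V] {p : ℕ} [hp : Fact p.Prime]

/-- a group of automorphisms of a group of order `p ^ 2` without invariant subgroup of order `p`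
contains no transvection whose centre is generated by a vector fixed by the centraliser of the
transvection -/
theorem no_transvection (hp2 : p ≠ 2) (hV : Nat.card V = p ^ 2) (hW : ∀ w : V, w ^ p = 1)
    (B : Subgroup (MulAut V))
    (hline : ∀ L : Subgroup V, Nat.card L = p → (∀ z ∈ B, ∀ l ∈ L, z l ∈ L) → False)
    (a : MulAut V) (haB : a ∈ B) (e : V) (ha : a ≠ 1)
    (htr : ∀ w : V, a w / w ∈ Subgroup.zpowers e)
    (hcompat : ∀ z ∈ B, z * a * z⁻¹ = a → z e = e) : False := by
  classical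
  have hO : ∀ K : Subgroup ↥B, K.Normal → IsPGroup p K → K ≤ (B.subtype).ker := by
    intro K hKn hKp
    let Fx : Subgroup V :=
      { carrier := {v | ∀ k ∈ K, ((k : ↥B) : MulAut V) v = v}
        one_mem' := fun k _ => map_one _
        mul_mem' := fun {x y} hx hy k hk => by rw [map_mul, hx k hk, hy k hk]
        inv_mem' := fun {x} hx k hk => by rw [map_inv, hx k hk] }
    have hFx : ∀ v, v ∈ Fx ↔ ∀ k ∈ K, ((k : ↥B) : MulAut V) v = v := fun v => Iff.rfl
    have hinv : ∀ z ∈ B, ∀ l ∈ Fx, z l ∈ Fx := by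
      intro z hz l hl
      rw [hFx] at hl ⊢
      intro k hk
      have h1 : (⟨z, hz⟩ : ↥B)⁻¹ * k * (⟨z, hz⟩ : ↥B)⁻¹⁻¹ ∈ K := hKn.conj_mem k hk _
      have h2 := hl _ h1
      have h3 : (((⟨z, hz⟩ : ↥B)⁻¹ * k * (⟨z, hz⟩ : ↥B)⁻¹⁻¹ : ↥B) : MulAut V) l =
          z⁻¹ ((k : MulAut V) (z l)) := by
        simp [MulAut.mul_apply]
      rw [h3] at h2
      have h4 := congrArg z h2
      simpa using h4
    letI : MulAction ↥K V := MulAction.compHom V ((B.subtype).comp K.subtype)
    have hsmul : ∀ (k : ↥K) (v : V), k • v = (((k : ↥B) : MulAut V)) v := fun k v => rfl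
    have hone : (1 : V) ∈ MulAction.fixedPoints ↥K V := by
      intro k
      rw [hsmul, map_one]
    obtain ⟨b, hb, hb1⟩ := hKp.exists_fixed_point_of_prime_dvd_card_of_fixed_point V
      (by rw [hV]; exact dvd_pow_self p two_ne_zero) hone
    have hbFx : b ∈ Fx := by
      rw [hFx]
      intro k hk
      exact hb ⟨k, hk⟩
    have hdvd : Nat.card Fx ∣ p ^ 2 := by
      rw [← hV]; exact Subgroup.card_subgroup_dvd_card Fx
    obtain ⟨j, hj, hFj⟩ := (Nat.dvd_prime_pow hp.out).mp hdvd
    interval_cases j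
    · exfalso
      rw [pow_zero, Subgroup.card_eq_one] at hFj
      rw [hFj, Subgroup.mem_bot] at hbFx
      exact hb1 hbFx.symm
    · exfalso
      rw [pow_one] at hFj
      exact hline Fx hFj hinv
    · have htop : Fx = ⊤ := by
        apply Subgroup.eq_top_of_card_eq
        rw [hFj, hV]
      intro k hk
      rw [MonoidHom.mem_ker]
      ext v
      have : v ∈ Fx := htop ▸ Subgroup.mem_top v
      exact (hFx v).mp this k hk
  have hker : IsPGroup p (B.subtype).ker := by
    rw [Subgroup.ker_subtype]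
    exact IsPGroup.of_bot
  refine Cfsg.Agent.Helper14.PowerTransv.no_power_transvection hp2 (B.subtype) hW hker hO
    ⟨a, haB⟩ e ?_ ?_ ?_
  · exact ha
  · exact htr
  · intro z hz
    apply hcompat z.1 z.2
    exact hz

end AL

section Stab

variable {R : Type*} [Group R] [Finite R] {p : ℕ} [hp : Fact p.Prime]

/-- an automorphism of order prime to `p` fixing `c` with `α x = x * c` for a `p`-element `c`
fixes `x` -/
theorem eq_one_of_coprime_aut_stab (α : MulAut R) (r : ℕ) (hα : α ^ r = 1) (hr : r.Coprime p)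
    (x c : R) (hc : α c = c) (k : ℕ) (hck : c ^ p ^ k = 1) (hx : α x = x * c) : c = 1 := by
  have hcj : ∀ j : ℕ, (α ^ j) c = c := by
    intro j
    induction j with
    | zero => simp
    | succ j ih => rw [pow_succ, MulAut.mul_apply, hc, ih]
  have hxj : ∀ j : ℕ, (α ^ j) x = x * c ^ j := by
    intro j
    induction j with
    | zero => simp
    | succ j ih =>
      rw [pow_succ, MulAut.mul_apply, hx, map_mul, ih, hcj, mul_assoc, ← pow_succ]
  have h1 := hxj r
  rw [hα, MulAut.one_apply] at h1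
  have h2 : c ^ r = 1 := by
    have : x * 1 = x * c ^ r := by rw [mul_one]; exact h1
    exact (mul_left_cancel this).symm
  have h3 : orderOf c ∣ r := orderOf_dvd_of_pow_eq_one h2
  have h4 : orderOf c ∣ p ^ k := orderOf_dvd_of_pow_eq_one hck
  have h5 : orderOf c ∣ Nat.gcd r (p ^ k) := Nat.dvd_gcd h3 h4
  rw [Nat.Coprime.pow_right k hr] at h5
  exact orderOf_eq_one_iff.mp (Nat.dvd_one.mp h5)

/-- an automorphism of order prime to `p` of a finite `p`-group which acts trivially on `R / D`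
and on the Frattini quotient of `D` is trivial -/
theorem stab_eq_one' (hR : IsPGroup p R) (D : Subgroup R)
    (α : MulAut R) (hcop : (orderOf α).Coprime p) (hD : ∀ d ∈ D, α d ∈ D)
    (h1 : ∀ y, y⁻¹ * α y ∈ D) (h2 : ∀ d ∈ D, d⁻¹ * α d ∈ (frattini D).map D.subtype) : α = 1 := by
  set β := restrictAut D α hD with hβ
  have hDp : IsPGroup p D := hR.to_subgroup D
  have hβpow : β ^ orderOf α = 1 := by
    ext d
    rw [restrictAut_pow, pow_orderOf_eq_one]
    simp
  have hβcop : (orderOf β).Coprime p :=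
    Nat.Coprime.coprime_dvd_left (orderOf_dvd_of_pow_eq_one hβpow) hcop
  have hβker : β ∈ (autQuot (frattini D)).ker := by
    rw [mem_ker_autQuot]
    intro d
    obtain ⟨f, hf, hfe⟩ := h2 d d.2
    have : f = d⁻¹ * β d := by
      apply Subtype.ext
      rw [show ((D.subtype f : R)) = (f : R) from rfl] at hfe
      rw [hfe]
      simp [hβ, restrictAut_apply]
    rw [← this]
    exact hf
  have hβ1 : β = 1 := eq_one_of_autQuot_frattini hDp β hβcop hβker
  have hfix : ∀ d ∈ D, α d = d := by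
    intro d hd
    have := congrArg (fun γ : MulAut D => ((γ ⟨d, hd⟩ : D) : R)) hβ1
    simpa [hβ, restrictAut_apply] using this
  ext y
  have hc := h1 y
  obtain ⟨k, hk⟩ := hR (y⁻¹ * α y)
  have hc1 : y⁻¹ * α y = 1 :=
    eq_one_of_coprime_aut_stab α (orderOf α) (pow_orderOf_eq_one α) hcop
      y (y⁻¹ * α y) (hfix _ hc) k hk (by group)
  rw [MulAut.one_apply]
  have : α y = y * (y⁻¹ * α y) := by group
  rw [this, hc1, mul_one]

/-- a group of automorphisms acting trivially on `R / D` and on the Frattini quotient of `D` is a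
`p`-group -/
theorem isPGroup_of_stab' (hR : IsPGroup p R) (D : Subgroup R)
    (K : Subgroup (MulAut R)) (hD : ∀ α ∈ K, ∀ d ∈ D, α d ∈ D)
    (h1 : ∀ α ∈ K, ∀ y, y⁻¹ * α y ∈ D)
    (h2 : ∀ α ∈ K, ∀ d ∈ D, d⁻¹ * α d ∈ (frattini D).map D.subtype) :
    IsPGroup p K := by
  rintro ⟨a, ha⟩
  have ho0 : orderOf a ≠ 0 := (orderOf_pos a).ne'
  obtain ⟨k, m, hm, hkm⟩ := Nat.exists_eq_pow_mul_and_not_dvd ho0 p hp.out.ne_one
  refine ⟨k, ?_⟩
  apply Subtype.ext
  show a ^ p ^ k = 1
  have hb : (a ^ p ^ k) ^ m = 1 := by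
    rw [← pow_mul, ← hkm]; exact pow_orderOf_eq_one a
  have hcop : (orderOf (a ^ p ^ k)).Coprime p := by
    have hdvd : orderOf (a ^ p ^ k) ∣ m := orderOf_dvd_of_pow_eq_one hb
    exact Nat.Coprime.coprime_dvd_left hdvd ((Nat.Prime.coprime_iff_not_dvd hp.out).mpr hm).symm
  have hmem : a ^ p ^ k ∈ K := K.pow_mem ha _
  exact stab_eq_one' hR D (a ^ p ^ k) hcop (hD _ hmem) (h1 _ hmem) (h2 _ hmem)

end Stab

end Cfsg.Agent.Helper21.MetaOdd
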