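import Mathlib
import Cfsg.Agent.Lib.Helper21.MetaOdd1

set_option autoImplicit false

/-! The norm formula `(d x)^n = d * d^x * ... * x^n` and its value modulo the Frattini subgroup. -/

namespace Cfsg.Agent.Helper21.MetaOdd

open Cfsg.Agent.Helper8 Cfsg.Agent.Helper21.MetaAut

section Norm

/-- the product `d * γ d * ⋯ * γ^(n-1) d` -/
def nrm {X : Type*} [Group X] (γ : MulAut X) (d : X) : ℕ → X
  | 0 => 1
  | n + 1 => nrm γ d n * (γ ^ n) d

theorem nrm_zero {X : Type*} [Group X] (γ : MulAut X) (d : X) : nrm γ d 0 = 1 := rfl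

theorem nrm_succ {X : Type*} [Group X] (γ : MulAut X) (d : X) (n : ℕ) :
    nrm γ d (n + 1) = nrm γ d n * (γ ^ n) d := rfl

theorem normalizerMonoidHom_pow_apply {Ω : Type*} [Group Ω] (R : Subgroup Ω) (x : Ω)
    (hx : x ∈ Subgroup.normalizer (R : Set Ω)) (d : R) (n : ℕ) :
    ((((R.normalizerMonoidHom ⟨x, hx⟩) ^ n) d : R) : Ω) = x ^ n * (d : Ω) * (x ^ n)⁻¹ := by
  rw [← map_pow]
  rfl

theorem mul_pow_eq_nrm {Ω : Type*} [Group Ω] (R : Subgroup Ω) (x : Ω)
    (hx : x ∈ Subgroup.normalizer (R : Set Ω)) (d : R) (n : ℕ) :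
    ((d : Ω) * x) ^ n = ((nrm (R.normalizerMonoidHom ⟨x, hx⟩) d n : R) : Ω) * x ^ n := by
  induction n with
  | zero => simp [nrm_zero]
  | succ n ih =>
    rw [pow_succ, ih, nrm_succ, Subgroup.coe_mul, normalizerMonoidHom_pow_apply, pow_succ]
    group

/-- the norm modulo a characteristic subgroup with commutative quotient on which `γ` acts as a
transvection -/
theorem mk_nrm {X : Type*} [Group X] (N : Subgroup X) [N.Characteristic] (β : MulAut X)
    (hcomm : ∀ v w : X ⧸ N, v * w = w * v)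
    (hfix : ∀ v : X ⧸ N, autQuot N β (v⁻¹ * autQuot N β v) = v⁻¹ * autQuot N β v)
    (d : X) (n : ℕ) :
    (QuotientGroup.mk (nrm β d n) : X ⧸ N) =
      (QuotientGroup.mk d : X ⧸ N) ^ n *
        ((QuotientGroup.mk d : X ⧸ N)⁻¹ * autQuot N β (QuotientGroup.mk d)) ^ (n.choose 2) := by
  set u := autQuot N β with hu
  set v : X ⧸ N := QuotientGroup.mk d with hv
  set w : X ⧸ N := v⁻¹ * u v with hw
  have huw : u w = w := hfix v
  have huv : u v = v * w := by rw [hw]; group
  have hpow : ∀ m : ℕ, (u ^ m) v = v * w ^ m := by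
    intro m
    induction m with
    | zero => simp
    | succ m ih =>
      rw [pow_succ', MulAut.mul_apply, ih, map_mul, map_pow, huw, huv, mul_assoc, ← pow_succ']
  have hmk : ∀ m : ℕ, (QuotientGroup.mk ((β ^ m) d) : X ⧸ N) = (u ^ m) v := by
    intro m
    rw [hu, ← map_pow, hv, autQuot_mk]
  induction n with
  | zero => simp [nrm_zero]
  | succ n ih =>
    rw [nrm_succ, QuotientGroup.mk_mul, ih, hmk, hpow]
    have hc : n.choose 2 + n = (n + 1).choose 2 := by
      rw [Nat.choose_succ_succ' n 1, Nat.choose_one_right, add_comm]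
    have h1 := hcomm (w ^ n.choose 2) v
    calc v ^ n * w ^ n.choose 2 * (v * w ^ n) = v ^ n * (w ^ n.choose 2 * v) * w ^ n := by group
      _ = v ^ n * (v * w ^ n.choose 2) * w ^ n := by rw [h1]
      _ = v ^ n * v * (w ^ n.choose 2 * w ^ n) := by group
      _ = v ^ (n + 1) * w ^ (n + 1).choose 2 := by rw [← hc, pow_add w, pow_succ v]

/-- for an odd prime `p` the `p`-th norm is trivial modulo `N` -/
theorem nrm_mem {X : Type*} [Group X] (N : Subgroup X) [N.Characteristic] (β : MulAut X)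
    {p : ℕ} (hp : p.Prime) (hp2 : p ≠ 2)
    (hcomm : ∀ v w : X ⧸ N, v * w = w * v) (hexp : ∀ v : X ⧸ N, v ^ p = 1)
    (hfix : ∀ v : X ⧸ N, autQuot N β (v⁻¹ * autQuot N β v) = v⁻¹ * autQuot N β v)
    (d : X) : nrm β d p ∈ N := by
  have h := mk_nrm N β hcomm hfix d p
  have hp3 : 2 < p := lt_of_le_of_ne hp.two_le (Ne.symm hp2)
  obtain ⟨m, hm⟩ := hp.dvd_choose_self (k := 2) (by norm_num) hp3
  rw [hexp, hm, pow_mul, hexp, one_pow, one_mul] at h
  exact (QuotientGroup.eq_one_iff _).mp h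

/-- the norm of the restriction -/
theorem coe_nrm_restrictAut {R : Type*} [Group R] [Finite R] (D : Subgroup R) (γ : MulAut R)
    (hD : ∀ d ∈ D, γ d ∈ D) (d : D) (n : ℕ) :
    ((nrm (restrictAut D γ hD) d n : D) : R) = nrm γ (d : R) n := by
  induction n with
  | zero => simp [nrm_zero]
  | succ n ih =>
    rw [nrm_succ, nrm_succ, Subgroup.coe_mul, ih, restrictAut_pow]

end Norm

end Cfsg.Agent.Helper21.MetaOdd
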