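import Mathlib
import Cfsg.Prelude.Def_FusionSystem
import Cfsg.Agent.Lib.Helper21.MetaFusion
import Cfsg.Agent.Lib.Helper21.MetaOdd2
import Cfsg.Agent.S5080

set_option autoImplicit false

/-! Strongly closed metacyclic subgroups of saturated fusion systems at odd primes. -/

namespace Cfsg.Agent.Helper21.MetaFusionOdd

open Cfsg Cfsg.FusionSystem Cfsg.Agent.Helper25 Cfsg.Agent.Helper21 Cfsg.Agent.Helper21.MetaAut
  Cfsg.Agent.Helper21.MetaFusion Cfsg.Agent.Helper21.MetaOdd Cfsg.Agent.Helper8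
  Cfsg.Agent.Helper1.AbEss

section Rho

variable {R : Type*} [Group R] [Finite R]

/-- restriction of a group of automorphisms to an invariant subgroup -/
noncomputable def resHom (A : Subgroup (MulAut R)) (D : Subgroup R)
    (hD : ∀ α ∈ A, ∀ d ∈ D, α d ∈ D) : ↥A →* MulAut ↥D where
  toFun α := restrictAut D α.1 (hD α.1 α.2)
  map_one' := by ext d; rfl
  map_mul' α β := by ext d; rfl

/-- the action on the Frattini quotient of an invariant subgroup -/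
noncomputable def rho (A : Subgroup (MulAut R)) (D : Subgroup R)
    (hD : ∀ α ∈ A, ∀ d ∈ D, α d ∈ D) : ↥A →* MulAut (↥D ⧸ frattini ↥D) :=
  (autQuot (frattini ↥D)).comp (resHom A D hD)

theorem rho_mk (A : Subgroup (MulAut R)) (D : Subgroup R)
    (hD : ∀ α ∈ A, ∀ d ∈ D, α d ∈ D) (α : ↥A) (d : ↥D) :
    rho A D hD α (QuotientGroup.mk d) = QuotientGroup.mk ⟨α.1 d, hD α.1 α.2 d d.2⟩ := rfl

theorem rho_eq (A : Subgroup (MulAut R)) (D : Subgroup R)
    (hD : ∀ α ∈ A, ∀ d ∈ D, α d ∈ D) (α : ↥A) :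
    rho A D hD α = autQuot (frattini ↥D) (restrictAut D α.1 (hD α.1 α.2)) := rfl

theorem rho_eq_one_iff (A : Subgroup (MulAut R)) (D : Subgroup R)
    (hD : ∀ α ∈ A, ∀ d ∈ D, α d ∈ D) (α : ↥A) :
    rho A D hD α = 1 ↔ ∀ d ∈ D, d⁻¹ * α.1 d ∈ (frattini ↥D).map D.subtype := by
  rw [rho_eq, ← MonoidHom.mem_ker, mem_ker_autQuot]
  constructor
  · intro h d hd
    exact ⟨_, h ⟨d, hd⟩, rfl⟩
  · intro h d
    obtain ⟨f, hf, hfe⟩ := h d d.2
    have : f = d⁻¹ * restrictAut D α.1 (hD α.1 α.2) d := by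
      apply Subtype.ext
      exact hfe
    rw [← this]
    exact hf

end Rho

section Quot

variable {X : Type*} [Group X] [Finite X] {p : ℕ} [hp : Fact p.Prime]

theorem quot_comm (hX : IsPGroup p X) (v w : X ⧸ frattini X) : v * w = w * v := by
  induction v using QuotientGroup.induction_on with
  | _ x =>
    induction w using QuotientGroup.induction_on with
    | _ y =>
      rw [← QuotientGroup.mk_mul, ← QuotientGroup.mk_mul, QuotientGroup.eq]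
      have := commutator_mem_frattini_of_isPGroup hX y⁻¹ x⁻¹
      have e : (x * y)⁻¹ * (y * x) = y⁻¹ * x⁻¹ * y⁻¹⁻¹ * x⁻¹⁻¹ := by group
      rw [e]
      exact this

theorem quot_exp (hX : IsPGroup p X) (v : X ⧸ frattini X) : v ^ p = 1 := by
  induction v using QuotientGroup.induction_on with
  | _ x =>
    rw [← QuotientGroup.mk_pow, QuotientGroup.eq_one_iff]
    exact pow_mem_frattini_of_isPGroup hX x

theorem card_quot_le (hX : IsPGroup p X) (M : MCGen X) : Nat.card (X ⧸ frattini X) ≤ p ^ 2 := by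
  have h := index_le_mul M (frattini X) p hp.out.pos (pow_mem_frattini_of_isPGroup hX _)
    (pow_mem_frattini_of_isPGroup hX _)
  rw [Subgroup.index_eq_card] at h
  rw [pow_two]
  exact h

end Quot


section Transv

variable {V : Type*} [Group V]

/-- automorphisms of `V` centralising `L` and `V / L` -/
def transvSub (L : Subgroup V) : Subgroup (MulAut V) where
  carrier := {b | (∀ l ∈ L, b l = l) ∧ ∀ v, v⁻¹ * b v ∈ L}
  one_mem' := ⟨fun l _ => rfl, fun v => by simp [L.one_mem]⟩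
  mul_mem' := by
    rintro a b ⟨ha1, ha2⟩ ⟨hb1, hb2⟩
    refine ⟨fun l hl => by rw [MulAut.mul_apply, hb1 l hl, ha1 l hl], fun v => ?_⟩
    have h2 : a (b v) = a v * (v⁻¹ * b v) := by
      have h1 : a (v * (v⁻¹ * b v)) = a v * (v⁻¹ * b v) := by rw [map_mul, ha1 _ (hb2 v)]
      rwa [mul_inv_cancel_left] at h1
    rw [MulAut.mul_apply, h2, ← mul_assoc]
    exact L.mul_mem (ha2 v) (hb2 v)
  inv_mem' := by
    rintro a ⟨ha1, ha2⟩
    refine ⟨fun l hl => ?_, fun v => ?_⟩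
    · rw [MulAut.inv_apply, MulEquiv.symm_apply_eq]
      exact (ha1 l hl).symm
    · set w := a⁻¹ v with hw
      have hv : v = a w := by rw [hw, MulAut.apply_inv_self]
      have h3 : v⁻¹ * w = (w⁻¹ * a w)⁻¹ := by rw [mul_inv_rev, inv_inv, ← hv]
      rw [h3]
      exact L.inv_mem (ha2 w)

theorem mem_transvSub (L : Subgroup V) (b : MulAut V) :
    b ∈ transvSub L ↔ (∀ l ∈ L, b l = l) ∧ ∀ v, v⁻¹ * b v ∈ L := Iff.rfl

theorem conj_mem_transvSub (L : Subgroup V) (g : MulAut V) (hg : ∀ l ∈ L, g l ∈ L)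
    (hg' : ∀ l ∈ L, g⁻¹ l ∈ L) {b : MulAut V} (hb : b ∈ transvSub L) :
    g * b * g⁻¹ ∈ transvSub L := by
  obtain ⟨hb1, hb2⟩ := hb
  refine ⟨fun l hl => ?_, fun v => ?_⟩
  · rw [MulAut.mul_apply, MulAut.mul_apply, hb1 _ (hg' l hl), MulAut.apply_inv_self]
  · rw [MulAut.mul_apply, MulAut.mul_apply]
    set w := g⁻¹ v with hw
    have hv : v = g w := by rw [hw, MulAut.apply_inv_self]
    have h3 : v⁻¹ * g (b w) = g (w⁻¹ * b w) := by rw [map_mul, map_inv, ← hv]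
    rw [h3]
    exact hg _ (hb2 w)

theorem pow_eq_one_of_mem_transvSub (L : Subgroup V) {n : ℕ} (hexp : ∀ v : V, v ^ n = 1)
    {b : MulAut V} (hb : b ∈ transvSub L) : b ^ n = 1 := by
  obtain ⟨hb1, hb2⟩ := hb
  have hpow : ∀ (m : ℕ) (v : V), (b ^ m) v = v * (v⁻¹ * b v) ^ m := by
    intro m
    induction m with
    | zero => intro v; simp
    | succ m ih =>
      intro v
      rw [pow_succ', MulAut.mul_apply, ih, map_mul, map_pow, hb1 _ (hb2 v), pow_succ',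
        ← mul_assoc, mul_inv_cancel_left]
  ext v
  rw [hpow, hexp, mul_one, MulAut.one_apply]

end Transv

section Fusion

variable {Ω : Type*} [Group Ω] {S : Subgroup Ω}

theorem le_inn_of_radical' {p : ℕ} (F : FusionSystem S) {R : Subgroup Ω} (hRr : F.IsRadical p R)
    (K : Subgroup (MulAut R)) (hKA : K ≤ F.autGroup R)
    (hKn : (K.subgroupOf (F.autGroup R)).Normal) (hKp : IsPGroup p K) : K ≤ Inn R := by
  intro α hα
  have h1 : IsPGroup p (K.subgroupOf (F.autGroup R)) :=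
    hKp.of_equiv (Subgroup.subgroupOfEquivOfLe hKA).symm
  have h2 := le_pCore hKn h1
  rw [← hRr.2]
  exact ⟨⟨α, hKA hα⟩, h2 (Subgroup.mem_subgroupOf.mpr hα), rfl⟩

/-- subgroups of a metacyclic `p`-group are metacyclic -/
theorem mcGen_of_le' {p : ℕ} [Fact p.Prime] {Q T : Subgroup Ω} [Finite Q] (hQp : IsPGroup p Q)
    (hm : Cfsg.IsMetacyclic ↥Q) (hT : T ≤ Q) : Nonempty (MCGen ↥T) := by
  obtain ⟨N, hNn, hNc, hQc⟩ := hm
  obtain ⟨M⟩ := exists_mcGen N hNc hQc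
  obtain ⟨M'⟩ := M.exists_subgroup_mcGen hQp (T.subgroupOf Q)
  exact ⟨mcGenOfEquiv (Subgroup.subgroupOfEquivOfLe hT) M'⟩

theorem frattini_map_invariant {R : Type*} [Group R] [Finite R] (D : Subgroup R) (α : MulAut R)
    (hD : ∀ d ∈ D, α d ∈ D) :
    ∀ f ∈ (frattini ↥D).map D.subtype, α f ∈ (frattini ↥D).map D.subtype := by
  rintro _ ⟨f, hf, rfl⟩
  exact ⟨restrictAut D α hD f, (frattini_apply_mem_iff _ _).mpr hf, rfl⟩

/-- automorphisms in `Aut_F(R)` acting trivially on `R / (Q ⊓ R)` and on the Frattini quotient of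
`Q ⊓ R` have `p`-power order and are inner -/
theorem stab_facts [Finite S] {p : ℕ} [Fact p.Prime] (hS : IsPGroup p S) (F : FusionSystem S)
    {Q R : Subgroup Ω} (hQ : F.StronglyClosed Q) (hRS : R ≤ S) [Finite R]
    (hRr : F.IsRadical p R) {α : MulAut R} (hαA : α ∈ F.autGroup R)
    (h1 : ∀ y, y⁻¹ * α y ∈ dSub Q R)
    (h2 : ∀ d ∈ dSub Q R, d⁻¹ * α d ∈ (frattini ↥(dSub Q R)).map (dSub Q R).subtype) :
    α ∈ Inn R ∧ ∃ k : ℕ, α ^ p ^ k = 1 := by
  have hR : IsPGroup p R := hS.to_le hRS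
  have hAD := aut_dSub F hQ hRS
  set K0 := stabSub (F.autGroup R) (dSub Q R)
    ((frattini ↥(dSub Q R)).map (dSub Q R).subtype) hAD with hK0
  have hK0n : (K0.subgroupOf (F.autGroup R)).Normal :=
    stabSub_normal _ _ _ hAD (fun β hβ => frattini_map_invariant _ β (hAD β hβ))
  have hK0p : IsPGroup p K0 :=
    isPGroup_of_stab' hR (dSub Q R) K0 (fun β hβ => hAD β hβ.1) (fun β hβ => hβ.2.1)
      (fun β hβ => hβ.2.2)
  have hmem : α ∈ K0 := ⟨hαA, h1, h2⟩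
  refine ⟨le_inn_of_radical' F hRr K0 (stabSub_le _ _ _ hAD) hK0n hK0p hmem, ?_⟩
  obtain ⟨k, hk⟩ := hK0p ⟨α, hmem⟩
  exact ⟨k, by simpa using congrArg Subtype.val hk⟩

theorem conj_pow_eq_one {p : ℕ} (hS : IsPGroup p S) {R : Subgroup Ω} {u : Ω} (huS : u ∈ S)
    (hu : u ∈ Subgroup.normalizer (R : Set Ω)) :
    ∃ k : ℕ, (R.normalizerMonoidHom ⟨u, hu⟩) ^ p ^ k = 1 := by
  obtain ⟨k, hk⟩ := hS ⟨u, huS⟩
  refine ⟨k, ?_⟩
  rw [← map_pow]
  have : (⟨u, hu⟩ : Subgroup.normalizer (R : Set Ω)) ^ p ^ k = 1 := by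
    apply Subtype.ext
    simpa using congrArg Subtype.val hk
  rw [this, map_one]

/-- conjugation by an element of `Q` normalising `R`, as an element of `Aut_F(R)` -/
def cx (F : FusionSystem S) {Q R : Subgroup Ω} (hQS : Q ≤ S) (hRS : R ≤ S) (x : Ω) (hxQ : x ∈ Q)
    (hxN : x ∈ Subgroup.normalizer (R : Set Ω)) : ↥(F.autGroup R) :=
  ⟨R.normalizerMonoidHom ⟨x, hxN⟩, autInducedBy_le_autGroup F hRS
    ((mem_autInducedBy_iff _).mpr ⟨x, hQS hxQ, fun _ => rfl⟩)⟩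

theorem cx_apply (F : FusionSystem S) {Q R : Subgroup Ω} (hQS : Q ≤ S) (hRS : R ≤ S) (x : Ω)
    (hxQ : x ∈ Q) (hxN : x ∈ Subgroup.normalizer (R : Set Ω)) (y : R) :
    (((cx F hQS hRS x hxQ hxN).1 y : R) : Ω) = x * (y : Ω) * x⁻¹ := rfl


/-- no subgroup of order `p` of the Frattini quotient of `Q ⊓ R` is invariant under `Aut_F(R)` -/
theorem no_invariant_line [Finite S] {p : ℕ} [hp : Fact p.Prime] (hS : IsPGroup p S)
    (F : FusionSystem S) {Q R : Subgroup Ω} (hQ : F.StronglyClosed Q) (hRc : F.IsCentric R)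
    [Finite R] (hRr : F.IsRadical p R)
    (hV : Nat.card (↥(dSub Q R) ⧸ frattini ↥(dSub Q R)) = p ^ 2)
    {x : Ω} (hxQ : x ∈ Q) (hxN : x ∈ Subgroup.normalizer (R : Set Ω)) (hxR : x ∉ R)
    (L : Subgroup (↥(dSub Q R) ⧸ frattini ↥(dSub Q R))) (hL : Nat.card L = p)
    (hinv : ∀ α : ↥(F.autGroup R), ∀ l ∈ L,
      rho (F.autGroup R) (dSub Q R) (aut_dSub F hQ hRc.1) α l ∈ L) : False := by
  have hRS : R ≤ S := hRc.1
  have hQS : Q ≤ S := hQ.1
  have hR : IsPGroup p R := hS.to_le hRS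
  have hcen : centralizerIn S R ≤ R := hRc.2 R (isConj_refl F hRS)
  have hAD := aut_dSub F hQ hRS
  have hD'p : IsPGroup p (dSub Q R) := hR.to_subgroup (dSub Q R)
  have hq : ∀ α : ↥(F.autGroup R), rho (F.autGroup R) (dSub Q R) (aut_dSub F hQ hRc.1) α =
      rho (F.autGroup R) (dSub Q R) hAD α := fun α => rfl
  simp only [hq] at hinv
  set q := rho (F.autGroup R) (dSub Q R) hAD with hqdef
  letI : CommGroup (↥(dSub Q R) ⧸ frattini ↥(dSub Q R)) :=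
    { (inferInstance : Group (↥(dSub Q R) ⧸ frattini ↥(dSub Q R))) with
      mul_comm := quot_comm hD'p }
  set K1 := stabSub (F.autGroup R) (dSub Q R) (dSub Q R) hAD with hK1
  have hK1n : (K1.subgroupOf (F.autGroup R)).Normal := stabSub_normal _ _ _ hAD hAD
  set K2 : Subgroup ↥(F.autGroup R) := K1.subgroupOf (F.autGroup R) ⊓ (transvSub L).comap q with hK2
  have hK2n : K2.Normal := by
    constructor
    rintro a ⟨ha1, ha2⟩ g
    refine ⟨hK1n.conj_mem a ha1 g, ?_⟩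
    show q (g * a * g⁻¹) ∈ transvSub L
    rw [map_mul, map_mul, map_inv]
    apply conj_mem_transvSub L (q g) (hinv g) _ ha2
    intro l hl
    have := hinv g⁻¹ l hl
    rwa [map_inv] at this
  have hK2p : IsPGroup p K2 := by
    rintro ⟨a, ha1, ha2⟩
    have ha2 : q a ∈ transvSub L := ha2
    have h1 : q (a ^ p) = 1 := by
      rw [map_pow]
      exact pow_eq_one_of_mem_transvSub L (quot_exp hD'p) ha2
    have h2 : (a ^ p).1 ∈ K1 :=
      Subgroup.mem_subgroupOf.mp ((K1.subgroupOf (F.autGroup R)).pow_mem ha1 p)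
    have h3 := (rho_eq_one_iff (F.autGroup R) (dSub Q R) hAD (a ^ p)).mp h1
    obtain ⟨-, k, hk⟩ := stab_facts hS F hQ hRS hRr (a ^ p).2 h2.2.1 h3
    have h7 : (a ^ p) ^ p ^ k = 1 := Subtype.ext (by rw [Subgroup.coe_pow]; exact hk)
    refine ⟨k + 1, Subtype.ext ?_⟩
    show a ^ p ^ (k + 1) = 1
    rw [pow_succ', pow_mul]; exact h7
  set c := cx F hQS hRS x hxQ hxN with hc
  have hcK1 : c.1 ∈ K1 := conj_mem_stab F hQ hRS hxQ hxN
  obtain ⟨k, hk⟩ := conj_pow_eq_one hS (hQS hxQ) hxN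
  have hb : (q c) ^ p ^ k = 1 := by
    rw [← map_pow]
    have : c ^ p ^ k = 1 := Subtype.ext (by rw [Subgroup.coe_pow]; exact hk)
    rw [this, map_one]
  have hcK2 : c ∈ K2 := by
    refine ⟨Subgroup.mem_subgroupOf.mpr hcK1, ?_⟩
    show q c ∈ transvSub L
    obtain ⟨h1, h2⟩ := delta_mem_of_invariant hV (q c) hb L hL (hinv c)
    exact ⟨h1, h2⟩
  have h5 := le_pCore hK2n hK2p hcK2
  have h6 : c.1 ∈ Inn R := by
    rw [← hRr.2]
    exact ⟨c, h5, rfl⟩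
  exact hxR (mem_of_induces_inner hRS hcen h6 (hQS hxQ) (fun y => rfl))


/-- the power formula modulo the Frattini subgroup of `Q ⊓ R` -/
theorem pow_mul_mod [Finite S] {p : ℕ} [hp : Fact p.Prime] (hp2 : p ≠ 2) (hS : IsPGroup p S)
    (F : FusionSystem S) {Q R : Subgroup Ω} (hQ : F.StronglyClosed Q) (hRS : R ≤ S) [Finite R]
    (hV : Nat.card (↥(dSub Q R) ⧸ frattini ↥(dSub Q R)) = p ^ 2)
    {u : Ω} (huQ : u ∈ Q) (huN : u ∈ Subgroup.normalizer (R : Set Ω)) (d : ↥(dSub Q R)) :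
    ∃ f ∈ frattini ↥(dSub Q R),
      (((d : R) : Ω) * u) ^ p = (((f : ↥(dSub Q R)) : R) : Ω) * u ^ p := by
  have hQS : Q ≤ S := hQ.1
  have hR : IsPGroup p R := hS.to_le hRS
  have hAD := aut_dSub F hQ hRS
  have hD'p : IsPGroup p (dSub Q R) := hR.to_subgroup (dSub Q R)
  letI : CommGroup (↥(dSub Q R) ⧸ frattini ↥(dSub Q R)) :=
    { (inferInstance : Group (↥(dSub Q R) ⧸ frattini ↥(dSub Q R))) with
      mul_comm := quot_comm hD'p }
  set c := cx F hQS hRS u huQ huN with hc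
  have hγD : ∀ d ∈ dSub Q R, (R.normalizerMonoidHom ⟨u, huN⟩) d ∈ dSub Q R := hAD c.1 c.2
  set β := restrictAut (dSub Q R) (R.normalizerMonoidHom ⟨u, huN⟩) hγD with hβ
  obtain ⟨k, hk⟩ := conj_pow_eq_one hS (hQS huQ) huN
  have hb : (autQuot (frattini ↥(dSub Q R)) β) ^ p ^ k = 1 := by
    have h1 : autQuot (frattini ↥(dSub Q R)) β = rho (F.autGroup R) (dSub Q R) hAD c := rfl
    rw [h1, ← map_pow]
    have : c ^ p ^ k = 1 := Subtype.ext (by rw [Subgroup.coe_pow]; exact hk)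
    rw [this, map_one]
  have hfix : ∀ v : ↥(dSub Q R) ⧸ frattini ↥(dSub Q R),
      autQuot (frattini ↥(dSub Q R)) β (v⁻¹ * autQuot (frattini ↥(dSub Q R)) β v) =
        v⁻¹ * autQuot (frattini ↥(dSub Q R)) β v := by
    intro v
    have h := delta_delta hV (autQuot (frattini ↥(dSub Q R)) β) hb v
    rw [delta_apply, delta_apply, inv_mul_eq_one] at h
    exact h.symm
  refine ⟨nrm β d p, nrm_mem (frattini ↥(dSub Q R)) β hp.out hp2 (quot_comm hD'p)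
    (quot_exp hD'p) hfix d, ?_⟩
  rw [mul_pow_eq_nrm R u huN (d : R) p, coe_nrm_restrictAut]

/-- the `p`-th power of an element of `Q` normalising `R` but outside `R` does not lie in the
Frattini subgroup of `Q ⊓ R` -/
theorem pow_not_mem_frattini [Finite S] {p : ℕ} [hp : Fact p.Prime] (hp2 : p ≠ 2)
    (hS : IsPGroup p S) (F : FusionSystem S) {Q R : Subgroup Ω} (hQ : F.StronglyClosed Q)
    (hm : Cfsg.IsMetacyclic ↥Q) (hRS : R ≤ S) [Finite R]
    (hV : Nat.card (↥(dSub Q R) ⧸ frattini ↥(dSub Q R)) = p ^ 2)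
    {x : Ω} (hxQ : x ∈ Q) (hxN : x ∈ Subgroup.normalizer (R : Set Ω)) (hxR : x ∉ R)
    (hxp : x ^ p ∈ R) :
    (⟨⟨x ^ p, hxp⟩, (mem_dSub _).mpr (Q.pow_mem hxQ p)⟩ : ↥(dSub Q R)) ∉
      frattini ↥(dSub Q R) := by
  intro hmem
  have hQS : Q ≤ S := hQ.1
  haveI : Finite Q := finite_of_le_finite hQS
  have hQp : IsPGroup p Q := hS.to_le hQS
  have hAD := aut_dSub F hQ hRS
  have hQn : ∀ g ∈ S, ∀ v ∈ Q, g⁻¹ * v * g ∈ Q :=
    fun g hg v hv => conj_mem_of_stronglyClosed' F hQ hg hv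
  set D : Subgroup Ω := Q ⊓ R with hD
  have hDQ : D ≤ Q := inf_le_left
  have hDR : D ≤ R := inf_le_right
  set ΦΩ : Subgroup Ω := ((frattini ↥(dSub Q R)).map (dSub Q R).subtype).map R.subtype with hΦ
  have hΦmem : ∀ f : ↥(dSub Q R), f ∈ frattini ↥(dSub Q R) → (((f : ↥(dSub Q R)) : R) : Ω) ∈ ΦΩ :=
    fun f hf => ⟨_, ⟨f, hf, rfl⟩, rfl⟩
  have hΦD : ΦΩ ≤ D := by
    rintro _ ⟨_, ⟨f, -, rfl⟩, rfl⟩
    exact ⟨(mem_dSub _).mp f.2, (f : R).2⟩
  have hΦconj : ∀ t ∈ Q, t ∈ Subgroup.normalizer (R : Set Ω) → ∀ f ∈ ΦΩ, t * f * t⁻¹ ∈ ΦΩ := by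
    rintro t htQ htN _ ⟨_, ⟨f0, hf0, rfl⟩, rfl⟩
    have hγD := hAD _ (cx F hQS hRS t htQ htN).2
    exact ⟨_, ⟨restrictAut (dSub Q R) (R.normalizerMonoidHom ⟨t, htN⟩) hγD f0,
      (frattini_apply_mem_iff _ _).mpr hf0, rfl⟩, rfl⟩
  set T1 : Subgroup Ω := Subgroup.zpowers x ⊔ D with hT1
  have hT1Q : T1 ≤ Q := sup_le (Subgroup.zpowers_le.mpr hxQ) hDQ
  have hT1N : T1 ≤ Subgroup.normalizer (R : Set Ω) :=
    sup_le (Subgroup.zpowers_le.mpr hxN) (hDR.trans Subgroup.le_normalizer)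
  have hDT1 : D ≤ T1 := le_sup_right
  have hxT1 : x ∈ T1 := (le_sup_left : Subgroup.zpowers x ≤ T1) (Subgroup.mem_zpowers x)
  haveI : Finite T1 := finite_of_le_finite (hT1Q.trans hQS)
  obtain ⟨MT⟩ := mcGen_of_le' hQp hm hT1Q
  have hnormx : ∀ u ∈ Subgroup.zpowers x, ∀ v ∈ D, u⁻¹ * v * u ∈ D := by
    intro u hu v hv
    have huS : u ∈ S := (Subgroup.zpowers_le.mpr (hQS hxQ)) hu
    have huN : u ∈ Subgroup.normalizer (R : Set Ω) := (Subgroup.zpowers_le.mpr hxN) hu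
    refine ⟨hQn u huS v hv.1, ?_⟩
    have := (Subgroup.mem_normalizer_iff.mp (Subgroup.inv_mem _ huN) v).mp hv.2
    simpa using this
  have hxpΦ : x ^ p ∈ ΦΩ := hΦmem _ hmem
  have hpowT1 : ∀ t ∈ T1, t ^ p ∈ ΦΩ := by
    intro t ht
    obtain ⟨u, hu, v, hv, rfl⟩ := exists_mul_of_mem_sup hnormx ht
    have huQ : u ∈ Q := (Subgroup.zpowers_le.mpr hxQ) hu
    have huN : u ∈ Subgroup.normalizer (R : Set Ω) := (Subgroup.zpowers_le.mpr hxN) hu
    have hd0R : u * v * u⁻¹ ∈ R := (Subgroup.mem_normalizer_iff.mp huN v).mp hv.2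
    have hd0Q : u * v * u⁻¹ ∈ Q := conj_mem_of_stronglyClosed F hQ (hQS huQ) hv.1
    obtain ⟨f, hf, hfe⟩ := pow_mul_mod hp2 hS F hQ hRS hV huQ huN
      ⟨⟨u * v * u⁻¹, hd0R⟩, (mem_dSub _).mpr hd0Q⟩
    have he : u * v = u * v * u⁻¹ * u := by group
    rw [he]
    have hfe' : (u * v * u⁻¹ * u) ^ p = (((f : ↥(dSub Q R)) : R) : Ω) * u ^ p := hfe
    rw [hfe']
    apply ΦΩ.mul_mem (hΦmem f hf)
    obtain ⟨j, rfl⟩ := Subgroup.mem_zpowers_iff.mp hu
    have : (x ^ j) ^ p = (x ^ p) ^ j := by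
      rw [← zpow_natCast, ← zpow_mul, mul_comm, zpow_mul, zpow_natCast]
    rw [this]
    exact ΦΩ.zpow_mem hxpΦ j
  set Φ1 : Subgroup ↥T1 := ΦΩ.subgroupOf T1 with hΦ1
  haveI hΦ1n : Φ1.Normal := by
    constructor
    intro n hn g
    rw [hΦ1, Subgroup.mem_subgroupOf] at hn ⊢
    exact hΦconj (g : Ω) (hT1Q g.2) (hT1N g.2) _ hn
  have hidx : Φ1.index ≤ p * p := by
    apply index_le_mul MT Φ1 p hp.out.pos
    · rw [hΦ1, Subgroup.mem_subgroupOf, Subgroup.coe_pow]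
      exact hpowT1 _ MT.a.2
    · rw [hΦ1, Subgroup.mem_subgroupOf, Subgroup.coe_pow]
      exact hpowT1 _ MT.b.2
  have h1 : Nat.card ↥Φ1 * Φ1.index = Nat.card ↥T1 := Subgroup.card_mul_index Φ1
  have hΦ1card : Nat.card ↥Φ1 = Nat.card ↥(frattini ↥(dSub Q R)) := by
    rw [hΦ1, Nat.card_congr (Subgroup.subgroupOfEquivOfLe (hΦD.trans hDT1)).toEquiv, hΦ,
      Subgroup.card_map_of_injective R.subtype_injective,
      Subgroup.card_map_of_injective (dSub Q R).subtype_injective]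
  have hD'card : Nat.card ↥(dSub Q R) = p ^ 2 * Nat.card ↥(frattini ↥(dSub Q R)) := by
    rw [Subgroup.card_eq_card_quotient_mul_card_subgroup (frattini ↥(dSub Q R)), hV]
  have hDcard : Nat.card ↥D = Nat.card ↥(dSub Q R) :=
    (Nat.card_congr (Subgroup.subgroupOfEquivOfLe hDR).toEquiv).symm
  set D1 : Subgroup ↥T1 := D.subgroupOf T1 with hD1
  have hD1card : Nat.card ↥D1 = Nat.card ↥D :=
    Nat.card_congr (Subgroup.subgroupOfEquivOfLe hDT1).toEquiv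
  have h2 : Nat.card ↥D1 * D1.index = Nat.card ↥T1 := Subgroup.card_mul_index D1
  have hD1idx : 2 ≤ D1.index := by
    have h0 : D1.index ≠ 0 := Subgroup.index_ne_zero_of_finite
    have h1' : D1.index ≠ 1 := by
      intro h
      rw [Subgroup.index_eq_one] at h
      have : (⟨x, hxT1⟩ : ↥T1) ∈ D1 := h ▸ Subgroup.mem_top _
      rw [hD1, Subgroup.mem_subgroupOf] at this
      exact hxR this.2
    omega
  haveI : Finite ↥D := finite_of_le_finite (hDQ.trans hQS)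
  have hpos : 0 < Nat.card ↥D := Nat.card_pos
  have h3 : Nat.card ↥T1 ≤ Nat.card ↥D := by
    rw [← h1, hΦ1card, hDcard, hD'card, pow_two, mul_comm]
    exact Nat.mul_le_mul_right _ hidx
  have h4 : 2 * Nat.card ↥D ≤ Nat.card ↥T1 := by
    rw [← h2, hD1card, mul_comm]
    exact Nat.mul_le_mul_left _ hD1idx
  omega


/-- an automorphism in `Aut_F(R)` commuting with the action of `c_x` on the Frattini quotient of
`Q ⊓ R` fixes the image of `x ^ p` -/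
theorem compat [Finite S] {p : ℕ} [hp : Fact p.Prime] (hp2 : p ≠ 2) (hS : IsPGroup p S)
    (F : FusionSystem S) {Q R : Subgroup Ω} (hQ : F.StronglyClosed Q) (hRc : F.IsCentric R)
    [Finite R] (hRr : F.IsRadical p R) (hRrec : F.IsReceptive R)
    (hV : Nat.card (↥(dSub Q R) ⧸ frattini ↥(dSub Q R)) = p ^ 2)
    {x : Ω} (hxQ : x ∈ Q) (hxN : x ∈ Subgroup.normalizer (R : Set Ω)) (hxp : x ^ p ∈ R)
    (α : ↥(F.autGroup R))
    (hz : rho (F.autGroup R) (dSub Q R) (aut_dSub F hQ hRc.1)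
        (α * cx F hQ.1 hRc.1 x hxQ hxN * α⁻¹) =
      rho (F.autGroup R) (dSub Q R) (aut_dSub F hQ hRc.1) (cx F hQ.1 hRc.1 x hxQ hxN)) :
    rho (F.autGroup R) (dSub Q R) (aut_dSub F hQ hRc.1) α
        (QuotientGroup.mk ⟨⟨x ^ p, hxp⟩, (mem_dSub _).mpr (Q.pow_mem hxQ p)⟩) =
      QuotientGroup.mk ⟨⟨x ^ p, hxp⟩, (mem_dSub _).mpr (Q.pow_mem hxQ p)⟩ := by
  have hRS : R ≤ S := hRc.1
  have hQS : Q ≤ S := hQ.1
  have hcen : centralizerIn S R ≤ R := hRc.2 R (isConj_refl F hRS)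
  have hAD := aut_dSub F hQ hRS
  set q := rho (F.autGroup R) (dSub Q R) hAD with hqdef
  set c := cx F hQS hRS x hxQ hxN with hc
  have hxS : x ∈ S := hQS hxQ
  -- the commutator `β`
  obtain ⟨β, hβ⟩ : ∃ β : ↥(F.autGroup R), β = α * c * α⁻¹ * c⁻¹ := ⟨_, rfl⟩
  have hqβ : q β = 1 := by
    rw [hβ, map_mul, hz, map_inv, mul_inv_cancel]
  set K1 := stabSub (F.autGroup R) (dSub Q R) (dSub Q R) hAD with hK1
  have hK1n : (K1.subgroupOf (F.autGroup R)).Normal := stabSub_normal _ _ _ hAD hAD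
  have hcK1 : c ∈ K1.subgroupOf (F.autGroup R) :=
    Subgroup.mem_subgroupOf.mpr (conj_mem_stab F hQ hRS hxQ hxN)
  have hβK1 : β ∈ K1.subgroupOf (F.autGroup R) := by
    rw [hβ]
    exact Subgroup.mul_mem _ (hK1n.conj_mem c hcK1 α) (Subgroup.inv_mem _ hcK1)
  have hβ1 : ∀ y, y⁻¹ * β.1 y ∈ dSub Q R := (Subgroup.mem_subgroupOf.mp hβK1).2.1
  have hβ2 := (rho_eq_one_iff (F.autGroup R) (dSub Q R) hAD β).mp hqβ
  obtain ⟨⟨r, hr⟩, -⟩ := stab_facts hS F hQ hRS hRr β.2 hβ1 hβ2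
  -- the key identity
  have hkey : ∀ y : R, ((α.1 (c.1 y) : R) : Ω) =
      ((r : Ω) * x) * ((α.1 y : R) : Ω) * ((r : Ω) * x)⁻¹ := by
    intro y
    have h1 : α * c = β * c * α := by rw [hβ]; group
    have h2 : (α * c).1 y = (β * c * α).1 y := by rw [h1]
    have h3 : α.1 (c.1 y) = β.1 (c.1 (α.1 y)) := h2
    rw [h3, ← hr]
    show (r : Ω) * (x * ((α.1 y : R) : Ω) * x⁻¹) * (r : Ω)⁻¹ = _
    group
  -- `x` lies in the extender of `α`
  set φ : ↥R →* Ω := R.subtype.comp α.1.toMonoidHom with hφdef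
  have hφapp : ∀ y : R, φ y = ((α.1 y : R) : Ω) := fun y => rfl
  have hxext : x ∈ extender S R φ := by
    rw [mem_extender_iff]
    refine ⟨hxS, hxN, (r : Ω) * x, S.mul_mem (hRS r.2) hxS, fun y hy => ?_⟩
    rw [hφapp, hφapp]
    exact hkey y
  have hφ : φ ∈ F.Hom R := (mem_autGroup_iff F hRS α.1).mp α.2
  have hrange : φ.range = R := by
    ext z
    constructor
    · rintro ⟨y, rfl⟩
      exact (α.1 y).2
    · intro hzR
      refine ⟨α.1.symm ⟨z, hzR⟩, ?_⟩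
      rw [hφapp]
      simp
  obtain ⟨ψ, hψ, hψext⟩ := hRrec.2 R φ hφ hrange
  have hRN : R ≤ extender S R φ := le_extender F hφ
  obtain ⟨ψx, hψx⟩ : ∃ ψx : Ω, ψx = ψ ⟨x, hxext⟩ := ⟨_, rfl⟩
  have hψxQ : ψx ∈ Q := by
    have h1 := restrict_mem F (inf_le_right : Q ⊓ extender S R φ ≤ extender S R φ) hψ
    have h2 := hQ.2 (Q ⊓ extender S R φ) inf_le_left _ h1 ⟨x, hxQ, hxext⟩
    rw [hψx]
    exact h2
  have hψy : ∀ y : R, ψ ⟨y, hRN y.2⟩ = ((α.1 y : R) : Ω) := fun y => hψext y y.2 (hRN y.2)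
  have hconj : ∀ y : R, ψx * ((α.1 y : R) : Ω) * ψx⁻¹ =
      ((r : Ω) * x) * ((α.1 y : R) : Ω) * ((r : Ω) * x)⁻¹ := by
    intro y
    have h1 : (⟨x, hxext⟩ : ↥(extender S R φ)) * ⟨y, hRN y.2⟩ * (⟨x, hxext⟩)⁻¹ =
        ⟨((c.1 y : R) : Ω), hRN (c.1 y).2⟩ := Subtype.ext rfl
    have h2 := congrArg ψ h1
    rw [map_mul, map_mul, map_inv, hψy, hψy, ← hψx, hkey] at h2
    exact h2
  have hcz : ((r : Ω) * x)⁻¹ * ψx ∈ centralizerIn S R := by
    rw [mem_centralizerIn]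
    refine ⟨S.mul_mem (S.inv_mem (S.mul_mem (hRS r.2) hxS)) (hQS hψxQ), fun z hzR => ?_⟩
    have h1 := hconj (α.1.symm ⟨z, hzR⟩)
    have h2 : ((α.1 (α.1.symm ⟨z, hzR⟩) : R) : Ω) = z := by simp
    rw [h2] at h1
    calc z * (((r : Ω) * x)⁻¹ * ψx)
        = ((r : Ω) * x)⁻¹ * (((r : Ω) * x) * z * ((r : Ω) * x)⁻¹) * ψx := by group
      _ = ((r : Ω) * x)⁻¹ * (ψx * z * ψx⁻¹) * ψx := by rw [h1]
      _ = ((r : Ω) * x)⁻¹ * ψx * z := by group
  have hgR : ((r : Ω) * x)⁻¹ * ψx ∈ R := hcen hcz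
  have hd1R : ψx * x⁻¹ ∈ R := by
    have h1 : x * (((r : Ω) * x)⁻¹ * ψx) * x⁻¹ ∈ R :=
      (Subgroup.mem_normalizer_iff.mp hxN _).mp hgR
    have h2 : ψx * x⁻¹ = (r : Ω) * (x * (((r : Ω) * x)⁻¹ * ψx) * x⁻¹) := by group
    rw [h2]
    exact R.mul_mem r.2 h1
  have hd1Q : ψx * x⁻¹ ∈ Q := Q.mul_mem hψxQ (Q.inv_mem hxQ)
  obtain ⟨f, hf, hfe⟩ := pow_mul_mod hp2 hS F hQ hRS hV hxQ hxN
    ⟨⟨ψx * x⁻¹, hd1R⟩, (mem_dSub _).mpr hd1Q⟩
  have hfe' : ψx ^ p = (((f : ↥(dSub Q R)) : R) : Ω) * x ^ p := by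
    have : (ψx * x⁻¹ * x) ^ p = (((f : ↥(dSub Q R)) : R) : Ω) * x ^ p := hfe
    rwa [inv_mul_cancel_right] at this
  have hψp : ψx ^ p = ((α.1 ⟨x ^ p, hxp⟩ : R) : Ω) := by
    have h1 : (⟨x, hxext⟩ : ↥(extender S R φ)) ^ p = ⟨x ^ p, hRN hxp⟩ := Subtype.ext rfl
    have h2 := congrArg ψ h1
    rw [map_pow, ← hψx] at h2
    rw [h2]
    exact hψext (x ^ p) hxp (hRN hxp)
  rw [rho_mk]
  have hfin : (⟨α.1 ⟨x ^ p, hxp⟩, hAD α.1 α.2 _ ((mem_dSub _).mpr (Q.pow_mem hxQ p))⟩ :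
      ↥(dSub Q R)) = f * ⟨⟨x ^ p, hxp⟩, (mem_dSub _).mpr (Q.pow_mem hxQ p)⟩ := by
    apply Subtype.ext
    apply Subtype.ext
    show ((α.1 ⟨x ^ p, hxp⟩ : R) : Ω) = (((f : ↥(dSub Q R)) : R) : Ω) * x ^ p
    rw [← hψp, hfe']
  rw [hfin, QuotientGroup.mk_mul, (QuotientGroup.eq_one_iff f).mpr hf, one_mul]


/-- a power of `x₀` lies outside `R` with its `p`-th power inside -/
theorem exists_pow_mem (p : ℕ) (R : Subgroup Ω) (x0 : Ω) (hx0 : x0 ∉ R)
    (hfin : ∃ n : ℕ, x0 ^ p ^ n = 1) :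
    ∃ k : ℕ, x0 ^ p ^ k ∉ R ∧ (x0 ^ p ^ k) ^ p ∈ R := by
  classical
  have hex : ∃ n : ℕ, x0 ^ p ^ n ∈ R := by
    obtain ⟨n, hn⟩ := hfin
    exact ⟨n, hn ▸ R.one_mem⟩
  have h0 : Nat.find hex ≠ 0 := by
    intro h
    have := Nat.find_spec hex
    rw [h, pow_zero, pow_one] at this
    exact hx0 this
  refine ⟨Nat.find hex - 1, Nat.find_min hex (by omega), ?_⟩
  have := Nat.find_spec hex
  rw [← pow_mul, ← pow_succ]
  have h1 : Nat.find hex - 1 + 1 = Nat.find hex := by omega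
  rw [h1]
  exact this

/-- the key step: for an odd prime, a strongly closed metacyclic subgroup lies in every essential
subgroup -/
theorem le_of_essential [Finite S] {p : ℕ} [hp : Fact p.Prime] (hp2 : p ≠ 2) (hS : IsPGroup p S)
    (F : FusionSystem S) (hF : F.IsSaturated p) {Q R : Subgroup Ω} (hQ : F.StronglyClosed Q)
    (hm : Cfsg.IsMetacyclic ↥Q) (hRe : F.IsEssential p R) : Q ≤ R := by
  by_contra hQR
  have hRr : F.IsRadical p R := Cfsg.Agent.S5080.result p hS F hF R hRe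
  obtain ⟨hRc, hRfn, -⟩ := hRe
  have hRrec : F.IsReceptive R := (of_fullyNormalized p hS F hF hRfn).2.2
  have hRS : R ≤ S := hRc.1
  have hQS : Q ≤ S := hQ.1
  haveI : Finite R := finite_of_le_finite hRS
  haveI : Finite Q := finite_of_le_finite hQS
  have hQp : IsPGroup p Q := hS.to_le hQS
  have hRp : IsPGroup p R := hS.to_le hRS
  have hcen : centralizerIn S R ≤ R := hRc.2 R (isConj_refl F hRS)
  have hQn : ∀ g ∈ S, ∀ v ∈ Q, g⁻¹ * v * g ∈ Q :=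
    fun g hg v hv => conj_mem_of_stronglyClosed' F hQ hg hv
  obtain ⟨x0, hx0Q, hx0N, hx0R⟩ :=
    exists_mem_normalizer_not_mem_of_not_le hS hRS hQS hQn hQR
  obtain ⟨k, hx1R, hx1p⟩ := exists_pow_mem p R x0 hx0R (by
    obtain ⟨n, hn⟩ := hS ⟨x0, hQS hx0Q⟩
    exact ⟨n, by simpa using congrArg Subtype.val hn⟩)
  obtain ⟨x1, hx1⟩ : ∃ x1 : Ω, x1 = x0 ^ p ^ k := ⟨_, rfl⟩
  rw [← hx1] at hx1R hx1p
  have hx1Q : x1 ∈ Q := hx1 ▸ Q.pow_mem hx0Q _
  have hx1N : x1 ∈ Subgroup.normalizer (R : Set Ω) := hx1 ▸ Subgroup.pow_mem _ hx0N _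
  have hAD := aut_dSub F hQ hRS
  have hD'p : IsPGroup p (dSub Q R) := hRp.to_subgroup (dSub Q R)
  letI : CommGroup (↥(dSub Q R) ⧸ frattini ↥(dSub Q R)) :=
    { (inferInstance : Group (↥(dSub Q R) ⧸ frattini ↥(dSub Q R))) with
      mul_comm := quot_comm hD'p }
  set q := rho (F.autGroup R) (dSub Q R) hAD with hqdef
  set c := cx F hQS hRS x1 hx1Q hx1N with hc
  have hqc : q c ≠ 1 := by
    intro h
    have h2 := (rho_eq_one_iff _ _ hAD c).mp h
    obtain ⟨hinn, -⟩ := stab_facts hS F hQ hRS hRr c.2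
      (conj_mem_stab F hQ hRS hx1Q hx1N).2.1 h2
    exact hx1R (mem_of_induces_inner hRS hcen hinn (hQS hx1Q) (fun y => rfl))
  obtain ⟨j, hj⟩ := conj_pow_eq_one hS (hQS hx1Q) hx1N
  have hb : (q c) ^ p ^ j = 1 := by
    rw [← map_pow]
    have : c ^ p ^ j = 1 := Subtype.ext (by rw [Subgroup.coe_pow]; exact hj)
    rw [this, map_one]
  -- the Frattini quotient has order `p ^ 2`
  obtain ⟨MD⟩ := mcGen_of_le' hQp hm (inf_le_left : Q ⊓ R ≤ Q)
  have MD' : MCGen ↥(dSub Q R) :=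
    mcGenOfEquiv (Subgroup.subgroupOfEquivOfLe (inf_le_right : Q ⊓ R ≤ R)).symm MD
  have hVle : Nat.card (↥(dSub Q R) ⧸ frattini ↥(dSub Q R)) ≤ p ^ 2 := card_quot_le hD'p MD'
  have hp1 := hp.out.one_lt
  have hV : Nat.card (↥(dSub Q R) ⧸ frattini ↥(dSub Q R)) = p ^ 2 := by
    obtain ⟨n, hn⟩ := hD'p.index (frattini ↥(dSub Q R))
    have hcard : Nat.card (↥(dSub Q R) ⧸ frattini ↥(dSub Q R)) = p ^ n := by
      rw [← Subgroup.index_eq_card, hn]
    rw [hcard] at hVle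
    have hn2 : n ≤ 2 := (Nat.pow_le_pow_iff_right hp1).mp hVle
    by_contra hne
    apply hqc
    ext v
    rw [MulAut.one_apply]
    interval_cases n
    · rw [pow_zero] at hcard
      haveI : Subsingleton (↥(dSub Q R) ⧸ frattini ↥(dSub Q R)) :=
        (Nat.card_eq_one_iff_unique.mp hcard).1
      exact Subsingleton.elim _ _
    · rw [pow_one] at hcard
      have := fixed_of_card_prime (q c) hb ⊤ (fun _ _ => Subgroup.mem_top _)
        (by rw [Subgroup.card_top, hcard])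
      exact this (Subgroup.mem_top v)
    · exact absurd hcard hne
  -- the vector `e`
  obtain ⟨e, he⟩ : ∃ e : ↥(dSub Q R) ⧸ frattini ↥(dSub Q R),
      e = QuotientGroup.mk ⟨⟨x1 ^ p, hx1p⟩, (mem_dSub _).mpr (Q.pow_mem hx1Q p)⟩ := ⟨_, rfl⟩
  have he1 : e ≠ 1 := by
    intro h
    rw [he] at h
    exact pow_not_mem_frattini hp2 hS F hQ hm hRS hV hx1Q hx1N hx1R hx1p
      ((QuotientGroup.eq_one_iff _).mp h)
  have hep : e ^ p = 1 := quot_exp hD'p e
  have hce : q c e = e := by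
    rw [he, rho_mk]
    congr 1
    apply Subtype.ext
    apply Subtype.ext
    show x1 * x1 ^ p * x1⁻¹ = x1 ^ p
    rw [← pow_succ', pow_succ, mul_inv_cancel_right]
  have hLcard : Nat.card (Subgroup.zpowers e) = p := by
    rw [Nat.card_zpowers]; exact orderOf_eq_prime hep he1
  have hLinv : ∀ l ∈ Subgroup.zpowers e, q c l ∈ Subgroup.zpowers e := by
    rintro l ⟨i, rfl⟩
    refine ⟨i, ?_⟩
    show e ^ i = q c (e ^ i)
    rw [map_zpow, hce]
  obtain ⟨-, htr0⟩ := delta_mem_of_invariant hV (q c) hb (Subgroup.zpowers e) hLcard hLinv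
  have htr : ∀ w, q c w / w ∈ Subgroup.zpowers e := by
    intro w
    have := htr0 w
    rw [delta_apply] at this
    rwa [div_eq_mul_inv, mul_comm]
  refine no_transvection hp2 hV (quot_exp hD'p) q.range ?_ (q c) ⟨c, rfl⟩ e hqc htr ?_
  · intro L hL hinv
    exact no_invariant_line hS F hQ hRc hRr hV hx1Q hx1N hx1R L hL
      (fun α l hl => hinv (q α) ⟨α, rfl⟩ l hl)
  · rintro _ ⟨α, rfl⟩ hz
    rw [he]
    refine compat hp2 hS F hQ hRc hRr hRrec hV hx1Q hx1N hx1p α ?_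
    rw [map_mul, map_mul, map_inv]
    exact hz

/-- for an odd prime, a strongly closed metacyclic subgroup is normal in a saturated fusion
system -/
theorem isNormal_of_metacyclic [Finite S] {p : ℕ} [hp : Fact p.Prime] (hp2 : p ≠ 2)
    (hS : IsPGroup p S) (F : FusionSystem S) (hF : F.IsSaturated p) {Q : Subgroup Ω}
    (hQ : F.StronglyClosed Q) (hm : Cfsg.IsMetacyclic ↥Q) : F.IsNormal Q := by
  apply isNormal_of_forall_essential p hS F hF Q
  intro R hR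
  have hle : Q ≤ R := by
    rcases hR with rfl | hRe
    · exact hQ.1
    · exact le_of_essential hp2 hS F hF hQ hm hRe
  have hRS : R ≤ S := by
    rcases hR with rfl | hRe
    · exact le_rfl
    · exact le_of_isEssential F hRe
  exact ⟨hle, fun α hα => map_aut_eq_of_stronglyClosed F hQ hRS hle hα⟩

end Fusion

end Cfsg.Agent.Helper21.MetaFusionOdd
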