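import Mathlib
import Cfsg.Prelude.Def_FusionSystem
import Cfsg.Agent.Lib.Helper21.MetaFusionOdd
import Cfsg.Agent.Lib.Helper21.GenExtra1
import Cfsg.Agent.Lib.Helper21.GenExtraWeyl
import Cfsg.Agent.Lib.Helper21.BaerSuzuki
import Cfsg.Agent.Lib.Helper25.FusionProduct

set_option autoImplicit false

/-! Strongly closed generalized extraspecial subgroups of saturated fusion systems. -/

namespace Cfsg.Agent.Helper21.GenExtraFusion

open Cfsg Cfsg.FusionSystem Cfsg.Agent.Helper25 Cfsg.Agent.Helper21 Cfsg.Agent.Helper21.MetaAut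
  Cfsg.Agent.Helper21.MetaFusion Cfsg.Agent.Helper21.MetaOdd Cfsg.Agent.Helper21.MetaFusionOdd
  Cfsg.Agent.Helper21.GenExtra

open scoped commutatorElement

section Stab3

variable {R : Type*} [Group R] [Finite R] {p : ℕ} [hp : Fact p.Prime]

/-- an automorphism of order prime to `p` stabilising a chain `R ≥ D ≥ N ≥ 1` is trivial -/
theorem stab3_eq_one (hR : IsPGroup p R) (D N : Subgroup R) (α : MulAut R)
    (hcop : (orderOf α).Coprime p) (h1 : ∀ y, y⁻¹ * α y ∈ D) (h2 : ∀ d ∈ D, d⁻¹ * α d ∈ N)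
    (h3 : ∀ n ∈ N, α n = n) : α = 1 := by
  have hfix : ∀ d ∈ D, α d = d := by
    intro d hd
    obtain ⟨k, hk⟩ := hR (d⁻¹ * α d)
    have hc1 : d⁻¹ * α d = 1 :=
      eq_one_of_coprime_aut_stab α (orderOf α) (pow_orderOf_eq_one α) hcop
        d (d⁻¹ * α d) (h3 _ (h2 d hd)) k hk (by group)
    have : α d = d * (d⁻¹ * α d) := by group
    rw [this, hc1, mul_one]
  ext y
  obtain ⟨k, hk⟩ := hR (y⁻¹ * α y)
  have hc1 : y⁻¹ * α y = 1 :=
    eq_one_of_coprime_aut_stab α (orderOf α) (pow_orderOf_eq_one α) hcop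
      y (y⁻¹ * α y) (hfix _ (h1 y)) k hk (by group)
  rw [MulAut.one_apply]
  have : α y = y * (y⁻¹ * α y) := by group
  rw [this, hc1, mul_one]

/-- a group of automorphisms stabilising a chain `R ≥ D ≥ N ≥ 1` is a `p`-group -/
theorem isPGroup_of_stab3 (hR : IsPGroup p R) (D N : Subgroup R) (K : Subgroup (MulAut R))
    (h1 : ∀ α ∈ K, ∀ y, y⁻¹ * α y ∈ D) (h2 : ∀ α ∈ K, ∀ d ∈ D, d⁻¹ * α d ∈ N)
    (h3 : ∀ α ∈ K, ∀ n ∈ N, α n = n) : IsPGroup p K := by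
  rintro ⟨a, ha⟩
  have ho0 : orderOf a ≠ 0 := (orderOf_pos a).ne'
  obtain ⟨k, m, hm, hkm⟩ := Nat.exists_eq_pow_mul_and_not_dvd ho0 p hp.out.ne_one
  refine ⟨k, ?_⟩
  apply Subtype.ext
  show a ^ p ^ k = 1
  have hb : (a ^ p ^ k) ^ m = 1 := by
    rw [← pow_mul, ← hkm]; exact pow_orderOf_eq_one a
  have hcop : (orderOf (a ^ p ^ k)).Coprime p := by
    have hdvd : orderOf (a ^ p ^ k) ∣ m := orderOf_dvd_of_pow_eq_one hb
    exact Nat.Coprime.coprime_dvd_left hdvd ((Nat.Prime.coprime_iff_not_dvd hp.out).mpr hm).symm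
  have hmem : a ^ p ^ k ∈ K := K.pow_mem ha _
  exact stab3_eq_one hR D N (a ^ p ^ k) hcop (h1 _ hmem) (h2 _ hmem) (h3 _ hmem)

/-- the automorphisms fixing a subgroup pointwise -/
def fixSub (N : Subgroup R) : Subgroup (MulAut R) where
  carrier := {α | ∀ n ∈ N, α n = n}
  one_mem' := fun _ _ => rfl
  mul_mem' := by
    intro α β hα hβ n hn
    rw [MulAut.mul_apply, hβ n hn, hα n hn]
  inv_mem' := by
    intro α hα n hn
    have := hα n hn
    rw [MulAut.inv_apply, MulEquiv.symm_apply_eq]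
    exact this.symm

theorem stab3_normal (A : Subgroup (MulAut R)) (D N : Subgroup R)
    (hD : ∀ α ∈ A, ∀ d ∈ D, α d ∈ D) (hN : ∀ α ∈ A, ∀ n ∈ N, α n ∈ N) :
    ((stabSub A D N hD ⊓ fixSub N).subgroupOf A).Normal := by
  have h1 := stabSub_normal A D N hD hN
  constructor
  rintro ⟨α, hαA⟩ hα ⟨β, hβA⟩
  rw [Subgroup.mem_subgroupOf] at hα ⊢
  obtain ⟨hα1, hα2⟩ := hα
  refine ⟨?_, ?_⟩
  · have := h1.conj_mem ⟨α, hαA⟩ (Subgroup.mem_subgroupOf.mpr hα1) ⟨β, hβA⟩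
    exact Subgroup.mem_subgroupOf.mp this
  · intro n hn
    show (β * α * β⁻¹) n = n
    rw [MulAut.mul_apply, MulAut.mul_apply, hα2 _ (hN β⁻¹ (A.inv_mem hβA) n hn),
      MulAut.inv_apply, MulEquiv.apply_symm_apply]

end Stab3

section ZSub

variable {Ω : Type*} [Group Ω]

/-- the derived subgroup of `Q`, inside the ambient group -/
def zSub (Q : Subgroup Ω) : Subgroup Ω := (commutator ↥Q).map Q.subtype

theorem zSub_le (Q : Subgroup Ω) : zSub Q ≤ Q := by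
  rintro _ ⟨c, -, rfl⟩
  exact c.2

theorem comm_mem_zSub {Q : Subgroup Ω} {u v : Ω} (hu : u ∈ Q) (hv : v ∈ Q) :
    u * v * u⁻¹ * v⁻¹ ∈ zSub Q := by
  refine ⟨⁅(⟨u, hu⟩ : ↥Q), ⟨v, hv⟩⁆, ?_, rfl⟩
  rw [commutator_def]
  exact Subgroup.commutator_mem_commutator (Subgroup.mem_top _) (Subgroup.mem_top _)

theorem pow_mem_zSub {p : ℕ} [Fact p.Prime] {Q : Subgroup Ω} [Finite Q] (hQp : IsPGroup p Q)
    (hΦ : frattini ↥Q = commutator ↥Q) {u : Ω} (hu : u ∈ Q) : u ^ p ∈ zSub Q := by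
  refine ⟨(⟨u, hu⟩ : ↥Q) ^ p, ?_, rfl⟩
  rw [← hΦ]
  exact Cfsg.Agent.Helper22.pow_prime_mem_frattini hQp _

theorem card_zSub {p : ℕ} {Q : Subgroup Ω} (hZ : Nat.card ↥(commutator ↥Q) = p) :
    Nat.card ↥(zSub Q) = p := by
  rw [zSub, Subgroup.card_map_of_injective (Subgroup.subtype_injective _), hZ]

theorem zSub_conj {Q : Subgroup Ω} {s : Ω} (hs : s ∈ Subgroup.normalizer (Q : Set Ω)) :
    ∀ z ∈ zSub Q, s * z * s⁻¹ ∈ zSub Q := by
  rintro _ ⟨c, hc, rfl⟩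
  have h1 := Subgroup.characteristic_iff_map_le.mp
    (inferInstance : (commutator ↥Q).Characteristic) (Q.normalizerMonoidHom ⟨s, hs⟩)
  exact ⟨Q.normalizerMonoidHom ⟨s, hs⟩ c, h1 ⟨c, hc, rfl⟩, rfl⟩

/-- elements of a subgroup of prime order are powers of any nontrivial element -/
theorem exists_zpow_of_card_prime {p : ℕ} [Fact p.Prime] {Z : Subgroup Ω}
    (hZ : Nat.card ↥Z = p) {w z : Ω} (hw : w ∈ Z) (hw1 : w ≠ 1) (hz : z ∈ Z) :
    ∃ i : ℤ, w ^ i = z := by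
  have h1 : (⟨z, hz⟩ : ↥Z) ∈ Subgroup.zpowers (⟨w, hw⟩ : ↥Z) :=
    mem_zpowers_of_prime_card hZ (fun h => hw1 (congrArg Subtype.val h))
  obtain ⟨i, hi⟩ := Subgroup.mem_zpowers_iff.mp h1
  refine ⟨i, ?_⟩
  have := congrArg Subtype.val hi
  simpa using this

end ZSub

section Fusion

variable {Ω : Type*} [Group Ω] {S : Subgroup Ω}

theorem mem_normalizer_of_stronglyClosed (F : FusionSystem S) {Q : Subgroup Ω}
    (hQ : F.StronglyClosed Q) {s : Ω} (hs : s ∈ S) : s ∈ Subgroup.normalizer (Q : Set Ω) := by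
  rw [Subgroup.mem_normalizer_iff]
  intro v
  constructor
  · intro hv; exact conj_mem_of_stronglyClosed F hQ hs hv
  · intro hv
    have := conj_mem_of_stronglyClosed' F hQ hs hv
    have h2 : s⁻¹ * (s * v * s⁻¹) * s = v := by group
    rwa [h2] at this

/-- the derived subgroup of a strongly closed subgroup, when of order `p`, is central in `S` -/
theorem zSub_central [Finite S] {p : ℕ} [Fact p.Prime] (hS : IsPGroup p S) (F : FusionSystem S)
    {Q : Subgroup Ω} (hQ : F.StronglyClosed Q) (hZ : Nat.card ↥(commutator ↥Q) = p) :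
    ∀ z ∈ zSub Q, ∀ s ∈ S, s * z = z * s := by
  have hZS : zSub Q ≤ S := (zSub_le Q).trans hQ.1
  haveI hN : ((zSub Q).subgroupOf S).Normal := by
    constructor
    rintro ⟨n, hnS⟩ hn ⟨g, hgS⟩
    rw [Subgroup.mem_subgroupOf] at hn ⊢
    exact zSub_conj (mem_normalizer_of_stronglyClosed F hQ hgS) n hn
  have hcard : Nat.card ↥((zSub Q).subgroupOf S) = p := by
    rw [Nat.card_congr (Subgroup.subgroupOfEquivOfLe hZS).toEquiv, card_zSub hZ]
  have hcen := Cfsg.Agent.Helper19.normal_card_prime_le_center hS _ hcard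
  intro z hz s hs
  have h1 : (⟨z, hZS hz⟩ : ↥S) ∈ Subgroup.center ↥S := hcen (Subgroup.mem_subgroupOf.mpr hz)
  have h2 := Subgroup.mem_center_iff.mp h1 ⟨s, hs⟩
  exact congrArg Subtype.val h2

theorem zSub_le_of_centric [Finite S] {p : ℕ} [Fact p.Prime] (hS : IsPGroup p S)
    (F : FusionSystem S) {Q R : Subgroup Ω} (hQ : F.StronglyClosed Q)
    (hZ : Nat.card ↥(commutator ↥Q) = p) (hRc : F.IsCentric R) : zSub Q ≤ R := by
  intro z hz
  apply hRc.2 R (isConj_refl F hRc.1)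
  rw [mem_centralizerIn]
  exact ⟨hQ.1 (zSub_le Q hz), fun x hx => zSub_central hS F hQ hZ z hz x (hRc.1 hx)⟩

/-- if an element `z1` of `Q` outside the derived subgroup is conjugate in the system into the
derived subgroup, then the centralizer of `z1` in `Q` is elementary abelian -/
theorem centralizer_elementary [Finite S] {p : ℕ} [hp : Fact p.Prime] (hS : IsPGroup p S)
    (F : FusionSystem S) (hF : F.IsSaturated p) {Q : Subgroup Ω} (hQ : F.StronglyClosed Q)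
    (hΦ : frattini ↥Q = commutator ↥Q) (hZ : Nat.card ↥(commutator ↥Q) = p)
    {z0 z1 : Ω} (hz0 : z0 ∈ zSub Q) (hz01 : z0 ≠ 1) (hz1Z : z1 ∉ zSub Q)
    (φ : ↥(Subgroup.zpowers z1) →* Ω) (hφ : φ ∈ F.Hom (Subgroup.zpowers z1))
    (hφz : φ ⟨z1, Subgroup.mem_zpowers z1⟩ = z0) :
    (∀ u ∈ Q, ∀ v ∈ Q, u * z1 = z1 * u → v * z1 = z1 * v → u * v = v * u) ∧
    (∀ u ∈ Q, u * z1 = z1 * u → u ^ p = 1) := by
  classical
  have hQS := hQ.1
  haveI : Finite Q := finite_of_le_finite hQS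
  have hQp : IsPGroup p Q := hS.to_le hQS
  have hZS : zSub Q ≤ S := (zSub_le Q).trans hQS
  have hcardZ := card_zSub hZ
  have hcentral := zSub_central hS F hQ hZ
  have hφpow : ∀ i : ℤ, φ ⟨z1 ^ i, Subgroup.zpow_mem_zpowers z1 i⟩ = z0 ^ i := by
    intro i
    have : (⟨z1 ^ i, Subgroup.zpow_mem_zpowers z1 i⟩ : ↥(Subgroup.zpowers z1)) =
        (⟨z1, Subgroup.mem_zpowers z1⟩ : ↥(Subgroup.zpowers z1)) ^ i := Subtype.ext (by simp)
    rw [this, map_zpow, hφz]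
  have hrange : φ.range = zSub Q := by
    ext y
    constructor
    · rintro ⟨x, rfl⟩
      obtain ⟨i, hi⟩ := Subgroup.mem_zpowers_iff.mp x.2
      have hx : x = ⟨z1 ^ i, Subgroup.zpow_mem_zpowers z1 i⟩ := Subtype.ext hi.symm
      rw [hx, hφpow]
      exact Subgroup.zpow_mem _ hz0 i
    · intro hy
      obtain ⟨i, hi⟩ := exists_zpow_of_card_prime hcardZ hz0 hz01 hy
      exact ⟨⟨z1 ^ i, Subgroup.zpow_mem_zpowers z1 i⟩, by rw [hφpow, hi]⟩
  have hcenZ : centralizerIn S (zSub Q) = S := by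
    apply le_antisymm inf_le_left
    intro s hs
    exact mem_centralizerIn.mpr ⟨hs, fun z hz => (hcentral z hz s hs).symm⟩
  have hfc : F.IsFullyCentralized (zSub Q) := by
    refine ⟨hZS, fun Q' _ => ?_⟩
    rw [hcenZ]
    exact Subgroup.card_le_of_le inf_le_left
  have hrec := isReceptive_of_fullyCentralized p hS F hF hfc
  obtain ⟨θ, hθ, hθext⟩ := exists_ext_of_receptive F hrec hφ hrange
    (le_refl (centralizerIn S (Subgroup.zpowers z1)))
  have hinj := F.injective_of_mem hθ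
  have hmem : ∀ u ∈ Q, u * z1 = z1 * u →
      u ∈ Subgroup.zpowers z1 ⊔ centralizerIn S (Subgroup.zpowers z1) := by
    intro u hu huz
    apply Subgroup.mem_sup_right
    rw [mem_centralizerIn]
    refine ⟨hQS hu, ?_⟩
    intro x hx
    obtain ⟨i, rfl⟩ := Subgroup.mem_zpowers_iff.mp hx
    exact (Commute.zpow_left (show Commute z1 u from huz.symm) i).eq
  have hθQ : ∀ (u : Ω) (_ : u ∈ Q)
      (hud : u ∈ Subgroup.zpowers z1 ⊔ centralizerIn S (Subgroup.zpowers z1)),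
      θ ⟨u, hud⟩ ∈ Q := by
    intro u hu hud
    have h1 := restrict_mem F (inf_le_right :
      Q ⊓ (Subgroup.zpowers z1 ⊔ centralizerIn S (Subgroup.zpowers z1)) ≤ _) hθ
    exact hQ.2 _ inf_le_left _ h1 ⟨u, hu, hud⟩
  have hz1d : z1 ∈ Subgroup.zpowers z1 ⊔ centralizerIn S (Subgroup.zpowers z1) :=
    Subgroup.mem_sup_left (Subgroup.mem_zpowers z1)
  have hθz1 : θ ⟨z1, hz1d⟩ = z0 := by
    rw [← hφz, ← hθext]
    rfl
  have hkey : ∀ (w : Ω) (_ : w ∈ zSub Q)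
      (hwd : w ∈ Subgroup.zpowers z1 ⊔ centralizerIn S (Subgroup.zpowers z1)),
      w ≠ 1 → θ ⟨w, hwd⟩ ∈ zSub Q → False := by
    intro w hw hwd hw1 hθw
    have hθw1 : θ ⟨w, hwd⟩ ≠ 1 := by
      intro h
      apply hw1
      have h2 : (⟨w, hwd⟩ : ↥(Subgroup.zpowers z1 ⊔ centralizerIn S (Subgroup.zpowers z1))) = 1 :=
        hinj (by rw [h, map_one])
      exact congrArg Subtype.val h2
    obtain ⟨i, hi⟩ := exists_zpow_of_card_prime hcardZ hθw hθw1 hz0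
    have h1 : θ ((⟨w, hwd⟩ : ↥(Subgroup.zpowers z1 ⊔ centralizerIn S (Subgroup.zpowers z1))) ^ i) =
        θ ⟨z1, hz1d⟩ := by rw [map_zpow, hi, hθz1]
    have h2 := hinj h1
    apply hz1Z
    have h3 : w ^ i = z1 := by simpa using congrArg Subtype.val h2
    rw [← h3]
    exact Subgroup.zpow_mem _ hw i
  constructor
  · intro u hu v hv huz hvz
    have hud := hmem u hu huz
    have hvd := hmem v hv hvz
    by_contra hne
    have hw1 : u * v * u⁻¹ * v⁻¹ ≠ 1 := by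
      intro h
      apply hne
      have : u * v = (u * v * u⁻¹ * v⁻¹) * (v * u) := by group
      rw [this, h, one_mul]
    have hwd : u * v * u⁻¹ * v⁻¹ ∈
        Subgroup.zpowers z1 ⊔ centralizerIn S (Subgroup.zpowers z1) :=
      Subgroup.mul_mem _ (Subgroup.mul_mem _ (Subgroup.mul_mem _ hud hvd)
        (Subgroup.inv_mem _ hud)) (Subgroup.inv_mem _ hvd)
    apply hkey _ (comm_mem_zSub hu hv) hwd hw1
    have h1 : (⟨u * v * u⁻¹ * v⁻¹, hwd⟩ :
        ↥(Subgroup.zpowers z1 ⊔ centralizerIn S (Subgroup.zpowers z1))) =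
        ⟨u, hud⟩ * ⟨v, hvd⟩ * ⟨u, hud⟩⁻¹ * ⟨v, hvd⟩⁻¹ := Subtype.ext rfl
    rw [h1, map_mul, map_mul, map_mul, map_inv, map_inv]
    exact comm_mem_zSub (hθQ u hu hud) (hθQ v hv hvd)
  · intro u hu huz
    have hud := hmem u hu huz
    by_contra hne
    have hwd : u ^ p ∈ Subgroup.zpowers z1 ⊔ centralizerIn S (Subgroup.zpowers z1) :=
      Subgroup.pow_mem _ hud p
    apply hkey _ (pow_mem_zSub hQp hΦ hu) hwd hne
    have h1 : (⟨u ^ p, hwd⟩ :
        ↥(Subgroup.zpowers z1 ⊔ centralizerIn S (Subgroup.zpowers z1))) =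
        ⟨u, hud⟩ ^ p := Subtype.ext rfl
    rw [h1, map_pow]
    exact pow_mem_zSub hQp hΦ (hθQ u hu hud)

/-- if the derived subgroup of `Q` is invariant under `Aut_F(R)`, then `N_Q(R) ≤ R` -/
theorem mem_of_invariant [Finite S] {p : ℕ} [Fact p.Prime] (hS : IsPGroup p S)
    (F : FusionSystem S) {Q R : Subgroup Ω} (hQ : F.StronglyClosed Q) (hRc : F.IsCentric R)
    [Finite R] (hRr : F.IsRadical p R)
    (hcentral : ∀ z ∈ zSub Q, ∀ s ∈ S, s * z = z * s)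
    (hinv : ∀ α ∈ F.autGroup R, ∀ y : R, (y : Ω) ∈ zSub Q → ((α y : R) : Ω) ∈ zSub Q)
    {x : Ω} (hxQ : x ∈ Q) (hxN : x ∈ Subgroup.normalizer (R : Set Ω)) : x ∈ R := by
  have hRS : R ≤ S := hRc.1
  have hQS : Q ≤ S := hQ.1
  have hRp : IsPGroup p R := hS.to_le hRS
  have hcen : centralizerIn S R ≤ R := hRc.2 R (isConj_refl F hRS)
  have hAD := aut_dSub F hQ hRS
  obtain ⟨N, hN⟩ : ∃ N : Subgroup ↥R, N = (zSub Q).subgroupOf R := ⟨_, rfl⟩
  have hNmem : ∀ y : R, y ∈ N ↔ (y : Ω) ∈ zSub Q := fun y => by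
    rw [hN, Subgroup.mem_subgroupOf]
  have hAN : ∀ α ∈ F.autGroup R, ∀ n ∈ N, α n ∈ N := by
    intro α hα n hn
    rw [hNmem] at hn ⊢
    exact hinv α hα n hn
  have hKn := stab3_normal (F.autGroup R) (dSub Q R) N hAD hAN
  have hKp : IsPGroup p ↥(stabSub (F.autGroup R) (dSub Q R) N hAD ⊓ fixSub N) :=
    isPGroup_of_stab3 hRp (dSub Q R) N _ (fun α hα => hα.1.2.1) (fun α hα => hα.1.2.2)
      (fun α hα => hα.2)
  have hKle := le_inn_of_radical' F hRr _ (inf_le_left.trans (stabSub_le _ _ _ hAD)) hKn hKp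
  have hc := conj_mem_stab F hQ hRS hxQ hxN
  have hmem : R.normalizerMonoidHom ⟨x, hxN⟩ ∈
      stabSub (F.autGroup R) (dSub Q R) N hAD ⊓ fixSub N := by
    refine ⟨⟨hc.1, hc.2.1, ?_⟩, ?_⟩
    · intro d hd
      rw [hNmem]
      show (d : Ω)⁻¹ * (x * (d : Ω) * x⁻¹) ∈ zSub Q
      have h1 := comm_mem_zSub (Q.inv_mem ((mem_dSub d).mp hd)) hxQ
      rw [inv_inv] at h1
      have h2 : (d : Ω)⁻¹ * (x * (d : Ω) * x⁻¹) = (d : Ω)⁻¹ * x * (d : Ω) * x⁻¹ := by group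
      rw [h2]
      exact h1
    · intro n hn
      rw [hNmem] at hn
      apply Subtype.ext
      show x * (n : Ω) * x⁻¹ = n
      rw [hcentral _ hn x (hQS hxQ), mul_inv_cancel_right]
  exact mem_of_induces_inner hRS hcen (hKle hmem) (hQS hxQ) (fun y => rfl)

/-- the `p`-th power of `d * x`, for `d` of order `p` in `Q` -/
theorem mul_pow_in [Finite S] {p : ℕ} [hp : Fact p.Prime] (hp2 : p ≠ 2) (hS : IsPGroup p S)
    {Q : Subgroup Ω} (hQS : Q ≤ S) (hZ : Nat.card ↥(commutator ↥Q) = p)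
    {d x : Ω} (hd : d ∈ Q) (hx : x ∈ Q) (hdp : d ^ p = 1) : (d * x) ^ p = x ^ p := by
  haveI : Finite Q := finite_of_le_finite hQS
  have hQp : IsPGroup p Q := hS.to_le hQS
  have hcen : commutator ↥Q ≤ Subgroup.center ↥Q :=
    Cfsg.Agent.Helper19.normal_card_prime_le_center hQp _ hZ
  have hcm : ∀ a b : ↥Q, ⁅a, b⁆ ∈ commutator ↥Q := fun a b => by
    rw [commutator_def]
    exact Subgroup.commutator_mem_commutator (Subgroup.mem_top a) (Subgroup.mem_top b)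
  have hcp : ∀ a b : ↥Q, ⁅a, b⁆ ^ p = 1 := by
    intro a b
    have h1 : (⟨⁅a, b⁆, hcm a b⟩ : ↥(commutator ↥Q)) ^ p = 1 := by
      rw [← hZ]; exact pow_card_eq_one'
    have h2 := congrArg Subtype.val h1
    simpa using h2
  have h := mul_pow_of_pow_eq_one hp2 (fun a b => hcen (hcm a b)) hcp
    (⟨d, hd⟩ : ↥Q) ⟨x, hx⟩ (Subtype.ext (by rw [Subgroup.coe_pow]; exact hdp))
  have h2 := congrArg Subtype.val h
  simpa using h2

/-- the compatibility condition: an automorphism in `Aut_F(R)` commuting with `c_x` on `Q ⊓ R`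
fixes `x ^ p` -/
theorem compat_minus [Finite S] {p : ℕ} [hp : Fact p.Prime] (hp2 : p ≠ 2) (hS : IsPGroup p S)
    (F : FusionSystem S) {Q R : Subgroup Ω} (hQ : F.StronglyClosed Q)
    (hZ : Nat.card ↥(commutator ↥Q) = p) (hRc : F.IsCentric R)
    [Finite R] (hRr : F.IsRadical p R) (hRrec : F.IsReceptive R)
    (hDexp : ∀ d : R, (d : Ω) ∈ Q → (d : Ω) ^ p = 1)
    {x : Ω} (hxQ : x ∈ Q) (hxN : x ∈ Subgroup.normalizer (R : Set Ω)) (hxp : x ^ p ∈ R)
    (α : ↥(F.autGroup R))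
    (hz : ∀ d : R, (d : Ω) ∈ Q →
      (α * cx F hQ.1 hRc.1 x hxQ hxN * α⁻¹).1 d = (cx F hQ.1 hRc.1 x hxQ hxN).1 d) :
    ((α.1 ⟨x ^ p, hxp⟩ : R) : Ω) = x ^ p := by
  have hRS : R ≤ S := hRc.1
  have hQS : Q ≤ S := hQ.1
  have hcen : centralizerIn S R ≤ R := hRc.2 R (isConj_refl F hRS)
  have hAD := aut_dSub F hQ hRS
  obtain ⟨c, hc⟩ : ∃ c : ↥(F.autGroup R), c = cx F hQS hRS x hxQ hxN := ⟨_, rfl⟩
  rw [← hc] at hz
  have hcapp : ∀ y : R, ((c.1 y : R) : Ω) = x * (y : Ω) * x⁻¹ := fun y => by rw [hc]; rfl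
  have hxS : x ∈ S := hQS hxQ
  obtain ⟨β, hβ⟩ : ∃ β : ↥(F.autGroup R), β = α * c * α⁻¹ * c⁻¹ := ⟨_, rfl⟩
  have hK1n : ((stabSub (F.autGroup R) (dSub Q R) (dSub Q R) hAD).subgroupOf
      (F.autGroup R)).Normal := stabSub_normal _ _ _ hAD hAD
  have hcK1 : c ∈ (stabSub (F.autGroup R) (dSub Q R) (dSub Q R) hAD).subgroupOf
      (F.autGroup R) := by
    rw [hc]
    exact Subgroup.mem_subgroupOf.mpr (conj_mem_stab F hQ hRS hxQ hxN)
  have hβK1 : β ∈ (stabSub (F.autGroup R) (dSub Q R) (dSub Q R) hAD).subgroupOf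
      (F.autGroup R) := by
    rw [hβ]
    exact Subgroup.mul_mem _ (hK1n.conj_mem c hcK1 α) (Subgroup.inv_mem _ hcK1)
  have hβ1 : ∀ y, y⁻¹ * β.1 y ∈ dSub Q R := (Subgroup.mem_subgroupOf.mp hβK1).2.1
  have hβ2 : ∀ d ∈ dSub Q R, d⁻¹ * β.1 d ∈ (frattini ↥(dSub Q R)).map (dSub Q R).subtype := by
    intro d hd
    have hcd : c⁻¹.1 d ∈ dSub Q R := hAD _ (c⁻¹).2 d hd
    have h1 : β.1 d = d := by
      have h2 : β.1 d = (α * c * α⁻¹).1 (c⁻¹.1 d) := by rw [hβ]; rfl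
      rw [h2, hz _ ((mem_dSub _).mp hcd)]
      show c.1 (c⁻¹.1 d) = d
      have h3 : c.1 (c⁻¹.1 d) = (c * c⁻¹).1 d := rfl
      rw [h3, mul_inv_cancel]; rfl
    rw [h1, inv_mul_cancel]
    exact Subgroup.one_mem _
  obtain ⟨⟨r, hr⟩, -⟩ := stab_facts hS F hQ hRS hRr β.2 hβ1 hβ2
  have hkey : ∀ y : R, ((α.1 (c.1 y) : R) : Ω) =
      ((r : Ω) * x) * ((α.1 y : R) : Ω) * ((r : Ω) * x)⁻¹ := by
    intro y
    have h1 : α * c = β * c * α := by rw [hβ]; group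
    have h2 : (α * c).1 y = (β * c * α).1 y := by rw [h1]
    have h3 : α.1 (c.1 y) = β.1 (c.1 (α.1 y)) := h2
    rw [h3, ← hr]
    show (r : Ω) * ((c.1 (α.1 y) : R) : Ω) * (r : Ω)⁻¹ = _
    rw [hcapp]
    group
  obtain ⟨φ, hφdef⟩ : ∃ φ : ↥R →* Ω, φ = R.subtype.comp α.1.toMonoidHom := ⟨_, rfl⟩
  have hφapp : ∀ y : R, φ y = ((α.1 y : R) : Ω) := fun y => by rw [hφdef]; rfl
  have hxext : x ∈ extender S R φ := by
    rw [mem_extender_iff]
    refine ⟨hxS, hxN, (r : Ω) * x, S.mul_mem (hRS r.2) hxS, fun y hy => ?_⟩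
    rw [hφapp, hφapp]
    have : (⟨x * (y : Ω) * x⁻¹, hy⟩ : R) = c.1 y := Subtype.ext (hcapp y).symm
    rw [this]
    exact hkey y
  have hφ : φ ∈ F.Hom R := by rw [hφdef]; exact (mem_autGroup_iff F hRS α.1).mp α.2
  have hrange : φ.range = R := by
    ext z
    constructor
    · rintro ⟨y, rfl⟩
      rw [hφapp]
      exact (α.1 y).2
    · intro hzR
      refine ⟨α.1.symm ⟨z, hzR⟩, ?_⟩
      rw [hφapp]
      simp
  obtain ⟨ψ, hψ, hψext⟩ := hRrec.2 R φ hφ hrange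
  have hRN : R ≤ extender S R φ := le_extender F hφ
  obtain ⟨ψx, hψx⟩ : ∃ ψx : Ω, ψx = ψ ⟨x, hxext⟩ := ⟨_, rfl⟩
  have hψxQ : ψx ∈ Q := by
    have h1 := restrict_mem F (inf_le_right : Q ⊓ extender S R φ ≤ extender S R φ) hψ
    have h2 := hQ.2 (Q ⊓ extender S R φ) inf_le_left _ h1 ⟨x, hxQ, hxext⟩
    rw [hψx]
    exact h2
  have hψy : ∀ y : R, ψ ⟨y, hRN y.2⟩ = ((α.1 y : R) : Ω) := fun y => by
    rw [hψext y y.2 (hRN y.2), hφapp]
  have hconj : ∀ y : R, ψx * ((α.1 y : R) : Ω) * ψx⁻¹ =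
      ((r : Ω) * x) * ((α.1 y : R) : Ω) * ((r : Ω) * x)⁻¹ := by
    intro y
    have h1 : (⟨x, hxext⟩ : ↥(extender S R φ)) * ⟨y, hRN y.2⟩ * (⟨x, hxext⟩)⁻¹ =
        ⟨((c.1 y : R) : Ω), hRN (c.1 y).2⟩ := Subtype.ext (hcapp y).symm
    have h2 := congrArg ψ h1
    rw [map_mul, map_mul, map_inv, hψy, hψy, ← hψx, hkey] at h2
    exact h2
  have hcz : ((r : Ω) * x)⁻¹ * ψx ∈ centralizerIn S R := by
    rw [mem_centralizerIn]
    refine ⟨S.mul_mem (S.inv_mem (S.mul_mem (hRS r.2) hxS)) (hQS hψxQ), fun z hzR => ?_⟩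
    have h1 := hconj (α.1.symm ⟨z, hzR⟩)
    have h2 : ((α.1 (α.1.symm ⟨z, hzR⟩) : R) : Ω) = z := by simp
    rw [h2] at h1
    calc z * (((r : Ω) * x)⁻¹ * ψx)
        = ((r : Ω) * x)⁻¹ * (((r : Ω) * x) * z * ((r : Ω) * x)⁻¹) * ψx := by group
      _ = ((r : Ω) * x)⁻¹ * (ψx * z * ψx⁻¹) * ψx := by rw [h1]
      _ = ((r : Ω) * x)⁻¹ * ψx * z := by group
  have hgR : ((r : Ω) * x)⁻¹ * ψx ∈ R := hcen hcz
  have hd1R : ψx * x⁻¹ ∈ R := by
    have h1 : x * (((r : Ω) * x)⁻¹ * ψx) * x⁻¹ ∈ R :=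
      (Subgroup.mem_normalizer_iff.mp hxN _).mp hgR
    have h2 : ψx * x⁻¹ = (r : Ω) * (x * (((r : Ω) * x)⁻¹ * ψx) * x⁻¹) := by group
    rw [h2]
    exact R.mul_mem r.2 h1
  have hd1Q : ψx * x⁻¹ ∈ Q := Q.mul_mem hψxQ (Q.inv_mem hxQ)
  have hfe : ψx ^ p = x ^ p := by
    have h1 := mul_pow_in hp2 hS hQS hZ hd1Q hxQ (hDexp ⟨ψx * x⁻¹, hd1R⟩ hd1Q)
    rwa [inv_mul_cancel_right] at h1
  have hψp : ψx ^ p = ((α.1 ⟨x ^ p, hxp⟩ : R) : Ω) := by
    have h1 : (⟨x, hxext⟩ : ↥(extender S R φ)) ^ p = ⟨x ^ p, hRN hxp⟩ := Subtype.ext rfl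
    have h2 := congrArg ψ h1
    rw [map_pow, ← hψx] at h2
    rw [h2, hψext (x ^ p) hxp (hRN hxp), hφapp]
  rw [← hψp, hfe]

/-- the case where every element of `Q` outside the centralizer of `z1` has order `p ^ 2` -/
theorem false_of_minus [Finite S] {p : ℕ} [hp : Fact p.Prime] (hp2 : p ≠ 2) (hS : IsPGroup p S)
    (F : FusionSystem S) {Q R : Subgroup Ω} (hQ : F.StronglyClosed Q)
    (hΦ : frattini ↥Q = commutator ↥Q) (hZ : Nat.card ↥(commutator ↥Q) = p)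
    (hRc : F.IsCentric R) [Finite R] (hRr : F.IsRadical p R) (hRrec : F.IsReceptive R)
    {z1 : Ω}
    (hab : ∀ u ∈ Q, ∀ v ∈ Q, u * z1 = z1 * u → v * z1 = z1 * v → u * v = v * u)
    (hexp : ∀ u ∈ Q, u * z1 = z1 * u → u ^ p = 1)
    (hminus : ∀ u ∈ Q, ¬ u * z1 = z1 * u → u ^ p ≠ 1)
    {x : Ω} (hxQ : x ∈ Q) (hxN : x ∈ Subgroup.normalizer (R : Set Ω)) (hxR : x ∉ R) : False := by
  classical
  have hRS : R ≤ S := hRc.1
  have hQS : Q ≤ S := hQ.1
  haveI : Finite Q := finite_of_le_finite hQS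
  have hQp : IsPGroup p Q := hS.to_le hQS
  have hRp : IsPGroup p R := hS.to_le hRS
  have hcen : centralizerIn S R ≤ R := hRc.2 R (isConj_refl F hRS)
  have hAD := aut_dSub F hQ hRS
  have hcentral := zSub_central hS F hQ hZ
  have hZR := zSub_le_of_centric hS F hQ hZ hRc
  have hcardZ := card_zSub hZ
  -- `Q ⊓ R` centralizes `z1`
  have hDB : ∀ d : R, (d : Ω) ∈ Q → (d : Ω) * z1 = z1 * (d : Ω) := by
    intro d hdQ
    by_contra hdz
    have he01 : (d : Ω) ^ p ≠ 1 := hminus _ hdQ hdz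
    have he0Z : (d : Ω) ^ p ∈ zSub Q := pow_mem_zSub hQp hΦ hdQ
    apply hxR
    apply mem_of_invariant hS F hQ hRc hRr hcentral ?_ hxQ hxN
    intro α hα y hy
    obtain ⟨i, hi⟩ := exists_zpow_of_card_prime hcardZ he0Z he01 hy
    have hy' : y = (d ^ p) ^ i := Subtype.ext (by
      rw [Subgroup.coe_zpow, Subgroup.coe_pow]; exact hi.symm)
    rw [hy', map_zpow, map_pow, Subgroup.coe_zpow, Subgroup.coe_pow]
    exact Subgroup.zpow_mem _
      (pow_mem_zSub hQp hΦ (aut_mem_of_stronglyClosed F hQ hRS hα hdQ)) i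
  have hDcomm : ∀ a b : ↥(dSub Q R), a * b = b * a := by
    intro a b
    apply Subtype.ext
    apply Subtype.ext
    exact hab _ ((mem_dSub _).mp a.2) _ ((mem_dSub _).mp b.2) (hDB _ ((mem_dSub _).mp a.2))
      (hDB _ ((mem_dSub _).mp b.2))
  have hDexpΩ : ∀ d : R, (d : Ω) ∈ Q → (d : Ω) ^ p = 1 := fun d hd => hexp _ hd (hDB d hd)
  have hDexp : ∀ w : ↥(dSub Q R), w ^ p = 1 := by
    intro w
    apply Subtype.ext
    apply Subtype.ext
    rw [Subgroup.coe_pow, Subgroup.coe_pow]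
    exact hDexpΩ _ ((mem_dSub _).mp w.2)
  letI : CommGroup ↥(dSub Q R) :=
    { (inferInstance : Group ↥(dSub Q R)) with mul_comm := hDcomm }
  obtain ⟨act, hact⟩ : ∃ act : ↥(F.autGroup R) →* MulAut ↥(dSub Q R),
      act = resHom (F.autGroup R) (dSub Q R) hAD := ⟨_, rfl⟩
  have hactapp : ∀ (α : ↥(F.autGroup R)) (w : ↥(dSub Q R)),
      (((act α w : ↥(dSub Q R)) : R) : Ω) = ((α.1 (w : R) : R) : Ω) := by
    intro α w; rw [hact]; rfl
  have hact1 : ∀ α : ↥(F.autGroup R), act α = 1 →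
      ∀ d ∈ dSub Q R, d⁻¹ * α.1 d ∈ (frattini ↥(dSub Q R)).map (dSub Q R).subtype := by
    intro α hα d hd
    have h1 : α.1 d = d := by
      have h2 := congrArg (fun γ : MulAut ↥(dSub Q R) => (((γ ⟨d, hd⟩ : ↥(dSub Q R)) : R) : Ω)) hα
      apply Subtype.ext
      have h3 := hactapp α ⟨d, hd⟩
      rw [← h3]
      exact h2
    rw [h1, inv_mul_cancel]
    exact Subgroup.one_mem _
  obtain ⟨c, hc⟩ : ∃ c : ↥(F.autGroup R), c = cx F hQS hRS x hxQ hxN := ⟨_, rfl⟩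
  have hcapp : ∀ y : R, ((c.1 y : R) : Ω) = x * (y : Ω) * x⁻¹ := fun y => by rw [hc]; rfl
  have hcstab : c.1 ∈ stabSub (F.autGroup R) (dSub Q R) (dSub Q R) hAD := by
    rw [hc]; exact conj_mem_stab F hQ hRS hxQ hxN
  have hinn : c.1 ∈ Inn R → False := by
    intro h
    exact hxR (mem_of_induces_inner hRS hcen h (hQS hxQ) hcapp)
  have hactc : act c ≠ 1 := by
    intro h
    obtain ⟨h1, -⟩ := stab_facts hS F hQ hRS hRr c.2 hcstab.2.1 (hact1 c h)
    exact hinn h1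
  have hxz : ¬ x * z1 = z1 * x := by
    intro hxz
    apply hactc
    ext w
    rw [hactapp, hcapp, MulAut.one_apply]
    have h1 := hab x hxQ _ ((mem_dSub _).mp w.2) hxz (hDB _ ((mem_dSub _).mp w.2))
    rw [h1, mul_inv_cancel_right]
  have he1 : x ^ p ≠ 1 := hminus x hxQ hxz
  have heZ : x ^ p ∈ zSub Q := pow_mem_zSub hQp hΦ hxQ
  have heR : x ^ p ∈ R := hZR heZ
  have heQ : x ^ p ∈ Q := Q.pow_mem hxQ p
  obtain ⟨e, he⟩ : ∃ e : ↥(dSub Q R), e = ⟨⟨x ^ p, heR⟩, (mem_dSub _).mpr heQ⟩ := ⟨_, rfl⟩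
  have htr : ∀ w : ↥(dSub Q R), act c w / w ∈ Subgroup.zpowers e := by
    intro w
    have hwQ : ((w : R) : Ω) ∈ Q := (mem_dSub _).mp w.2
    have h1 : x * ((w : R) : Ω) * x⁻¹ * ((w : R) : Ω)⁻¹ ∈ zSub Q := comm_mem_zSub hxQ hwQ
    obtain ⟨i, hi⟩ := exists_zpow_of_card_prime hcardZ heZ he1 h1
    refine ⟨i, ?_⟩
    apply Subtype.ext
    apply Subtype.ext
    show (((e ^ i : ↥(dSub Q R)) : R) : Ω) = (((act c w / w : ↥(dSub Q R)) : R) : Ω)
    rw [div_eq_mul_inv, Subgroup.coe_mul, Subgroup.coe_mul, Subgroup.coe_inv, Subgroup.coe_inv,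
      hactapp, hcapp, Subgroup.coe_zpow, Subgroup.coe_zpow, he]
    exact hi
  -- Baer--Suzuki
  obtain ⟨g, hg⟩ : ∃ g : ↥(F.autGroup R),
      ¬ IsPGroup p ↥(Subgroup.closure ({c, g * c * g⁻¹} : Set ↥(F.autGroup R))) := by
    by_contra hcon
    push Not at hcon
    have hall : ∀ g : ↥(F.autGroup R), IsPGroup p
        ↥(Subgroup.zpowers c ⊔ (Subgroup.zpowers c).map (MulAut.conj g).toMonoidHom) := by
      intro g
      have hsub : Subgroup.zpowers c ⊔ (Subgroup.zpowers c).map (MulAut.conj g).toMonoidHom =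
          Subgroup.closure {c, g * c * g⁻¹} := by
        rw [Subgroup.zpowers_eq_closure, MonoidHom.map_closure, ← Subgroup.closure_union]
        congr 1
        ext z
        simp only [Set.image_singleton, Set.union_singleton, Set.mem_insert_iff,
          Set.mem_singleton_iff, MulEquiv.coe_toMonoidHom, MulAut.conj_apply]
        rw [or_comm]
      rw [hsub]
      exact hcon g
    obtain ⟨K, hKn, hKp, hXK⟩ := Cfsg.Agent.Helper21.baer_suzuki (Subgroup.zpowers c) hall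
    have h1 := le_pCore hKn hKp (hXK (Subgroup.mem_zpowers c))
    apply hinn
    rw [← hRr.2]
    exact ⟨c, h1, rfl⟩
  -- the kernel of the action on the subgroup generated consists of `p`-elements
  have hK1n : ((stabSub (F.autGroup R) (dSub Q R) (dSub Q R) hAD).subgroupOf
      (F.autGroup R)).Normal := stabSub_normal _ _ _ hAD hAD
  have hcK1 : c ∈ (stabSub (F.autGroup R) (dSub Q R) (dSub Q R) hAD).subgroupOf
      (F.autGroup R) := Subgroup.mem_subgroupOf.mpr hcstab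
  have hker : ∀ h ∈ Subgroup.closure ({c, g * c * g⁻¹} : Set ↥(F.autGroup R)), act h = 1 →
      ∃ k : ℕ, h ^ p ^ k = 1 := by
    intro h hh hh1
    have hle : Subgroup.closure ({c, g * c * g⁻¹} : Set ↥(F.autGroup R)) ≤
        (stabSub (F.autGroup R) (dSub Q R) (dSub Q R) hAD).subgroupOf (F.autGroup R) := by
      rw [Subgroup.closure_le]
      intro y hy
      rcases hy with rfl | hy
      · exact hcK1
      · rw [Set.mem_singleton_iff] at hy
        rw [hy]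
        exact hK1n.conj_mem c hcK1 g
    have h1 := Subgroup.mem_subgroupOf.mp (hle hh)
    obtain ⟨-, k, hk⟩ := stab_facts hS F hQ hRS hRr h.2 h1.2.1 (hact1 h hh1)
    refine ⟨k, ?_⟩
    apply Subtype.ext
    rw [Subgroup.coe_pow]
    exact hk
  -- compatibility
  have hcompat : ∀ z : ↥(F.autGroup R), act (z * c * z⁻¹) = act c → act z e = e := by
    intro z hz
    have h1 := compat_minus hp2 hS F hQ hZ hRc hRr hRrec hDexpΩ hxQ hxN heR z (by
      intro d hdQ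
      have h2 := congrArg (fun γ : MulAut ↥(dSub Q R) =>
        (((γ ⟨d, (mem_dSub _).mpr hdQ⟩ : ↥(dSub Q R)) : R) : Ω)) hz
      apply Subtype.ext
      have h3 := hactapp (z * c * z⁻¹) ⟨d, (mem_dSub _).mpr hdQ⟩
      have h4 := hactapp c ⟨d, (mem_dSub _).mpr hdQ⟩
      rw [← hc, ← h3, ← h4]
      exact h2)
    apply Subtype.ext
    apply Subtype.ext
    rw [hactapp, he]
    exact h1
  exact Cfsg.Agent.Helper21.GenExtraWeyl.no_power_transvection' hp2 act hDexp c g hg hker e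
    hactc htr hcompat

/-- a strongly closed generalized extraspecial subgroup, not of the exceptional types, lies in
every essential subgroup -/
theorem le_of_essential_ge [Finite S] {p : ℕ} [hp : Fact p.Prime] (hS : IsPGroup p S)
    (F : FusionSystem S) (hF : F.IsSaturated p) {Q R : Subgroup Ω} (hQ : F.StronglyClosed Q)
    (hΦ : frattini ↥Q = commutator ↥Q) (hZ : Nat.card ↥(commutator ↥Q) = p)
    (h2 : p = 2 → ¬ ∃ (A : Type) (_ : CommGroup A), (∀ a : A, a ^ 2 = 1) ∧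
      Nonempty (↥Q ≃* DihedralGroup 4 × A))
    (hodd : p ≠ 2 → ¬ ∃ (E : Type) (_ : Group E) (A : Type) (_ : CommGroup A),
      Cfsg.IsExtraspecial p E ∧ Nat.card E = p ^ 3 ∧ Monoid.exponent E = p ∧
      (∀ a : A, a ^ p = 1) ∧ Nonempty (↥Q ≃* E × A))
    (hRe : F.IsEssential p R) : Q ≤ R := by
  by_contra hQR
  have hRr : F.IsRadical p R := Cfsg.Agent.S5080.result p hS F hF R hRe
  obtain ⟨hRc, hRfn, -⟩ := hRe
  have hRrec : F.IsReceptive R := (of_fullyNormalized p hS F hF hRfn).2.2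
  have hRS : R ≤ S := hRc.1
  have hQS : Q ≤ S := hQ.1
  haveI : Finite R := finite_of_le_finite hRS
  haveI : Finite Q := finite_of_le_finite hQS
  have hQp : IsPGroup p Q := hS.to_le hQS
  have hQn : ∀ g ∈ S, ∀ v ∈ Q, g⁻¹ * v * g ∈ Q :=
    fun g hg v hv => conj_mem_of_stronglyClosed' F hQ hg hv
  obtain ⟨x0, hx0Q, hx0N, hx0R⟩ :=
    exists_mem_normalizer_not_mem_of_not_le hS hRS hQS hQn hQR
  have hcentral := zSub_central hS F hQ hZ
  have hninv : ¬ ∀ α ∈ F.autGroup R, ∀ y : R, (y : Ω) ∈ zSub Q →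
      ((α y : R) : Ω) ∈ zSub Q := by
    intro hinv
    exact hx0R (mem_of_invariant hS F hQ hRc hRr hcentral hinv hx0Q hx0N)
  push Not at hninv
  obtain ⟨g, hgA, y, hyZ, hgy⟩ := hninv
  have hy1 : (y : Ω) ≠ 1 := by
    intro h
    apply hgy
    have h1 : y = 1 := Subtype.ext h
    rw [h1, map_one]
    exact Subgroup.one_mem _
  have hz1Q : ((g y : R) : Ω) ∈ Q := aut_mem_of_stronglyClosed F hQ hRS hgA (zSub_le Q hyZ)
  have hginv : g⁻¹ ∈ F.autGroup R := Subgroup.inv_mem _ hgA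
  have hψ := (mem_autGroup_iff F hRS g⁻¹).mp hginv
  have hle : Subgroup.zpowers ((g y : R) : Ω) ≤ R := by
    rw [Subgroup.zpowers_le]; exact (g y).2
  have hφ := restrict_mem F hle hψ
  have hφz : ((R.subtype.comp g⁻¹.toMonoidHom).comp (Subgroup.inclusion hle))
      ⟨((g y : R) : Ω), Subgroup.mem_zpowers _⟩ = (y : Ω) := by
    show ((g⁻¹ (Subgroup.inclusion hle ⟨((g y : R) : Ω), Subgroup.mem_zpowers _⟩) : R) : Ω) = y
    have h1 : Subgroup.inclusion hle ⟨((g y : R) : Ω), Subgroup.mem_zpowers _⟩ = g y :=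
      Subtype.ext rfl
    rw [h1, MulAut.inv_apply, MulEquiv.symm_apply_apply]
  obtain ⟨hab, hexp⟩ := centralizer_elementary hS F hF hQ hΦ hZ hyZ hy1 hgy _ hφ hφz
  have hab' : ∀ u v : ↥Q, Commute u ⟨((g y : R) : Ω), hz1Q⟩ → Commute v ⟨((g y : R) : Ω), hz1Q⟩ →
      Commute u v := fun u v hu hv =>
    Subtype.ext (hab u u.2 v v.2 (congrArg Subtype.val hu.eq) (congrArg Subtype.val hv.eq))
  have hexp' : ∀ u : ↥Q, Commute u ⟨((g y : R) : Ω), hz1Q⟩ → u ^ p = 1 := fun u hu =>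
    Subtype.ext (by rw [Subgroup.coe_pow]; exact hexp u u.2 (congrArg Subtype.val hu.eq))
  rcases ge_main hQp hΦ hZ ⟨((g y : R) : Ω), hz1Q⟩ hab' hexp' with
    ⟨hp2, h⟩ | ⟨hp2, h⟩ | ⟨hp2, hminus⟩
  · exact h2 hp2 h
  · exact hodd hp2 h
  · refine false_of_minus hp2 hS F hQ hΦ hZ hRc hRr hRrec hab hexp ?_ hx0Q hx0N hx0R
    intro u hu huz hup
    apply hminus ⟨u, hu⟩
    · intro hcomm
      exact huz (congrArg Subtype.val hcomm.eq)
    · exact Subtype.ext (by rw [Subgroup.coe_pow]; exact hup)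

/-- a strongly closed generalized extraspecial subgroup, not of the exceptional types, is normal
in a saturated fusion system -/
theorem isNormal_of_genExtraspecial [Finite S] {p : ℕ} [hp : Fact p.Prime] (hS : IsPGroup p S)
    (F : FusionSystem S) (hF : F.IsSaturated p) {Q : Subgroup Ω} (hQ : F.StronglyClosed Q)
    (hΦ : frattini ↥Q = commutator ↥Q) (hZ : Nat.card ↥(commutator ↥Q) = p)
    (h2 : p = 2 → ¬ ∃ (A : Type) (_ : CommGroup A), (∀ a : A, a ^ 2 = 1) ∧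
      Nonempty (↥Q ≃* DihedralGroup 4 × A))
    (hodd : p ≠ 2 → ¬ ∃ (E : Type) (_ : Group E) (A : Type) (_ : CommGroup A),
      Cfsg.IsExtraspecial p E ∧ Nat.card E = p ^ 3 ∧ Monoid.exponent E = p ∧
      (∀ a : A, a ^ p = 1) ∧ Nonempty (↥Q ≃* E × A)) : F.IsNormal Q := by
  apply isNormal_of_forall_essential p hS F hF Q
  intro R hR
  have hle : Q ≤ R := by
    rcases hR with rfl | hRe
    · exact hQ.1
    · exact le_of_essential_ge hS F hF hQ hΦ hZ h2 hodd hRe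
  have hRS : R ≤ S := by
    rcases hR with rfl | hRe
    · exact le_rfl
    · exact le_of_isEssential F hRe
  exact ⟨hle, fun α hα => map_aut_eq_of_stronglyClosed F hQ hRS hle hα⟩

end Fusion

end Cfsg.Agent.Helper21.GenExtraFusion
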