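import Mathlib
import Cfsg.Prelude.Def_FusionSystem
import Cfsg.Agent.Lib.Helper14.StronglyEmbedded
import Cfsg.Agent.Lib.Helper21.GenExtraFusion
import Cfsg.Agent.Lib.Helper25.StabChain
import Cfsg.Agent.S5080
import Cfsg.Agent.Lib.Helper25.FusionAlperin2

set_option autoImplicit false

/-! Fusion systems on a `p`-group with an extraspecial subgroup of index `p`: essential subgroups inside
the extraspecial subgroup. -/

namespace Cfsg.Agent.Helper21.ExtraIndexP

open Cfsg Cfsg.FusionSystem Cfsg.Agent.Helper25 Cfsg.Agent.Helper14 Cfsg.Agent.Helper21.GenExtra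
  Cfsg.Agent.Helper21.GenExtraFusion

open scoped commutatorElement

section SPE

/-- A group with a strongly `p`-embedded subgroup has no `p`-subgroup `T` such that for every `γ` some
non-identity elements of `T` and of `γ T γ⁻¹` commute. -/
theorem false_of_commuting {X : Type*} [Group X] [Finite X] {p : ℕ} [Fact p.Prime] {Y : Subgroup X}
    (hY : IsStronglyPEmbedded p Y) (T : Subgroup X) (hT : IsPGroup p T)
    (h : ∀ γ : X, ∃ t ∈ T, t ≠ 1 ∧ ∃ t' ∈ T, t' ≠ 1 ∧ Commute t (γ * t' * γ⁻¹)) : False := by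
  obtain ⟨hpY, hYtop, hNC⟩ := (spe_iff_normalizerClosed Y).mp hY
  obtain ⟨P, hPY⟩ := hNC.exists_sylow_le hpY
  obtain ⟨P', hTP'⟩ := hT.exists_le_sylow
  obtain ⟨g, hg⟩ := MulAction.exists_smul_eq X P' P
  have hconj : ∀ t ∈ T, g * t * g⁻¹ ∈ Y := by
    intro t ht
    apply hPY
    rw [← hg, sylow_smul_coe]
    exact ⟨t, hTP' ht, rfl⟩
  obtain ⟨y, hy⟩ : ∃ y : X, y ∉ Y := by
    by_contra hall
    push Not at hall
    exact hYtop (eq_top_iff.mpr fun x _ => hall x)
  obtain ⟨t, ht, ht1, t', ht', ht'1, hcomm⟩ := h (g⁻¹ * y * g)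
  obtain ⟨a, ha⟩ : ∃ a, a = g * t * g⁻¹ := ⟨_, rfl⟩
  obtain ⟨b, hb⟩ : ∃ b, b = g * t' * g⁻¹ := ⟨_, rfl⟩
  have haY : a ∈ Y := ha ▸ hconj t ht
  have hbY : b ∈ Y := hb ▸ hconj t' ht'
  have ha1 : a ≠ 1 := by
    intro h1
    apply ht1
    have : t = g⁻¹ * a * g := by rw [ha]; group
    rw [this, h1]; group
  have hb1 : b ≠ 1 := by
    intro h1
    apply ht'1
    have : t' = g⁻¹ * b * g := by rw [hb]; group
    rw [this, h1]; group
  have hab : Commute a (y * b * y⁻¹) := by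
    have e1 : y * b * y⁻¹ = g * ((g⁻¹ * y * g) * t' * (g⁻¹ * y * g)⁻¹) * g⁻¹ := by
      rw [hb]; group
    rw [e1, ha]
    show g * t * g⁻¹ * (g * ((g⁻¹ * y * g) * t' * (g⁻¹ * y * g)⁻¹) * g⁻¹) =
      g * ((g⁻¹ * y * g) * t' * (g⁻¹ * y * g)⁻¹) * g⁻¹ * (g * t * g⁻¹)
    have := hcomm.eq
    calc g * t * g⁻¹ * (g * ((g⁻¹ * y * g) * t' * (g⁻¹ * y * g)⁻¹) * g⁻¹)
        = g * (t * ((g⁻¹ * y * g) * t' * (g⁻¹ * y * g)⁻¹)) * g⁻¹ := by group
      _ = g * (((g⁻¹ * y * g) * t' * (g⁻¹ * y * g)⁻¹) * t) * g⁻¹ := by rw [this]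
      _ = _ := by group
  have hpelt : ∀ u ∈ T, IsPGroup p ↥(Subgroup.zpowers (g * u * g⁻¹)) := by
    intro u hu
    obtain ⟨k, hk⟩ := hT ⟨u, hu⟩
    have hk' : u ^ p ^ k = 1 := by
      have := congrArg Subtype.val hk
      simpa using this
    rintro ⟨v, hv⟩
    obtain ⟨i, rfl⟩ := Subgroup.mem_zpowers_iff.mp hv
    refine ⟨k, Subtype.ext ?_⟩
    show ((g * u * g⁻¹) ^ i) ^ p ^ k = 1
    have e : (g * u * g⁻¹) ^ p ^ k = 1 := by
      rw [conj_pow, hk']; group
    rw [← zpow_natCast, ← zpow_mul, mul_comm, zpow_mul, zpow_natCast, e, one_zpow]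
  -- `y b y⁻¹` normalizes `⟨a⟩`, hence lies in `Y`
  have hA : Subgroup.zpowers a ≤ Y := Subgroup.zpowers_le.mpr haY
  have hAne : Subgroup.zpowers a ≠ ⊥ := by
    intro h1
    exact ha1 (Subgroup.zpowers_eq_bot.mp h1)
  have hyb : y * b * y⁻¹ ∈ Y := by
    apply hNC (Subgroup.zpowers a) hA (ha ▸ hpelt t ht) hAne
    rw [Subgroup.mem_normalizer_iff]
    intro v
    have hc : ∀ v ∈ Subgroup.zpowers a, (y * b * y⁻¹) * v * (y * b * y⁻¹)⁻¹ = v := by
      intro v hv
      obtain ⟨i, rfl⟩ := Subgroup.mem_zpowers_iff.mp hv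
      have : Commute (y * b * y⁻¹) (a ^ i) := (hab.symm).zpow_right i
      rw [this.eq, mul_inv_cancel_right]
    constructor
    · intro hv; rw [hc v hv]; exact hv
    · intro hv
      have h2 := hc _ hv
      have h3 : (y * b * y⁻¹) * v * (y * b * y⁻¹)⁻¹ = v :=
        mul_left_cancel (mul_right_cancel h2)
      rw [← h3]; exact hv
  have hB : Subgroup.zpowers b ≤ Y := Subgroup.zpowers_le.mpr hbY
  have hBne : Subgroup.zpowers b ≠ ⊥ := by
    intro h1
    exact hb1 (Subgroup.zpowers_eq_bot.mp h1)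
  have hmap : (Subgroup.zpowers b).map (MulAut.conj y).toMonoidHom ≤ Y := by
    rw [MonoidHom.map_zpowers, Subgroup.zpowers_le]
    exact hyb
  exact hy (hNC.mem_of_map_conj_le hB (hb ▸ hpelt t' ht') hBne hmap)

/-- The same in a quotient group. -/
theorem false_of_commuting_quot {G : Type*} [Group G] [Finite G] {p : ℕ} [Fact p.Prime]
    (N : Subgroup G) [N.Normal] {Y : Subgroup (G ⧸ N)} (hY : IsStronglyPEmbedded p Y)
    (T : Subgroup G) (hT : IsPGroup p T)
    (h : ∀ γ : G, ∃ t ∈ T, t ∉ N ∧ ∃ t' ∈ T, t' ∉ N ∧ Commute t (γ * t' * γ⁻¹)) : False := by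
  apply false_of_commuting hY (T.map (QuotientGroup.mk' N)) (hT.map _)
  intro γb
  obtain ⟨γ, rfl⟩ := QuotientGroup.mk_surjective γb
  obtain ⟨t, ht, htN, t', ht', ht'N, hc⟩ := h γ
  refine ⟨QuotientGroup.mk t, ⟨t, ht, rfl⟩, ?_, QuotientGroup.mk t', ⟨t', ht', rfl⟩, ?_, ?_⟩
  · intro h1; exact htN ((QuotientGroup.eq_one_iff t).mp h1)
  · intro h1; exact ht'N ((QuotientGroup.eq_one_iff t').mp h1)
  · show (QuotientGroup.mk t : G ⧸ N) * (QuotientGroup.mk γ * QuotientGroup.mk t' *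
      (QuotientGroup.mk γ)⁻¹) = (QuotientGroup.mk γ * QuotientGroup.mk t' *
      (QuotientGroup.mk γ)⁻¹) * QuotientGroup.mk t
    rw [← QuotientGroup.mk_inv, ← QuotientGroup.mk_mul, ← QuotientGroup.mk_mul,
      ← QuotientGroup.mk_mul, ← QuotientGroup.mk_mul, hc.eq]

end SPE

section Extra

variable {X : Type*} [Group X] [Finite X] {p : ℕ} [hp : Fact p.Prime]

/-- In an extraspecial group of order at least `p ^ 5`, every element of a proper abelian subgroup is
centralized by some element outside that subgroup. -/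
theorem exists_commute_not_mem (hX : Cfsg.IsExtraspecial p X) (h5 : p ^ 5 ≤ Nat.card X)
    (E : Subgroup X) (hEab : ∀ x ∈ E, ∀ y ∈ E, x * y = y * x) (hEtop : E ≠ ⊤) (v : X) (hv : v ∈ E) :
    ∃ g : X, g ∉ E ∧ Commute g v := by
  by_contra hcon
  push Not at hcon
  have hcomm : commutator X = Subgroup.center X := hX.1.2.2
  have hc : ∀ a b : X, ⁅a, b⁆ ∈ Subgroup.center X := by
    intro a b
    rw [← hcomm, commutator_def]
    exact Subgroup.commutator_mem_commutator (Subgroup.mem_top a) (Subgroup.mem_top b)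
  have hZ : Nat.card (commutator X) = p := by rw [hcomm]; exact hX.2
  have hcle : Subgroup.centralizer ({v} : Set X) ≤ E := by
    intro g hg
    by_contra hgE
    exact hcon g hgE (Subgroup.mem_centralizer_singleton_iff.mp hg)
  obtain ⟨g₀, hg₀⟩ : ∃ g₀ : X, g₀ ∉ E := by
    by_contra hall
    push Not at hall
    exact hEtop (eq_top_iff.mpr fun x _ => hall x)
  have hg₀v : ¬ Commute g₀ v := fun h => hcon g₀ hg₀ h
  have hidx : (Subgroup.centralizer ({v} : Set X)).index = p := index_centralizer hc hZ hg₀v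
  have hEeq : E = Subgroup.centralizer ({v} : Set X) := by
    apply le_antisymm _ hcle
    intro e he
    rw [Subgroup.mem_centralizer_singleton_iff]
    exact hEab e he v hv
  have hEidx : E.index = p := by rw [hEeq]; exact hidx
  -- `g₀` is not central
  have hg₀c : ∃ w : X, ¬ Commute w g₀ := ⟨v, fun h => hg₀v h.symm⟩
  obtain ⟨w, hw⟩ := hg₀c
  have hidx₀ : (Subgroup.centralizer ({g₀} : Set X)).index = p := index_centralizer hc hZ hw
  obtain ⟨C, hC⟩ : ∃ C : Subgroup X, C = E ⊓ Subgroup.centralizer ({g₀} : Set X) := ⟨_, rfl⟩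
  have hCcen : C ≤ Subgroup.center X := by
    intro c hcC
    rw [hC] at hcC
    have hK : Subgroup.centralizer ({c} : Set X) = ⊤ := by
      apply eq_top_of_index_prime hp.out (H := E) _ hEidx (t := g₀) _ hg₀
      · intro e he
        rw [Subgroup.mem_centralizer_singleton_iff]
        exact (hEab e he c hcC.1)
      · rw [Subgroup.mem_centralizer_singleton_iff]
        exact (Subgroup.mem_centralizer_singleton_iff.mp hcC.2).symm
    rw [Subgroup.mem_center_iff]
    intro g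
    have : g ∈ Subgroup.centralizer ({c} : Set X) := by rw [hK]; trivial
    exact (Subgroup.mem_centralizer_singleton_iff.mp this)
  have hCcard : Nat.card C ≤ p := by
    have := Subgroup.card_le_of_le hCcen
    rwa [hX.2] at this
  have hCidx : C.index ≤ p * p := by
    rw [hC]
    have := Subgroup.index_inf_le (H := E) (K := Subgroup.centralizer ({g₀} : Set X))
    rwa [hEidx, hidx₀] at this
  have hcard : Nat.card X ≤ p * (p * p) := by
    rw [← Subgroup.card_mul_index C]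
    exact Nat.mul_le_mul hCcard hCidx
  have h1 : p ^ 5 ≤ p ^ 3 := by
    calc p ^ 5 ≤ Nat.card X := h5
      _ ≤ p * (p * p) := hcard
      _ = p ^ 3 := by ring
  have h2 := (Nat.pow_le_pow_iff_right hp.out.one_lt).mp h1
  omega

end Extra

section Fusion

variable {Ω : Type*} [Group Ω] {S : Subgroup Ω}

/-- An essential subgroup contained in an extraspecial subgroup `Q` of order at least `p ^ 5` is `Q`. -/
theorem eq_of_essential_le_extraspecial [Finite S] {p : ℕ} [hp : Fact p.Prime] (hS : IsPGroup p S)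
    {Q : Subgroup Ω} (hQS : Q ≤ S) (hQ : Cfsg.IsExtraspecial p ↥Q) (h5 : p ^ 5 ≤ Nat.card Q)
    (F : FusionSystem S) (hF : F.IsSaturated p) {E : Subgroup Ω} (hEQ : E ≤ Q)
    (hE : F.IsEssential p E) : E = Q := by
  by_contra hne
  have hRr : F.IsRadical p E := Cfsg.Agent.S5080.result p hS F hF E hE
  have hFA := isFullyAutomized_of_eq_or_essential p hS F hF (Or.inr hE)
  obtain ⟨hEc, hEfn, hnorm, Y, hY⟩ := hE
  have hES : E ≤ S := hEc.1
  haveI : Finite E := finite_of_le_finite hES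
  haveI : Finite Q := finite_of_le_finite hQS
  have hEp : IsPGroup p E := hS.to_le hES
  have hcen : centralizerIn S E ≤ E := hEc.2 E (isConj_refl F hES)
  have hcomm : commutator ↥Q = Subgroup.center ↥Q := hQ.1.2.2
  have hZcard : Nat.card ↥(commutator ↥Q) = p := by rw [hcomm]; exact hQ.2
  have hZc : ∀ z ∈ zSub Q, ∀ q ∈ Q, q * z = z * q := by
    rintro _ ⟨c, hc, rfl⟩ q hq
    have hc' : c ∈ Subgroup.center ↥Q := by rw [← hcomm]; exact hc
    have := Subgroup.mem_center_iff.mp hc' ⟨q, hq⟩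
    exact congrArg Subtype.val this
  have hZE : zSub Q ≤ E := by
    intro z hz
    apply hcen
    rw [mem_centralizerIn]
    exact ⟨hQS (zSub_le Q hz), fun x hx => hZc z hz x (hEQ hx)⟩
  have hconjE : ∀ g ∈ Q, ∀ e ∈ E, g * e * g⁻¹ ∈ E := by
    intro g hg e he
    have h1 := comm_mem_zSub hg (hEQ he)
    have : g * e * g⁻¹ = (g * e * g⁻¹ * e⁻¹) * e := by group
    rw [this]; exact E.mul_mem (hZE h1) he
  have hQN : ∀ g ∈ Q, g ∈ Subgroup.normalizer (E : Set Ω) := by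
    intro g hg
    rw [Subgroup.mem_normalizer_iff]
    intro e
    constructor
    · exact hconjE g hg e
    · intro h
      have := hconjE g⁻¹ (Q.inv_mem hg) _ h
      have e' : g⁻¹ * (g * e * g⁻¹) * g⁻¹⁻¹ = e := by group
      rwa [e'] at this
  have hβA : ∀ g (hg : g ∈ Q), E.normalizerMonoidHom ⟨g, hQN g hg⟩ ∈ F.autGroup E := by
    intro g hg
    apply autInducedBy_le_autGroup F hES
    exact (mem_autInducedBy_iff _).mpr ⟨g, hQS hg, fun y => rfl⟩
  have hβinn : ∀ g (hg : g ∈ Q), E.normalizerMonoidHom ⟨g, hQN g hg⟩ ∈ Inn E → g ∈ E := by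
    intro g hg h
    exact mem_of_induces_inner hES hcen h (hQS hg) (fun x => rfl)
  have hζ : ∀ g (hg : g ∈ Q) (e : E), ∃ ζ : E, (ζ : Ω) ∈ zSub Q ∧
      E.normalizerMonoidHom ⟨g, hQN g hg⟩ e = e * ζ := by
    intro g hg e
    refine ⟨e⁻¹ * E.normalizerMonoidHom ⟨g, hQN g hg⟩ e, ?_, by group⟩
    show (e : Ω)⁻¹ * (g * (e : Ω) * g⁻¹) ∈ zSub Q
    have h1 := comm_mem_zSub (Q.inv_mem (hEQ e.2)) hg
    rw [inv_inv] at h1
    have : (e : Ω)⁻¹ * (g * (e : Ω) * g⁻¹) = (e : Ω)⁻¹ * g * (e : Ω) * g⁻¹ := by group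
    rw [this]; exact h1
  obtain ⟨g₀, hg₀Q, hg₀E⟩ := SetLike.exists_of_lt (lt_of_le_of_ne hEQ hne)
  by_cases hab : ∀ x ∈ E, ∀ y ∈ E, x * y = y * x
  · -- `E` abelian
    haveI := hnorm
    obtain ⟨-, Rs, hRs⟩ := hFA
    obtain ⟨T, hTdef⟩ : ∃ T : Subgroup ↥(F.autGroup E), T = (autInducedBy Q E).subgroupOf (F.autGroup E) :=
      ⟨_, rfl⟩
    have hT : IsPGroup p T := by
      have hle : T ≤ (Rs : Subgroup ↥(F.autGroup E)) := by
        rw [hRs, hTdef]
        intro α hα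
        rw [Subgroup.mem_subgroupOf] at hα ⊢
        obtain ⟨g, hg, hgα⟩ := (mem_autInducedBy_iff _).mp hα
        exact (mem_autInducedBy_iff _).mpr ⟨g, hQS hg, hgα⟩
      exact Rs.isPGroup'.to_le hle
    -- a generator of the centre of `Q`
    have hZcard' : Nat.card ↥(zSub Q) = p := card_zSub hZcard
    obtain ⟨z, hz, hz1⟩ : ∃ z ∈ zSub Q, z ≠ 1 := by
      by_contra hcon
      push Not at hcon
      have : zSub Q = ⊥ := (Subgroup.eq_bot_iff_forall _).mpr hcon
      rw [this, Subgroup.card_bot] at hZcard'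
      exact hp.out.one_lt.ne hZcard'
    have hgen : ∀ y : E, (y : Ω) ∈ zSub Q → ∃ i : ℤ, y = (⟨z, hZE hz⟩ : E) ^ i := by
      intro y hy
      obtain ⟨i, hi⟩ := exists_zpow_of_card_prime hZcard' hz hz1 hy
      exact ⟨i, Subtype.ext (by rw [Subgroup.coe_zpow]; exact hi.symm)⟩
    have hstar : ∀ v ∈ E, ∃ g ∈ Q, g ∉ E ∧ g * v = v * g := by
      intro v hv
      have h1 : ∀ x ∈ E.subgroupOf Q, ∀ y ∈ E.subgroupOf Q, x * y = y * x := by
        intro x hx y hy
        exact Subtype.ext (hab x (Subgroup.mem_subgroupOf.mp hx) y (Subgroup.mem_subgroupOf.mp hy))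
      have h2 : E.subgroupOf Q ≠ ⊤ := by
        intro h
        exact hne (le_antisymm hEQ (Subgroup.subgroupOf_eq_top.mp h))
      obtain ⟨g, hgE, hgv⟩ := exists_commute_not_mem hQ h5 (E.subgroupOf Q) h1 h2 ⟨v, hEQ hv⟩
        (Subgroup.mem_subgroupOf.mpr hv)
      exact ⟨(g : Ω), g.2, fun h => hgE (Subgroup.mem_subgroupOf.mpr h),
        congrArg Subtype.val hgv.eq⟩
    apply false_of_commuting_quot ((Inn E).subgroupOf (F.autGroup E)) hY T hT
    intro γ
    obtain ⟨zE, hzE⟩ : ∃ zE : E, zE = ⟨z, hZE hz⟩ := ⟨_, rfl⟩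
    obtain ⟨g, hgQ, hgE, hgz⟩ := hstar (((γ : MulAut E) zE : E) : Ω) (Subtype.property _)
    obtain ⟨h, hhQ, hhE, hhz⟩ := hstar ((((γ : MulAut E)⁻¹) zE : E) : Ω) (Subtype.property _)
    obtain ⟨bg, hbg⟩ : ∃ bg : MulAut E, bg = E.normalizerMonoidHom ⟨g, hQN g hgQ⟩ := ⟨_, rfl⟩
    obtain ⟨bh, hbh⟩ : ∃ bh : MulAut E, bh = E.normalizerMonoidHom ⟨h, hQN h hhQ⟩ := ⟨_, rfl⟩
    have hbgA : bg ∈ F.autGroup E := hbg ▸ hβA g hgQ
    have hbhA : bh ∈ F.autGroup E := hbh ▸ hβA h hhQ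
    refine ⟨⟨bg, hbgA⟩, ?_, ?_, ⟨bh, hbhA⟩, ?_, ?_, ?_⟩
    · rw [hTdef, Subgroup.mem_subgroupOf]
      exact (mem_autInducedBy_iff _).mpr
        ⟨g, hgQ, fun y => congrArg (fun b : MulAut E => ((b y : E) : Ω)) hbg⟩
    · intro hmem
      rw [Subgroup.mem_subgroupOf] at hmem
      exact hgE (hβinn g hgQ (hbg ▸ hmem))
    · rw [hTdef, Subgroup.mem_subgroupOf]
      exact (mem_autInducedBy_iff _).mpr
        ⟨h, hhQ, fun y => congrArg (fun b : MulAut E => ((b y : E) : Ω)) hbh⟩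
    · intro hmem
      rw [Subgroup.mem_subgroupOf] at hmem
      exact hhE (hβinn h hhQ (hbh ▸ hmem))
    · -- the two automorphisms commute
      have hbgfix : bg ((γ : MulAut E) zE) = (γ : MulAut E) zE := by
        apply Subtype.ext
        rw [hbg]
        show g * (((γ : MulAut E) zE : E) : Ω) * g⁻¹ = _
        rw [hgz, mul_inv_cancel_right]
      have hbhfix : bh ((γ : MulAut E)⁻¹ zE) = (γ : MulAut E)⁻¹ zE := by
        apply Subtype.ext
        rw [hbh]
        show h * ((((γ : MulAut E)⁻¹) zE : E) : Ω) * h⁻¹ = _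
        rw [hhz, mul_inv_cancel_right]
      have hf3 : ∀ y : E, (y : Ω) ∈ zSub Q → bg ((γ : MulAut E) y) = (γ : MulAut E) y := by
        intro y hy
        obtain ⟨i, rfl⟩ := hgen y hy
        rw [← hzE, map_zpow, map_zpow, hbgfix]
      have hf4 : ∀ y : E, (y : Ω) ∈ zSub Q →
          (γ : MulAut E) (bh ((γ : MulAut E)⁻¹ y)) = y := by
        intro y hy
        obtain ⟨i, rfl⟩ := hgen y hy
        rw [← hzE, map_zpow, map_zpow, hbhfix, ← map_zpow, MulAut.apply_inv_self]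
      apply Subtype.ext
      apply MulEquiv.ext
      intro e
      show bg ((γ : MulAut E) (bh ((γ : MulAut E)⁻¹ e))) =
        (γ : MulAut E) (bh ((γ : MulAut E)⁻¹ (bg e)))
      obtain ⟨ζ', hζ'Z, hζ'⟩ := hζ h hhQ ((γ : MulAut E)⁻¹ e)
      obtain ⟨ζ, hζZ, hζe⟩ := hζ g hgQ e
      rw [← hbh] at hζ'
      rw [← hbg] at hζe
      have h1 : (γ : MulAut E) (bh ((γ : MulAut E)⁻¹ e)) = e * (γ : MulAut E) ζ' := by
        rw [hζ', map_mul, MulAut.apply_inv_self]
      have h2 : (γ : MulAut E) (bh ((γ : MulAut E)⁻¹ (bg e))) = e * (γ : MulAut E) ζ' * ζ := by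
        rw [hζe, map_mul, map_mul, map_mul, hf4 ζ hζZ, hζ', map_mul, MulAut.apply_inv_self]
      rw [h1, h2, map_mul, hζe, hf3 ζ' hζ'Z, mul_assoc, mul_assoc]
      congr 1
      exact Subtype.ext (hab _ ζ.2 _ ((γ : MulAut E) ζ').2)
  · -- `E` nonabelian: the centre of `Q` is the derived subgroup of `E`
    push Not at hab
    obtain ⟨e1, he1, e2, he2, h12⟩ := hab
    obtain ⟨w, hw⟩ : ∃ w, w = e1 * e2 * e1⁻¹ * e2⁻¹ := ⟨_, rfl⟩
    have hwZ : w ∈ zSub Q := hw ▸ comm_mem_zSub (hEQ he1) (hEQ he2)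
    have hw1 : w ≠ 1 := by
      intro h
      apply h12
      have : e1 * e2 = (e1 * e2 * e1⁻¹ * e2⁻¹) * (e2 * e1) := by group
      rw [this, ← hw, h, one_mul]
    have hZcard' : Nat.card ↥(zSub Q) = p := card_zSub hZcard
    obtain ⟨N, hN⟩ : ∃ N : Subgroup ↥E, N = (zSub Q).subgroupOf E := ⟨_, rfl⟩
    have hNinv : ∀ α : MulAut E, ∀ y ∈ N, α y ∈ N := by
      intro α y hy
      rw [hN, Subgroup.mem_subgroupOf] at hy ⊢
      obtain ⟨i, hi⟩ := exists_zpow_of_card_prime hZcard' hwZ hw1 hy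
      have hy' : y = ((⟨e1, he1⟩ : E) * ⟨e2, he2⟩ * (⟨e1, he1⟩ : E)⁻¹ * (⟨e2, he2⟩ : E)⁻¹) ^ i := by
        apply Subtype.ext
        rw [Subgroup.coe_zpow, ← hi, hw]
        rfl
      rw [hy', map_zpow, map_mul, map_mul, map_mul, map_inv, map_inv, Subgroup.coe_zpow]
      apply Subgroup.zpow_mem
      exact comm_mem_zSub (hEQ (α ⟨e1, he1⟩).2) (hEQ (α ⟨e2, he2⟩).2)
    obtain ⟨c, hc⟩ : ∃ c : ℕ → Subgroup ↥E, c = fun i => if i = 0 then ⊥ else if i = 1 then N else ⊤ :=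
      ⟨_, rfl⟩
    have hc0 : c 0 = ⊥ := by rw [hc]; simp
    have hc1 : c 1 = N := by rw [hc]; simp
    have hc2 : ∀ i, 2 ≤ i → c i = ⊤ := by
      intro i hi
      rw [hc]
      have h0 : i ≠ 0 := by omega
      have h1 : i ≠ 1 := by omega
      simp [h0, h1]
    have hmono : ∀ i, c i ≤ c (i + 1) := by
      intro i
      rcases Nat.lt_or_ge i 1 with h | h
      · have : i = 0 := by omega
        rw [this, hc0]; exact bot_le
      · rw [hc2 (i + 1) (by omega)]; exact le_top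
    have hinv : ∀ i, ∀ α ∈ F.autGroup E, ∀ y ∈ c i, α y ∈ c i := by
      intro i α _ y hy
      rcases Nat.lt_or_ge i 2 with h | h
      · rcases Nat.lt_or_ge i 1 with h' | h'
        · have : i = 0 := by omega
          rw [this, hc0] at hy ⊢
          rw [Subgroup.mem_bot] at hy ⊢
          rw [hy, map_one]
        · have : i = 1 := by omega
          rw [this, hc1] at hy ⊢
          exact hNinv α y hy
      · rw [hc2 i h]; trivial
    obtain ⟨β, hβ⟩ : ∃ β : MulAut E, β = E.normalizerMonoidHom ⟨g₀, hQN g₀ hg₀Q⟩ := ⟨_, rfl⟩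
    have hβst : StabilizesChain (F.autGroup E) c β := by
      refine ⟨hβ ▸ hβA g₀ hg₀Q, fun i y hy => ?_⟩
      rcases Nat.lt_or_ge i 2 with h | h
      · rcases Nat.lt_or_ge i 1 with h' | h'
        · have hi : i = 0 := by omega
          rw [hi] at hy ⊢
          rw [zero_add, hc1, hN, Subgroup.mem_subgroupOf] at hy
          rw [hc0, Subgroup.mem_bot]
          apply Subtype.ext
          rw [hβ]
          show (y : Ω)⁻¹ * (g₀ * (y : Ω) * g₀⁻¹) = 1
          rw [hZc _ hy g₀ hg₀Q, mul_inv_cancel_right, inv_mul_cancel]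
        · have hi : i = 1 := by omega
          rw [hi, hc1, hN, Subgroup.mem_subgroupOf]
          obtain ⟨ζ, hζZ, hζe⟩ := hζ g₀ hg₀Q y
          rw [hβ, hζe, inv_mul_cancel_left]
          exact hζZ
      · rw [hc2 i h]; trivial
    have hmem := mem_pCore_of_stabilizesChain p hEp (F.autGroup E) c 2 hmono (hc2 2 le_rfl) hinv
      (fun α _ => ⟨0, fun y hy => by
        rw [hc0, Subgroup.mem_bot] at hy
        rw [hy, map_one]⟩) hβst
    rw [hRr.2] at hmem
    exact hg₀E (hβinn g₀ hg₀Q (hβ ▸ hmem))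

end Fusion

end Cfsg.Agent.Helper21.ExtraIndexP
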