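import Mathlib
import Cfsg.Agent.Lib.Helper12.F4CDefs
import Cfsg.Agent.Lib.Lead.TwClsAutPar
import Cfsg.Agent.Lib.Lead.TwReeCount

/-!
# S2369 piece ZCORE: the centralizer of the central involution `U4 f 0 1` of `²F₄(q)` lies in `B¹ ∪ B¹ n_b B¹`
-/

set_option autoImplicit false
set_option linter.unusedSectionVars false
set_option linter.unusedSimpArgs false
set_option linter.unusedVariables false

namespace Cfsg.Agent.Helper12.F4C

open Cfsg Cfsg.Lie Cfsg.Agent.Lead.Chev Cfsg.Agent.Lead.Tw Cfsg.Agent.Helper11.F4I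

variable {K : Type*} [Field K] [Fintype K] [CharP K 2] {m : ℕ} (hK : Fintype.card K = 2 ^ (2 * m + 1))
  (hperf : ∀ x : K, ∃ y : K, y ^ 2 = x) (f : K ≃+* K) (hf : ∀ t, f t = t ^ (2 ^ m))
include hK hperf hf

/-- PIECE ZCORE: the centralizer of the central involution `U4 f 0 1` lies in `B¹ ∪ B¹ n_b B¹` -/
theorem cent_z (g : GL chevF4.Idx K) (hg : g ∈ twistedF4 K (2 ^ m)) (h : g * U4 f 0 1 * g⁻¹ = U4 f 0 1) :
    g ∈ chevF4.borelSubgroup K ∨
    ∃ b ∈ chevF4.borelSubgroup K ⊓ twistedF4 K (2 ^ m), ∃ u ∈ chevF4.borelSubgroup K ⊓ twistedF4 K (2 ^ m),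
      g = b * nWordGL chevF4 (F4.hF (K := K)).xadd [1, 2, 1, 2] * u := by
  have hcd := F4.clsData hK hperf f hf
  have hG := hcd.twGroup F4.hS F4.hC
  obtain ⟨l, hl, hred, b, hb, u, hu, hfix, rfl⟩ := hcd.exists_bruhat F4.hS F4.hC g hg
  obtain ⟨hbB, hbG⟩ := Subgroup.mem_inf.1 hb
  have hw : ∀ i ∈ wordOf l, i < chevF4.rank := wordOf_valid F4.S l hcd.gen.valid hl
  have hu' : u ∈ chevF4.posUnipotent K := (F4.hF (K := K)).negPart_le_posUnipotent (wordOf l) hu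
  have huB : u ∈ chevF4.borelSubgroup K := posUnipotent_le_borel chevF4 hu'
  have huG : u ∈ twistedF4 K (2 ^ m) := hG.U_le u hu' hfix
  have h3 := hff hK f hf
  have hmem : l ∈ f4Chains := chain_mem_all l hl hred
  rcases ztab l hmem with rfl | rfl | ⟨w', _, hw'v, hp44, hp47, hn44, hn47⟩
  · left
    have : wordOf ([] : List (List ℕ)) = [] := rfl
    rw [this, nWordGL_nil, mul_one]
    exact mul_mem hbB huB
  · right
    have : wordOf [[1, 2, 1, 2]] = [1, 2, 1, 2] := by simp [wordOf]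
    rw [this]
    exact ⟨b, hb, u, ⟨huB, huG⟩, rfl⟩
  · exfalso
    have hz : U4 f 0 1 = X 44 1 * X 47 ((f 1) ^ 2) := by
      simp only [U4, UB, map_zero, X_zero, one_mul, zero_mul, zero_add]
    generalize hd : (f (1 : K)) ^ 2 = d at hz
    have h44 : (44 : ℕ) < chevF4.nroots := by rw [nroots48]; norm_num
    have h47 : (47 : ℕ) < chevF4.nroots := by rw [nroots48]; norm_num
    have hz_ne : X 44 (1 : K) * X 47 d ≠ 1 := by
      intro h1
      rw [← hz, ← NF_U4 f 0 1, ← NF_zero f] at h1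
      exact one_ne_zero (NF_inj f h3 h1).2.2.2.2.2.1
    -- `n z n⁻¹ = b⁻¹ z b`
    have hcz : u * (X 44 1 * X 47 d) * u⁻¹ = X 44 1 * X 47 d := by
      rw [NCJ.z_central 1 d u hu']; group
    rw [hz] at h
    set n := nWordGL chevF4 (F4.hF (K := K)).xadd (wordOf l) with hn
    have e1 : n * (X 44 1 * X 47 d) * n⁻¹ = b⁻¹ * (X 44 1 * X 47 d) * b := by
      have : b * n * u * (X 44 1 * X 47 d) * (b * n * u)⁻¹ =
          b * (n * (u * (X 44 1 * X 47 d) * u⁻¹) * n⁻¹) * b⁻¹ := by group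
      rw [this, hcz] at h
      calc n * (X 44 1 * X 47 d) * n⁻¹ = b⁻¹ * (b * (n * (X 44 1 * X 47 d) * n⁻¹) * b⁻¹) * b := by group
        _ = b⁻¹ * (X 44 1 * X 47 d) * b := by rw [h]
    obtain ⟨u₁, hu₁, dd, hdd, hbe⟩ := hcd.borel_decomp F4.hS F4.hC b hbB hbG
    obtain ⟨hddD, hddG⟩ := Subgroup.mem_inf.1 hdd
    obtain ⟨c1, hc1, hconj1⟩ := (F4.hF (K := K)).diagonal_conj_xGL dd⁻¹ (inv_mem hddD) 44 h44
    obtain ⟨c2, hc2, hconj2⟩ := (F4.hF (K := K)).diagonal_conj_xGL dd⁻¹ (inv_mem hddD) 47 h47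
    have hcz1 : u₁⁻¹ * (X 44 1 * X 47 d) * u₁ = X 44 1 * X 47 d := by
      have := NCJ.z_central (1 : K) d u₁ hu₁.1
      calc u₁⁻¹ * (X 44 1 * X 47 d) * u₁ = u₁⁻¹ * (X 44 1 * X 47 d * u₁) := by group
        _ = u₁⁻¹ * (u₁ * (X 44 1 * X 47 d)) := by rw [this]
        _ = X 44 1 * X 47 d := by group
    have e2 : n * (X 44 1 * X 47 d) * n⁻¹ = X 44 (c1 * 1) * X 47 (c2 * d) := by
      rw [e1, hbe]
      show _ = xGL chevF4 (F4.hF (K := K)).xadd 44 (c1 * 1) * xGL chevF4 (F4.hF (K := K)).xadd 47 (c2 * d)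
      rw [← hconj1 1, ← hconj2 d]
      have : (u₁ * dd)⁻¹ * (X 44 1 * X 47 d) * (u₁ * dd) = dd⁻¹ * (u₁⁻¹ * (X 44 1 * X 47 d) * u₁) * dd := by group
      rw [this, hcz1]
      show dd⁻¹ * (xGL chevF4 (F4.hF (K := K)).xadd 44 1 * xGL chevF4 (F4.hF (K := K)).xadd 47 d) * dd = _
      group
    set n' := nWordGL chevF4 (F4.hF (K := K)).xadd w' with hn'
    have hww : ∀ i ∈ w' ++ wordOf l, i < chevF4.rank := by
      intro i hi
      rcases List.mem_append.1 hi with hi | hi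
      · exact hw'v i hi
      · exact hw i hi
    have e3 : n' * (X 44 (c1 * 1) * X 47 (c2 * d)) * n'⁻¹ =
        X (reflWord chevF4 w' 44) (c1 * 1) * X (reflWord chevF4 w' 47) (c2 * d) := by
      rw [← nconj w' hw'v 44 h44, ← nconj w' hw'v 47 h47, ← hn']
      group
    have e4 : n' * (n * (X 44 1 * X 47 d) * n⁻¹) * n'⁻¹ =
        X (reflWord chevF4 (w' ++ wordOf l) 44) 1 * X (reflWord chevF4 (w' ++ wordOf l) 47) d := by
      rw [← nconj (w' ++ wordOf l) hww 44 h44, ← nconj (w' ++ wordOf l) hww 47 h47, nWordGL_append, ← hn', ← hn]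
      group
    have hV : X (reflWord chevF4 (w' ++ wordOf l) 44) (1 : K) * X (reflWord chevF4 (w' ++ wordOf l) 47) d ∈
        chevF4.negUnipotent K :=
      mul_mem (Subgroup.subset_closure ⟨_, 1, hn44, by rw [xGL_val]⟩)
        (Subgroup.subset_closure ⟨_, d, hn47, by rw [xGL_val]⟩)
    have hB : X (reflWord chevF4 (w' ++ wordOf l) 44) (1 : K) * X (reflWord chevF4 (w' ++ wordOf l) 47) d ∈
        chevF4.borelSubgroup K := by
      rw [← e4, e2, e3]
      exact posUnipotent_le_borel chevF4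
        (mul_mem (Subgroup.subset_closure ⟨_, c1 * 1, hp44, by rw [xGL_val]⟩)
          (Subgroup.subset_closure ⟨_, c2 * d, hp47, by rw [xGL_val]⟩))
    have h1 : X (reflWord chevF4 (w' ++ wordOf l) 44) (1 : K) * X (reflWord chevF4 (w' ++ wordOf l) 47) d ∈
        chevF4.borelSubgroup K ⊓ chevF4.negUnipotent K := ⟨hB, hV⟩
    rw [(F4.hF (K := K)).borel_inf_negUnipotent, Subgroup.mem_bot] at h1
    rw [h1] at e4
    apply hz_ne
    calc X 44 (1 : K) * X 47 d = n⁻¹ * (n'⁻¹ * (n' * (n * (X 44 1 * X 47 d) * n⁻¹) * n'⁻¹) * n') * n := by group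
      _ = 1 := by rw [e4]; group

end Cfsg.Agent.Helper12.F4C
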