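import Mathlib
import Cfsg.Agent.Lib.Helper4.ZJCore

set_option autoImplicit false
open scoped commutatorElement

/-! Glauberman's ZJ-theorem for a fixed family of abelian subgroups of a Sylow `p`-subgroup
(invariance only for subgroups containing a member, replacement only for class two). Adapted
from `Cfsg.Agent.Helper4.ZJ`. -/

namespace Cfsg.Agent.Helper21.FamZJ

open Cfsg Cfsg.Agent.Helper4.ZJ

variable {G : Type*} [Group G]

/-- `I(Q)`: the intersection of the members of the family contained in `Q`. -/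
def Ifam (𝒜 : Set (Subgroup G)) (Q : Subgroup G) : Subgroup G :=
  ⨅ A ∈ {A : Subgroup G | A ∈ 𝒜 ∧ A ≤ Q}, A

theorem Ifam_le {𝒜 : Set (Subgroup G)} {Q A : Subgroup G} (hA : A ∈ 𝒜) (hAQ : A ≤ Q) :
    Ifam 𝒜 Q ≤ A :=
  iInf₂_le (f := fun (A : Subgroup G) (_ : A ∈ {A : Subgroup G | A ∈ 𝒜 ∧ A ≤ Q}) => A) A
    ⟨hA, hAQ⟩

theorem le_Ifam {𝒜 : Set (Subgroup G)} {Q B : Subgroup G}
    (h : ∀ A ∈ 𝒜, A ≤ Q → B ≤ A) : B ≤ Ifam 𝒜 Q :=
  le_iInf₂ (fun A hA => h A hA.1 hA.2)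

theorem Ifam_mono {𝒜 : Set (Subgroup G)} {Q Q₂ : Subgroup G} (h : Q₂ ≤ Q) :
    Ifam 𝒜 Q ≤ Ifam 𝒜 Q₂ :=
  le_Ifam (fun _ hA hAQ₂ => Ifam_le hA (hAQ₂.trans h))

/-- The hypotheses on the family. -/
structure Hyp (P : Subgroup G) (𝒜 : Set (Subgroup G)) : Prop where
  le : ∀ A ∈ 𝒜, A ≤ P
  comm : ∀ A ∈ 𝒜, ∀ x ∈ A, ∀ y ∈ A, x * y = y * x
  ne : 𝒜.Nonempty
  inv : ∀ Q : Subgroup G, Q ≤ P → (∃ A ∈ 𝒜, A ≤ Q) →
    Subgroup.normalizer (Q : Set G) ≤ Subgroup.normalizer (Ifam 𝒜 Q : Set G)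
  rep : ∀ B : Subgroup G, B ≤ P → ⁅⁅B, B⁆, B⁆ = ⊥ → (∃ A ∈ 𝒜, ⁅B, B⁆ ≤ A ∧ ¬ B ≤ A) →
    ∃ A ∈ 𝒜, ⁅B, B⁆ ≤ A ∧ ¬ B ≤ A ∧ B ≤ Subgroup.normalizer (A : Set G)

variable {p : ℕ} [Finite G] [hp : Fact p.Prime]

theorem inf_normal (P : Sylow p G) (𝒜 : Set (Subgroup G)) (h : Hyp (P : Subgroup G) 𝒜)
    (hst : Stab p G) :
    ∀ n : ℕ, ∀ B : Subgroup G, B.Normal → IsPGroup p B → Nat.card B ≤ n →
      (Ifam 𝒜 (P : Subgroup G) ⊓ B).Normal := by
  intro n
  induction n using Nat.strong_induction_on with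
  | _ n ih =>
  intro B hBn hBp hcard
  obtain ⟨A₀, hA₀⟩ := h.ne
  set Z := Ifam 𝒜 (P : Subgroup G) with hZ
  have hBP : B ≤ P := Cfsg.Agent.Helper23.PSolv.normal_pGroup_le_sylow B hBp P
  have hPZ : (P : Subgroup G) ≤ Subgroup.normalizer (Z : Set G) :=
    Subgroup.le_normalizer.trans (h.inv _ le_rfl ⟨A₀, hA₀, h.le A₀ hA₀⟩)
  have hZcomm : ∀ x ∈ Z, ∀ y ∈ Z, x * y = y * x := fun x hx y hy =>
    h.comm A₀ hA₀ x (Ifam_le hA₀ (h.le A₀ hA₀) hx) y (Ifam_le hA₀ (h.le A₀ hA₀) hy)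
  -- Z₁ is normalized by P
  have hZ₁P : ∀ x ∈ (P : Subgroup G), ∀ z ∈ Z ⊓ B, x * z * x⁻¹ ∈ Z ⊓ B := by
    intro x hx z hz
    obtain ⟨hzZ, hzB⟩ := Subgroup.mem_inf.1 hz
    refine Subgroup.mem_inf.2 ⟨?_, hBn.conj_mem z hzB x⟩
    have := hPZ hx
    rw [Subgroup.mem_normalizer_iff] at this
    exact (this z).1 hzZ
  set B₁ := Subgroup.normalClosure ((Z ⊓ B : Subgroup G) : Set G) with hB₁
  have hB₁le : B₁ ≤ B := Subgroup.normalClosure_le_normal (fun x hx => (Subgroup.mem_inf.1 hx).2)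
  have hZ₁B₁ : Z ⊓ B ≤ B₁ := Subgroup.le_normalClosure
  by_cases hB₁B : B₁ = B
  · by_cases hall : ∀ U ∈ 𝒜, B ≤ U
    · have : B ≤ Z := le_Ifam (fun U hU _ => hall U hU)
      rw [inf_eq_right.2 this]; exact hBn
    · exfalso
      push Not at hall
      obtain ⟨U, hU, hBU⟩ := hall
      -- B is nontrivial
      have hBne : B ≠ ⊥ := by
        intro h'; apply hBU; rw [h']; exact bot_le
      -- the derived subgroup is smaller
      have hB'n : (⁅B, B⁆ : Subgroup G).Normal := inferInstance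
      have hB'le : ⁅B, B⁆ ≤ B := Subgroup.commutator_le_left B B
      have hB'lt : Nat.card (⁅B, B⁆ : Subgroup G) < Nat.card B := by
        have hnil : Group.IsNilpotent B := hBp.isNilpotent
        have hnt : Nontrivial B := by
          rw [Subgroup.nontrivial_iff_ne_bot]; exact hBne
        have h1 : commutator B < ⊤ := IsSolvable.commutator_lt_top_of_nontrivial B
        have h2 : ⁅B, B⁆ = (commutator B).map B.subtype := by
          rw [commutator_def, Subgroup.map_commutator, ← MonoidHom.range_eq_map,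
            Subgroup.range_subtype]
        have h3 : Nat.card (⁅B, B⁆ : Subgroup G) = Nat.card (commutator B) := by
          rw [h2]; exact Subgroup.card_map_of_injective B.subtype_injective
        rw [h3]
        rcases (Subgroup.card_le_of_le h1.le).lt_or_eq with h4 | h4
        · rwa [Subgroup.card_top] at h4
        · exfalso
          have := Subgroup.eq_of_le_of_card_ge h1.le h4.symm.le
          exact h1.ne this
      have hNn : (Z ⊓ ⁅B, B⁆).Normal :=
        ih _ (lt_of_lt_of_le hB'lt hcard) ⁅B, B⁆ hB'n (hBp.to_le hB'le) le_rfl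
      -- the commutators of the generators lie in N
      have hB'N : ⁅B, B⁆ ≤ Z ⊓ ⁅B, B⁆ := by
        have hBcl : Subgroup.closure
            (Group.conjugatesOfSet ((Z ⊓ B : Subgroup G) : Set G)) = B := hB₁B
        have hTB : ∀ y ∈ Group.conjugatesOfSet ((Z ⊓ B : Subgroup G) : Set G), y ∈ B := by
          intro y hy
          exact hB₁le (Subgroup.conjugatesOfSet_subset_normalClosure hy)
        have key := commutator_closure_le_normal (Z ⊓ ⁅B, B⁆)
          (Group.conjugatesOfSet ((Z ⊓ B : Subgroup G) : Set G)) (by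
            intro x hx y hy
            rw [Group.mem_conjugatesOfSet_iff] at hx
            obtain ⟨z, hz, hzx⟩ := hx
            rw [isConj_iff] at hzx
            obtain ⟨g, rfl⟩ := hzx
            have hyB := hTB y hy
            have hy'B : g⁻¹ * y * g⁻¹⁻¹ ∈ B := hBn.conj_mem y hyB g⁻¹
            have hzB : z ∈ B := (Subgroup.mem_inf.1 hz).2
            have h1 : ⁅z, g⁻¹ * y * g⁻¹⁻¹⁆ ∈ Z ⊓ ⁅B, B⁆ := by
              refine Subgroup.mem_inf.2 ⟨?_, Subgroup.commutator_mem_commutator hzB hy'B⟩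
              have h2 := hZ₁P _ (hBP hy'B) z⁻¹ (Subgroup.inv_mem _ hz)
              have h3 := Subgroup.mul_mem _ hz h2
              have e : ⁅z, g⁻¹ * y * g⁻¹⁻¹⁆ =
                  z * ((g⁻¹ * y * g⁻¹⁻¹) * z⁻¹ * (g⁻¹ * y * g⁻¹⁻¹)⁻¹) := by
                rw [commutatorElement_def]; group
              rw [e]; exact (Subgroup.mem_inf.1 h3).1
            have h4 := hNn.conj_mem _ h1 g
            have e2 : g * ⁅z, g⁻¹ * y * g⁻¹⁻¹⁆ * g⁻¹ = ⁅g * z * g⁻¹, y⁆ := by
              simp only [commutatorElement_def]; group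
            rw [← e2]; exact h4)
        rw [hBcl] at key
        exact key
      have hB'Z : ⁅B, B⁆ ≤ Z := hB'N.trans inf_le_left
      -- class two
      have hcl2 : ⁅⁅B, B⁆, B⁆ = ⊥ := by
        rw [Subgroup.commutator_comm, Subgroup.commutator_eq_bot_iff_le_centralizer]
        have hCn : (Subgroup.centralizer ((⁅B, B⁆ : Subgroup G) : Set G)).Normal := inferInstance
        have h1 : ((Z ⊓ B : Subgroup G) : Set G) ⊆
            (Subgroup.centralizer ((⁅B, B⁆ : Subgroup G) : Set G) : Subgroup G) := by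
          intro x hx
          rw [SetLike.mem_coe, Subgroup.mem_centralizer_iff]
          intro y hy
          exact hZcomm y (hB'Z hy) x (Subgroup.mem_inf.1 hx).1
        have h2 : B₁ ≤ Subgroup.centralizer ((⁅B, B⁆ : Subgroup G) : Set G) :=
          Subgroup.normalClosure_le_normal h1
        rwa [hB₁B] at h2
      -- replacement
      obtain ⟨A, hA, hB'A, hBnA, hBNA⟩ :=
        h.rep B hBP hcl2 ⟨U, hU, hB'Z.trans (Ifam_le hU (h.le U hU)), hBU⟩
      have hAP : A ≤ P := h.le A hA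
      -- quadratic action
      have hq : ⁅⁅B, A⁆, A⁆ = ⊥ := by
        have hAA : ⁅A, A⁆ = ⊥ := by
          rw [Subgroup.commutator_eq_bot_iff_le_centralizer]
          intro x hx
          rw [Subgroup.mem_centralizer_iff]
          intro y hy
          exact h.comm A hA y hy x hx
        rw [eq_bot_iff, ← hAA]
        refine Subgroup.commutator_mono ?_ le_rfl
        rw [Subgroup.commutator_le]
        intro b hb a ha
        have hbn := hBNA hb
        rw [Subgroup.mem_normalizer_iff] at hbn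
        rw [commutatorElement_def]
        exact A.mul_mem ((hbn a).1 ha) (A.inv_mem ha)
      have hAK : A ≤ KK p B := le_KK_of_quadratic hst B hBp A (P.2.to_le hAP) hq
      set P₂ := (P : Subgroup G) ⊓ KK p B with hP₂
      have hAP₂ : A ≤ P₂ := le_inf hAP hAK
      have hZZ₂ : Z ≤ Ifam 𝒜 P₂ := Ifam_mono inf_le_left
      -- X = I(P₂) ∩ B is normal in G
      have hXn : ∀ g : G, ∀ x ∈ Ifam 𝒜 P₂ ⊓ B, g * x * g⁻¹ ∈ Ifam 𝒜 P₂ ⊓ B := by
        intro g x hx
        obtain ⟨hxZ, hxB⟩ := Subgroup.mem_inf.1 hx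
        obtain ⟨m, hm, c, hc, rfl⟩ := exists_mul_normalizer_centralizer P B g
        have hcx : c * x * c⁻¹ = x := by
          rw [Subgroup.mem_centralizer_iff] at hc
          rw [← hc x hxB]; group
        have e : m * c * x * (m * c)⁻¹ = m * (c * x * c⁻¹) * m⁻¹ := by group
        rw [e, hcx]
        refine Subgroup.mem_inf.2 ⟨?_, hBn.conj_mem x hxB m⟩
        have := h.inv P₂ inf_le_left ⟨A, hA, hAP₂⟩ hm
        rw [Subgroup.mem_normalizer_iff] at this
        exact (this x).1 hxZ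
      have hXnormal : (Ifam 𝒜 P₂ ⊓ B).Normal := ⟨fun x hx g => hXn g x hx⟩
      have hZ₁X : ((Z ⊓ B : Subgroup G) : Set G) ⊆ (Ifam 𝒜 P₂ ⊓ B : Subgroup G) :=
        fun x hx => Subgroup.mem_inf.2 ⟨hZZ₂ (Subgroup.mem_inf.1 hx).1, (Subgroup.mem_inf.1 hx).2⟩
      have hBX : B ≤ Ifam 𝒜 P₂ ⊓ B := by
        have h5 : B₁ ≤ Ifam 𝒜 P₂ ⊓ B := Subgroup.normalClosure_le_normal hZ₁X
        rwa [hB₁B] at h5
      exact hBnA ((hBX.trans inf_le_left).trans (Ifam_le hA hAP₂))
  · -- B₁ < B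
    have hlt : Nat.card B₁ < Nat.card B := by
      rcases (Subgroup.card_le_of_le hB₁le).lt_or_eq with h4 | h4
      · exact h4
      · exfalso
        exact hB₁B (Subgroup.eq_of_le_of_card_ge hB₁le h4.symm.le)
    have hB₁n : B₁.Normal := Subgroup.normalClosure_normal
    have := ih _ (lt_of_lt_of_le hlt hcard) B₁ hB₁n (hBp.to_le hB₁le) le_rfl
    have heq : Z ⊓ B₁ = Z ⊓ B := by
      apply le_antisymm
      · exact inf_le_inf_left _ hB₁le
      · exact le_inf inf_le_left hZ₁B₁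
    rw [← heq]; exact this

/-- **Glauberman's ZJ-theorem** for a family. -/
theorem Z_normal (P : Sylow p G) (𝒜 : Set (Subgroup G)) (h : Hyp (P : Subgroup G) 𝒜)
    (hst : Stab p G)
    (hc : Subgroup.centralizer (pCore p G : Set G) ≤ pCore p G) :
    (Ifam 𝒜 (P : Subgroup G)).Normal := by
  obtain ⟨A₀, hA₀⟩ := h.ne
  set Q := pCore p G with hQ
  have hQp : IsPGroup p Q := Cfsg.Agent.Helper10.pCore_isPGroup p
  have hQP : Q ≤ P := Cfsg.Agent.Helper23.PSolv.pCore_le_sylow P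
  set Z := Ifam 𝒜 (P : Subgroup G) with hZ
  have hPZ : (P : Subgroup G) ≤ Subgroup.normalizer (Z : Set G) :=
    Subgroup.le_normalizer.trans (h.inv _ le_rfl ⟨A₀, hA₀, h.le A₀ hA₀⟩)
  have hZP : Z ≤ P := (Ifam_le hA₀ (h.le A₀ hA₀)).trans (h.le A₀ hA₀)
  have hZcomm : ∀ x ∈ Z, ∀ y ∈ Z, x * y = y * x := fun x hx y hy =>
    h.comm A₀ hA₀ x (Ifam_le hA₀ (h.le A₀ hA₀) hx) y (Ifam_le hA₀ (h.le A₀ hA₀) hy)
  -- Z acts quadratically on Q
  have hq : ⁅⁅Q, Z⁆, Z⁆ = ⊥ := by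
    have hZZ : ⁅Z, Z⁆ = ⊥ := by
      rw [Subgroup.commutator_eq_bot_iff_le_centralizer]
      intro x hx
      rw [Subgroup.mem_centralizer_iff]
      intro y hy
      exact hZcomm y hy x hx
    rw [eq_bot_iff, ← hZZ]
    refine Subgroup.commutator_mono ?_ le_rfl
    rw [Subgroup.commutator_le]
    intro b hb a ha
    have hbn := hPZ (hQP hb)
    rw [Subgroup.mem_normalizer_iff] at hbn
    rw [commutatorElement_def]
    exact Z.mul_mem ((hbn a).1 ha) (Z.inv_mem ha)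
  have hZK : Z ≤ KK p Q := le_KK_of_quadratic hst Q hQp Z (P.2.to_le hZP) hq
  -- K_Q is a normal p-subgroup
  have hKp : IsPGroup p (KK p Q) := by
    unfold KK
    apply IsPGroup.comap_of_ker_isPGroup (Cfsg.Agent.Helper10.pCore_isPGroup p)
    rw [QuotientGroup.ker_mk']
    exact hQp.to_le hc
  have hKQ : KK p Q ≤ Q := le_sSup ⟨inferInstance, hKp⟩
  have hZQ : Z ≤ Q := hZK.trans hKQ
  have := inf_normal P 𝒜 h hst (Nat.card Q) Q inferInstance hQp le_rfl
  rwa [inf_eq_left.2 hZQ] at this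

end Cfsg.Agent.Helper21.FamZJ
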