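import Mathlib
import Cfsg.Agent.Lib.Helper21.FamZJ
import Cfsg.Agent.Lib.Helper4.GTAbstract
import Cfsg.Agent.S0659

set_option autoImplicit false
open scoped commutatorElement

/-! The Glauberman--Thompson normal `p`-complement theorem for a fixed family of abelian
subgroups of a Sylow `p`-subgroup, in a group having a self-centralizing normal `p`-subgroup. -/

namespace Cfsg.Agent.Helper21.FamGT

open Cfsg Cfsg.Agent.Helper10 Cfsg.Agent.Helper4.NPCB Cfsg.Agent.Helper21.FamZJ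

universe u

/-- the family transported to a subgroup -/
def subFam {G : Type*} [Group G] (L : Subgroup G) (𝒜 : Set (Subgroup G)) : Set (Subgroup ↥L) :=
  {A' | ∃ A ∈ 𝒜, A' = A.subgroupOf L}

theorem Ifam_subFam {G : Type*} [Group G] (L : Subgroup G) (𝒜 : Set (Subgroup G))
    (hL : ∀ A ∈ 𝒜, A ≤ L) (Q' : Subgroup ↥L) :
    Ifam (subFam L 𝒜) Q' = (Ifam 𝒜 (Q'.map L.subtype)).subgroupOf L := by
  apply le_antisymm
  · have h1 : (Ifam (subFam L 𝒜) Q').map L.subtype ≤ Ifam 𝒜 (Q'.map L.subtype) := by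
      apply le_Ifam
      intro A hA hAQ
      have h2 : A.subgroupOf L ≤ Q' := by
        intro y hy
        obtain ⟨z, hz, hzy⟩ := hAQ (Subgroup.mem_subgroupOf.mp hy)
        have : z = y := Subtype.ext hzy
        rwa [← this]
      have h3 : Ifam (subFam L 𝒜) Q' ≤ A.subgroupOf L := Ifam_le ⟨A, hA, rfl⟩ h2
      rintro _ ⟨x, hx, rfl⟩
      exact Subgroup.mem_subgroupOf.mp (h3 hx)
    intro x hx
    rw [Subgroup.mem_subgroupOf]
    exact h1 ⟨x, hx, rfl⟩
  · apply le_Ifam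
    rintro A' ⟨A, hA, rfl⟩ hA'Q'
    have h2 : A ≤ Q'.map L.subtype := by
      intro a ha
      exact ⟨⟨a, hL A hA ha⟩, hA'Q' (Subgroup.mem_subgroupOf.mpr ha), rfl⟩
    intro x hx
    rw [Subgroup.mem_subgroupOf] at hx ⊢
    exact Ifam_le hA h2 hx

variable {p : ℕ} [hpp : Fact p.Prime]

theorem hyp_subFam {G : Type*} [Group G] [Finite G] (L : Subgroup G) (P : Sylow p G)
    (hPL : (P : Subgroup G) ≤ L) (𝒜 : Set (Subgroup G)) (h : Hyp (P : Subgroup G) 𝒜) :
    Hyp ((P.subtype hPL : Sylow p ↥L) : Subgroup ↥L) (subFam L 𝒜) := by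
  have hL : ∀ A ∈ 𝒜, A ≤ L := fun A hA => (h.le A hA).trans hPL
  have hcoe : ((P.subtype hPL : Sylow p ↥L) : Subgroup ↥L) = (P : Subgroup G).subgroupOf L :=
    Sylow.coe_subtype P hPL
  rw [hcoe]
  have hmapP : ∀ Q' : Subgroup ↥L, Q' ≤ (P : Subgroup G).subgroupOf L →
      Q'.map L.subtype ≤ (P : Subgroup G) := by
    intro Q' hQ'
    rintro _ ⟨x, hx, rfl⟩
    exact Subgroup.mem_subgroupOf.mp (hQ' hx)
  refine ⟨?_, ?_, ?_, ?_, ?_⟩
  · rintro A' ⟨A, hA, rfl⟩ x hx
    rw [Subgroup.mem_subgroupOf] at hx ⊢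
    exact h.le A hA hx
  · rintro A' ⟨A, hA, rfl⟩ x hx y hy
    rw [Subgroup.mem_subgroupOf] at hx hy
    exact Subtype.ext (h.comm A hA _ hx _ hy)
  · obtain ⟨A, hA⟩ := h.ne
    exact ⟨A.subgroupOf L, A, hA, rfl⟩
  · rintro Q' hQ' ⟨A', ⟨A, hA, rfl⟩, hA'Q'⟩
    rw [Ifam_subFam L 𝒜 hL Q']
    intro x hx
    have h1 : (x : G) ∈ Subgroup.normalizer ((Q'.map L.subtype : Subgroup G) : Set G) :=
      Subgroup.le_normalizer_map L.subtype ⟨x, hx, rfl⟩
    have hAQ : A ≤ Q'.map L.subtype := by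
      intro a ha
      exact ⟨⟨a, hL A hA ha⟩, hA'Q' (Subgroup.mem_subgroupOf.mpr ha), rfl⟩
    have h2 := h.inv (Q'.map L.subtype) (hmapP Q' hQ') ⟨A, hA, hAQ⟩ h1
    exact Subgroup.le_normalizer_comap L.subtype (Subgroup.mem_comap.mpr h2)
  · rintro B' hB' hcl ⟨A', ⟨A, hA, rfl⟩, hB'A, hnB'A⟩
    have hBB : ⁅B'.map L.subtype, B'.map L.subtype⁆ = (⁅B', B'⁆).map L.subtype :=
      (Subgroup.map_commutator B' B' L.subtype).symm
    have hcl' : ⁅⁅B'.map L.subtype, B'.map L.subtype⁆, B'.map L.subtype⁆ = ⊥ := by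
      rw [hBB, ← Subgroup.map_commutator, hcl, Subgroup.map_bot]
    have h1 : ⁅B'.map L.subtype, B'.map L.subtype⁆ ≤ A := by
      rw [hBB]
      rintro _ ⟨x, hx, rfl⟩
      exact Subgroup.mem_subgroupOf.mp (hB'A hx)
    have h2 : ¬ B'.map L.subtype ≤ A := by
      intro hle
      apply hnB'A
      intro x hx
      rw [Subgroup.mem_subgroupOf]
      exact hle ⟨x, hx, rfl⟩
    obtain ⟨A₂, hA₂, h3, h4, h5⟩ := h.rep (B'.map L.subtype) (hmapP B' hB') hcl' ⟨A, hA, h1, h2⟩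
    refine ⟨A₂.subgroupOf L, ⟨A₂, hA₂, rfl⟩, ?_, ?_, ?_⟩
    · intro x hx
      rw [Subgroup.mem_subgroupOf]
      apply h3
      rw [hBB]
      exact ⟨x, hx, rfl⟩
    · intro hle
      apply h4
      rintro _ ⟨x, hx, rfl⟩
      exact Subgroup.mem_subgroupOf.mp (hle hx)
    · intro x hx
      have h6 : (x : G) ∈ Subgroup.normalizer (A₂ : Set G) := h5 ⟨x, hx, rfl⟩
      exact Subgroup.le_normalizer_comap L.subtype (Subgroup.mem_comap.mpr h6)

/-- **Glauberman--Thompson for a family**: induction. -/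
theorem gt_fam_aux (hp : p ≠ 2) : ∀ n : ℕ, ∀ (G : Type u) [Group G] [Finite G], Nat.card G = n →
    ∀ (P : Sylow p G) (𝒜 : Set (Subgroup G)), Hyp (P : Subgroup G) 𝒜 →
    (∃ O : Subgroup G, O.Normal ∧ IsPGroup p O ∧ Subgroup.centralizer (O : Set G) ≤ O) →
    NPC p ↥(Subgroup.normalizer (Ifam 𝒜 (P : Subgroup G) : Set G)) → NPC p G := by
  intro n
  induction n using Nat.strong_induction_on with
  | _ n ih =>
  intro G _ _ hcard P 𝒜 h hO hN
  obtain ⟨O, hOn, hOp, hOc⟩ := hO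
  by_contra hnot
  obtain ⟨A₀, hA₀⟩ := h.ne
  have hOP : O ≤ P := Cfsg.Agent.Helper23.PSolv.normal_pGroup_le_sylow O hOp P
  have hIP : Ifam 𝒜 (P : Subgroup G) ≤ P := (Ifam_le hA₀ (h.le A₀ hA₀)).trans (h.le A₀ hA₀)
  -- proper overgroups of `P` are `p`-groups
  have hE : ∀ L : Subgroup G, (P : Subgroup G) ≤ L → L ≠ ⊤ → L ≤ P := by
    intro L hPL hL
    have hLlt : Nat.card L < n := hcard ▸ Cfsg.Agent.Helper4.GT.card_lt_of_ne_top L hL
    have hLA : ∀ A ∈ 𝒜, A ≤ L := fun A hA => (h.le A hA).trans hPL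
    have hOLn : (O.subgroupOf L).Normal := Subgroup.Normal.subgroupOf hOn L
    have hOLc : Subgroup.centralizer ((O.subgroupOf L : Subgroup ↥L) : Set ↥L) ≤ O.subgroupOf L := by
      intro x hx
      rw [Subgroup.mem_subgroupOf]
      apply hOc
      rw [Subgroup.mem_centralizer_iff] at hx ⊢
      intro o ho
      have := hx ⟨o, hPL (hOP ho)⟩ (Subgroup.mem_subgroupOf.mpr ho)
      exact congrArg Subtype.val this
    have hSmap : ((P.subtype hPL : Sylow p ↥L) : Subgroup ↥L).map L.subtype = P := by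
      rw [Sylow.coe_subtype, Subgroup.map_subgroupOf_eq_of_le hPL]
    have hnpc : NPC p ↥L := by
      apply ih _ hLlt ↥L rfl (P.subtype hPL) (subFam L 𝒜) (hyp_subFam L P hPL 𝒜 h)
        ⟨O.subgroupOf L, hOLn, hOp.comap_subtype, hOLc⟩
      rw [Ifam_subFam L 𝒜 hLA, hSmap]
      set I := Ifam 𝒜 (P : Subgroup G) with hI
      have hImap : (I.subgroupOf L).map L.subtype = I :=
        Subgroup.map_subgroupOf_eq_of_le (hIP.trans hPL)
      let f : ↥(Subgroup.normalizer ((I.subgroupOf L : Subgroup ↥L) : Set ↥L)) →*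
          ↥(Subgroup.normalizer (I : Set G)) :=
        (L.subtype.comp (Subgroup.normalizer ((I.subgroupOf L : Subgroup ↥L) : Set ↥L)).subtype).codRestrict _
          (fun x => by
            have := Subgroup.le_normalizer_map L.subtype (H := I.subgroupOf L) ⟨x, x.2, rfl⟩
            rwa [hImap] at this)
      have hf : Function.Injective f := by
        intro x y hxy
        have := congrArg Subtype.val hxy
        exact Subtype.ext (Subtype.ext this)
      exact npc_of_injective f hf hN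
    have hpg : IsPGroup p ↥L :=
      isPGroup_of_npc_of_centralizer_le hnpc (O.subgroupOf L) hOp.comap_subtype hOLc
    exact (P.is_maximal' (Q := L) hpg hPL).le
  -- `O_p(G)`
  have hOpc : O ≤ pCore p G := le_sSup ⟨hOn, hOp⟩
  have hcent : Subgroup.centralizer (pCore p G : Set G) ≤ pCore p G :=
    (Subgroup.centralizer_le hOpc).trans (hOc.trans hOpc)
  have hPO : ¬ (P : Subgroup G) ≤ pCore p G := by
    intro hle
    have hPeq : (P : Subgroup G) = pCore p G :=
      le_antisymm hle (Cfsg.Agent.Helper23.PSolv.pCore_le_sylow P)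
    have hPn : (P : Subgroup G).Normal := hPeq ▸ inferInstance
    have h1 : Subgroup.normalizer (Ifam 𝒜 (P : Subgroup G) : Set G) = ⊤ := by
      rw [eq_top_iff, ← Subgroup.normalizer_eq_top (P : Subgroup G)]
      exact h.inv _ le_rfl ⟨A₀, hA₀, h.le A₀ hA₀⟩
    rw [h1] at hN
    exact hnot (npc_top_iff.mp hN)
  have hO1 : pCore p G ≠ ⊥ := by
    intro h0
    apply hPO
    rw [h0] at hcent ⊢
    intro x _
    apply hcent
    rw [Subgroup.mem_centralizer_iff]
    intro y hy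
    have : y = 1 := by simpa using hy
    rw [this]; simp
  have hb : ∀ Q : Subgroup G, IsPGroup p Q → (P : Subgroup G) ≤ Subgroup.normalizer (Q : Set G) →
      Nat.card (pCore p G) < Nat.card Q → NPC p ↥(Subgroup.normalizer (Q : Set G)) := by
    intro Q hQ hPQ hlt
    by_cases htop : Subgroup.normalizer (Q : Set G) = ⊤
    · exfalso
      have hQn : Q.Normal := Subgroup.normalizer_eq_top_iff.mp htop
      have hle : Q ≤ pCore p G := le_sSup ⟨hQn, hQ⟩
      have := Subgroup.card_le_of_le hle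
      omega
    · have hle := hE _ hPQ htop
      exact npc_of_isPGroup (P.2.to_le hle)
  have ihGT : ∀ m < n, ∀ (X : Type u) [Group X] [Finite X], Nat.card X = m → ∀ P' : Sylow p X,
      NPC p ↥(Subgroup.normalizer ((Cfsg.Agent.S0659.cfA hp).W X (P' : Subgroup X) : Set X)) →
      NPC p X :=
    fun m _ X _ _ _ P' hP' => Cfsg.Agent.Helper4.GT.gt (Cfsg.Agent.S0659.cfA hp) hp P' hP'
  obtain ⟨Nb, hNbn, hNbc, k, hk⟩ :=
    Cfsg.Agent.Helper4.GT.stepB (Cfsg.Agent.S0659.cfA hp) hcard ihGT P hO1 hPO hb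
  have st := Cfsg.Agent.Helper4.GT.stepF hnot P hE Nb hNbn hNbc k hk
  have hst := Cfsg.Agent.Helper4.QS.stab_of_struc st hp
  have hZn := Cfsg.Agent.Helper21.FamZJ.Z_normal P 𝒜 h hst hcent
  have h1 : Subgroup.normalizer (Ifam 𝒜 (P : Subgroup G) : Set G) = ⊤ :=
    Subgroup.normalizer_eq_top_iff.mpr hZn
  rw [h1] at hN
  exact hnot (npc_top_iff.mp hN)

theorem gt_fam (hp : p ≠ 2) {G : Type u} [Group G] [Finite G] (P : Sylow p G)
    (𝒜 : Set (Subgroup G)) (h : Hyp (P : Subgroup G) 𝒜)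
    (hO : ∃ O : Subgroup G, O.Normal ∧ IsPGroup p O ∧ Subgroup.centralizer (O : Set G) ≤ O)
    (hN : NPC p ↥(Subgroup.normalizer (Ifam 𝒜 (P : Subgroup G) : Set G))) : NPC p G :=
  gt_fam_aux hp _ G rfl P 𝒜 h hO hN

end Cfsg.Agent.Helper21.FamGT
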