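import Mathlib
import Cfsg.Prelude.Def_FusionSystem
import Cfsg.Agent.Lib.Helper21.FamGT
import Cfsg.Agent.Lib.Helper3.KLApply
import Cfsg.Agent.Lib.Helper3.KLSparse2
import Cfsg.Agent.Lib.Helper25.FusionProduct3

set_option autoImplicit false
set_option linter.unusedSectionVars false
open scoped commutatorElement

/-! Transport of a family of abelian subgroups of `S` (with the invariance and replacement
properties of an axiomatic Glauberman--Thompson criterion) to a group realizing a subsystem. -/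

namespace Cfsg.Agent.Helper21.FamFusion

open Cfsg Cfsg.FusionSystem Cfsg.Agent.Helper25 Cfsg.Agent.Helper3.KL Cfsg.Agent.Helper21.FamZJ

variable {Ω : Type*} [Group Ω] {S : Subgroup Ω} {G : Type*} [Group G]

/-- transport of a subgroup of `Ω` (inside `S`) to `G` -/
def tr (ι : S →* G) (X : Subgroup Ω) : Subgroup G := (X.subgroupOf S).map ι

theorem mem_tr {ι : S →* G} {X : Subgroup Ω} {y : G} :
    y ∈ tr ι X ↔ ∃ s : S, (s : Ω) ∈ X ∧ ι s = y := by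
  unfold tr
  constructor
  · rintro ⟨s, hs, rfl⟩
    exact ⟨s, Subgroup.mem_subgroupOf.mp hs, rfl⟩
  · rintro ⟨s, hs, rfl⟩
    exact ⟨s, Subgroup.mem_subgroupOf.mpr hs, rfl⟩

theorem tr_mono {ι : S →* G} {X Y : Subgroup Ω} (h : X ≤ Y) : tr ι X ≤ tr ι Y := by
  intro y hy
  obtain ⟨s, hs, rfl⟩ := mem_tr.mp hy
  exact mem_tr.mpr ⟨s, h hs, rfl⟩

theorem le_of_tr_le {ι : S →* G} (hι : Function.Injective ι) {X Y : Subgroup Ω} (hX : X ≤ S)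
    (h : tr ι X ≤ tr ι Y) : X ≤ Y := by
  intro x hx
  obtain ⟨s, hs, hse⟩ := mem_tr.mp (h (mem_tr.mpr ⟨⟨x, hX hx⟩, hx, rfl⟩))
  have : s = ⟨x, hX hx⟩ := hι hse
  rw [this] at hs
  exact hs

theorem tr_le_range (ι : S →* G) (X : Subgroup Ω) : tr ι X ≤ ι.range := by
  intro y hy
  obtain ⟨s, -, rfl⟩ := mem_tr.mp hy
  exact ⟨s, rfl⟩

/-- pull back a subgroup of `G` to `Ω` -/
def pb (ι : S →* G) (Q' : Subgroup G) : Subgroup Ω := (Q'.comap ι).map S.subtype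

theorem mem_pb {ι : S →* G} {Q' : Subgroup G} {x : Ω} :
    x ∈ pb ι Q' ↔ ∃ h : x ∈ S, ι ⟨x, h⟩ ∈ Q' := by
  unfold pb
  constructor
  · rintro ⟨s, hs, rfl⟩
    exact ⟨s.2, hs⟩
  · rintro ⟨h, hx⟩
    exact ⟨⟨x, h⟩, hx, rfl⟩

theorem pb_le (ι : S →* G) (Q' : Subgroup G) : pb ι Q' ≤ S := by
  intro x hx
  obtain ⟨h, -⟩ := mem_pb.mp hx
  exact h

theorem tr_pb {ι : S →* G} {Q' : Subgroup G} (hQ' : Q' ≤ ι.range) : tr ι (pb ι Q') = Q' := by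
  apply le_antisymm
  · intro y hy
    obtain ⟨s, hs, rfl⟩ := mem_tr.mp hy
    obtain ⟨h, hx⟩ := mem_pb.mp hs
    exact hx
  · intro y hy
    obtain ⟨s, rfl⟩ := hQ' hy
    exact mem_tr.mpr ⟨s, mem_pb.mpr ⟨s.2, hy⟩, rfl⟩

/-- the transported family -/
def famG (ι : S →* G) (𝒜 : Set (Subgroup Ω)) : Set (Subgroup G) := {A' | ∃ A ∈ 𝒜, A' = tr ι A}

theorem Ifam_famG {ι : S →* G} (hι : Function.Injective ι) (𝒜 : Set (Subgroup Ω))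
    (h𝒜 : ∀ A ∈ 𝒜, A ≤ S) {Q : Subgroup Ω} (hex : ∃ A ∈ 𝒜, A ≤ Q) :
    Ifam (famG ι 𝒜) (tr ι Q) = tr ι (Ifam 𝒜 Q) := by
  apply le_antisymm
  · intro y hy
    obtain ⟨A₁, hA₁, hA₁Q⟩ := hex
    have h1 : y ∈ tr ι A₁ := Ifam_le (⟨A₁, hA₁, rfl⟩ : tr ι A₁ ∈ famG ι 𝒜) (tr_mono hA₁Q) hy
    obtain ⟨s, hs, rfl⟩ := mem_tr.mp h1
    refine mem_tr.mpr ⟨s, ?_, rfl⟩
    unfold Ifam
    rw [Subgroup.mem_iInf]
    intro A
    rw [Subgroup.mem_iInf]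
    rintro ⟨hA, hAQ⟩
    have h2 : ι s ∈ tr ι A := Ifam_le (⟨A, hA, rfl⟩ : tr ι A ∈ famG ι 𝒜) (tr_mono hAQ) hy
    obtain ⟨s', hs', hse⟩ := mem_tr.mp h2
    have : s' = s := hι hse
    rw [this] at hs'
    exact hs'
  · apply le_Ifam
    rintro A' ⟨A, hA, rfl⟩ hAQ
    exact tr_mono (Ifam_le hA (le_of_tr_le hι (h𝒜 A hA) hAQ))

theorem Ifam_top_eq (𝒜 : Set (Subgroup Ω)) (h𝒜 : ∀ A ∈ 𝒜, A ≤ S) :
    Ifam 𝒜 S = ⨅ A ∈ 𝒜, A := by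
  apply le_antisymm
  · exact le_iInf₂ (fun A hA => Ifam_le hA (h𝒜 A hA))
  · exact le_Ifam (fun A hA _ => iInf₂_le (f := fun (A : Subgroup Ω) (_ : A ∈ 𝒜) => A) A hA)

section hyp

variable [Finite S] {p : ℕ} [Fact p.Prime]

theorem hyp_famG [Finite G] (F E : FusionSystem S) (hEF : ∀ P : Subgroup Ω, E.Hom P ⊆ F.Hom P)
    (ι : S →* G) (hreal : E.IsRealizedBy ι) (T : Sylow p G) (hT : (T : Subgroup G) = ι.range)
    (𝒜 : Set (Subgroup Ω)) (h𝒜 : ∀ A ∈ 𝒜, A ≤ S ∧ IsMulCommutative ↥A) (hne : 𝒜.Nonempty)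
    (hinv : ∀ Q : Subgroup Ω, Q ≤ S → (∃ A ∈ 𝒜, A ≤ Q) → ∀ α ∈ F.autGroup Q, ∀ x : ↥Q,
      (x : Ω) ∈ (⨅ A ∈ {A : Subgroup Ω | A ∈ 𝒜 ∧ A ≤ Q}, A) →
      (((α : MulAut ↥Q) x : ↥Q) : Ω) ∈ (⨅ A ∈ {A : Subgroup Ω | A ∈ 𝒜 ∧ A ≤ Q}, A))
    (hrep : ∀ B : Subgroup Ω, B ≤ S → ⁅⁅B, B⁆, B⁆ = ⊥ → (∃ A ∈ 𝒜, ⁅B, B⁆ ≤ A ∧ ¬ B ≤ A) →
      ∃ A ∈ 𝒜, ⁅B, B⁆ ≤ A ∧ ¬ B ≤ A ∧ B ≤ Subgroup.normalizer (A : Set Ω)) :
    Hyp (T : Subgroup G) (famG ι 𝒜) := by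
  have hι := hreal.1
  have h𝒜S : ∀ A ∈ 𝒜, A ≤ S := fun A hA => (h𝒜 A hA).1
  refine ⟨?_, ?_, ?_, ?_, ?_⟩
  · rintro A' ⟨A, hA, rfl⟩
    rw [hT]; exact tr_le_range ι A
  · rintro A' ⟨A, hA, rfl⟩ x hx y hy
    obtain ⟨s, hs, rfl⟩ := mem_tr.mp hx
    obtain ⟨t, ht, rfl⟩ := mem_tr.mp hy
    have hc := (h𝒜 A hA).2
    have h2 : (s : Ω) * (t : Ω) = (t : Ω) * (s : Ω) :=
      congrArg Subtype.val (hc.is_comm.comm ⟨(s : Ω), hs⟩ ⟨(t : Ω), ht⟩)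
    have h3 : s * t = t * s := Subtype.ext h2
    rw [← map_mul, ← map_mul, h3]
  · obtain ⟨A, hA⟩ := hne
    exact ⟨tr ι A, A, hA, rfl⟩
  · rintro Q' hQ'T ⟨A', ⟨A, hA, rfl⟩, hAQ'⟩
    have hQ'r : Q' ≤ ι.range := hT ▸ hQ'T
    have hQS : pb ι Q' ≤ S := pb_le ι Q'
    have htr : tr ι (pb ι Q') = Q' := tr_pb hQ'r
    have hAQ : A ≤ pb ι Q' := le_of_tr_le hι (h𝒜S A hA) (htr.symm ▸ hAQ')
    set Q := pb ι Q' with hQdef
    rw [← htr, Ifam_famG hι 𝒜 h𝒜S ⟨A, hA, hAQ⟩]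
    have key : ∀ g ∈ Subgroup.normalizer ((tr ι Q : Subgroup G) : Set G),
        ∀ y ∈ tr ι (Ifam 𝒜 Q), g * y * g⁻¹ ∈ tr ι (Ifam 𝒜 Q) := by
      intro g hg y hy
      obtain ⟨s, hs, rfl⟩ := mem_tr.mp hy
      have hgQ : ∀ x : Q, g * ι ⟨x, hQS x.2⟩ * g⁻¹ ∈ tr ι Q := by
        intro x
        exact (Subgroup.mem_normalizer_iff.mp hg _).mp (mem_tr.mpr ⟨⟨x, hQS x.2⟩, x.2, rfl⟩)
      have hval : ∀ x : Q, g * ι ⟨x, hQS x.2⟩ * g⁻¹ ∈ ι.range := fun x =>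
        tr_le_range ι Q (hgQ x)
      obtain ⟨ψ, hψ, hψS, hιψ⟩ := exists_hom_of_conj E hreal hQS g hval
      have hψQ : ∀ x : Q, ψ x ∈ Q := by
        intro x
        have h1 := hgQ x
        rw [← hιψ x] at h1
        obtain ⟨s', hs', hse⟩ := mem_tr.mp h1
        have : s' = ⟨ψ x, hψS x⟩ := hι hse
        rw [this] at hs'
        exact hs'
      obtain ⟨β, hβ, hβψ⟩ := exists_aut_of_hom F (hEF Q hψ) hψQ
      have hsQ : (s : Ω) ∈ Q := hAQ (Ifam_le hA hAQ hs)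
      have h2 := hinv Q hQS ⟨A, hA, hAQ⟩ β hβ ⟨(s : Ω), hsQ⟩ hs
      rw [hβψ] at h2
      refine mem_tr.mpr ⟨⟨ψ ⟨(s : Ω), hsQ⟩, hψS _⟩, h2, ?_⟩
      rw [hιψ]
    intro g hg
    apply mem_normalizer_of_forall (key g hg)
    intro y hy
    have := key g⁻¹ (Subgroup.inv_mem _ hg) y hy
    simpa using this
  · rintro B' hB'T hcl ⟨A', ⟨A, hA, rfl⟩, hBA, hnBA⟩
    have hB'r : B' ≤ ι.range := hT ▸ hB'T
    set B₀ : Subgroup S := B'.comap ι with hB₀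
    have hB₀map : B₀.map ι = B' := by
      rw [hB₀, Subgroup.map_comap_eq, inf_eq_right.mpr hB'r]
    set B : Subgroup Ω := B₀.map S.subtype with hB
    have hBS : B ≤ S := by
      rintro _ ⟨s, -, rfl⟩; exact s.2
    have hBB : ⁅B, B⁆ = (⁅B₀, B₀⁆).map S.subtype := (Subgroup.map_commutator B₀ B₀ S.subtype).symm
    have hB'B' : ⁅B', B'⁆ = (⁅B₀, B₀⁆).map ι := by
      rw [← hB₀map]; exact (Subgroup.map_commutator B₀ B₀ ι).symm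
    have hcl0 : ⁅⁅B₀, B₀⁆, B₀⁆ = ⊥ := by
      have h1 : (⁅⁅B₀, B₀⁆, B₀⁆).map ι = ⊥ := by
        rw [Subgroup.map_commutator, ← hB'B', hB₀map]; exact hcl
      exact (Subgroup.map_eq_bot_iff_of_injective _ hι).mp h1
    have hclB : ⁅⁅B, B⁆, B⁆ = ⊥ := by
      rw [hBB, hB, ← Subgroup.map_commutator, hcl0, Subgroup.map_bot]
    -- comparison lemmas
    have hle_iff : ∀ (X₀ : Subgroup S) (Y : Subgroup Ω), X₀.map S.subtype ≤ Y ↔ X₀.map ι ≤ tr ι Y := by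
      intro X₀ Y
      constructor
      · intro h
        rintro _ ⟨s, hs, rfl⟩
        exact mem_tr.mpr ⟨s, h ⟨s, hs, rfl⟩, rfl⟩
      · intro h
        rintro _ ⟨s, hs, rfl⟩
        obtain ⟨s', hs', hse⟩ := mem_tr.mp (h ⟨s, hs, rfl⟩)
        have : s' = s := hι hse
        rw [this] at hs'
        exact hs'
    have h1 : ⁅B, B⁆ ≤ A := by
      rw [hBB, hle_iff, ← hB'B']; exact hBA
    have h2 : ¬ B ≤ A := by
      rw [hB, hle_iff, hB₀map]; exact hnBA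
    obtain ⟨A₂, hA₂, h3, h4, h5⟩ := hrep B hBS hclB ⟨A, hA, h1, h2⟩
    refine ⟨tr ι A₂, ⟨A₂, hA₂, rfl⟩, ?_, ?_, ?_⟩
    · rw [hB'B', ← hle_iff, ← hBB]; exact h3
    · rw [← hB₀map, ← hle_iff]; exact h4
    · have h6 : B₀ ≤ Subgroup.normalizer ((A₂.subgroupOf S : Subgroup S) : Set S) := by
        intro x hx
        have h7 : (x : Ω) ∈ Subgroup.normalizer (A₂ : Set Ω) := h5 ⟨x, hx, rfl⟩
        exact Subgroup.le_normalizer_comap S.subtype (Subgroup.mem_comap.mpr h7)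
      rw [← hB₀map]
      exact (Subgroup.map_mono h6).trans (Subgroup.le_normalizer_map ι)

end hyp

end Cfsg.Agent.Helper21.FamFusion
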