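import Mathlib

/-!
# Reduction `ZMod (s ^ k) → ZMod s`: units and the congruence kernel (helper21)

* `red s hk : ZMod (s ^ k) →+* ZMod s`, `isUnit_of_isUnit_red` (the reduction is a local
  homomorphism), `exists_mul_of_red_eq_zero`.
* `one_add_pow_pow`: in any ring, `(1 + s * X) ^ (s ^ i) = 1 + s ^ (i + 1) * X'`.
* `pow_eq_one_of_map_eq_one`: a matrix over `ZMod (s ^ k)` which is congruent to `1` modulo `s`
  has `s ^ (k - 1)`-th power (indeed `s ^ k`-th power) equal to `1`.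
-/

set_option autoImplicit false

namespace Cfsg.Agent.Helper21.FrobLift

open Matrix

/-- reduction modulo `s` -/
noncomputable def red (s : ℕ) {k : ℕ} (hk : 0 < k) : ZMod (s ^ k) →+* ZMod s :=
  ZMod.castHom (dvd_pow_self s hk.ne') (ZMod s)

theorem red_surjective (s : ℕ) {k : ℕ} (hk : 0 < k) : Function.Surjective (red s hk) :=
  ZMod.ringHom_surjective _

theorem exists_mul_of_red_eq_zero (s : ℕ) [hs : Fact s.Prime] {k : ℕ} (hk : 0 < k)
    (x : ZMod (s ^ k)) (hx : red s hk x = 0) : ∃ t : ZMod (s ^ k), x = (s : ZMod (s ^ k)) * t := by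
  haveI : NeZero (s ^ k) := ⟨pow_ne_zero _ hs.out.ne_zero⟩
  have h1 : ((x.val : ℕ) : ZMod (s ^ k)) = x := ZMod.natCast_zmod_val x
  have h2 : red s hk ((x.val : ℕ) : ZMod (s ^ k)) = 0 := by rw [h1]; exact hx
  rw [map_natCast, ZMod.natCast_eq_zero_iff] at h2
  obtain ⟨t, ht⟩ := h2
  refine ⟨(t : ZMod (s ^ k)), ?_⟩
  rw [← h1, ht]
  push_cast
  rfl

theorem isUnit_of_isUnit_red (s : ℕ) [hs : Fact s.Prime] {k : ℕ} (hk : 0 < k)
    (x : ZMod (s ^ k)) (hx : IsUnit (red s hk x)) : IsUnit x := by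
  haveI : NeZero (s ^ k) := ⟨pow_ne_zero _ hs.out.ne_zero⟩
  have h1 : ((x.val : ℕ) : ZMod (s ^ k)) = x := ZMod.natCast_zmod_val x
  rw [← h1] at hx ⊢
  rw [map_natCast, ZMod.isUnit_iff_coprime] at hx
  rw [ZMod.isUnit_iff_coprime]
  exact Nat.Coprime.pow_right k hx

/-- one step of the congruence-kernel computation -/
theorem one_add_pow_prime {A : Type*} [Ring A] (s j : ℕ) (hj : 1 ≤ j) (X : A) :
    ∃ X' : A, (1 + (s : A) ^ j * X) ^ s = 1 + (s : A) ^ (j + 1) * X' := by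
  set y : A := 1 + (s : A) ^ j * X with hy
  have h1 : ∀ i : ℕ, ∃ Z : A, y ^ i = 1 + (s : A) ^ j * Z := by
    intro i
    induction i with
    | zero => exact ⟨0, by simp⟩
    | succ i ih =>
      obtain ⟨Z, hZ⟩ := ih
      refine ⟨X + Z + Z * ((s : A) ^ j * X), ?_⟩
      rw [pow_succ, hZ, hy]
      noncomm_ring
  choose Z hZ using h1
  have h2 : ∑ i ∈ Finset.range s, y ^ i = (s : A) + (s : A) ^ j * ∑ i ∈ Finset.range s, Z i := by
    rw [Finset.mul_sum]
    have h0 : (s : A) = ∑ _i ∈ Finset.range s, (1 : A) := by simp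
    rw [h0, ← Finset.sum_add_distrib]
    have h00 : ∑ _i ∈ Finset.range s, (1 : A) = (s : A) := by simp
    rw [h00]
    exact Finset.sum_congr rfl (fun i _ => hZ i)
  have h3 := geom_sum_mul y s
  have h4 : y - 1 = (s : A) ^ j * X := by rw [hy]; abel
  rw [h2, h4] at h3
  have hcomm : ∀ W : A, W * (s : A) ^ j = (s : A) ^ j * W := by
    intro W
    rw [← Nat.cast_pow]
    exact (Nat.cast_commute (s ^ j) W).symm.eq
  obtain ⟨j', rfl⟩ : ∃ j', j = j' + 1 := ⟨j - 1, by omega⟩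
  refine ⟨X + (s : A) ^ j' * ((∑ i ∈ Finset.range s, Z i) * X), ?_⟩
  have h5 : y ^ s = 1 + ((s : A) + (s : A) ^ (j' + 1) * ∑ i ∈ Finset.range s, Z i) *
      ((s : A) ^ (j' + 1) * X) := by
    rw [h3]; abel
  rw [h5]
  have h6 : (s : A) ^ (j' + 1) * (∑ i ∈ Finset.range s, Z i) * ((s : A) ^ (j' + 1) * X) =
      (s : A) ^ (j' + 1 + 1) * ((s : A) ^ j' * ((∑ i ∈ Finset.range s, Z i) * X)) := by
    rw [mul_assoc ((s : A) ^ (j' + 1)) (∑ i ∈ Finset.range s, Z i), ← mul_assoc (∑ i ∈ Finset.range s, Z i),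
      hcomm, mul_assoc ((s : A) ^ (j' + 1)) (∑ i ∈ Finset.range s, Z i) X]
    rw [← mul_assoc ((s : A) ^ (j' + 1)), ← mul_assoc ((s : A) ^ (j' + 1 + 1)), ← pow_add, ← pow_add]
    congr 2
    omega
  rw [add_mul, h6, mul_add, pow_succ (s : A) (j' + 1)]
  have h7 : (s : A) * ((s : A) ^ (j' + 1) * X) = (s : A) ^ (j' + 1) * (s : A) * X := by
    rw [← mul_assoc, ← pow_succ, ← pow_succ']
  rw [h7]

theorem one_add_pow_pow {A : Type*} [Ring A] (s : ℕ) (X : A) (i : ℕ) :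
    ∃ X' : A, (1 + (s : A) * X) ^ (s ^ i) = 1 + (s : A) ^ (i + 1) * X' := by
  induction i with
  | zero => exact ⟨X, by simp⟩
  | succ i ih =>
    obtain ⟨X', hX'⟩ := ih
    obtain ⟨X'', hX''⟩ := one_add_pow_prime (A := A) s (i + 1) (by omega) X'
    exact ⟨X'', by rw [pow_succ, pow_mul, hX', hX'']⟩

/-- a matrix congruent to `1` modulo `s` has `s`-power order -/
theorem pow_eq_one_of_map_eq_one (s : ℕ) [hs : Fact s.Prime] {k : ℕ} (hk : 0 < k) {n : ℕ}
    (M : Matrix (Fin n) (Fin n) (ZMod (s ^ k))) (hM : (red s hk).mapMatrix M = 1) :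
    M ^ (s ^ k) = 1 := by
  have h1 : ∀ i j, ∃ t : ZMod (s ^ k), (M - 1) i j = (s : ZMod (s ^ k)) * t := by
    intro i j
    apply exists_mul_of_red_eq_zero s hk
    have h2 : (red s hk).mapMatrix (M - 1) = 0 := by rw [map_sub, hM, map_one, sub_self]
    have h3 := congrFun (congrFun h2 i) j
    simpa using h3
  choose E hE using h1
  have h2 : M = 1 + (s : Matrix (Fin n) (Fin n) (ZMod (s ^ k))) * Matrix.of E := by
    have h3 : M - 1 = (s : Matrix (Fin n) (Fin n) (ZMod (s ^ k))) * Matrix.of E := by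
      ext i j
      rw [hE i j]
      have : ((s : Matrix (Fin n) (Fin n) (ZMod (s ^ k)))) = (s : ZMod (s ^ k)) • (1 : Matrix (Fin n) (Fin n) (ZMod (s ^ k))) := by
        rw [← Algebra.algebraMap_eq_smul_one, map_natCast]
      rw [this, Matrix.smul_mul, Matrix.one_mul]
      rfl
    rw [← h3]; abel
  obtain ⟨X', hX'⟩ := one_add_pow_pow s (Matrix.of E) k
  rw [h2, hX']
  have h4 : (s : Matrix (Fin n) (Fin n) (ZMod (s ^ k))) ^ (k + 1) = 0 := by
    have : ((s : Matrix (Fin n) (Fin n) (ZMod (s ^ k)))) ^ k = 0 := by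
      rw [← Nat.cast_pow]
      have h5 : (((s ^ k : ℕ)) : Matrix (Fin n) (Fin n) (ZMod (s ^ k))) =
          algebraMap (ZMod (s ^ k)) _ (((s ^ k : ℕ)) : ZMod (s ^ k)) := by
        rw [map_natCast]
      rw [h5, ZMod.natCast_self, map_zero]
    rw [pow_succ, this, zero_mul]
  rw [h4, zero_mul, add_zero]

end Cfsg.Agent.Helper21.FrobLift
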