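import Mathlib
import Cfsg.Agent.Lib.Helper21.FrobLiftRing

/-!
# Lifting subgroups of `GL n (ZMod s)` of order prime to `s` to `GL n (ZMod (s ^ k))` (helper21)

`exists_lift`: a subgroup `B₀` of `GL n (ZMod s)` of order prime to `s` lifts isomorphically to a
subgroup of `GL n (ZMod (s ^ k))` (Schur–Zassenhaus applied to the congruence kernel).
-/

set_option autoImplicit false

namespace Cfsg.Agent.Helper21.FrobLift

open Matrix

/-- reduction modulo `s` on general linear groups -/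
noncomputable def redGL (s : ℕ) {k : ℕ} (hk : 0 < k) (n : ℕ) :
    GL (Fin n) (ZMod (s ^ k)) →* GL (Fin n) (ZMod s) :=
  Matrix.GeneralLinearGroup.map (red s hk)

theorem redGL_val (s : ℕ) {k : ℕ} (hk : 0 < k) (n : ℕ) (g : GL (Fin n) (ZMod (s ^ k))) :
    ((redGL s hk n g : GL (Fin n) (ZMod s)) : Matrix (Fin n) (Fin n) (ZMod s)) =
      (red s hk).mapMatrix (g : Matrix (Fin n) (Fin n) (ZMod (s ^ k))) := by
  ext i j
  rfl

theorem redGL_surjective (s : ℕ) [hs : Fact s.Prime] {k : ℕ} (hk : 0 < k) (n : ℕ) :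
    Function.Surjective (redGL s hk n) := by
  intro g
  let σ : ZMod s → ZMod (s ^ k) := Function.surjInv (red_surjective s hk)
  have hσ : ∀ x, red s hk (σ x) = x := Function.surjInv_eq (red_surjective s hk)
  let M : Matrix (Fin n) (Fin n) (ZMod (s ^ k)) :=
    (g : Matrix (Fin n) (Fin n) (ZMod s)).map σ
  have hM : (red s hk).mapMatrix M = (g : Matrix (Fin n) (Fin n) (ZMod s)) := by
    ext i j
    simp [M, hσ]
  have hdet : IsUnit M.det := by
    apply isUnit_of_isUnit_red s hk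
    rw [RingHom.map_det, hM]
    exact (Matrix.isUnit_iff_isUnit_det _).mp g.isUnit
  have hu : IsUnit M := (Matrix.isUnit_iff_isUnit_det M).mpr hdet
  refine ⟨hu.unit, ?_⟩
  apply Units.ext
  rw [redGL_val]
  exact hM

theorem isPGroup_ker (s : ℕ) [hs : Fact s.Prime] {k : ℕ} (hk : 0 < k) (n : ℕ) :
    IsPGroup s (redGL s hk n).ker := by
  intro g
  refine ⟨k, ?_⟩
  have h1 : redGL s hk n (g : GL (Fin n) (ZMod (s ^ k))) = 1 := g.2
  have h2 : (red s hk).mapMatrix ((g : GL (Fin n) (ZMod (s ^ k))) : Matrix (Fin n) (Fin n) (ZMod (s ^ k))) = 1 := by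
    rw [← redGL_val, h1]; rfl
  have h3 := pow_eq_one_of_map_eq_one s hk _ h2
  apply Subtype.ext
  apply Units.ext
  simpa using h3

theorem exists_lift (s : ℕ) [hs : Fact s.Prime] {k : ℕ} (hk : 0 < k) (n : ℕ)
    (B₀ : Subgroup (GL (Fin n) (ZMod s))) (hcop : ¬ s ∣ Nat.card B₀) :
    ∃ (H' : Subgroup (GL (Fin n) (ZMod (s ^ k)))) (e : B₀ ≃* H'),
      ∀ b : B₀, redGL s hk n ((e b : H') : GL (Fin n) (ZMod (s ^ k))) = (b : GL (Fin n) (ZMod s)) := by
  classical
  haveI : NeZero (s ^ k) := ⟨pow_ne_zero _ hs.out.ne_zero⟩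
  let π := redGL s hk n
  let Γ : Subgroup (GL (Fin n) (ZMod (s ^ k))) := B₀.comap π
  -- the restricted reduction map
  let πΓ : Γ →* B₀ := (π.comp Γ.subtype).codRestrict B₀ (fun x => x.2)
  have hπΓ : Function.Surjective πΓ := by
    intro b
    obtain ⟨g, hg⟩ := redGL_surjective s hk n (b : GL (Fin n) (ZMod s))
    refine ⟨⟨g, ?_⟩, Subtype.ext hg⟩
    show π g ∈ B₀
    rw [show π g = (b : GL (Fin n) (ZMod s)) from hg]
    exact b.2
  let N : Subgroup Γ := πΓ.ker
  have hNp : IsPGroup s N := by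
    intro g
    obtain ⟨j, hj⟩ := isPGroup_ker s hk n ⟨((g : Γ) : GL (Fin n) (ZMod (s ^ k))), by
      have := g.2
      rw [MonoidHom.mem_ker] at this ⊢
      exact congrArg Subtype.val this⟩
    refine ⟨j, ?_⟩
    apply Subtype.ext
    apply Subtype.ext
    have := congrArg Subtype.val hj
    simpa using this
  have hidx : N.index = Nat.card B₀ := by
    rw [Subgroup.index_ker, MonoidHom.range_eq_top.mpr hπΓ, Subgroup.card_top]
  have hcard : (Nat.card N).Coprime N.index := by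
    obtain ⟨j, hj⟩ := hNp.exists_card_eq
    rw [hj, hidx]
    apply Nat.Coprime.pow_left
    exact (Nat.Prime.coprime_iff_not_dvd hs.out).mpr hcop
  obtain ⟨H₀, hH₀⟩ := Subgroup.exists_right_complement'_of_coprime hcard
  -- the restriction of `πΓ` to `H₀` is bijective
  let f : H₀ →* B₀ := πΓ.comp H₀.subtype
  have hf_inj : Function.Injective f := by
    rw [injective_iff_map_eq_one]
    intro x hx
    have h1 : (x : Γ) ∈ N ⊓ H₀ := ⟨hx, x.2⟩
    rw [hH₀.disjoint.eq_bot, Subgroup.mem_bot] at h1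
    exact Subtype.ext h1
  have hf_surj : Function.Surjective f := by
    intro b
    obtain ⟨γ, hγ⟩ := hπΓ b
    obtain ⟨⟨ν, h⟩, hνh, -⟩ := Subgroup.isComplement_iff_existsUnique.mp hH₀ γ
    have hνh' : (ν : Γ) * (h : Γ) = γ := hνh
    refine ⟨h, ?_⟩
    rw [← hγ, ← hνh', map_mul]
    have : πΓ (ν : Γ) = 1 := ν.2
    rw [this, one_mul]
    rfl
  let e₀ : H₀ ≃* B₀ := MulEquiv.ofBijective f ⟨hf_inj, hf_surj⟩
  let H' : Subgroup (GL (Fin n) (ZMod (s ^ k))) := H₀.map Γ.subtype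
  let e₁ : H₀ ≃* H' := H₀.equivMapOfInjective Γ.subtype Γ.subtype_injective
  refine ⟨H', e₀.symm.trans e₁, ?_⟩
  intro b
  have h1 : ((e₀.symm.trans e₁) b : GL (Fin n) (ZMod (s ^ k))) = ((e₀.symm b : H₀) : Γ) := rfl
  rw [h1]
  have h2 : e₀ (e₀.symm b) = b := e₀.apply_symm_apply b
  have h3 : (e₀ (e₀.symm b) : GL (Fin n) (ZMod s)) = π (((e₀.symm b : H₀) : Γ) : GL (Fin n) (ZMod (s ^ k))) := rfl
  rw [← h3, h2]

end Cfsg.Agent.Helper21.FrobLift
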