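import Mathlib
import Cfsg.Agent.Lib.Helper21.FrobLiftGL

/-!
# Norm-vanishing functions on a group with a fixed-point-free modular representation (helper21)

`IsNV v`: for every `c ≠ 1` and every `b`, `∑_{i < o(c)} v (c ^ i * b) = 0`.

* `exists_nv_mod`: a fixed-point-free representation over `ZMod s` gives, for every `k`, a
  norm-vanishing function with values in `ZMod (s ^ k)` and value `1` at `1`.
* `exists_int_nv_of_mod`: hence (determinant trick) a nonzero *integer valued* norm-vanishing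
  function.
-/

set_option autoImplicit false

namespace Cfsg.Agent.Helper21.FrobLift

open Matrix

/-- norm-vanishing functions -/
def IsNV {B : Type*} [Group B] {R : Type*} [AddCommMonoid R] (v : B → R) : Prop :=
  ∀ c : B, c ≠ 1 → ∀ b : B, ∑ i ∈ Finset.range (orderOf c), v (c ^ i * b) = 0

theorem IsNV.comp_equiv {B B' : Type*} [Group B] [Group B'] {R : Type*} [AddCommMonoid R]
    (e : B ≃* B') {v : B' → R} (h : IsNV v) : IsNV (fun b => v (e b)) := by
  intro c hc b
  have h1 : e c ≠ 1 := by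
    intro h2
    apply hc
    apply e.injective
    rw [h2, map_one]
  have h2 := h (e c) h1 (e b)
  have h3 : orderOf (e c) = orderOf c := orderOf_injective e.toMonoidHom e.injective c
  rw [h3] at h2
  simpa using h2

theorem exists_nv_mod (s : ℕ) [hs : Fact s.Prime] {k : ℕ} (hk : 0 < k) {n : ℕ} (hn : 0 < n)
    {B : Type*} [Group B] [Finite B] (ρ : B →* GL (Fin n) (ZMod s))
    (hfpf : ∀ b : B, b ≠ 1 → ∀ x : Fin n → ZMod s,
      ((ρ b : GL (Fin n) (ZMod s)) : Matrix (Fin n) (Fin n) (ZMod s)) *ᵥ x = x → x = 0) :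
    ∃ y : B → ZMod (s ^ k), IsNV y ∧ y 1 = 1 := by
  classical
  haveI : Nonempty (Fin n) := ⟨⟨0, hn⟩⟩
  haveI : NeZero (s ^ k) := ⟨pow_ne_zero _ hs.out.ne_zero⟩
  -- nonsingularity of `ρ b - 1`
  have hdet : ∀ b : B, b ≠ 1 →
      (((ρ b : GL (Fin n) (ZMod s)) : Matrix (Fin n) (Fin n) (ZMod s)) - 1).det ≠ 0 := by
    intro b hb h0
    obtain ⟨x, hx0, hx⟩ := Matrix.exists_mulVec_eq_zero_iff.mpr h0
    apply hx0
    apply hfpf b hb
    rw [Matrix.sub_mulVec, Matrix.one_mulVec, sub_eq_zero] at hx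
    exact hx
  have hinj : Function.Injective ρ := by
    rw [injective_iff_map_eq_one]
    intro b hb
    by_contra hb1
    have := hdet b hb1
    rw [hb] at this
    apply this
    simp
  have hcop : ¬ s ∣ Nat.card B := by
    intro hdvd
    obtain ⟨b, hb⟩ := exists_prime_orderOf_dvd_card' s hdvd
    have hb1 : b ≠ 1 := by
      rintro rfl
      rw [orderOf_one] at hb
      exact hs.out.one_lt.ne hb
    let M : Matrix (Fin n) (Fin n) (ZMod s) := ((ρ b : GL (Fin n) (ZMod s)) : Matrix (Fin n) (Fin n) (ZMod s))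
    have hMs : M ^ s = 1 := by
      have h0 : b ^ s = 1 := by
        have := pow_orderOf_eq_one b
        rwa [hb] at this
      have h1 : (ρ b) ^ s = 1 := by rw [← map_pow, h0, map_one]
      have h2 := congrArg (fun u : GL (Fin n) (ZMod s) => (u : Matrix (Fin n) (Fin n) (ZMod s))) h1
      simpa using h2
    have h3 : (M - 1) ^ s = 0 := by
      rw [sub_pow_char_of_commute s (Commute.one_right _), hMs, one_pow, sub_self]
    have h4 : (M - 1).det ^ s = 0 := by rw [← Matrix.det_pow, h3, Matrix.det_zero]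
    exact hdet b hb1 ((pow_eq_zero_iff hs.out.ne_zero).mp h4)
  -- lift the image
  have hcop' : ¬ s ∣ Nat.card ρ.range := by
    rw [← Nat.card_congr (MonoidHom.ofInjective hinj).toEquiv]
    exact hcop
  obtain ⟨H', e, he⟩ := exists_lift s hk n ρ.range hcop'
  let ρ' : B →* GL (Fin n) (ZMod (s ^ k)) := H'.subtype.comp (e.toMonoidHom.comp ρ.rangeRestrict)
  have hρ' : ∀ b : B, redGL s hk n (ρ' b) = ρ b := fun b => he (ρ.rangeRestrict b)
  -- geometric sums vanish
  have hsum : ∀ c : B, c ≠ 1 → ∑ i ∈ Finset.range (orderOf c),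
      ((ρ' c : GL (Fin n) (ZMod (s ^ k))) : Matrix (Fin n) (Fin n) (ZMod (s ^ k))) ^ i = 0 := by
    intro c hc
    set g : Matrix (Fin n) (Fin n) (ZMod (s ^ k)) :=
      ((ρ' c : GL (Fin n) (ZMod (s ^ k))) : Matrix (Fin n) (Fin n) (ZMod (s ^ k))) with hg
    have h1 : (red s hk).mapMatrix (g - 1) =
        ((ρ c : GL (Fin n) (ZMod s)) : Matrix (Fin n) (Fin n) (ZMod s)) - 1 := by
      rw [map_sub, map_one, hg, ← redGL_val, hρ']
    have h2 : IsUnit (g - 1).det := by
      apply isUnit_of_isUnit_red s hk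
      rw [RingHom.map_det, h1]
      exact (hdet c hc).isUnit
    have h3 : IsUnit (g - 1) := (Matrix.isUnit_iff_isUnit_det _).mpr h2
    have h4 := geom_sum_mul g (orderOf c)
    have h5 : g ^ orderOf c = 1 := by
      have h6 : (ρ' c) ^ orderOf c = 1 := by rw [← map_pow, pow_orderOf_eq_one, map_one]
      have h7 := congrArg (fun u : GL (Fin n) (ZMod (s ^ k)) =>
        (u : Matrix (Fin n) (Fin n) (ZMod (s ^ k)))) h6
      simpa using h7
    rw [h5, sub_self] at h4
    exact (h3.mul_left_eq_zero).mp h4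
  refine ⟨fun b => ((ρ' b : GL (Fin n) (ZMod (s ^ k))) : Matrix (Fin n) (Fin n) (ZMod (s ^ k)))
    ⟨0, hn⟩ ⟨0, hn⟩, ?_, ?_⟩
  · intro c hc b
    have h1 : ∀ i : ℕ, ((ρ' (c ^ i * b) : GL (Fin n) (ZMod (s ^ k))) :
        Matrix (Fin n) (Fin n) (ZMod (s ^ k))) =
        ((ρ' c : GL (Fin n) (ZMod (s ^ k))) : Matrix (Fin n) (Fin n) (ZMod (s ^ k))) ^ i *
          ((ρ' b : GL (Fin n) (ZMod (s ^ k))) : Matrix (Fin n) (Fin n) (ZMod (s ^ k))) := by
      intro i
      rw [map_mul, map_pow]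
      simp
    simp only [h1]
    have h2 := congrArg (fun P : Matrix (Fin n) (Fin n) (ZMod (s ^ k)) =>
      (P * ((ρ' b : GL (Fin n) (ZMod (s ^ k))) : Matrix (Fin n) (Fin n) (ZMod (s ^ k))))
        ⟨0, hn⟩ ⟨0, hn⟩) (hsum c hc)
    simp only [Finset.sum_mul, Matrix.zero_mul, Matrix.zero_apply, Matrix.sum_apply] at h2
    exact h2
  · simp

end Cfsg.Agent.Helper21.FrobLift
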