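import Mathlib
import Cfsg.Agent.Lib.Helper21.FrobLiftNV

/-!
# From norm-vanishing functions modulo all powers of `s` to integral ones (helper21)

`exists_int_nv_of_mod`: if for every `k > 0` there is a norm-vanishing function
`B → ZMod (s ^ k)` with value `1` at `1`, then there is a nonzero norm-vanishing function `B → ℤ`.
(The norm-vanishing condition is a linear system `T v = 0` with integer coefficients;
`adj(Tᵀ T) Tᵀ T = det(Tᵀ T)`.)

`exists_int_nv_of_fpf`: a finite group with a fixed-point-free representation over `ZMod s`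
has a nonzero integral norm-vanishing function.
-/

set_option autoImplicit false

namespace Cfsg.Agent.Helper21.FrobLift

open Matrix

section
variable {B : Type*} [Group B] [Fintype B] [DecidableEq B]

/-- the integer matrix of the norm-vanishing system -/
noncomputable def nvMatrix (B : Type*) [Group B] [Fintype B] [DecidableEq B] :
    Matrix (B × B) B ℤ :=
  Matrix.of fun cb x => if cb.1 = 1 then 0 else
    ∑ i ∈ Finset.range (orderOf cb.1), if cb.1 ^ i * cb.2 = x then 1 else 0

theorem nvMatrix_apply (c b x : B) : nvMatrix B (c, b) x = if c = 1 then 0 else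
    ∑ i ∈ Finset.range (orderOf c), if c ^ i * b = x then 1 else 0 := rfl

theorem nvMatrix_mulVec {R : Type*} [CommRing R] (y : B → R) (c b : B) :
    ((nvMatrix B).map (Int.castRingHom R) *ᵥ y) (c, b) =
      if c = 1 then 0 else ∑ i ∈ Finset.range (orderOf c), y (c ^ i * b) := by
  simp only [Matrix.mulVec, dotProduct, Matrix.map_apply, nvMatrix_apply]
  by_cases hc : c = 1
  · simp [hc]
  · simp only [hc, if_false]
    simp only [map_sum, Finset.sum_mul]
    rw [Finset.sum_comm]
    apply Finset.sum_congr rfl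
    intro i _
    simp

theorem isNV_iff_mulVec {R : Type*} [CommRing R] (y : B → R) :
    IsNV y ↔ (nvMatrix B).map (Int.castRingHom R) *ᵥ y = 0 := by
  constructor
  · intro h
    ext ⟨c, b⟩
    rw [nvMatrix_mulVec]
    by_cases hc : c = 1
    · simp [hc]
    · simp only [hc, if_false]
      exact h c hc b
  · intro h c hc b
    have h1 := congrFun h (c, b)
    rw [nvMatrix_mulVec] at h1
    simpa [hc] using h1

end

theorem exists_int_nv_of_mod {B : Type*} [Group B] [Finite B] (s : ℕ) [hs : Fact s.Prime]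
    (h : ∀ k : ℕ, 0 < k → ∃ y : B → ZMod (s ^ k), IsNV y ∧ y 1 = 1) :
    ∃ v : B → ℤ, v ≠ 0 ∧ IsNV v := by
  classical
  haveI : Fintype B := Fintype.ofFinite B
  let T : Matrix (B × B) B ℤ := nvMatrix B
  let M : Matrix B B ℤ := Tᵀ * T
  by_cases hm : M.det = 0
  · obtain ⟨v, hv0, hv⟩ := Matrix.exists_mulVec_eq_zero_iff.mpr hm
    refine ⟨v, hv0, ?_⟩
    rw [isNV_iff_mulVec]
    have h1 : (T *ᵥ v) ⬝ᵥ (T *ᵥ v) = 0 := by
      have h2 : v ⬝ᵥ (M *ᵥ v) = 0 := by rw [hv, dotProduct_zero]
      rw [show M = Tᵀ * T from rfl, ← Matrix.mulVec_mulVec, Matrix.dotProduct_mulVec,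
        Matrix.vecMul_transpose] at h2
      exact h2
    have h3 : T *ᵥ v = 0 := dotProduct_self_eq_zero.mp h1
    have h4 : T.map (Int.castRingHom ℤ) = T := by
      ext i j; simp
    rw [h4]
    exact h3
  · exfalso
    set m : ℤ := M.det with hmdef
    set k : ℕ := m.natAbs + 1 with hkdef
    have hk : 0 < k := Nat.succ_pos _
    obtain ⟨y, hy, hy1⟩ := h k hk
    let R := ZMod (s ^ k)
    let c : ℤ →+* R := Int.castRingHom R
    have h1 : M.adjugate * Tᵀ * T = m • (1 : Matrix B B ℤ) := by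
      rw [Matrix.mul_assoc]
      exact Matrix.adjugate_mul M
    have h2 : (M.adjugate * Tᵀ).map c * T.map c = (m • (1 : Matrix B B ℤ)).map c := by
      rw [← Matrix.map_mul, h1]
    have h3 : T.map c *ᵥ y = 0 := (isNV_iff_mulVec y).mp hy
    have h4 : ((m • (1 : Matrix B B ℤ)).map c) *ᵥ y = 0 := by
      rw [← h2, ← Matrix.mulVec_mulVec, h3, Matrix.mulVec_zero]
    have h5 := congrFun h4 1
    rw [Matrix.smul_one_eq_diagonal, Matrix.diagonal_map (map_zero c), Matrix.mulVec_diagonal] at h5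
    have h7 : c m = 0 := by
      have : c m * y 1 = 0 := h5
      rwa [hy1, mul_one] at this
    have h8 : ((s ^ k : ℕ) : ℤ) ∣ m := (ZMod.intCast_zmod_eq_zero_iff_dvd m (s ^ k)).mp h7
    have h9 : s ^ k ∣ m.natAbs := Int.natCast_dvd.mp h8
    have h10 : m.natAbs ≠ 0 := Int.natAbs_ne_zero.mpr hm
    have h11 : s ^ k ≤ m.natAbs := Nat.le_of_dvd (Nat.pos_of_ne_zero h10) h9
    have h12 : k < s ^ k := Nat.lt_pow_self hs.out.one_lt
    omega

theorem exists_int_nv_of_fpf (s : ℕ) [hs : Fact s.Prime] {n : ℕ} (hn : 0 < n)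
    {B : Type*} [Group B] [Finite B] (ρ : B →* GL (Fin n) (ZMod s))
    (hfpf : ∀ b : B, b ≠ 1 → ∀ x : Fin n → ZMod s,
      ((ρ b : GL (Fin n) (ZMod s)) : Matrix (Fin n) (Fin n) (ZMod s)) *ᵥ x = x → x = 0) :
    ∃ v : B → ℤ, v ≠ 0 ∧ IsNV v :=
  exists_int_nv_of_mod s (fun _ hk => exists_nv_mod s hk hn ρ hfpf)

end Cfsg.Agent.Helper21.FrobLift
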