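import Mathlib

/-!
# Matrix form of a fixed-point-free action on an elementary abelian group (helper21)

`exists_matrix_rep_of_fpf`: a group `H` acting by automorphisms and without nonzero fixed points
on a finite nontrivial abelian group `W` of prime exponent `s` yields a homomorphism
`H →* GL (Fin n) (ZMod s)`, `n > 0`, with no nonzero fixed vectors for `h ≠ 1`.
-/

set_option autoImplicit false

namespace Cfsg.Agent.Helper21.FrobLift

open Matrix

theorem exists_matrix_rep_of_fpf_aux (s : ℕ) [hs : Fact s.Prime] {H W : Type*} [Group H]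
    [AddCommGroup W] [Module (ZMod s) W] [Finite W] [Nontrivial W] [DistribMulAction H W]
    (hfpf : ∀ h : H, h ≠ 1 → ∀ w : W, h • w = w → w = 0) :
    ∃ (n : ℕ) (_ : 0 < n) (ρ : H →* GL (Fin n) (ZMod s)),
      ∀ h : H, h ≠ 1 → ∀ x : Fin n → ZMod s,
        ((ρ h : GL (Fin n) (ZMod s)) : Matrix (Fin n) (Fin n) (ZMod s)) *ᵥ x = x → x = 0 := by
  classical
  let n := Module.finrank (ZMod s) W
  have h0 : Module.IsTorsionFree (ZMod s) W := DivisionSemiring.to_moduleIsTorsionFree
  have h1 : Module.Finite (ZMod s) W := Module.Finite.of_finite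
  have hn : 0 < n := @Module.finrank_pos (ZMod s) W _ _ _ _ h1 _ h0 _
  have h2 : Module.Free (ZMod s) W := Module.Free.of_divisionRing (ZMod s) W
  let bas : Module.Basis (Fin n) (ZMod s) W := @Module.finBasis (ZMod s) W _ _ _ h2 _ h1
  let φ : H → (W →ₗ[ZMod s] W) := fun h =>
    AddMonoidHom.toZModLinearMap s (DistribSMul.toAddMonoidHom W h)
  have hφ : ∀ h w, φ h w = h • w := fun _ _ => rfl
  let ρ₀ : H →* Matrix (Fin n) (Fin n) (ZMod s) :=
    { toFun := fun h => LinearMap.toMatrix bas bas (φ h)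
      map_one' := by
        have : φ 1 = LinearMap.id := by
          ext w; simp [hφ]
        rw [this, LinearMap.toMatrix_id]
      map_mul' := fun a b => by
        have : φ (a * b) = φ a ∘ₗ φ b := by
          ext w; simp [hφ, mul_smul]
        rw [this, LinearMap.toMatrix_comp bas bas bas] }
  refine ⟨n, hn, ρ₀.toHomUnits, ?_⟩
  intro h hh x hx
  have h1 : ((ρ₀.toHomUnits h : (Matrix (Fin n) (Fin n) (ZMod s))ˣ) :
      Matrix (Fin n) (Fin n) (ZMod s)) = LinearMap.toMatrix bas bas (φ h) := rfl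
  rw [h1] at hx
  let w : W := bas.equivFun.symm x
  have hw : ⇑(bas.repr w) = x := by
    have := bas.equivFun.apply_symm_apply x
    exact this
  have h2 := LinearMap.toMatrix_mulVec_repr bas bas (φ h) w
  rw [hw, hx] at h2
  have h3 : bas.repr w = bas.repr (φ h w) := by
    apply DFunLike.coe_injective
    rw [hw]; exact h2
  have h4 : φ h w = w := (bas.repr.injective h3).symm
  have h5 : w = 0 := hfpf h hh w h4
  rw [← hw, h5]
  simp

theorem exists_matrix_rep_of_fpf (s : ℕ) [hs : Fact s.Prime] {H W : Type*} [Group H]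
    [AddCommGroup W] [Finite W] [Nontrivial W] (hsW : ∀ w : W, s • w = 0) [DistribMulAction H W]
    (hfpf : ∀ h : H, h ≠ 1 → ∀ w : W, h • w = w → w = 0) :
    ∃ (n : ℕ) (_ : 0 < n) (ρ : H →* GL (Fin n) (ZMod s)),
      ∀ h : H, h ≠ 1 → ∀ x : Fin n → ZMod s,
        ((ρ h : GL (Fin n) (ZMod s)) : Matrix (Fin n) (Fin n) (ZMod s)) *ᵥ x = x → x = 0 := by
  letI : Module (ZMod s) W := AddCommGroup.zmodModule hsW
  exact exists_matrix_rep_of_fpf_aux s hfpf

end Cfsg.Agent.Helper21.FrobLift
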