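import Mathlib
import Cfsg.Agent.S0035
import Cfsg.Agent.S0039
import Cfsg.Agent.S0042
import Cfsg.Agent.Lib.Helper21.FrobLiftInt
import Cfsg.Agent.Lib.Helper21.FrobLiftModule

/-!
# Frobenius complements have integral fixed-point-free lattices (helper21)

* `frobenius_kernel_data`: the Frobenius kernel as a nontrivial nilpotent normal complement on which
  the complement acts fixed-point-freely (from S0035, S0039, S0042).
* `exists_elementary_fpf`: an elementary abelian `s`-subgroup normalized by the complement `H`, on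
  which every non-identity element of `H` acts without fixed points.
* `exists_fpf_rep_of_frobenius`: a fixed-point-free representation of `H` over `ZMod s`.
* `exists_int_nv_of_frobenius`: a nonzero integer valued norm-vanishing function on `H`;
  this is an "integral lattice with fixed-point-free action" in disguise, and gives fixed-point-free
  representations of `H` in every characteristic not dividing `|H|`.
-/

set_option autoImplicit false

namespace Cfsg.Agent.Helper21.FrobLift

open Matrix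

theorem frobenius_kernel_data {L : Type*} [Group L] [Finite L] (H : Subgroup L)
    (hH : Cfsg.IsFrobeniusComplement H) :
    ∃ N : Subgroup L, N.Normal ∧ Subgroup.IsComplement' N H ∧ N ≠ ⊥ ∧ Group.IsNilpotent N ∧
      ∀ h ∈ H, h ≠ 1 → N ⊓ Subgroup.centralizer {h} = ⊥ := by
  obtain ⟨N, hNk, hNn, hc⟩ := Cfsg.Agent.S0035.result H hH
  obtain ⟨N', hNk', -, hnil⟩ := Cfsg.Agent.S0042.result H hH
  have hNN : N' = N := SetLike.coe_injective (hNk'.trans hNk.symm)
  subst hNN
  haveI := hNn
  have hN1 : N' ≠ ⊥ := by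
    intro h
    rw [h, Subgroup.isComplement'_bot_left] at hc
    exact hH.2.1 hc
  exact ⟨N', hNn, hc, hN1, hnil, (Cfsg.Agent.S0039.result N' H hc hN1 hH.1).mp hH⟩

theorem exists_elementary_fpf {L : Type*} [Group L] [Finite L] (H : Subgroup L)
    (hH : Cfsg.IsFrobeniusComplement H) :
    ∃ (s : ℕ) (_ : s.Prime) (V : Subgroup L), V ≠ ⊥ ∧ (∀ a ∈ V, ∀ b ∈ V, a * b = b * a) ∧
      (∀ a ∈ V, a ^ s = 1) ∧ (∀ g : L, ∀ a ∈ V, g * a * g⁻¹ ∈ V) ∧
      (∀ h ∈ H, h ≠ 1 → ∀ a ∈ V, h * a * h⁻¹ = a → a = 1) := by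
  obtain ⟨N, hNn, hc, hN1, hnil, hfpf⟩ := frobenius_kernel_data H hH
  haveI := hNn
  haveI := hnil
  haveI : Nontrivial N := (Subgroup.nontrivial_iff_ne_bot N).mpr hN1
  have hZ : Subgroup.center N ≠ ⊥ := Group.IsNilpotent.center_ne_bot N
  have hZcard : Nat.card (Subgroup.center N) ≠ 1 := fun h => hZ (Subgroup.card_eq_one.mp h)
  obtain ⟨s, hs, hsdvd⟩ := Nat.exists_prime_and_dvd hZcard
  haveI : Fact s.Prime := ⟨hs⟩
  obtain ⟨z, hz⟩ := exists_prime_orderOf_dvd_card' s hsdvd
  -- the subgroup
  let V : Subgroup L :=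
    { carrier := {x | x ∈ N ∧ (∀ y ∈ N, y * x = x * y) ∧ x ^ s = 1}
      one_mem' := ⟨N.one_mem, fun y _ => by simp, one_pow _⟩
      mul_mem' := by
        rintro a b ⟨ha1, ha2, ha3⟩ ⟨hb1, hb2, hb3⟩
        refine ⟨N.mul_mem ha1 hb1, fun y hy => ?_, ?_⟩
        · rw [← mul_assoc, ha2 y hy, mul_assoc, hb2 y hy, ← mul_assoc]
        · have hcomm : Commute a b := (ha2 b hb1).symm
          rw [hcomm.mul_pow, ha3, hb3, one_mul]
      inv_mem' := by
        rintro a ⟨ha1, ha2, ha3⟩
        refine ⟨N.inv_mem ha1, fun y hy => ?_, by rw [inv_pow, ha3, inv_one]⟩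
        have := ha2 y hy
        calc y * a⁻¹ = a⁻¹ * (a * y) * a⁻¹ := by group
          _ = a⁻¹ * (y * a) * a⁻¹ := by rw [this]
          _ = a⁻¹ * y := by group }
  have hVmem : ∀ x, x ∈ V ↔ x ∈ N ∧ (∀ y ∈ N, y * x = x * y) ∧ x ^ s = 1 := fun _ => Iff.rfl
  refine ⟨s, hs, V, ?_, ?_, ?_, ?_, ?_⟩
  · intro hbot
    have hzV : ((z : N) : L) ∈ V := by
      rw [hVmem]
      refine ⟨(z : N).2, fun y hy => ?_, ?_⟩
      · have h1 := Subgroup.mem_center_iff.mp z.2 ⟨y, hy⟩
        exact congrArg Subtype.val h1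
      · have h1 := pow_orderOf_eq_one z
        rw [hz] at h1
        have h2 := congrArg (fun t : Subgroup.center N => ((t : N) : L)) h1
        simpa using h2
    rw [hbot, Subgroup.mem_bot] at hzV
    have hz1 : z = 1 := Subtype.ext (Subtype.ext hzV)
    rw [hz1, orderOf_one] at hz
    exact hs.one_lt.ne hz
  · rintro a ⟨ha1, ha2, -⟩ b ⟨hb1, -, -⟩
    exact (ha2 b hb1).symm
  · rintro a ⟨-, -, ha3⟩
    exact ha3
  · rintro g a ⟨ha1, ha2, ha3⟩
    refine ⟨hNn.conj_mem a ha1 g, fun y hy => ?_, by rw [conj_pow, ha3, mul_one, mul_inv_cancel]⟩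
    have hy' : g⁻¹ * y * g ∈ N := by
      have := hNn.conj_mem y hy g⁻¹
      simpa using this
    have h1 := ha2 _ hy'
    calc y * (g * a * g⁻¹) = g * ((g⁻¹ * y * g) * a) * g⁻¹ := by group
      _ = g * (a * (g⁻¹ * y * g)) * g⁻¹ := by rw [h1]
      _ = g * a * g⁻¹ * y := by group
  · rintro h hh hh1 a ⟨ha1, -, -⟩ hfix
    have h3 : a ∈ N ⊓ Subgroup.centralizer {h} := by
      refine Subgroup.mem_inf.mpr ⟨ha1, ?_⟩
      rw [Subgroup.mem_centralizer_singleton_iff]
      calc a * h = (h * a * h⁻¹) * h := by rw [hfix]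
        _ = h * a := by group
    rw [hfpf h hh hh1, Subgroup.mem_bot] at h3
    exact h3

/-- a Frobenius complement has a fixed-point-free representation over some prime field -/
theorem exists_fpf_rep_of_frobenius {L : Type*} [Group L] [Finite L] (H : Subgroup L)
    (hH : Cfsg.IsFrobeniusComplement H) :
    ∃ (s : ℕ) (_ : Fact s.Prime) (n : ℕ) (_ : 0 < n) (ρ : H →* GL (Fin n) (ZMod s)),
      ∀ h : H, h ≠ 1 → ∀ x : Fin n → ZMod s,
        ((ρ h : GL (Fin n) (ZMod s)) : Matrix (Fin n) (Fin n) (ZMod s)) *ᵥ x = x → x = 0 := by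
  obtain ⟨s, hs, V, hV1, hVc, hVs, hVn, hVf⟩ := exists_elementary_fpf H hH
  haveI : Fact s.Prime := ⟨hs⟩
  letI : CommGroup V :=
    { (inferInstance : Group V) with
      mul_comm := fun a b => Subtype.ext (hVc a a.2 b b.2) }
  letI : DistribMulAction H (Additive V) :=
    { smul := fun h a => Additive.ofMul ⟨(h : L) * (Additive.toMul a : V) * (h : L)⁻¹,
        hVn h _ (Additive.toMul a : V).2⟩
      one_smul := fun a => by
        apply Additive.toMul.injective
        apply Subtype.ext
        show ((1 : H) : L) * (Additive.toMul a : V) * ((1 : H) : L)⁻¹ = (Additive.toMul a : V)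
        simp
      mul_smul := fun h h' a => by
        apply Additive.toMul.injective
        apply Subtype.ext
        show ((h * h' : H) : L) * (Additive.toMul a : V) * ((h * h' : H) : L)⁻¹ =
          (h : L) * ((h' : L) * (Additive.toMul a : V) * (h' : L)⁻¹) * (h : L)⁻¹
        simp only [Subgroup.coe_mul]
        group
      smul_zero := fun h => by
        apply Additive.toMul.injective
        apply Subtype.ext
        show (h : L) * ((1 : V) : L) * (h : L)⁻¹ = ((1 : V) : L)
        simp
      smul_add := fun h a b => by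
        apply Additive.toMul.injective
        apply Subtype.ext
        show (h : L) * ((Additive.toMul a * Additive.toMul b : V) : L) * (h : L)⁻¹ =
          ((h : L) * (Additive.toMul a : V) * (h : L)⁻¹) * ((h : L) * (Additive.toMul b : V) * (h : L)⁻¹)
        simp only [Subgroup.coe_mul]
        group }
  have hsmul : ∀ (h : H) (a : Additive V),
      ((Additive.toMul (h • a) : V) : L) = (h : L) * (Additive.toMul a : V) * (h : L)⁻¹ :=
    fun _ _ => rfl
  haveI : Nontrivial (Additive V) := by
    have : Nontrivial V := (Subgroup.nontrivial_iff_ne_bot V).mpr hV1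
    exact Additive.ofMul.injective.nontrivial
  have hsW : ∀ w : Additive V, s • w = 0 := by
    intro w
    apply Additive.toMul.injective
    apply Subtype.ext
    show (((Additive.toMul w : V) ^ s : V) : L) = 1
    rw [Subgroup.coe_pow]
    exact hVs _ (Additive.toMul w : V).2
  have hfpf : ∀ h : H, h ≠ 1 → ∀ w : Additive V, h • w = w → w = 0 := by
    intro h hh w hw
    have h1 : (h : L) * (Additive.toMul w : V) * (h : L)⁻¹ = (Additive.toMul w : V) := by
      rw [← hsmul, hw]
    have h2 := hVf h h.2 (fun e => hh (Subtype.ext e)) _ (Additive.toMul w : V).2 h1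
    apply Additive.toMul.injective
    exact Subtype.ext h2
  obtain ⟨n, hn, ρ, hρ⟩ := exists_matrix_rep_of_fpf s hsW hfpf
  exact ⟨s, ⟨hs⟩, n, hn, ρ, hρ⟩

/-- a Frobenius complement carries a nonzero integer valued norm-vanishing function -/
theorem exists_int_nv_of_frobenius {L : Type*} [Group L] [Finite L] (H : Subgroup L)
    (hH : Cfsg.IsFrobeniusComplement H) : ∃ v : H → ℤ, v ≠ 0 ∧ IsNV v := by
  obtain ⟨s, hs, n, hn, ρ, hρ⟩ := exists_fpf_rep_of_frobenius H hH
  exact exists_int_nv_of_fpf s hn ρ hρ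

end Cfsg.Agent.Helper21.FrobLift
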