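import Mathlib
import Cfsg.Agent.S4293
import Cfsg.Agent.Lib.Helper21.FrobLiftNV

/-!
# Products of groups with integral norm-vanishing functions are Frobenius complements (helper21)

`exists_frobenius_of_nv`: a nontrivial finite group with a nonzero integral norm-vanishing
function is (isomorphic to) a Frobenius complement.

`exists_frobenius_prod_of_nv`: if `H₁`, `H₂` are finite groups of coprime orders carrying nonzero
integral norm-vanishing functions, then `H₁ × H₂` is (isomorphic to) a Frobenius complement.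
-/

set_option autoImplicit false

namespace Cfsg.Agent.Helper21.FrobLift

variable {H₁ H₂ : Type*} [Group H₁] [Group H₂]

/-- functions on `H₁ × H₂` with values in `R` which are norm-vanishing in each variable -/
def biNV (H₁ H₂ : Type*) [Group H₁] [Group H₂] (R : Type*) [AddCommGroup R] :
    AddSubgroup (H₁ × H₂ → R) where
  carrier := {w | (∀ c : H₁, c ≠ 1 → ∀ x y, ∑ i ∈ Finset.range (orderOf c), w (c ^ i * x, y) = 0) ∧
    (∀ c : H₂, c ≠ 1 → ∀ x y, ∑ i ∈ Finset.range (orderOf c), w (x, c ^ i * y) = 0)}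
  zero_mem' := ⟨fun _ _ _ _ => by simp, fun _ _ _ _ => by simp⟩
  add_mem' := by
    rintro w w' ⟨h1, h2⟩ ⟨h1', h2'⟩
    refine ⟨fun c hc x y => ?_, fun c hc x y => ?_⟩
    · simp only [Pi.add_apply, Finset.sum_add_distrib, h1 c hc x y, h1' c hc x y, add_zero]
    · simp only [Pi.add_apply, Finset.sum_add_distrib, h2 c hc x y, h2' c hc x y, add_zero]
  neg_mem' := by
    rintro w ⟨h1, h2⟩
    refine ⟨fun c hc x y => ?_, fun c hc x y => ?_⟩
    · simp only [Pi.neg_apply, Finset.sum_neg_distrib, h1 c hc x y, neg_zero]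
    · simp only [Pi.neg_apply, Finset.sum_neg_distrib, h2 c hc x y, neg_zero]

theorem mem_biNV {R : Type*} [AddCommGroup R] (w : H₁ × H₂ → R) :
    w ∈ biNV H₁ H₂ R ↔
      (∀ c : H₁, c ≠ 1 → ∀ x y, ∑ i ∈ Finset.range (orderOf c), w (c ^ i * x, y) = 0) ∧
      (∀ c : H₂, c ≠ 1 → ∀ x y, ∑ i ∈ Finset.range (orderOf c), w (x, c ^ i * y) = 0) := Iff.rfl

/-- right translation -/
noncomputable instance biNVAction (R : Type*) [AddCommGroup R] :
    DistribMulAction (H₁ × H₂) (biNV H₁ H₂ R) where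
  smul g w := ⟨fun z => (w : H₁ × H₂ → R) (z * g), by
    obtain ⟨h1, h2⟩ := w.2
    refine ⟨fun c hc x y => ?_, fun c hc x y => ?_⟩
    · have := h1 c hc (x * g.1) (y * g.2)
      have e : ∀ i : ℕ, ((c ^ i * x, y) : H₁ × H₂) * g = (c ^ i * (x * g.1), y * g.2) := by
        intro i; ext <;> simp [mul_assoc]
      simp only [e]
      exact this
    · have := h2 c hc (x * g.1) (y * g.2)
      have e : ∀ i : ℕ, ((x, c ^ i * y) : H₁ × H₂) * g = (x * g.1, c ^ i * (y * g.2)) := by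
        intro i; ext <;> simp [mul_assoc]
      simp only [e]
      exact this⟩
  one_smul w := by
    apply Subtype.ext
    funext z
    show (w : H₁ × H₂ → R) (z * 1) = _
    rw [mul_one]
  mul_smul g g' w := by
    apply Subtype.ext
    funext z
    show (w : H₁ × H₂ → R) (z * (g * g')) = (w : H₁ × H₂ → R) (z * g * g')
    rw [mul_assoc]
  smul_zero g := by
    apply Subtype.ext
    funext z
    rfl
  smul_add g w w' := by
    apply Subtype.ext
    funext z
    rfl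

theorem biNV_smul_apply {R : Type*} [AddCommGroup R] (g : H₁ × H₂) (w : biNV H₁ H₂ R)
    (z : H₁ × H₂) : ((g • w : biNV H₁ H₂ R) : H₁ × H₂ → R) z = (w : H₁ × H₂ → R) (z * g) := rfl

theorem biNV_pow_smul {R : Type*} [AddCommGroup R] (g : H₁ × H₂) (w : biNV H₁ H₂ R)
    (hw : g • w = w) (j : ℕ) : g ^ j • w = w := by
  induction j with
  | zero => simp
  | succ j ih => rw [pow_succ, mul_smul, hw, ih]

/-- an element `(a, 1)` with `a ≠ 1` of order prime to `p` fixes only `0` -/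
theorem biNV_fixed_left (p : ℕ) [hp : Fact p.Prime] [Finite H₁] (hp1 : Nat.card H₁ < p)
    (a : H₁) (ha : a ≠ 1) (w : biNV H₁ H₂ (ZMod p)) (hw : ((a, 1) : H₁ × H₂) • w = w) : w = 0 := by
  apply Subtype.ext
  funext ⟨x, y⟩
  show (w : H₁ × H₂ → ZMod p) (x, y) = 0
  have h1 : ∀ i : ℕ, (w : H₁ × H₂ → ZMod p) (x * a ^ i, y) = (w : H₁ × H₂ → ZMod p) (x, y) := by
    intro i
    have h2 := biNV_pow_smul _ w hw i
    have h3 := congrArg (fun u : biNV H₁ H₂ (ZMod p) => (u : H₁ × H₂ → ZMod p) (x, y)) h2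
    simp only [biNV_smul_apply] at h3
    simpa using h3
  set c : H₁ := x * a * x⁻¹ with hc
  have hc1 : c ≠ 1 := by
    intro h
    apply ha
    have : a = x⁻¹ * c * x := by rw [hc]; group
    rw [this, h]; group
  have hco : orderOf c = orderOf a := (MulAut.conj x).orderOf_eq a
  have h4 := (w.2).1 c hc1 x y
  have h5 : ∀ i : ℕ, c ^ i * x = x * a ^ i := by
    intro i
    rw [hc, conj_pow]; group
  simp only [h5, h1] at h4
  rw [Finset.sum_const, Finset.card_range, hco, nsmul_eq_mul] at h4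
  rcases mul_eq_zero.mp h4 with h6 | h6
  · exfalso
    rw [ZMod.natCast_eq_zero_iff] at h6
    have h7 : orderOf a ≤ Nat.card H₁ := Nat.le_of_dvd Nat.card_pos (orderOf_dvd_natCard a)
    have h8 : p ≤ orderOf a := Nat.le_of_dvd (orderOf_pos a) h6
    omega
  · exact h6

theorem biNV_fixed_right (p : ℕ) [hp : Fact p.Prime] [Finite H₂] (hp2 : Nat.card H₂ < p)
    (b : H₂) (hb : b ≠ 1) (w : biNV H₁ H₂ (ZMod p)) (hw : ((1, b) : H₁ × H₂) • w = w) : w = 0 := by
  apply Subtype.ext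
  funext ⟨x, y⟩
  show (w : H₁ × H₂ → ZMod p) (x, y) = 0
  have h1 : ∀ i : ℕ, (w : H₁ × H₂ → ZMod p) (x, y * b ^ i) = (w : H₁ × H₂ → ZMod p) (x, y) := by
    intro i
    have h2 := biNV_pow_smul _ w hw i
    have h3 := congrArg (fun u : biNV H₁ H₂ (ZMod p) => (u : H₁ × H₂ → ZMod p) (x, y)) h2
    simp only [biNV_smul_apply] at h3
    simpa using h3
  set c : H₂ := y * b * y⁻¹ with hc
  have hc1 : c ≠ 1 := by
    intro h
    apply hb
    have : b = y⁻¹ * c * y := by rw [hc]; group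
    rw [this, h]; group
  have hco : orderOf c = orderOf b := (MulAut.conj y).orderOf_eq b
  have h4 := (w.2).2 c hc1 x y
  have h5 : ∀ i : ℕ, c ^ i * y = y * b ^ i := by
    intro i
    rw [hc, conj_pow]; group
  simp only [h5, h1] at h4
  rw [Finset.sum_const, Finset.card_range, hco, nsmul_eq_mul] at h4
  rcases mul_eq_zero.mp h4 with h6 | h6
  · exfalso
    rw [ZMod.natCast_eq_zero_iff] at h6
    have h7 : orderOf b ≤ Nat.card H₂ := Nat.le_of_dvd Nat.card_pos (orderOf_dvd_natCard b)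
    have h8 : p ≤ orderOf b := Nat.le_of_dvd (orderOf_pos b) h6
    omega
  · exact h6

theorem biNV_fpf (p : ℕ) [hp : Fact p.Prime] [Finite H₁] [Finite H₂] (hp1 : Nat.card H₁ < p)
    (hp2 : Nat.card H₂ < p) (hcop : (Nat.card H₁).Coprime (Nat.card H₂))
    (g : H₁ × H₂) (hg : g ≠ 1) (w : biNV H₁ H₂ (ZMod p)) (hw : g • w = w) : w = 0 := by
  obtain ⟨a, b⟩ := g
  by_cases ha : a = 1
  · subst ha
    have hb : b ≠ 1 := by
      rintro rfl
      exact hg rfl
    exact biNV_fixed_right p hp2 b hb w hw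
  · have h1 := biNV_pow_smul _ w hw (orderOf b)
    rw [Prod.pow_mk, pow_orderOf_eq_one] at h1
    apply biNV_fixed_left p hp1 (a ^ orderOf b) _ w h1
    intro h2
    apply ha
    have h3 : orderOf a ∣ orderOf b := orderOf_dvd_of_pow_eq_one h2
    have h4 : orderOf a ∣ Nat.card H₁ := orderOf_dvd_natCard a
    have h5 : orderOf b ∣ Nat.card H₂ := orderOf_dvd_natCard b
    have h6 : orderOf a = 1 := Nat.eq_one_of_dvd_coprimes hcop h4 (h3.trans h5)
    exact orderOf_eq_one_iff.mp h6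

theorem exists_frobenius_prod_of_nv [Finite H₁] [Finite H₂] [Nontrivial H₁]
    (hcop : (Nat.card H₁).Coprime (Nat.card H₂))
    (v₁ : H₁ → ℤ) (hv₁ : v₁ ≠ 0) (hnv₁ : IsNV v₁) (v₂ : H₂ → ℤ) (hv₂ : v₂ ≠ 0) (hnv₂ : IsNV v₂) :
    ∃ (L : Type) (_ : Group L) (_ : Finite L) (C : Subgroup L),
      Cfsg.IsFrobeniusComplement C ∧ Nonempty ((H₁ × H₂) ≃* C) := by
  classical
  obtain ⟨x₀, hx₀⟩ : ∃ x₀, v₁ x₀ ≠ 0 := by
    by_contra h
    push Not at h
    exact hv₁ (funext h)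
  obtain ⟨y₀, hy₀⟩ : ∃ y₀, v₂ y₀ ≠ 0 := by
    by_contra h
    push Not at h
    exact hv₂ (funext h)
  obtain ⟨p, hpge, hp⟩ := Nat.exists_infinite_primes
    (Nat.card H₁ + Nat.card H₂ + (v₁ x₀).natAbs + (v₂ y₀).natAbs + 1)
  haveI : Fact p.Prime := ⟨hp⟩
  have hp1 : Nat.card H₁ < p := by omega
  have hp2 : Nat.card H₂ < p := by omega
  have hcast : ∀ m : ℤ, m ≠ 0 → m.natAbs < p → ((m : ℤ) : ZMod p) ≠ 0 := by
    intro m hm hlt h
    rw [ZMod.intCast_zmod_eq_zero_iff_dvd] at h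
    have h1 : p ∣ m.natAbs := Int.natCast_dvd.mp h
    have h2 : p ≤ m.natAbs := Nat.le_of_dvd (Int.natAbs_pos.mpr hm) h1
    omega
  -- the module
  let M := biNV H₁ H₂ (ZMod p)
  have hfin : Finite M := Subtype.finite
  let w₀ : H₁ × H₂ → ZMod p := fun z => ((v₁ z.1 : ℤ) : ZMod p) * ((v₂ z.2 : ℤ) : ZMod p)
  have hw₀ : w₀ ∈ M := by
    refine ⟨fun c hc x y => ?_, fun c hc x y => ?_⟩
    · show ∑ i ∈ Finset.range (orderOf c), ((v₁ (c ^ i * x) : ℤ) : ZMod p) * ((v₂ y : ℤ) : ZMod p) = 0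
      rw [← Finset.sum_mul, ← Int.cast_sum, hnv₁ c hc x, Int.cast_zero, zero_mul]
    · show ∑ i ∈ Finset.range (orderOf c), ((v₁ x : ℤ) : ZMod p) * ((v₂ (c ^ i * y) : ℤ) : ZMod p) = 0
      rw [← Finset.mul_sum, ← Int.cast_sum, hnv₂ c hc y, Int.cast_zero, mul_zero]
  have hnt : Nontrivial M := by
    refine ⟨⟨⟨w₀, hw₀⟩, 0, ?_⟩⟩
    intro h
    have h1 := congrArg (fun u : M => (u : H₁ × H₂ → ZMod p) (x₀, y₀)) h
    have h2 : ((v₁ x₀ : ℤ) : ZMod p) * ((v₂ y₀ : ℤ) : ZMod p) = 0 := h1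
    rcases mul_eq_zero.mp h2 with h3 | h3
    · exact hcast _ hx₀ (by omega) h3
    · exact hcast _ hy₀ (by omega) h3
  exact Cfsg.Agent.S4293.exists_frobenius_of_fpf (H₁ × H₂) M
    (fun g hg w hw => biNV_fpf p hp1 hp2 hcop g hg w hw)

end Cfsg.Agent.Helper21.FrobLift
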