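import Mathlib
import Cfsg.Agent.S5196
import Cfsg.Agent.S1985
import Cfsg.Agent.Lib.Helper10.WeakDirect2
import Cfsg.Agent.Lib.Helper3.KLSparse

/-!
# The centre of a saturated fusion system is a direct factor of `Z(S)` for odd `p` (helper21)

`trace_split`: abstract trace argument. `kinf_local`: the lower K-infinity functor satisfies the local
condition of S5196 (from S1985). `center_eq`: `Z(F)` is the set of elements of `Z(S)` fixed by
`Aut_F(K_∞(S))`. `main`: the splitting.
-/

set_option autoImplicit false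
set_option linter.style.haveILetI false
set_option linter.unusedSectionVars false

namespace Cfsg.Agent.Helper21.FusCenterSplit

open Cfsg Cfsg.FusionSystem Cfsg.Agent.Helper25 Cfsg.Agent.Helper3.KL Cfsg.Agent.Helper3.WC
open Cfsg.Agent.Helper10 Cfsg.Agent.Helper25.Grun

section Trace

variable {X : Type*} [Group X] [Finite X] {p : ℕ} [hp : Fact p.Prime]

theorem aut_mem_center (α : MulAut X) {x : X} (hx : x ∈ Subgroup.center X) :
    α x ∈ Subgroup.center X := by
  rw [Subgroup.mem_center_iff] at hx ⊢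
  intro g
  have h := hx (α⁻¹ g)
  have h2 := congrArg α h
  simpa using h2

/-- abstract trace argument -/
theorem trace_split (A : Subgroup (MulAut X)) (B : Subgroup A) (hidx : ¬ p ∣ B.index)
    (Z : Subgroup X) (hZc : Z ≤ Subgroup.center X) (hZp : IsPGroup p Z)
    (hZfix : ∀ z ∈ Z, ∀ β ∈ B, ((β : A) : MulAut X) z = z)
    (hZmax : ∀ x ∈ Subgroup.center X, (∀ β ∈ B, ((β : A) : MulAut X) x = x) → x ∈ Z)
    (Fx : Subgroup X) (hFx : ∀ x, x ∈ Fx ↔ x ∈ Z ∧ ∀ α ∈ A, (α : MulAut X) x = x) :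
    ∃ K : Subgroup X, K ≤ Z ∧ Fx ⊓ K = ⊥ ∧ Fx ⊔ K = Z := by
  classical
  haveI : Finite A := inferInstance
  haveI : Fintype (A ⧸ B) := Fintype.ofFinite _
  letI cg : CommGroup ↥(Subgroup.center X) := IsMulCommutative.instCommGroup
  -- the conjugates
  let c : (A ⧸ B) → ↥Z → ↥(Subgroup.center X) := fun ω z =>
    ⟨((ω.out : A) : MulAut X) (z : X), aut_mem_center _ (hZc z.2)⟩
  have hc_mul : ∀ ω (z z' : ↥Z), c ω (z * z') = c ω z * c ω z' := by
    intro ω z z'
    apply Subtype.ext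
    show ((ω.out : A) : MulAut X) ((z : X) * (z' : X)) = _
    rw [map_mul]
    rfl
  have hc_one : ∀ ω, c ω 1 = 1 := by
    intro ω
    apply Subtype.ext
    show ((ω.out : A) : MulAut X) ((1 : ↥Z) : X) = 1
    simp
  let τ : ↥Z →* ↥(Subgroup.center X) :=
    { toFun := fun z => ∏ ω : A ⧸ B, c ω z
      map_one' := by
        show ∏ ω : A ⧸ B, c ω 1 = 1
        simp [hc_one]
      map_mul' := by
        intro z z'
        show ∏ ω : A ⧸ B, c ω (z * z') = (∏ ω : A ⧸ B, c ω z) * ∏ ω : A ⧸ B, c ω z'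
        rw [← Finset.prod_mul_distrib]
        exact Finset.prod_congr rfl (fun ω _ => hc_mul ω z z') }
  have hτ_def : ∀ z : ↥Z, τ z = ∏ ω : A ⧸ B, c ω z := fun z => rfl
  -- invariance
  have hτ_inv : ∀ (z : ↥Z) (a : A), ((a : A) : MulAut X) ((τ z : ↥(Subgroup.center X)) : X) =
      ((τ z : ↥(Subgroup.center X)) : X) := by
    intro z a
    let φ : ↥(Subgroup.center X) →* ↥(Subgroup.center X) :=
      { toFun := fun v => ⟨((a : A) : MulAut X) (v : X), aut_mem_center _ v.2⟩
        map_one' := by apply Subtype.ext; simp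
        map_mul' := by intro v w; apply Subtype.ext; simp }
    have hφ : ∀ v : ↥(Subgroup.center X), ((φ v : ↥(Subgroup.center X)) : X) =
        ((a : A) : MulAut X) (v : X) := fun v => rfl
    rw [← hφ, hτ_def, map_prod]
    have h1 : ∀ ω : A ⧸ B, φ (c ω z) = c (a • ω) z := by
      intro ω
      apply Subtype.ext
      rw [hφ]
      show ((a : A) : MulAut X) (((ω.out : A) : MulAut X) (z : X)) =
        (((a • ω).out : A) : MulAut X) (z : X)
      have hω : a • ω = QuotientGroup.mk (a * ω.out) := by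
        conv_lhs => rw [← QuotientGroup.out_eq' ω]
        rfl
      obtain ⟨b, hb⟩ := QuotientGroup.mk_out_eq_mul B (a * ω.out)
      rw [hω, hb]
      have hbz := hZfix (z : X) z.2 (b : A) b.2
      show _ = (((a * ω.out * (b : A) : A)) : MulAut X) (z : X)
      rw [Subgroup.coe_mul, Subgroup.coe_mul, MulAut.mul_apply, MulAut.mul_apply, hbz]
    rw [Finset.prod_congr rfl (fun ω _ => h1 ω)]
    congr 1
    exact Function.Bijective.prod_comp (MulAction.bijective a) (fun ω => c ω z)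
  have hFxZ : Fx ≤ Z := fun x hx => ((hFx x).mp hx).1
  have hτ_W : ∀ (w : ↥Z), (w : X) ∈ Fx → ((τ w : ↥(Subgroup.center X)) : X) = (w : X) ^ B.index := by
    intro w hw
    have h1 : ∀ ω : A ⧸ B, c ω w = ⟨(w : X), hZc w.2⟩ := by
      intro ω
      apply Subtype.ext
      show ((ω.out : A) : MulAut X) (w : X) = (w : X)
      exact ((hFx _).mp hw).2 _ (ω.out).2
    rw [hτ_def, Finset.prod_congr rfl (fun ω _ => h1 ω), Finset.prod_const, Finset.card_univ,
      ← Nat.card_eq_fintype_card, ← Subgroup.index_eq_card]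
    simp
  have hτW_mem : ∀ z : ↥Z, ((τ z : ↥(Subgroup.center X)) : X) ∈ Fx := by
    intro z
    rw [hFx]
    refine ⟨?_, fun α hα => hτ_inv z ⟨α, hα⟩⟩
    apply hZmax _ (τ z).2
    intro β _
    exact hτ_inv z β
  have hcop : ∀ x ∈ Z, (B.index).Coprime (orderOf x) := by
    intro x hx
    obtain ⟨k, hk⟩ := hZp ⟨x, hx⟩
    have hk' : x ^ p ^ k = 1 := by
      have := congrArg Subtype.val hk
      simpa using this
    have h1 : orderOf x ∣ p ^ k := orderOf_dvd_of_pow_eq_one hk'
    have h2 : (B.index).Coprime p := ((Nat.Prime.coprime_iff_not_dvd hp.out).mpr hidx).symm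
    exact Nat.Coprime.coprime_dvd_right h1 (Nat.Coprime.pow_right k h2)
  refine ⟨τ.ker.map Z.subtype, Subgroup.map_subtype_le _, ?_, ?_⟩
  · rw [eq_bot_iff]
    rintro x ⟨hxW, ⟨k, hk, rfl⟩⟩
    rw [Subgroup.mem_bot]
    have h1 : ((τ k : ↥(Subgroup.center X)) : X) = (k : X) ^ B.index := hτ_W k hxW
    have h2 : τ k = 1 := hk
    rw [h2] at h1
    have h3 : orderOf (k : X) ∣ B.index := orderOf_dvd_of_pow_eq_one h1.symm
    have h4 := hcop (k : X) k.2
    have h5 : orderOf (k : X) = 1 := Nat.eq_one_of_dvd_coprimes h4.symm dvd_rfl h3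
    exact orderOf_eq_one_iff.mp h5
  · apply le_antisymm
    · exact sup_le hFxZ (Subgroup.map_subtype_le _)
    · intro z hz
      set t : X := ((τ ⟨z, hz⟩ : ↥(Subgroup.center X)) : X) with ht
      have htW : t ∈ Fx := hτW_mem ⟨z, hz⟩
      obtain ⟨e, he⟩ := exists_pow_eq_self_of_coprime (hcop t (hFxZ htW))
      set u : X := t ^ e with hu
      have huW : u ∈ Fx := Subgroup.pow_mem _ htW e
      have huZ : u ∈ Z := hFxZ huW
      have h1 : ((τ ⟨u, huZ⟩ : ↥(Subgroup.center X)) : X) = t := by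
        rw [hτ_W ⟨u, huZ⟩ huW]
        show (t ^ e) ^ B.index = t
        rw [← pow_mul, mul_comm, pow_mul]
        exact he
      have h2 : τ (⟨z, hz⟩ * ⟨u, huZ⟩⁻¹) = 1 := by
        rw [map_mul, map_inv]
        have : τ ⟨u, huZ⟩ = τ ⟨z, hz⟩ := Subtype.ext h1
        rw [this, mul_inv_cancel]
      have h3 : z * u⁻¹ ∈ τ.ker.map Z.subtype := ⟨⟨z, hz⟩ * ⟨u, huZ⟩⁻¹, h2, by simp⟩
      have e1 : z = u * (u⁻¹ * z) := by group
      have hcomm : z * u⁻¹ = u⁻¹ * z := by
        have := Subgroup.mem_center_iff.mp (Subgroup.inv_mem _ (hZc huZ)) z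
        exact this
      rw [e1, ← hcomm]
      exact Subgroup.mul_mem _ (Subgroup.mem_sup_left huW) (Subgroup.mem_sup_right h3)

end Trace

section KInf
universe u
variable {p : ℕ} [hp : Fact p.Prime]

theorem kinf_local (hp2 : p ≠ 2) (G : Type u) [Group G] [Finite G] (P : Sylow p G) :
    Cfsg.pCore p G ⊓ Subgroup.center G = Cfsg.pCore p G ⊓ (Subgroup.center ↥(Subgroup.normalizer (((Cfsg.kInfLower ↥(P : Subgroup G)).map (P : Subgroup G).subtype : Subgroup G) : Set G))).map (Subgroup.normalizer (((Cfsg.kInfLower ↥(P : Subgroup G)).map (P : Subgroup G).subtype : Subgroup G) : Set G)).subtype := by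
  have hWc := isConjugacyFunctor_indW (H := G) (isCharPFunctor_kInfLower.{u} p)
  have hcw := cwc_sylow _ hWc (Cfsg.Agent.S1985.result hp2) (P : Subgroup G) P.2 P.not_dvd_index
  have hK : inducedFunctor (G := G) kInfLower (P : Subgroup G) =
      (Cfsg.kInfLower ↥(P : Subgroup G)).map (P : Subgroup G).subtype := rfl
  rw [hK] at hcw
  set N := Subgroup.normalizer (((Cfsg.kInfLower ↥(P : Subgroup G)).map (P : Subgroup G).subtype : Subgroup G) : Set G) with hN
  have hcoreP : Cfsg.pCore p G ≤ (P : Subgroup G) := Cfsg.Agent.Helper10.pCore_le_sylow (P : Subgroup G) P.2 P.not_dvd_index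
  haveI hcn : (Cfsg.pCore p G).Normal := Subgroup.sSup_normal _ (fun _ hH => hH.1)
  ext x
  rw [Subgroup.mem_inf, Subgroup.mem_inf]
  constructor
  · rintro ⟨hx1, hx2⟩
    refine ⟨hx1, ?_⟩
    have hxN : x ∈ N := by
      rw [hN, Subgroup.mem_normalizer_iff]
      intro y
      have e : x * y * x⁻¹ = y := by
        have := Subgroup.mem_center_iff.mp hx2 y
        rw [← this]; group
      rw [e]
    refine ⟨⟨x, hxN⟩, ?_, rfl⟩
    rw [SetLike.mem_coe, Subgroup.mem_center_iff]
    intro g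
    apply Subtype.ext
    exact Subgroup.mem_center_iff.mp hx2 g
  · rintro ⟨hx1, ⟨n, hn, rfl⟩⟩
    refine ⟨hx1, ?_⟩
    rw [SetLike.mem_coe, Subgroup.mem_center_iff] at hn
    have hxc : (n : G) ∈ (P : Subgroup G) ⊓ Subgroup.centralizer ((N : Subgroup G) : Set G) := by
      rw [Subgroup.mem_inf]
      refine ⟨hcoreP hx1, ?_⟩
      rw [Subgroup.mem_centralizer_iff]
      intro m hm
      have := hn ⟨m, hm⟩
      exact congrArg Subtype.val this
    show (n : G) ∈ Subgroup.center G
    rw [Subgroup.mem_center_iff]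
    intro g
    have h1 := hcw (n : G) hxc g (hcoreP (hcn.conj_mem _ hx1 g))
    calc g * (n : G) = (g * (n : G) * g⁻¹) * g := by group
      _ = (n : G) * g := by rw [h1]

end KInf

section Fusion
universe u

variable {Ω : Type u} [Group Ω] {S : Subgroup Ω} [Finite S] {p : ℕ} [hp : Fact p.Prime]

/-- the `K_∞` functor -/
abbrev KW : ∀ (Q : Type u) [Group Q], Subgroup Q := fun Q _ => Cfsg.kInfLower Q

/-- `X = K_∞(S)` inside `Ω` -/
def XS (S : Subgroup Ω) : Subgroup Ω := (Cfsg.kInfLower ↥S).map S.subtype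

theorem XS_le : XS S ≤ S := Subgroup.map_subtype_le _

theorem hW2 : ∀ (Q R : Type u) [Group Q] [Group R] [Finite Q], IsPGroup p Q → ∀ φ : Q ≃* R,
    (KW Q).map φ.toMonoidHom = KW R := (isCharPFunctor_kInfLower.{u} p).2

theorem hW1 : ∀ (Q : Type u) [Group Q] [Finite Q], IsPGroup p Q → Nontrivial Q → KW Q ≠ ⊥ :=
  (isCharPFunctor_kInfLower.{u} p).1

theorem hWZ : ∀ (Q : Type u) [Group Q] [Finite Q], IsPGroup p Q → Subgroup.center Q ≤ KW Q :=
  fun _ _ _ _ => center_le_kInfLower

theorem le_normalizer_XS (hS : IsPGroup p S) : S ≤ Subgroup.normalizer ((XS S : Subgroup Ω) : Set Ω) := by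
  intro s hs
  have h1 : s ∈ normalizerIn S S := ⟨hs, Subgroup.le_normalizer hs⟩
  have h2 := normalizerIn_le_normalizerIn_wOf (W := KW) (S := S) (hW2 (p := p)) hS h1
  exact h2.2

theorem centralizerIn_le_XS : centralizerIn S S ≤ XS S := by
  intro z hz
  obtain ⟨hzS, hzc⟩ := mem_centralizerIn.mp hz
  refine ⟨⟨z, hzS⟩, ?_, rfl⟩
  apply center_le_kInfLower
  rw [Subgroup.mem_center_iff]
  intro t
  apply Subtype.ext
  exact hzc t t.2

/-- the elements of `Z(S)` fixed by `Aut_F(X)` -/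
def fixSub (F : FusionSystem S) : Subgroup ↥(XS S) where
  carrier := {x | (x : Ω) ∈ centralizerIn S S ∧ ∀ α ∈ F.autGroup (XS S), α x = x}
  one_mem' := ⟨(centralizerIn S S).one_mem, fun α _ => map_one α⟩
  mul_mem' := by
    rintro a b ⟨ha1, ha2⟩ ⟨hb1, hb2⟩
    exact ⟨(centralizerIn S S).mul_mem ha1 hb1, fun α hα => by rw [map_mul, ha2 α hα, hb2 α hα]⟩
  inv_mem' := by
    rintro a ⟨ha1, ha2⟩
    exact ⟨(centralizerIn S S).inv_mem ha1, fun α hα => by rw [map_inv, ha2 α hα]⟩

theorem mem_fixSub (F : FusionSystem S) (x : ↥(XS S)) :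
    x ∈ fixSub F ↔ (x : Ω) ∈ centralizerIn S S ∧ ∀ α ∈ F.autGroup (XS S), α x = x := Iff.rfl

theorem center_eq (hp2 : p ≠ 2) (hS : IsPGroup p S) (F : FusionSystem S) (hF : F.IsSaturated p) :
    F.center = (fixSub F).map (XS S).subtype := by
  have hXS : XS S ≤ S := XS_le
  have hXn := le_normalizer_XS hS
  obtain ⟨N, hN⟩ := Cfsg.Agent.S5096.result F (XS S) hXS
  have hNF : N.center = F.center :=
    Cfsg.Agent.S5196.result hp2 KW hW1 hW2 hWZ (kinf_local hp2) hS F hF N hN
  apply le_antisymm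
  · intro z hz
    have hFc := isCentral_center F
    have hzS : z ∈ S := hFc.1 hz
    have hzZ : z ∈ centralizerIn S S := by
      rw [mem_centralizerIn]
      refine ⟨hzS, fun g hg => ?_⟩
      have := central_comm F hFc hg hz
      calc g * z = (g * z * g⁻¹) * g := by group
        _ = z * g := by rw [this]
    have hzX : z ∈ XS S := centralizerIn_le_XS hzZ
    refine ⟨⟨z, hzX⟩, ⟨hzZ, fun α hα => ?_⟩, rfl⟩
    have h1 := (mem_autGroup_iff F hXS α).mp hα
    have h2 := central_fix F hFc h1 ⟨z, hzX⟩ hz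
    exact Subtype.ext h2
  · rw [← hNF]
    have hTS : normalizerIn S (XS S) ≤ S := normalizerIn_le
    haveI : Finite ↥(normalizerIn S (XS S)) := finite_of_le_finite hTS
    have hTp : IsPGroup p ↥(normalizerIn S (XS S)) := hS.to_le hTS
    have hXfn : F.IsFullyNormalized (XS S) := isFullyNormalized_of_normal F hXS hXn
    have hNsat : N.IsSaturated p := normalizerSystem_isSaturated p hS F hF hXfn N hN
    have hle : (fixSub F).map (XS S).subtype ≤ normalizerIn S (XS S) := by
      rintro _ ⟨x, -, rfl⟩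
      exact le_normalizerIn hXS x.2
    apply le_center_of_fix hTp hNsat hle
    rintro _ ⟨x, hx, rfl⟩ φ hφ
    rw [hN] at hφ
    obtain ⟨-, -, -, ψ, hψ, hext, hmap⟩ := hφ
    -- restrict `ψ` to `X`
    have hψX := restrict_mem F (le_sup_right : XS S ≤ Subgroup.zpowers ((XS S).subtype x) ⊔ XS S) hψ
    have hr : (ψ.comp (Subgroup.inclusion (le_sup_right :
        XS S ≤ Subgroup.zpowers ((XS S).subtype x) ⊔ XS S))).range = XS S := by
      have hrange : (Subgroup.inclusion (le_sup_right :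
          XS S ≤ Subgroup.zpowers ((XS S).subtype x) ⊔ XS S)).range =
          (XS S).subgroupOf (Subgroup.zpowers ((XS S).subtype x) ⊔ XS S) := by
        ext y
        constructor
        · rintro ⟨w, rfl⟩
          exact Subgroup.mem_subgroupOf.mpr w.2
        · intro hy
          exact ⟨⟨(y : Ω), Subgroup.mem_subgroupOf.mp hy⟩, Subtype.ext rfl⟩
      rw [MonoidHom.range_comp, hrange]
      exact hmap
    obtain ⟨α, hα, hαψ⟩ := Cfsg.Agent.Helper3.WC.exists_aut_of_range_eq F hψX hr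
    have h1 := hαψ x
    rw [hx.2 α hα] at h1
    have h2 := hext ⟨(XS S).subtype x, Subgroup.mem_zpowers _⟩
    rw [← h2]
    have e : Subgroup.inclusion (le_sup_left :
        Subgroup.zpowers ((XS S).subtype x) ≤ Subgroup.zpowers ((XS S).subtype x) ⊔ XS S)
          ⟨(XS S).subtype x, Subgroup.mem_zpowers _⟩ =
        Subgroup.inclusion (le_sup_right :
          XS S ≤ Subgroup.zpowers ((XS S).subtype x) ⊔ XS S) x := Subtype.ext rfl
    rw [e]
    exact h1.symm


theorem main (hp2 : p ≠ 2) (hS : IsPGroup p S) (F : FusionSystem S) (hF : F.IsSaturated p) :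
    ∃ K : Subgroup Ω, K ≤ (S ⊓ Subgroup.centralizer (S : Set Ω)) ∧ F.center ⊓ K = ⊥ ∧
      F.center ⊔ K = (S ⊓ Subgroup.centralizer (S : Set Ω)) := by
  have hXS : XS S ≤ S := XS_le
  have hXn := le_normalizer_XS hS
  haveI : Finite ↥(XS S) := finite_of_le_finite hXS
  have hXfn : F.IsFullyNormalized (XS S) := isFullyNormalized_of_normal F hXS hXn
  obtain ⟨-, hfa, -⟩ := of_fullyNormalized p hS F hF hXfn
  obtain ⟨-, R, hR⟩ := hfa
  have hidx : ¬ p ∣ ((autInducedBy S (XS S)).subgroupOf (F.autGroup (XS S))).index := by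
    rw [← hR]
    exact R.not_dvd_index
  have hXp : IsPGroup p ↥(XS S) := hS.to_le hXS
  have hZc : (centralizerIn S S).subgroupOf (XS S) ≤ Subgroup.center ↥(XS S) := by
    intro x hx
    rw [Subgroup.mem_subgroupOf] at hx
    obtain ⟨-, hxc⟩ := mem_centralizerIn.mp hx
    rw [Subgroup.mem_center_iff]
    intro t
    apply Subtype.ext
    exact hxc t (hXS t.2)
  have hZp : IsPGroup p ↥((centralizerIn S S).subgroupOf (XS S)) := hXp.to_subgroup _
  have hZfix : ∀ z ∈ (centralizerIn S S).subgroupOf (XS S),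
      ∀ β ∈ (autInducedBy S (XS S)).subgroupOf (F.autGroup (XS S)),
      ((β : F.autGroup (XS S)) : MulAut ↥(XS S)) z = z := by
    intro z hz β hβ
    rw [Subgroup.mem_subgroupOf] at hz hβ
    obtain ⟨g, hg, hgβ⟩ := (mem_autInducedBy_iff _).mp hβ
    obtain ⟨-, hzc⟩ := mem_centralizerIn.mp hz
    apply Subtype.ext
    rw [hgβ z, hzc g hg]
    group
  have hZmax : ∀ x ∈ Subgroup.center ↥(XS S),
      (∀ β ∈ (autInducedBy S (XS S)).subgroupOf (F.autGroup (XS S)),
        ((β : F.autGroup (XS S)) : MulAut ↥(XS S)) x = x) →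
      x ∈ (centralizerIn S S).subgroupOf (XS S) := by
    intro x _ hfix
    rw [Subgroup.mem_subgroupOf, mem_centralizerIn]
    refine ⟨hXS x.2, fun g hg => ?_⟩
    obtain ⟨κ, hκ, hκg⟩ := hK_autInducedBy (XS S) hXn g hg
    have hκA : κ ∈ F.autGroup (XS S) := autInducedBy_le_autGroup F hXS hκ
    have h1 := hfix ⟨κ, hκA⟩ (Subgroup.mem_subgroupOf.mpr hκ)
    have h2 := hκg x
    have h3 : ((κ x : ↥(XS S)) : Ω) = (x : Ω) := congrArg Subtype.val h1
    rw [h3] at h2
    calc g * (x : Ω) = (g * (x : Ω) * g⁻¹) * g := by group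
      _ = (x : Ω) * g := by rw [← h2]
  obtain ⟨K', hK'Z, hK'1, hK'2⟩ := trace_split (p := p) (F.autGroup (XS S))
    ((autInducedBy S (XS S)).subgroupOf (F.autGroup (XS S))) hidx
    ((centralizerIn S S).subgroupOf (XS S)) hZc hZp hZfix hZmax (fixSub F)
    (fun x => by
      rw [mem_fixSub, Subgroup.mem_subgroupOf])
  have hZmap : ((centralizerIn S S).subgroupOf (XS S)).map (XS S).subtype =
      S ⊓ Subgroup.centralizer (S : Set Ω) := by
    rw [Subgroup.subgroupOf_map_subtype]
    exact inf_of_le_left centralizerIn_le_XS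
  have hinj := (XS S).subtype_injective
  rw [center_eq hp2 hS F hF]
  refine ⟨K'.map (XS S).subtype, ?_, ?_, ?_⟩
  · rw [← hZmap]
    exact Subgroup.map_mono hK'Z
  · rw [← Subgroup.map_inf _ _ _ hinj, hK'1, Subgroup.map_bot]
  · rw [← Subgroup.map_sup, hK'2, hZmap]

end Fusion

end Cfsg.Agent.Helper21.FusCenterSplit
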