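import Mathlib
import Cfsg.Agent.Lib.Helper8.GRDefs

/-!
Piece GR-TRIP4 of S3085 (helper8): `(w₁, w₂, w₁ w₂ w₃)` is again an independent commuting triple.
-/

set_option autoImplicit false

namespace Cfsg.Agent.Helper8.GR

theorem trip4_anti {Q : Type*} [Group Q] {z : Q} (h : XQ z) {x y : Q} (hxy : x * y ≠ y * x) :
    x * y = z * (y * x) := by
  rcases h.hcomm x y with h1 | h1
  · exact absurd h1 hxy
  · exact h1

/-- moving a central `z` to the left -/
theorem trip4_zl {Q : Type*} [Group Q] {z : Q} (h : XQ z) (a b : Q) :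
    a * (z * b) = z * (a * b) := by
  rw [← mul_assoc, h.hcen a, mul_assoc]

theorem trip4_zz {Q : Type*} [Group Q] {z : Q} (h : XQ z) (a : Q) : z * (z * a) = a := by
  rw [← mul_assoc, h.hzz, one_mul]

/-- `f` anticommutes with `a` and `c`, commutes with `b`: then it commutes with `a * b * c`. -/
theorem trip4_aca {Q : Type*} [Group Q] {z : Q} (h : XQ z) {f a b c : Q}
    (ha : f * a = z * (a * f)) (hb : f * b = b * f) (hc : f * c = z * (c * f)) :
    f * (a * b * c) = (a * b * c) * f := by
  calc f * (a * b * c) = (f * a) * b * c := by simp only [mul_assoc]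
    _ = z * (a * f) * b * c := by rw [ha]
    _ = z * (a * ((f * b) * c)) := by simp only [mul_assoc]
    _ = z * (a * ((b * f) * c)) := by rw [hb]
    _ = z * (a * (b * (f * c))) := by simp only [mul_assoc]
    _ = z * (a * (b * (z * (c * f)))) := by rw [hc]
    _ = z * (z * (a * (b * (c * f)))) := by rw [trip4_zl h b, trip4_zl h a]
    _ = a * (b * (c * f)) := trip4_zz h _
    _ = (a * b * c) * f := by simp only [mul_assoc]

/-- `f` commutes with `a`, anticommutes with `b` and `c`: then it commutes with `a * b * c`. -/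
theorem trip4_caa {Q : Type*} [Group Q] {z : Q} (h : XQ z) {f a b c : Q}
    (ha : f * a = a * f) (hb : f * b = z * (b * f)) (hc : f * c = z * (c * f)) :
    f * (a * b * c) = (a * b * c) * f := by
  calc f * (a * b * c) = (f * a) * b * c := by simp only [mul_assoc]
    _ = (a * f) * b * c := by rw [ha]
    _ = a * ((f * b) * c) := by simp only [mul_assoc]
    _ = a * ((z * (b * f)) * c) := by rw [hb]
    _ = a * (z * (b * (f * c))) := by simp only [mul_assoc]
    _ = a * (z * (b * (z * (c * f)))) := by rw [hc]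
    _ = a * (b * (c * f)) := by rw [trip4_zl h b, trip4_zz h]
    _ = (a * b * c) * f := by simp only [mul_assoc]

/-- `f` commutes with `a`, `b` and not with `c`: then it does not commute with `a * b * c`. -/
theorem trip4_ccn {Q : Type*} [Group Q] {f a b c : Q}
    (ha : f * a = a * f) (hb : f * b = b * f) (hc : f * c ≠ c * f) :
    f * (a * b * c) ≠ (a * b * c) * f := by
  intro hh
  apply hc
  have h1 : f * (a * b * c) = (a * b) * (f * c) := by
    calc f * (a * b * c) = (f * a) * b * c := by simp only [mul_assoc]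
      _ = a * ((f * b) * c) := by rw [ha]; simp only [mul_assoc]
      _ = (a * b) * (f * c) := by rw [hb]; simp only [mul_assoc]
  rw [h1, mul_assoc (a * b) c f] at hh
  exact mul_left_cancel hh

/-- product of a non-commuting and a commuting element does not commute -/
theorem trip4_nc {Q : Type*} [Group Q] {f g a : Q}
    (hf : f * a ≠ a * f) (hg : g * a = a * g) : (f * g) * a ≠ a * (f * g) := by
  intro hh
  apply hf
  rw [mul_assoc, hg, ← mul_assoc, ← mul_assoc] at hh
  exact mul_right_cancel hh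

theorem trip4_cc {Q : Type*} [Group Q] {f g a : Q}
    (hf : f * a = a * f) (hg : g * a = a * g) : (f * g) * a = a * (f * g) := by
  rw [mul_assoc, hg, ← mul_assoc, hf, mul_assoc]

/-- product of an anticommuting and a commuting element anticommutes -/
theorem trip4_ac {Q : Type*} [Group Q] {z : Q} {f g a : Q}
    (hf : f * a = z * (a * f)) (hg : g * a = a * g) : (f * g) * a = z * (a * (f * g)) := by
  rw [mul_assoc, hg, ← mul_assoc, hf]; simp only [mul_assoc]

theorem trip4_ca {Q : Type*} [Group Q] {z : Q} (h : XQ z) {f g a : Q}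
    (hf : f * a = a * f) (hg : g * a = z * (a * g)) : (f * g) * a = z * (a * (f * g)) := by
  rw [mul_assoc, hg, trip4_zl h, ← mul_assoc f a g, hf]; simp only [mul_assoc]

theorem trip4 {Q : Type*} [Group Q] {z w₁ w₂ w₃ : Q} (h : XQ z) (t : Trip z w₁ w₂ w₃) :
    Trip z w₁ w₂ (w₁ * w₂ * w₃) := by
  have c12 : Commute w₁ w₂ := t.c12
  have c13 : Commute w₁ w₃ := t.c13
  have c23 : Commute w₂ w₃ := t.c23
  obtain ⟨f1, f1a, f1b, f1c⟩ := t.i1
  obtain ⟨f2, f2a, f2b, f2c⟩ := t.i2
  obtain ⟨f3, f3a, f3b, f3c⟩ := t.i3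
  refine ⟨t.s1, t.s2, ?_, t.c12, ?_, ?_, ⟨f1 * f3, ?_, ?_, ?_⟩, ⟨f2 * f3, ?_, ?_, ?_⟩,
    ⟨f3, f3a, f3b, ?_⟩⟩
  · -- square
    have e1 : (w₁ * w₂ * w₃) * (w₁ * w₂ * w₃) = (w₁ * w₂) * (w₁ * w₂) * (w₃ * w₃) :=
      Commute.mul_mul_mul_comm ((c13.mul_left c23).symm) _ _
    have e2 : (w₁ * w₂) * (w₁ * w₂) = (w₁ * w₁) * (w₂ * w₂) :=
      Commute.mul_mul_mul_comm c12.symm _ _
    rw [e1, e2, t.s1, t.s2, t.s3, h.hzz, one_mul]
  · exact ((Commute.refl w₁).mul_right c12).mul_right c13
  · exact (c12.symm.mul_right (Commute.refl w₂)).mul_right c23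
  · exact trip4_nc f1a f3a
  · exact trip4_cc f1b f3b
  · exact trip4_aca h (trip4_ac (trip4_anti h f1a) f3a) (trip4_cc f1b f3b)
      (trip4_ca h f1c (trip4_anti h f3c))
  · exact trip4_cc f2a f3a
  · exact trip4_nc f2b f3b
  · exact trip4_caa h (trip4_cc f2a f3a) (trip4_ac (trip4_anti h f2b) f3b)
      (trip4_ca h f2c (trip4_anti h f3c))
  · exact trip4_ccn f3a f3b f3c

end Cfsg.Agent.Helper8.GR
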