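import Mathlib
import Cfsg.Agent.Lib.Helper4.ThBField
import Cfsg.Agent.Lib.Helper4.PLenExpB

/-!
# S3786 (helper3's farm-out), piece L1 (helper21)

Variant of helper4's `PLenExp.exists_pow_ne_one` with `Q` an arbitrary non-exceptional `q`-group: the norm element
`∑_{i < p^(n+1)} ρ(y)^i = (ρ(y) - 1)^(p^(n+1) - 1)` on `H/Φ(H)` vanishes if all `(y v)^(p^(n+1)) = 1`, against
`thmB_field`.
-/

set_option autoImplicit false
set_option linter.unusedSectionVars false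

namespace Cfsg.Agent.Helper3.HHX

open Module TensorProduct Cfsg.Agent.Helper8.FrobLin Cfsg.Agent.Helper8.HHLin
  Cfsg.Agent.Helper8.SecRep Cfsg.Agent.Helper4.ThB Cfsg.Agent.Helper4.PLenExp

variable {X : Type*} [Group X] [Finite X]

/-- PIECE L1: non-exceptional Theorem B gives an element of larger order (variant of helper4's
`exists_pow_ne_one` with `Q` an arbitrary non-exceptional `q`-group). -/
theorem exists_pow_ne_one_thmB {p q : ℕ} [hp : Fact p.Prime] [hq : Fact q.Prime] (hpq : p ≠ q)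
    (H : Subgroup X) [hHn : H.Normal] (hHp : IsPGroup p ↥H) (Q : Subgroup X) (hQq : IsPGroup q ↥Q)
    (hQH : ∀ a ∈ Q, (∀ v ∈ H, a * v * a⁻¹ = v) → a = 1)
    (hnex : ¬ ∃ n₀ m : ℕ, 1 ≤ n₀ ∧ 1 ≤ m ∧ p ^ n₀ - 1 = q ^ m ∧ ∃ g ∈ Q, ∃ h ∈ Q, g * h ≠ h * g)
    (y : X) (hyQ : y ∈ Subgroup.normalizer (Q : Set X)) (n : ℕ) (hy : y ^ p ^ (n + 1) = 1)
    (a : X) (ha : a ∈ Q) (hne : y ^ p ^ n * a * (y ^ p ^ n)⁻¹ * a⁻¹ ≠ 1) :
    ∃ v ∈ H, (y * v) ^ p ^ (n + 1) ≠ 1 := by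
  classical
  by_contra hcon
  push Not at hcon
  set Φ : Subgroup X := (frattini ↥H).map H.subtype with hΦ
  have hsec : IsSec H Φ p := isSec_frattini p H hHp
  set Γ : Subgroup X := Subgroup.normalizer (Q : Set X) with hΓdef
  have hHtop : Subgroup.normalizer (H : Set X) = ⊤ := Subgroup.normalizer_eq_top_iff.mpr hHn
  have hΓL : Γ ≤ nn H Φ := by
    have := normalizer_le_nn_frattini H
    rw [hHtop] at this
    exact le_top.trans this
  have hQΓ : Q ≤ Γ := Subgroup.le_normalizer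
  set ρ := secLin hsec Γ hΓL with hρ
  have hQcop : (Nat.card ↥Q).Coprime p := by
    obtain ⟨k, hk⟩ := (IsPGroup.iff_card (p := q) (G := ↥Q)).mp hQq
    rw [hk]
    exact Nat.Coprime.pow_left k ((Nat.coprime_primes hq.out hp.out).mpr (Ne.symm hpq))
  -- the norm element vanishes
  have hzero := sum_secLin_eq_zero hsec Γ hΓL y hyQ (p ^ (n + 1)) hy (fun v hv => by
    rw [hcon v hv]; exact Φ.one_mem)
  set ρ' := repEquiv ρ with hρ'
  have htight : (op (ρ' ⟨y, hyQ⟩) - 1) ^ (p ^ (n + 1) - 1) = 0 := by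
    rw [hρ', op_repEquiv, ← geom_sum_eq (LK p) (ρ ⟨y, hyQ⟩) (n + 1)]
    exact hzero
  -- faithfulness of `Q` on `H / Φ(H)` (Burnside)
  have hfaith : ∀ c : X, ∀ hcQ : c ∈ Q, ρ ⟨c, hQΓ hcQ⟩ = 1 → c = 1 := by
    intro c hcQ h1
    rw [hρ, secLin_eq_one_iff] at h1
    have h2 : ∀ b ∈ H, c * b * c⁻¹ * b⁻¹ ∈ Φ := by
      intro b hb
      exact h1 b hb
    have hcc : (Nat.card ↥(Subgroup.zpowers c)).Coprime p := by
      have hd : Nat.card ↥(Subgroup.zpowers c) ∣ Nat.card ↥Q :=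
        Subgroup.card_dvd_of_le (Subgroup.zpowers_le.mpr hcQ)
      exact Nat.Coprime.coprime_dvd_left hd hQcop
    have hsolv : Group.IsSolvable ↥(Subgroup.zpowers c) := by
      apply Group.isSolvable_of_comm
      rintro ⟨a, ha⟩ ⟨b, hb⟩
      obtain ⟨i, rfl⟩ := Subgroup.mem_zpowers_iff.mp ha
      obtain ⟨j, rfl⟩ := Subgroup.mem_zpowers_iff.mp hb
      apply Subtype.ext
      show c ^ i * c ^ j = c ^ j * c ^ i
      rw [← zpow_add, ← zpow_add, add_comm]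
    have hΦn : Subgroup.zpowers c ≤ Subgroup.normalizer (Φ : Set X) := by
      rw [Subgroup.zpowers_le]
      exact (mem_nn.mp (hΓL (hQΓ hcQ))).2
    have hact : ∀ z ∈ Subgroup.zpowers c, ∀ r ∈ H, z * r * z⁻¹ * r⁻¹ ∈ Φ := by
      intro z hz
      have hzk : z ∈ actKer H Φ := by
        have hle : Subgroup.zpowers c ≤ actKer H Φ := by
          rw [Subgroup.zpowers_le, mem_actKer]
          exact ⟨hΓL (hQΓ hcQ), h2⟩
        exact hle hz
      exact (mem_actKer.mp hzk).2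
    have key := Cfsg.Agent.Helper23.centralizes_of_frattini H hHp (Subgroup.zpowers c) hcc hsolv
      hΦn hact
    apply hQH c hcQ
    intro v hv
    have := Subgroup.mem_centralizer_iff.mp (key hv) c (Subgroup.mem_zpowers c)
    rw [this]
    group
  set Q' : Subgroup ((LK p ⊗[ZMod p] SecW hsec) ≃ₗ[LK p] (LK p ⊗[ZMod p] SecW hsec)) :=
    (Q.subgroupOf Γ).map ρ' with hQ'
  have hypow : (⟨y, hyQ⟩ : ↥Γ) ^ p ^ (n + 1) = 1 := by
    apply Subtype.ext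
    rw [Subgroup.coe_pow]
    exact hy
  have hyp : Hyp p q Q' (ρ' ⟨y, hyQ⟩) (n + 1) := by
    refine ⟨?_, ?_, ?_, Nat.le_add_left 1 n, ?_, ?_⟩
    · exact Finite.of_surjective (fun g : Q.subgroupOf Γ => (⟨ρ' g, ⟨g, g.2, rfl⟩⟩ : Q'))
        (by rintro ⟨_, g, hg, rfl⟩; exact ⟨⟨g, hg⟩, rfl⟩)
    · exact (hQq.comap_subtype (K := Γ)).map ρ'
    · rintro _ ⟨g, hg, rfl⟩
      refine ⟨⟨y, hyQ⟩ * g * ⟨y, hyQ⟩⁻¹, ?_, ?_⟩
      · have hg' : g ∈ Q.subgroupOf Γ := hg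
        show ⟨y, hyQ⟩ * g * ⟨y, hyQ⟩⁻¹ ∈ Q.subgroupOf Γ
        rw [Subgroup.mem_subgroupOf] at hg' ⊢
        exact conj_mem_of_mem_normalizer hyQ hg'
      · rw [map_mul, map_mul, map_inv]
    · rw [← map_pow, hypow, map_one]
    · refine ⟨ρ' ⟨a, hQΓ ha⟩, ⟨⟨a, hQΓ ha⟩, Subgroup.mem_subgroupOf.mpr ha, rfl⟩, ?_⟩
      intro hcomm
      apply hne
      have hcQ : y ^ p ^ n * a * (y ^ p ^ n)⁻¹ * a⁻¹ ∈ Q :=
        Q.mul_mem (conj_mem_of_mem_normalizer (Subgroup.pow_mem _ hyQ _) ha) (Q.inv_mem ha)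
      apply hfaith _ hcQ
      have e : (⟨y ^ p ^ n * a * (y ^ p ^ n)⁻¹ * a⁻¹, hQΓ hcQ⟩ : ↥Γ) =
          ⟨y, hyQ⟩ ^ p ^ n * ⟨a, hQΓ ha⟩ * (⟨y, hyQ⟩ ^ p ^ n)⁻¹ * ⟨a, hQΓ ha⟩⁻¹ := by
        apply Subtype.ext
        simp
      have e2 : ρ' (⟨y ^ p ^ n * a * (y ^ p ^ n)⁻¹ * a⁻¹, hQΓ hcQ⟩ : ↥Γ) = 1 := by
        rw [e, map_mul, map_mul, map_mul, map_inv, map_inv, map_pow]
        rw [Nat.add_sub_cancel] at hcomm
        rw [hcomm]
        group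
      have e3 := congrArg op e2
      rw [hρ', op_repEquiv, op_one] at e3
      exact e3
  rcases thmB_field hpq Q' (ρ' ⟨y, hyQ⟩) (n + 1) hyp (p ^ (n + 1) - 1) htight with
    h1 | ⟨n₀, m, h1, -, h3, h4, ⟨g, hg, h', hh', hgh⟩, -⟩
  · have hpos : 0 < p ^ (n + 1) := pow_pos hp.out.pos _
    omega
  · apply hnex
    obtain ⟨g₀, hg₀, rfl⟩ := hg
    obtain ⟨h₀, hh₀, rfl⟩ := hh'
    refine ⟨n₀, m, h1, h3, h4, g₀, Subgroup.mem_subgroupOf.mp hg₀, h₀,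
      Subgroup.mem_subgroupOf.mp hh₀, ?_⟩
    intro hc
    apply hgh
    rw [← map_mul, ← map_mul]
    congr 1
    exact Subtype.ext hc

end Cfsg.Agent.Helper3.HHX
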