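import Mathlib
import Cfsg.Agent.Lib.Helper23.HKKDefs
import Cfsg.Agent.Lib.Helper21.HKKKKTCore
import Cfsg.Agent.Lib.Helper22.HKKKKS
import Cfsg.Agent.Lib.Helper12.HKKKKI

/-!
# S3779 piece HKK-KKT (helper23's farm-out): the Kostrikin–Kreknin step, exact statement
-/

set_option autoImplicit false
set_option linter.unusedSectionVars false
set_option linter.unusedVariables false

namespace Cfsg.Agent.Helper23.HKK

section K

variable {L : Type*} [LieRing L]

theorem kk_step {p : ℕ} (hp : p.Prime) (gr : ZMod p → AddSubgroup L) (hG : Grading p gr) (N : AddSubgroup L)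
    (hNh : IsHomog gr N) (hN : ∀ x ∈ N, ∀ y ∈ N, ⁅x, y⁆ ∈ N) (t : ℕ) (v : L)
    (hv : v ∈ lcsIn (dserIn N 1) t) (l : List L) (hl : ∀ y ∈ l, y ∈ N) (hlen : l.length = p - 1) :
    lnc v l ∈ lcsIn (dserIn N 1) (t + 1) :=
  kk_step_core hp gr hG (fun deg l h1 h2 a => subset_sum hp deg l h1 h2 a) _ _ N hNh
    (lcs_der_homog gr hG N hNh t) (lcs_der_ideal N hN t) (lcs_der_ideal N hN (t + 1)) (lcs_der_swap N hN t)
    v hv l hl hlen

end K

end Cfsg.Agent.Helper23.HKK
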