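import Mathlib
import Cfsg.Agent.Lib.Helper27.HSRecog
import Cfsg.Agent.Lib.Helper29.HSModelDefs

/-!
# S2046, piece HSMODEL (helper21): the bridge from an explicit `srg(100,22,0,6)` to `Spor.HS`

A subgroup of the derived group of the automorphism group of any strongly regular graph with parameters
`(100, 22, 0, 6)` on `Fin 100`, of order at least `44352000`, has exactly that order and is isomorphic
to `Spor.HS`.  All ingredients are from `Helper27/HSRecog.lean` (`main`).
-/

set_option autoImplicit false

namespace Cfsg.Agent.Helper29.HSModel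

open Cfsg Cfsg.Agent.Helper27 Cfsg.Agent.Helper27.HSGraph Cfsg.Agent.Helper27.HSRecog
open scoped commutatorElement

/-- the automorphism subgroup, as the automorphism group -/
def autSubEquiv {V : Type*} (Γ : SimpleGraph V) : ↥(autSub Γ) ≃* (Γ ≃g Γ) where
  toFun g := { toEquiv := g.1, map_rel_iff' := fun {x y} => g.2 x y }
  invFun φ := ⟨φ.toEquiv, fun x y => φ.map_rel_iff⟩
  left_inv g := rfl
  right_inv φ := rfl
  map_mul' g h := by
    apply RelIso.ext
    intro x
    rfl

/-- a subgroup of index two contains the derived group -/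
theorem hsm_commutator_le_of_index_two {A : Type*} [Group A] (T : Subgroup A) (hT : T.index = 2) :
    commutator A ≤ T := by
  have hn : T.Normal := Subgroup.normal_of_index_eq_two hT
  rw [← Subgroup.Normal.quotient_commutative_iff_commutator_le]
  have hc : Nat.card (A ⧸ T) = 2 := by
    rw [← Subgroup.index_eq_card, hT]
  have : Fact (Nat.Prime 2) := ⟨Nat.prime_two⟩
  exact (isCyclic_of_prime_card hc).isMulCommutative

/-- abstract form: a subgroup of the derived group of `A`, at least as big as a subgroup `T` of index
two, is `T` (transported to the ambient group) -/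
theorem hsm_eq_of_le_commutator {P : Type*} [Group P] (A : Subgroup P) [Finite A] (T : Subgroup ↥A)
    (hT : T.index = 2) (G : Subgroup P) (hG : G ≤ ⁅A, A⁆) (hcard : Nat.card T ≤ Nat.card G) :
    G = T.map A.subtype := by
  have hle : ⁅A, A⁆ ≤ T.map A.subtype := by
    rw [Subgroup.commutator_le]
    intro g1 h1 g2 h2
    have hm : ⁅(⟨g1, h1⟩ : ↥A), ⟨g2, h2⟩⁆ ∈ commutator ↥A := by
      rw [commutator_def]
      exact Subgroup.commutator_mem_commutator (Subgroup.mem_top _) (Subgroup.mem_top _)
    have hm' := hsm_commutator_le_of_index_two T hT hm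
    exact ⟨_, hm', rfl⟩
  have hfin : Finite ↥(T.map A.subtype) := by
    have : Finite ↥T := inferInstance
    exact Finite.of_equiv _ (Subgroup.equivMapOfInjective T A.subtype A.subtype_injective).toEquiv
  apply Subgroup.eq_of_le_of_card_ge (hG.trans hle)
  rw [← Nat.card_congr (Subgroup.equivMapOfInjective T A.subtype A.subtype_injective).toEquiv]
  exact hcard

theorem isoHS_of_srg (Γ : SimpleGraph (Fin 100)) [DecidableRel Γ.Adj] (hΓ : Γ.IsSRGWith 100 22 0 6)
    (G : Subgroup (Equiv.Perm (Fin 100))) (hG : G ≤ ⁅autSub Γ, autSub Γ⁆)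
    (hcard : 44352000 ≤ Nat.card G) :
    Nat.card G = 44352000 ∧ Nonempty (↥G ≃* ↥Cfsg.Spor.HS) := by
  obtain ⟨ι⟩ := Cfsg.Agent.S0430.result gamma_srg hΓ
  -- the order of the automorphism group
  have hcardA : Nat.card (Γ ≃g Γ) = 88704000 := by
    rw [card_aut_congr (isoPB hΓ (0 : Fin 100))]
    exact card_aut_pbg (card_Pt hΓ 0) (steiner_blocks hΓ 0)
  -- the embedding of the standard copy
  let ρ : Kstd →* (Γ ≃g Γ) :=
    { toFun := fun g => ι.symm.trans ((autT g).trans ι)
      map_one' := by
        apply RelIso.ext
        intro x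
        show ι (autT 1 (ι.symm x)) = x
        rw [autT_apply, actFun_one, RelIso.apply_symm_apply]
      map_mul' := by
        intro g h
        apply RelIso.ext
        intro x
        show ι (autT (g * h) (ι.symm x)) = ι (autT g (ι.symm (ι (autT h (ι.symm x)))))
        rw [RelIso.symm_apply_apply, autT_apply, autT_apply, autT_apply, actFun_mul] }
  have hρinj : Function.Injective ρ := by
    intro g h hgh
    apply autT_injective
    apply RelIso.ext
    intro z
    have := congrArg (fun f : Γ ≃g Γ => f (ι z)) hgh
    have h2 : ι (autT g (ι.symm (ι z))) = ι (autT h (ι.symm (ι z))) := this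
    rw [RelIso.symm_apply_apply] at h2
    exact ι.injective h2
  have hcardK : Nat.card ρ.range = 44352000 := by
    rw [← Nat.card_congr (MonoidHom.ofInjective hρinj).toEquiv]
    exact hs_card hv_std hw_std hvw_std
  -- transport to the subgroup of permutations
  have hcardS : Nat.card ↥(autSub Γ) = 88704000 := by
    rw [Nat.card_congr (autSubEquiv Γ).toEquiv, hcardA]
  have : Finite ↥(autSub Γ) := Nat.finite_of_card_ne_zero (by rw [hcardS]; norm_num)
  have hsinj : Function.Injective (autSubEquiv Γ).symm.toMonoidHom := (autSubEquiv Γ).symm.injective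
  let T : Subgroup ↥(autSub Γ) := ρ.range.map (autSubEquiv Γ).symm.toMonoidHom
  let eT : ↥ρ.range ≃* ↥T := Subgroup.equivMapOfInjective _ _ hsinj
  have hcardT : Nat.card ↥T = 44352000 := by
    rw [← Nat.card_congr eT.toEquiv, hcardK]
  have hidx : T.index = 2 := by
    have h := T.index_mul_card
    rw [hcardT, hcardS] at h
    omega
  have hGT : G = T.map (autSub Γ).subtype :=
    hsm_eq_of_le_commutator (autSub Γ) T hidx G hG (by rw [hcardT]; exact hcard)
  have e2 : ↥T ≃* ↥(T.map (autSub Γ).subtype) :=
    Subgroup.equivMapOfInjective T _ (autSub Γ).subtype_injective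
  constructor
  · rw [hGT, ← Nat.card_congr e2.toEquiv, hcardT]
  · obtain ⟨ε⟩ := nonempty_HS_equiv_Kstd
    exact ⟨(MulEquiv.subgroupCongr hGT).trans (e2.symm.trans (eT.symm.trans
      ((MonoidHom.ofInjective hρinj).symm.trans ε.symm)))⟩

end Cfsg.Agent.Helper29.HSModel
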