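import Mathlib

/-!
# Irreducible constituents in matrix form (helper21)

* `exists_minimal_invariant`: a nonzero invariant subspace of a finite dimensional vector space
  carrying a family of endomorphisms contains a minimal nonzero invariant subspace.
* `exists_matrix_rep_irred`: an irreducible, fixed-point-free finite dimensional representation
  `φ : G →* Module.End K V` in matrix form `ρ : G →* GL (Fin n) K`: `0 < n`, `ρ` injective,
  no proper nonzero invariant subspaces of `Fin n → K`, no nonzero fixed vectors for `g ≠ 1`.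
-/

set_option autoImplicit false

namespace Cfsg.Agent.Helper21.IrredRep

open Matrix

theorem exists_minimal_invariant {K V ι : Type*} [Field K] [AddCommGroup V] [Module K V]
    [FiniteDimensional K V] (φ : ι → V →ₗ[K] V) (Y : Submodule K V) (hY : Y ≠ ⊥)
    (hinv : ∀ g, ∀ w ∈ Y, φ g w ∈ Y) :
    ∃ W : Submodule K V, W ≤ Y ∧ W ≠ ⊥ ∧ (∀ g, ∀ w ∈ W, φ g w ∈ W) ∧
      ∀ U : Submodule K V, U ≤ W → (∀ g, ∀ w ∈ U, φ g w ∈ U) → U = ⊥ ∨ U = W := by
  let S : Set (Submodule K V) := {W | W ≤ Y ∧ W ≠ ⊥ ∧ ∀ g, ∀ w ∈ W, φ g w ∈ W}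
  have hS : S.Nonempty := ⟨Y, le_refl _, hY, hinv⟩
  obtain ⟨W, ⟨hWY, hW0, hWinv⟩, hmin⟩ :=
    (measure (fun W : Submodule K V => Module.finrank K W)).wf.has_min S hS
  refine ⟨W, hWY, hW0, hWinv, ?_⟩
  intro U hUW hUinv
  by_cases hU0 : U = ⊥
  · exact Or.inl hU0
  · right
    have h1 : U ∈ S := ⟨hUW.trans hWY, hU0, hUinv⟩
    have h2 := hmin U h1
    have h3 : Module.finrank K W ≤ Module.finrank K U := not_lt.mp h2
    exact Submodule.eq_of_le_of_finrank_le hUW h3

theorem exists_matrix_rep_irred {K G V : Type*} [Field K] [Group G] [AddCommGroup V] [Module K V]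
    [FiniteDimensional K V] [Nontrivial V] (φ : G →* (V →ₗ[K] V))
    (hirr : ∀ U : Submodule K V, (∀ g, ∀ w ∈ U, φ g w ∈ U) → U = ⊥ ∨ U = ⊤)
    (hfpf : ∀ g : G, g ≠ 1 → ∀ v : V, φ g v = v → v = 0) :
    ∃ (n : ℕ) (ρ : G →* GL (Fin n) K), 0 < n ∧ Function.Injective ρ ∧
      (∀ W : Submodule K (Fin n → K),
        (∀ g : G, ∀ w ∈ W, ((ρ g : GL (Fin n) K) : Matrix (Fin n) (Fin n) K).mulVec w ∈ W) →
          W = ⊥ ∨ W = ⊤) ∧
      ∀ g : G, g ≠ 1 → ∀ v : Fin n → K,
        ((ρ g : GL (Fin n) K) : Matrix (Fin n) (Fin n) K).mulVec v = v → v = 0 := by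
  classical
  let n := Module.finrank K V
  have hn : 0 < n := Module.finrank_pos
  let bas : Module.Basis (Fin n) K V := Module.finBasis K V
  let ρ₀ : G →* Matrix (Fin n) (Fin n) K :=
    { toFun := fun g => LinearMap.toMatrix bas bas (φ g)
      map_one' := by
        rw [map_one]
        exact LinearMap.toMatrix_id bas
      map_mul' := fun a b => by
        rw [map_mul]
        exact LinearMap.toMatrix_comp bas bas bas (φ a) (φ b) }
  have hρ : ∀ g : G, ((ρ₀.toHomUnits g : (Matrix (Fin n) (Fin n) K)ˣ) : Matrix (Fin n) (Fin n) K) =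
      LinearMap.toMatrix bas bas (φ g) := fun _ => rfl
  have hmv : ∀ (g : G) (w : V), (LinearMap.toMatrix bas bas (φ g)).mulVec (bas.equivFun w) =
      bas.equivFun (φ g w) := fun g w => LinearMap.toMatrix_mulVec_repr bas bas (φ g) w
  have hfpf' : ∀ g : G, g ≠ 1 → ∀ v : Fin n → K,
      ((ρ₀.toHomUnits g : GL (Fin n) K) : Matrix (Fin n) (Fin n) K).mulVec v = v → v = 0 := by
    intro g hg x hx
    rw [hρ] at hx
    have h0 : x = bas.equivFun (bas.equivFun.symm x) := (bas.equivFun.apply_symm_apply x).symm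
    rw [h0, hmv] at hx
    have h1 := bas.equivFun.injective hx
    have h2 := hfpf g hg _ h1
    rw [h0, h2, map_zero]
  refine ⟨n, ρ₀.toHomUnits, hn, ?_, ?_, hfpf'⟩
  · rw [injective_iff_map_eq_one]
    intro g hg
    by_contra hg1
    obtain ⟨v, hv⟩ := exists_ne (0 : V)
    apply hv
    have h1 : bas.equivFun v = 0 := by
      apply hfpf' g hg1
      rw [hg]
      simp
    exact bas.equivFun.injective (by rw [h1, map_zero])
  · intro W hW
    let U : Submodule K V := W.comap bas.equivFun.toLinearMap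
    have hU : ∀ g, ∀ w ∈ U, φ g w ∈ U := by
      intro g w hw
      show bas.equivFun (φ g w) ∈ W
      rw [← hmv, ← hρ]
      exact hW g _ hw
    rcases hirr U hU with h | h
    · left
      rw [eq_bot_iff]
      intro x hx
      have h1 : bas.equivFun.symm x ∈ U := by
        show bas.equivFun (bas.equivFun.symm x) ∈ W
        rw [bas.equivFun.apply_symm_apply]; exact hx
      rw [h, Submodule.mem_bot] at h1
      rw [Submodule.mem_bot]
      have := congrArg bas.equivFun h1
      rwa [bas.equivFun.apply_symm_apply, map_zero] at this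
    · right
      rw [eq_top_iff]
      intro x _
      have h1 : bas.equivFun.symm x ∈ U := by rw [h]; trivial
      have h2 : bas.equivFun (bas.equivFun.symm x) ∈ W := h1
      rwa [bas.equivFun.apply_symm_apply] at h2

end Cfsg.Agent.Helper21.IrredRep
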