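import Mathlib

set_option autoImplicit false
set_option linter.style.haveILetI false

namespace Cfsg.Agent.Helper21

open Polynomial

/-- A finite `𝔽_q`-vector space on which an operator `T` of prime order `p ≠ q` acts irreducibly and
non-trivially has order `q ^ e`, with `e` the multiplicative order of `q` modulo `p`. -/
theorem card_eq_of_irreducible_prime_order (q p : ℕ) [Fact q.Prime] [Fact p.Prime] (hqp : q ≠ p)
    {V : Type*} [AddCommGroup V] [Module (ZMod q) V] [Finite V] [Nontrivial V]
    (T : V →ₗ[ZMod q] V) (hTp : T ^ p = 1) (hT1 : T ≠ 1)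
    (hirr : ∀ W : Submodule (ZMod q) V, (∀ v ∈ W, T v ∈ W) → W = ⊥ ∨ W = ⊤) :
    Nat.card V = q ^ orderOf (q : ZMod p) := by
  classical
  have hq : q.Prime := Fact.out
  have hp : p.Prime := Fact.out
  haveI : Nontrivial (Module.AEval' T) := (Module.AEval'.of T).toEquiv.symm.nontrivial
  haveI : Nontrivial (Submodule (ZMod q)[X] (Module.AEval' T)) :=
    (Submodule.nontrivial_iff _).mpr inferInstance
  have hbt : ∀ N : Submodule (ZMod q)[X] (Module.AEval' T), N = ⊥ ∨ N = ⊤ := by
    intro N
    set W : Submodule (ZMod q) V :=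
      ((Module.AEval.mapSubmodule (ZMod q) V T).symm N : Submodule (ZMod q) V) with hW
    have hWmem : ∀ v : V, v ∈ W ↔ Module.AEval'.of T v ∈ N := fun v => Iff.rfl
    have hinv : ∀ v ∈ W, T v ∈ W := by
      intro v hv
      rw [hWmem] at hv ⊢
      rw [← Module.AEval'.X_smul_of]
      exact N.smul_mem _ hv
    rcases hirr W hinv with h | h
    · left
      rw [eq_bot_iff]
      intro m hm
      obtain ⟨v, rfl⟩ := (Module.AEval'.of T).surjective m
      have : v ∈ W := (hWmem v).mpr hm
      rw [h, Submodule.mem_bot] at this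
      rw [this, map_zero]
      exact Submodule.zero_mem _
    · right
      rw [eq_top_iff]
      intro m _
      obtain ⟨v, rfl⟩ := (Module.AEval'.of T).surjective m
      have : v ∈ W := h ▸ Submodule.mem_top
      exact (hWmem v).mp this
  have hsimple : IsSimpleModule (ZMod q)[X] (Module.AEval' T) :=
    { toIsSimpleOrder := ⟨hbt⟩ }
  obtain ⟨I, hI, ⟨e⟩⟩ := isSimpleModule_iff_quot_maximal.mp hsimple
  have hmem : ∀ f : (ZMod q)[X], f ∈ I ↔ ∀ m : Module.AEval' T, f • m = 0 := by
    intro f
    rw [← Module.mem_annihilator, e.annihilator_eq, Ideal.annihilator_quotient]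
  have hXp : (X ^ p - 1 : (ZMod q)[X]) ∈ I := by
    rw [hmem]
    intro m
    obtain ⟨v, rfl⟩ := (Module.AEval'.of T).surjective m
    rw [sub_smul, one_smul, Module.AEval'.X_pow_smul_of, hTp, one_smul, sub_self]
  have hX1 : (X - 1 : (ZMod q)[X]) ∉ I := by
    rw [hmem]
    intro h
    apply hT1
    ext v
    have := h (Module.AEval'.of T v)
    rw [sub_smul, one_smul, Module.AEval'.X_smul_of, sub_eq_zero] at this
    exact (Module.AEval'.of T).injective this
  set g := Submodule.IsPrincipal.generator I with hg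
  have hIg : Ideal.span {g} = I := Ideal.span_singleton_generator I
  have hXpne : (X ^ p - 1 : (ZMod q)[X]) ≠ 0 := by
    have := X_pow_sub_C_ne_zero hp.pos (1 : ZMod q)
    rwa [map_one] at this
  have hgdvd : g ∣ X ^ p - 1 := by
    rw [← Ideal.mem_span_singleton, hIg]
    exact hXp
  have hg0 : g ≠ 0 := fun h0 => hXpne (zero_dvd_iff.mp (h0 ▸ hgdvd))
  have hgprime : Prime g := by
    have := hI.isPrime
    rw [← hIg] at this
    exact (Ideal.span_singleton_prime hg0).mp this
  have hgcyc : g ∣ cyclotomic p (ZMod q) := by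
    rw [← cyclotomic_prime_mul_X_sub_one (ZMod q) p] at hgdvd
    rcases hgprime.dvd_or_dvd hgdvd with h | h
    · exact h
    · exfalso
      apply hX1
      rw [← hIg, Ideal.mem_span_singleton]
      exact h
  have hK : Fintype.card (ZMod q) = q ^ 1 := by rw [ZMod.card, pow_one]
  have hcop : q.Coprime p := (Nat.coprime_primes hq hp).mpr hqp
  have hdeg := natDegree_of_dvd_cyclotomic_of_irreducible hK hcop hgcyc hgprime.irreducible
  have hord : orderOf (ZMod.unitOfCoprime (q ^ 1) (hcop.pow_left 1)) = orderOf (q : ZMod p) := by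
    rw [← orderOf_units, ZMod.coe_unitOfCoprime, Nat.cast_pow, pow_one]
  rw [hord] at hdeg
  have hcardA : Nat.card (AdjoinRoot g) = q ^ g.natDegree := by
    haveI := (AdjoinRoot.powerBasis hg0).finite
    haveI : Finite (AdjoinRoot g) := Module.finite_of_finite (ZMod q)
    rw [Module.natCard_eq_pow_finrank (K := ZMod q), (AdjoinRoot.powerBasis hg0).finrank,
      AdjoinRoot.powerBasis_dim, Nat.card_zmod]
  have hcard1 : Nat.card V = Nat.card (Module.AEval' T) :=
    Nat.card_congr (Module.AEval'.of T).toEquiv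
  have hcard2 : Nat.card (Module.AEval' T) = Nat.card ((ZMod q)[X] ⧸ I) :=
    Nat.card_congr e.toEquiv
  have hcard3 : Nat.card ((ZMod q)[X] ⧸ I) = Nat.card (AdjoinRoot g) := by
    rw [← hIg]
    rfl
  rw [hcard1, hcard2, hcard3, hcardA, hdeg]

end Cfsg.Agent.Helper21
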