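import Mathlib
import Cfsg.Agent.Lib.Helper21.ClassSize
import Cfsg.Agent.S4255

/-!
Isolated classes: a generalization of the argument of S4255. Under hypotheses saying that
the class of `c` and the classes of size divisible by `t` are "isolated", all class sizes
of `G` lie in `{1, k, n}` with `k, n` coprime.
-/

namespace Cfsg.Agent.Helper21.IsolatedClasses

open Subgroup Cfsg.Agent.Helper21.ClassSize Cfsg.Agent.S4255
open scoped Pointwise

variable {G : Type*} [Group G]

def tBt (t : ℕ) (x : G) : Prop := t ∣ idx x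

theorem tBt_conj {t : ℕ} {x : G} (h : tBt t x) (a : G) : tBt t (a * x * a⁻¹) := by
  unfold tBt at *
  rwa [idx_conj]

/-- the right stabilizer of a class of maximal size -/
theorem exists_M1' [Finite G] (c : G) (D : Set G) (hmax : ∀ d ∈ D, idx (c * d) ≤ idx c) :
    ∃ M : Subgroup G, M.Normal ∧ Nat.card M ∣ idx c ∧
      ∀ d ∈ D, Nat.Coprime (idx c) (idx d) → ∀ b : G, b * d * b⁻¹ * d⁻¹ ∈ M := by
  classical
  let M : Subgroup G :=
    { carrier := {m | ∀ x, x ∈ cls c ↔ x * m ∈ cls c}
      mul_mem' := by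
        intro a b ha hb x
        rw [ha x, hb (x * a), mul_assoc]
      one_mem' := by intro x; simp
      inv_mem' := by
        intro a ha x
        have := ha (x * a⁻¹)
        simpa using this.symm }
  have hMmem : ∀ m, m ∈ M ↔ ∀ x, x ∈ cls c ↔ x * m ∈ cls c := fun m => Iff.rfl
  have hfin : (cls c).Finite := Set.toFinite _
  -- membership from one direction
  have hmemof : ∀ μ : G, (∀ x ∈ cls c, x * μ ∈ cls c) → μ ∈ M := by
    intro μ h
    rw [hMmem]
    intro x
    refine ⟨h x, fun hx => ?_⟩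
    have : Finite (cls c) := hfin
    let f : cls c → cls c := fun y => ⟨y.1 * μ, h y.1 y.2⟩
    have hinj : Function.Injective f := by
      intro y z hyz
      have := congrArg Subtype.val hyz
      exact Subtype.ext (mul_right_cancel this)
    obtain ⟨y, hy⟩ := Finite.surjective_of_injective hinj ⟨x * μ, hx⟩
    have := congrArg Subtype.val hy
    have hxy : y.1 = x := mul_right_cancel this
    rw [← hxy]; exact y.2
  refine ⟨M, ⟨?_⟩, ?_, ?_⟩
  · intro n hn g
    rw [hMmem] at hn ⊢
    intro x
    rw [← conj_mem_cls_iff c g⁻¹ x, hn, ← conj_mem_cls_iff c g]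
    have : g * (g⁻¹ * x * g⁻¹⁻¹ * n) * g⁻¹ = x * (g * n * g⁻¹) := by group
    rw [this]
  · have h1 := Subgroup.card_mul_eq_card_subgroup_mul_card_quotient M (cls c)
    have h2 : (cls c * (M : Set G)) = cls c := by
      ext x
      constructor
      · rintro ⟨y, hy, m, hm, rfl⟩
        exact ((hMmem m).1 hm y).1 hy
      · intro hx
        exact ⟨x, hx, 1, M.one_mem, by simp⟩
    rw [h2, Nat.card_coe_set_eq, ncard_cls] at h1
    exact ⟨_, h1⟩
  · intro d hdD hcd b
    apply hmemof
    intro x hx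
    have himg : (fun y => y * d) '' cls c = cls (c * d) := by
      apply Set.eq_of_subset_of_ncard_le
      · rintro _ ⟨y, hy, rfl⟩
        exact mul_mem_cls_of_coprime hcd hy (mem_cls_self d)
      · rw [Set.ncard_image_of_injective _ (mul_left_injective d), ncard_cls, ncard_cls]
        exact hmax d hdD
      · exact Set.toFinite _
    have h1 : x * (b * d * b⁻¹) ∈ cls (c * d) :=
      mul_mem_cls_of_coprime hcd hx (conj_mem_cls d b)
    rw [← himg] at h1
    obtain ⟨y, hy, hyx⟩ := h1
    have : x * (b * d * b⁻¹ * d⁻¹) = y := by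
      have : y = x * (b * d * b⁻¹) * d⁻¹ := by rw [← hyx]; group
      rw [this]; group
    rw [this]; exact hy


theorem three_sizes [Finite G] (c d₀ : G) (hc1 : idx c ≠ 1) (t : ℕ) (ht : t.Prime)
    (htd : t ∣ idx d₀)
    (hcop : ∀ y : G, t ∣ idx y → Nat.Coprime (idx c) (idx y))
    (hmax : ∀ y : G, t ∣ idx y → idx (c * y) ≤ idx c)
    (hadj : ∀ r b : ℕ, r.Prime → b.Prime → r ∣ idx c → b ∣ idx d₀ → ∀ g : G, ¬ r * b ∣ idx g) :
    ∃ k n : ℕ, Nat.Coprime k n ∧ 1 < k ∧ 1 < n ∧ (∃ g : G, idx g = k) ∧ (∃ g : G, idx g = n) ∧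
      ∀ g : G, idx g = 1 ∨ idx g = k ∨ idx g = n := by
  classical
  haveI : Fact t.Prime := ⟨ht⟩
  obtain ⟨M, hMn, hMcard, hM'⟩ := exists_M1' c {y | t ∣ idx y} hmax
  have hM : ∀ d : G, t ∣ idx d → Nat.Coprime (idx c) (idx d) → ∀ b : G, b * d * b⁻¹ * d⁻¹ ∈ M :=
    fun d hd' => hM' d hd'
  haveI := hMn
  set m := idx c with hm
  have hcopB : ∀ d, tBt t d → Nat.Coprime m (idx d) := fun d hd' => hcop d hd'
  have hS2 : ∀ d, tBt t d → ∀ b : G, ∃ μ ∈ M, b * d * b⁻¹ = μ * d :=
    fun d hd' b => ⟨_, hM d hd' (hcopB d hd') b, by group⟩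
  have hS3 : ∀ d, tBt t d → ∀ μ ∈ M, μ * d = d * μ := by
    intro d hd' μ hμ
    have := M_le_centralizer M hMcard (hcopB d hd') hμ
    rw [mem_centralizer_singleton] at this
    exact this.symm
  have hMexp : ∀ μ ∈ M, μ ^ m = 1 := by
    intro μ hμ
    obtain ⟨k, hk⟩ := hMcard
    have h2 : μ ^ (Nat.card M) = 1 := pow_card_of_mem M hμ
    rw [hk, pow_mul, h2, one_pow]
  have hS4 : ∀ d, tBt t d → d ^ m ∈ center G := by
    intro d hd'
    rw [Subgroup.mem_center_iff]
    intro b
    obtain ⟨μ, hμ, hb⟩ := hS2 d hd' b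
    have hcomm : Commute μ d := hS3 d hd' μ hμ
    have h1 : b * d ^ m * b⁻¹ = d ^ m := by
      have : b * d ^ m * b⁻¹ = (b * d * b⁻¹) ^ m := by rw [conj_pow]
      rw [this, hb, hcomm.mul_pow, hMexp μ hμ, one_mul]
    calc b * d ^ m = (b * d ^ m * b⁻¹) * b := by group
      _ = d ^ m * b := by rw [h1]
  have hS5 : ∀ x : G, (∀ μ ∈ M, μ * x = x * μ) → x ^ m ∈ center G → ∀ d, tBt t d →
      x * d = d * x := by
    intro x hxM hxm d hd'
    exact comm_of_pow_central M m d (hcopB d hd') (hS2 d hd') (orderOf x) (orderOf_pos x).ne' x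
      (pow_orderOf_eq_one x) hxM hxm
  -- the abelian normal subgroup N
  set X : Set G := {x | x ∈ center G ∨ tBt t x} with hX
  have hXcomm : ∀ x ∈ X, ∀ y ∈ X, x * y = y * x := by
    intro x hx y hy
    rcases hx with hx | hx
    · exact ((Subgroup.mem_center_iff.mp hx) y).symm
    · rcases hy with hy | hy
      · exact (Subgroup.mem_center_iff.mp hy) x
      · exact hS5 x (fun μ hμ => hS3 x hx μ hμ) (hS4 x hx) y hy
  set N : Subgroup G := Subgroup.closure X with hN
  have hNX : ∀ a ∈ N, ∀ y ∈ X, a * y = y * a := by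
    intro a ha
    induction ha using Subgroup.closure_induction with
    | mem x hx => exact hXcomm x hx
    | one => intro y _; simp
    | mul a b _ _ iha ihb =>
      intro y hy
      rw [mul_assoc, ihb y hy, ← mul_assoc, iha y hy, mul_assoc]
    | inv a _ iha =>
      intro y hy
      have := iha y hy
      calc a⁻¹ * y = a⁻¹ * (y * a) * a⁻¹ := by group
        _ = a⁻¹ * (a * y) * a⁻¹ := by rw [this]
        _ = y * a⁻¹ := by group
  have hNcomm : ∀ a ∈ N, ∀ b ∈ N, a * b = b * a := by
    intro a ha b hb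
    induction hb using Subgroup.closure_induction with
    | mem y hy => exact hNX a ha y hy
    | one => simp
    | mul x y _ _ ihx ihy =>
      rw [← mul_assoc, ihx, mul_assoc, ihy, ← mul_assoc]
    | inv x _ ihx =>
      calc a * x⁻¹ = x⁻¹ * (x * a) * x⁻¹ := by group
        _ = x⁻¹ * (a * x) * x⁻¹ := by rw [ihx]
        _ = x⁻¹ * a := by group
  have hNnormal : N.Normal := by
    constructor
    intro a ha g
    induction ha using Subgroup.closure_induction with
    | mem x hx =>
      apply Subgroup.subset_closure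
      rcases hx with hx | hx
      · left
        exact (inferInstance : (center G).Normal).conj_mem x hx g
      · right
        exact tBt_conj hx g
    | one => simp
    | mul x y _ _ ihx ihy =>
      have : g * (x * y) * g⁻¹ = (g * x * g⁻¹) * (g * y * g⁻¹) := by group
      rw [this]; exact N.mul_mem ihx ihy
    | inv x _ ihx =>
      have : g * x⁻¹ * g⁻¹ = (g * x * g⁻¹)⁻¹ := by group
      rw [this]; exact N.inv_mem ihx
  have hNn' : N.Normal := hNnormal
  have hNexp : ∀ a ∈ N, a ^ m ∈ center G := by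
    intro a ha
    induction ha using Subgroup.closure_induction with
    | mem x hx =>
      rcases hx with hx | hx
      · exact pow_mem hx m
      · exact hS4 x hx
    | one => simp
    | mul x y hx hy ihx ihy =>
      have hc : Commute x y := hNcomm x hx y hy
      rw [hc.mul_pow]; exact mul_mem ihx ihy
    | inv x _ ihx =>
      rw [inv_pow]; exact inv_mem ihx
  have hZN : center G ≤ N := fun z hz => Subgroup.subset_closure (Or.inl hz)
  have hBN : ∀ d, tBt t d → d ∈ N := fun d hd' => Subgroup.subset_closure (Or.inr hd')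
  have hd₀B : tBt t d₀ := htd
  have hd₀N : d₀ ∈ N := hBN d₀ hd₀B
  -- Sylow subgroup and its centralizer
  obtain ⟨T⟩ := (inferInstance : Nonempty (Sylow t G))
  set W : Subgroup G := centralizer (T : Set G) with hW
  have hWmem : ∀ x, x ∈ W ↔ ∀ y ∈ T, y * x = x * y := by
    intro x
    rw [hW, Subgroup.mem_centralizer_iff]
    rfl
  have hZW : center G ≤ W := by
    intro z hz
    rw [hWmem]
    intro y _
    exact (Subgroup.mem_center_iff.mp hz) y
  have hcov : ∀ x, x ∉ N → ∃ g : G, g⁻¹ * x * g ∈ W := by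
    intro x hx
    have htx : ¬ t ∣ idx x := fun h => hx (hBN x h)
    obtain ⟨g, hg⟩ := exists_conj_mem_of_not_dvd_index (T : Subgroup G) T.isPGroup'
      (centralizer ({x} : Set G)) htx
    refine ⟨g⁻¹, ?_⟩
    rw [hWmem]
    intro y hy
    have h1 := hg y hy
    rw [mem_centralizer_singleton] at h1
    have e1 : y * (g⁻¹⁻¹ * x * g⁻¹) = g * ((g⁻¹ * y * g) * x) * g⁻¹ := by group
    have e2 : (g⁻¹⁻¹ * x * g⁻¹) * y = g * (x * (g⁻¹ * y * g)) * g⁻¹ := by group
    rw [e1, e2, h1]
  have hd₀W : ∀ g : G, g⁻¹ * d₀ * g ∉ W := by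
    intro g hg
    have hle : (T : Subgroup G) ≤ centralizer ({g⁻¹ * d₀ * g} : Set G) := by
      intro y hy
      rw [mem_centralizer_singleton]
      exact (((hWmem _).1 hg) y hy).symm
    have h1 : idx (g⁻¹ * d₀ * g) = idx d₀ := by
      have := idx_conj d₀ g⁻¹
      simpa using this
    have h2 : idx d₀ ∣ (T : Subgroup G).index := by
      rw [← h1]; exact index_dvd_of_le hle
    exact T.not_dvd_index (htd.trans h2)
  obtain ⟨hsup, hfrob⟩ := cover N W hcov
  have hNtop : N ≠ ⊤ := by
    intro h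
    have : idx d₀ = 1 := by
      rw [idx_eq_one_iff, Subgroup.mem_center_iff]
      intro g
      exact hNcomm g (h ▸ Subgroup.mem_top g) d₀ hd₀N
    rw [this] at htd
    exact ht.one_lt.ne' (Nat.dvd_one.mp htd)
  have hWN : ¬ W ≤ N := by
    intro h
    exact hNtop (by rwa [sup_eq_left.mpr h] at hsup)
  have hCd₀ : centralizer ({d₀} : Set G) = N := by
    apply le_antisymm
    · intro g hg
      by_contra hgN
      obtain ⟨a, ha⟩ := hcov g hgN
      rw [mem_centralizer_singleton] at hg
      have hd'W : a⁻¹ * d₀ * a ∉ W := hd₀W a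
      have hcomm : (a⁻¹ * d₀ * a)⁻¹ * (a⁻¹ * g * a) * (a⁻¹ * d₀ * a) = a⁻¹ * g * a := by
        have : (a⁻¹ * d₀ * a)⁻¹ * (a⁻¹ * g * a) * (a⁻¹ * d₀ * a) = a⁻¹ * (d₀⁻¹ * (g * d₀)) * a := by
          group
        rw [this, ← hg]; group
      have h1 := hfrob (a⁻¹ * d₀ * a) hd'W (a⁻¹ * g * a) ha (by rw [hcomm]; exact ha)
      have h2 := hNnormal.conj_mem _ h1 a
      apply hgN
      have : a * (a⁻¹ * g * a) * a⁻¹ = g := by group
      rwa [this] at h2
    · intro x hx
      rw [mem_centralizer_singleton]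
      exact hNcomm d₀ hd₀N x hx
  have hNidx : N.index = idx d₀ := by rw [← hCd₀]; rfl
  have hTW : (T : Subgroup G) ≤ W := by
    intro y hy
    by_contra hyW
    apply hWN
    intro x hx
    apply hfrob y hyW x hx
    rw [hWmem]
    intro z hz
    have hz' : y * z * y⁻¹ ∈ (T : Subgroup G) :=
      (T : Subgroup G).mul_mem ((T : Subgroup G).mul_mem hy hz) ((T : Subgroup G).inv_mem hy)
    have h1 := (hWmem x).1 hx _ hz'
    have e1 : z * (y⁻¹ * x * y) = y⁻¹ * ((y * z * y⁻¹) * x) * y := by group
    have e2 : (y⁻¹ * x * y) * z = y⁻¹ * (x * (y * z * y⁻¹)) * y := by group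
    rw [e1, e2, h1]
  have hcop0 : Nat.Coprime m (idx d₀) := hcopB d₀ hd₀B
  have htm : ¬ t ∣ m := by
    intro h
    have := Nat.dvd_gcd h htd
    rw [hcop0] at this
    exact ht.one_lt.ne' (Nat.dvd_one.mp this)
  obtain ⟨k, hk⟩ := IsPGroup.iff_card.mp T.isPGroup'
  have hcoptk : Nat.Coprime (t ^ k) m :=
    Nat.Coprime.pow_left _ ((Nat.Prime.coprime_iff_not_dvd ht).2 htm)
  have hTN : ∀ y ∈ (T : Subgroup G), y ∈ N → y ∈ center G := by
    intro y hy hyN
    have h1 : y ^ (t ^ k) = 1 := by
      rw [← hk]; exact pow_card_of_mem (T : Subgroup G) hy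
    have hc : Nat.Coprime m (orderOf y) :=
      Nat.Coprime.coprime_dvd_right (orderOf_dvd_of_pow_eq_one h1) hcoptk.symm
    obtain ⟨u, hu⟩ := exists_pow_eq_self_of_coprime hc
    rw [← hu]; exact pow_mem (hNexp y hyN) u
  obtain ⟨w, hwT, hwN⟩ : ∃ w ∈ (T : Subgroup G), w ∉ N := by
    by_contra hcon
    push_neg at hcon
    apply hd₀W 1
    rw [hWmem]
    intro y hy
    have := hTN y hy (hcon y hy)
    simpa using ((Subgroup.mem_center_iff.mp this) d₀).symm
  have hwpow : w ^ (t ^ k) = 1 := by
    rw [← hk]; exact pow_card_of_mem (T : Subgroup G) hwT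
  have hcN : c ∉ N := by
    intro h
    have hNCc : N ≤ centralizer ({c} : Set G) := by
      intro x hx
      rw [mem_centralizer_singleton]
      exact hNcomm c h x hx
    have h2 : m ∣ idx d₀ := by rw [← hNidx]; exact index_dvd_of_le hNCc
    exact hc1 (Nat.Coprime.eq_one_of_dvd hcop0 h2)
  have hCW : ∀ x, x ∈ W → x ∉ N → centralizer ({x} : Set G) ≤ W := by
    intro x hx hxN g hg
    by_contra hgW
    rw [mem_centralizer_singleton] at hg
    apply hxN
    apply hfrob g hgW x hx
    have : g⁻¹ * x * g = x := by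
      calc g⁻¹ * x * g = g⁻¹ * (x * g) := by group
        _ = g⁻¹ * (g * x) := by rw [hg]
        _ = x := by group
    rw [this]; exact hx
  have hWidx : W.index ∣ m := by
    obtain ⟨a, ha⟩ := hcov c hcN
    have hc' : a⁻¹ * c * a ∉ N := by
      intro h
      apply hcN
      have := hNnormal.conj_mem _ h a
      have e : a * (a⁻¹ * c * a) * a⁻¹ = c := by group
      rwa [e] at this
    have h1 := index_dvd_of_le (hCW _ ha hc')
    have e : idx (a⁻¹ * c * a) = m := by
      have := idx_conj c a⁻¹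
      simpa using this
    rw [← e]; exact h1
  have hWidx1 : W.index ≠ 1 := by
    intro h
    rw [Subgroup.index_eq_one] at h
    apply hd₀W 1
    rw [h]; trivial
  obtain ⟨r, hr, hrW⟩ := Nat.exists_prime_and_dvd hWidx1
  have hrm : r ∣ m := hrW.trans hWidx
  have hr_of : ∀ x, x ∈ W → x ∉ N → r ∣ idx x :=
    fun x hx hxN => hrW.trans (index_dvd_of_le (hCW x hx hxN))
  have hrne : ∀ b : ℕ, b ∣ idx d₀ → r ≠ b := by
    intro b hbd h
    have := Nat.dvd_gcd hrm (h ▸ hbd)
    rw [hcop0] at this
    exact hr.one_lt.ne' (Nat.dvd_one.mp this)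
  have hNW : ∀ a, a ∈ N → a ∈ W → a ∈ center G := by
    intro a haN haW
    by_contra hac
    have h1 : idx a ≠ 1 := fun h => hac (idx_eq_one_iff.mp h)
    have hNCa : N ≤ centralizer ({a} : Set G) := by
      intro x hx
      rw [mem_centralizer_singleton]
      exact hNcomm a haN x hx
    have h2 : idx a ∣ idx d₀ := by rw [← hNidx]; exact index_dvd_of_le hNCa
    obtain ⟨b, hb, hba⟩ := Nat.exists_prime_and_dvd h1
    have hbd : b ∣ idx d₀ := hba.trans h2
    have haw : Commute a w := ((hWmem a).1 haW w hwT).symm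
    have hC : centralizer ({a * w} : Set G) ≤ centralizer ({a} : Set G) ⊓ centralizer ({w} : Set G) := by
      intro g hg
      rw [mem_centralizer_singleton] at hg
      have hg' : Commute g (a * w) := hg.symm
      have h2 : Commute g (a ^ (t ^ k)) := by
        have := hg'.pow_right (t ^ k)
        rwa [haw.mul_pow, hwpow, mul_one] at this
      have h3 : Commute g (a ^ m) := ((Subgroup.mem_center_iff.mp (hNexp a haN)) g)
      have hbez : ((t ^ k : ℕ) : ℤ) * Nat.gcdA (t ^ k) m + (m : ℤ) * Nat.gcdB (t ^ k) m = 1 := by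
        have := Nat.gcd_eq_gcd_ab (t ^ k) m
        rw [hcoptk] at this
        simpa using this.symm
      have ha1 : a = (a ^ (t ^ k)) ^ (Nat.gcdA (t ^ k) m) * (a ^ m) ^ (Nat.gcdB (t ^ k) m) := by
        rw [← zpow_natCast a (t ^ k), ← zpow_natCast a m, ← zpow_mul, ← zpow_mul, ← zpow_add,
          hbez, zpow_one]
      have h4 : Commute g a := by
        rw [ha1]
        exact Commute.mul_right (h2.zpow_right _) (h3.zpow_right _)
      have h5 : Commute g w := by
        have : w = a⁻¹ * (a * w) := by group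
        rw [this]
        exact Commute.mul_right h4.inv_right hg'
      rw [Subgroup.mem_inf, mem_centralizer_singleton, mem_centralizer_singleton]
      exact ⟨h4.eq.symm, h5.eq.symm⟩
    have h6 : idx a ∣ idx (a * w) := index_dvd_of_le (hC.trans inf_le_left)
    have h7 : idx w ∣ idx (a * w) := index_dvd_of_le (hC.trans inf_le_right)
    have hrw : r ∣ idx w := hr_of w (hTW hwT) hwN
    exact hadj r b hr hb hrm hbd (a * w)
      (Nat.Coprime.mul_dvd_of_dvd_of_dvd ((Nat.coprime_primes hr hb).2 (hrne b hbd))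
        (hrw.trans h7) (hba.trans h6))
  have hCeqW : ∀ x, x ∈ W → x ∉ center G → centralizer ({x} : Set G) = W := by
    intro x hx hxc
    have hxN : x ∉ N := fun h => hxc (hNW x h hx)
    have hle := hCW x hx hxN
    apply le_antisymm hle
    rw [← relIndex_eq_one]
    by_contra hne1
    obtain ⟨b, hb, hbr⟩ := Nat.exists_prime_and_dvd hne1
    have hr1 : (centralizer ({x} : Set G)).relIndex W ∣ idx x := relIndex_dvd_index_of_le hle
    have hZC : center G ≤ centralizer ({x} : Set G) := by
      intro z hz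
      rw [mem_centralizer_singleton]
      exact ((Subgroup.mem_center_iff.mp hz) x)
    have hr2 : (centralizer ({x} : Set G)).relIndex W ∣ (center G).relIndex W :=
      relIndex_dvd_of_le_left W hZC
    have hinf : N ⊓ W = center G ⊓ W := by
      apply le_antisymm
      · intro a ha
        exact ⟨hNW a ha.1 ha.2, ha.2⟩
      · intro a ha
        exact ⟨hZN ha.1, ha.2⟩
    have hr3 : (center G).relIndex W = N.relIndex W := by
      rw [← inf_relIndex_right N W, ← inf_relIndex_right (center G) W, hinf]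
    have hr4 : N.relIndex W ∣ idx d₀ := by
      rw [← hNidx]; exact relIndex_dvd_index_of_normal N W
    have hbd : b ∣ idx d₀ := hbr.trans (hr2.trans (hr3 ▸ hr4))
    have hrx : r ∣ idx x := hr_of x hx hxN
    exact hadj r b hr hb hrm hbd x
      (Nat.Coprime.mul_dvd_of_dvd_of_dvd ((Nat.coprime_primes hr hb).2 (hrne b hbd))
        hrx (hbr.trans hr1))
  have hCeqN : ∀ x, x ∈ N → x ∉ center G → centralizer ({x} : Set G) = N := by
    intro x hxN hxc
    apply le_antisymm
    · intro g hg
      by_contra hgN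
      obtain ⟨a, ha⟩ := hcov g hgN
      rw [mem_centralizer_singleton] at hg
      have hx'N : a⁻¹ * x * a ∈ N := by
        have := hNnormal.conj_mem _ hxN a⁻¹
        simpa using this
      have hx'c : a⁻¹ * x * a ∉ center G := by
        intro h
        apply hxc
        have := (inferInstance : (center G).Normal).conj_mem _ h a
        have e : a * (a⁻¹ * x * a) * a⁻¹ = x := by group
        rwa [e] at this
      have hx'W : a⁻¹ * x * a ∉ W := fun h => hx'c (hNW _ hx'N h)
      have hcomm : (a⁻¹ * x * a)⁻¹ * (a⁻¹ * g * a) * (a⁻¹ * x * a) = a⁻¹ * g * a := by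
        have : (a⁻¹ * x * a)⁻¹ * (a⁻¹ * g * a) * (a⁻¹ * x * a) = a⁻¹ * (x⁻¹ * (g * x)) * a := by
          group
        rw [this, ← hg]; group
      have h1 := hfrob (a⁻¹ * x * a) hx'W (a⁻¹ * g * a) ha (by rw [hcomm]; exact ha)
      have h2 := hNnormal.conj_mem _ h1 a
      apply hgN
      have : a * (a⁻¹ * g * a) * a⁻¹ = g := by group
      rwa [this] at h2
    · intro y hy
      rw [mem_centralizer_singleton]
      exact hNcomm x hxN y hy
  have hwc : w ∉ center G := fun h => hwN (hZN h)
  refine ⟨W.index, idx d₀, Nat.Coprime.coprime_dvd_left hWidx hcop0, ?_, ?_, ?_, ⟨d₀, rfl⟩, ?_⟩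
  · have : 0 < W.index := Nat.pos_of_ne_zero Subgroup.index_ne_zero_of_finite
    omega
  · have h1 := Nat.le_of_dvd (idx_pos d₀) htd
    have := ht.two_le
    omega
  · refine ⟨w, ?_⟩
    rw [idx, hCeqW w (hTW hwT) hwc]
  · intro g
    by_cases hgc : g ∈ center G
    · left; exact idx_eq_one_iff.mpr hgc
    · right
      by_cases hgN : g ∈ N
      · right
        rw [idx, hCeqN g hgN hgc, hNidx]
      · left
        obtain ⟨a, ha⟩ := hcov g hgN
        have hg'N : a⁻¹ * g * a ∉ N := by
          intro h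
          apply hgN
          have := hNnormal.conj_mem _ h a
          have e : a * (a⁻¹ * g * a) * a⁻¹ = g := by group
          rwa [e] at this
        have hg'c : a⁻¹ * g * a ∉ center G := fun h => hg'N (hZN h)
        have e : idx (a⁻¹ * g * a) = idx g := by
          have := idx_conj g a⁻¹
          simpa using this
        rw [← e, idx, hCeqW _ ha hg'c]

end Cfsg.Agent.Helper21.IsolatedClasses
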