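import Mathlib
import Cfsg.Agent.Lib.Helper3.J1Defs

/-!
# S0448 piece H0A (helper21, for helper3): basic facts on the model `H0 = Z2 × A5`
-/

set_option autoImplicit false
set_option linter.unusedSectionVars false
set_option linter.unusedVariables false

namespace Cfsg.Agent.Helper3.J1

open Cfsg Cfsg.Agent.Helper24 Cfsg.Agent.Helper15.GL23

theorem h0a_card : Fintype.card H0 = 120 := by decide +kernel

theorem h0a_central : ∀ h : H0, h * z0 = z0 * h := by decide +kernel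

theorem h0a_unique : ∀ h : H0, h ≠ 1 → h * h = 1 → (∀ k : H0, k * h = h * k) → h = z0 := by
  decide +kernel

theorem h0a_of_order_two {G : Type*} [Group G] (h : G) (hh : orderOf h = 2) : h ≠ 1 ∧ h * h = 1 := by
  constructor
  · intro h1
    rw [h1, orderOf_one] at hh
    omega
  · have h2 := pow_orderOf_eq_one h
    rw [hh, pow_two] at h2
    exact h2

theorem h0a_z0 : z0 ^ 2 = 1 ∧ z0 ≠ 1 := by decide +kernel

theorem h0a_x0 : x0 ^ 3 = 1 ∧ x0 ≠ 1 := by decide +kernel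

theorem h0a_y0 : y0 ^ 5 = 1 ∧ y0 ≠ 1 := by decide +kernel

theorem h0a_w0 : w0 ^ 6 = 1 ∧ ∀ m : ℕ, m < 6 → 0 < m → w0 ^ m ≠ 1 := by decide +kernel

theorem h0a_v0 : v0 ^ 10 = 1 ∧ ∀ m : ℕ, m < 10 → 0 < m → v0 ^ m ≠ 1 := by decide +kernel

theorem h0a_pows : w0 ^ 3 = z0 ∧ v0 ^ 5 = z0 := by decide +kernel

/-- PIECE H0A -/
theorem h0_basic :
    Nat.card H0 = 120 ∧ orderOf z0 = 2 ∧ (∀ h : H0, h * z0 = z0 * h) ∧
    (∀ h : H0, orderOf h = 2 → (∀ k : H0, k * h = h * k) → h = z0) ∧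
    orderOf x0 = 3 ∧ orderOf y0 = 5 ∧ orderOf w0 = 6 ∧ orderOf v0 = 10 ∧ w0 ^ 3 = z0 ∧ v0 ^ 5 = z0 := by
  have : Fact (Nat.Prime 5) := ⟨by norm_num⟩
  refine ⟨?_, ?_, h0a_central, ?_, ?_, ?_, ?_, ?_, h0a_pows.1, h0a_pows.2⟩
  · rw [Nat.card_eq_fintype_card]
    exact h0a_card
  · exact orderOf_eq_prime h0a_z0.1 h0a_z0.2
  · intro h hh hc
    obtain ⟨h1, h2⟩ := h0a_of_order_two h hh
    exact h0a_unique h h1 h2 hc
  · exact orderOf_eq_prime h0a_x0.1 h0a_x0.2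
  · exact orderOf_eq_prime h0a_y0.1 h0a_y0.2
  · rw [orderOf_eq_iff (by norm_num)]
    exact h0a_w0
  · rw [orderOf_eq_iff (by norm_num)]
    exact h0a_v0

end Cfsg.Agent.Helper3.J1
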