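import Mathlib
import Cfsg.Agent.Lib.Helper3.J1Defs

/-!
# S0448 piece H0B (helper21, for helper3): fusion and centralizer orders in the model `H0 = Z2 × A5`
-/

set_option autoImplicit false
set_option linter.unusedSectionVars false
set_option linter.unusedVariables false

namespace Cfsg.Agent.Helper3.J1

open Cfsg Cfsg.Agent.Helper24 Cfsg.Agent.Helper15.GL23

theorem h0b_w0 : ∃ c : H0, c * w0 * c⁻¹ = w0⁻¹ := by decide +kernel

theorem h0b_v0 : ∃ c : H0, c * v0 * c⁻¹ = v0⁻¹ := by decide +kernel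

theorem h0b_v03 : ¬ ∃ c : H0, c * v0 * c⁻¹ = v0 ^ 3 := by decide +kernel

theorem h0b_x0 : ∃ c : H0, c * x0 * c⁻¹ = x0⁻¹ := by decide +kernel

theorem h0b_y0 : ∃ c : H0, c * y0 * c⁻¹ = y0⁻¹ := by decide +kernel

theorem h0b_cw : Fintype.card {h : H0 // h * w0 = w0 * h} = 6 := by decide +kernel

theorem h0b_cv : Fintype.card {h : H0 // h * v0 = v0 * h} = 10 := by decide +kernel

theorem h0b_cv3 : Fintype.card {h : H0 // h * v0 ^ 3 = v0 ^ 3 * h} = 10 := by decide +kernel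

theorem h0b_card_cent (g : H0) :
    Nat.card (Subgroup.centralizer ({g} : Set H0)) = Fintype.card {h : H0 // h * g = g * h} := by
  rw [← Nat.card_eq_fintype_card]
  exact Nat.card_congr (Equiv.subtypeEquivRight (fun h => Subgroup.mem_centralizer_singleton_iff))

/-- PIECE H0B: fusion of the elements of `z0·(odd order)` and centralizer orders -/
theorem h0_conj :
    IsConj w0 w0⁻¹ ∧ IsConj v0 v0⁻¹ ∧ ¬ IsConj v0 (v0 ^ 3) ∧ IsConj x0 x0⁻¹ ∧ IsConj y0 y0⁻¹ ∧
    Nat.card (Subgroup.centralizer ({w0} : Set H0)) = 6 ∧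
    Nat.card (Subgroup.centralizer ({v0} : Set H0)) = 10 ∧
    Nat.card (Subgroup.centralizer ({v0 ^ 3} : Set H0)) = 10 := by
  refine ⟨isConj_iff.mpr h0b_w0, isConj_iff.mpr h0b_v0, fun h => h0b_v03 (isConj_iff.mp h),
    isConj_iff.mpr h0b_x0, isConj_iff.mpr h0b_y0, ?_, ?_, ?_⟩
  · rw [h0b_card_cent]; exact h0b_cw
  · rw [h0b_card_cent]; exact h0b_cv
  · rw [h0b_card_cent]; exact h0b_cv3

end Cfsg.Agent.Helper3.J1
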