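import Mathlib
import Cfsg.Prelude.Def_JComponents
import Cfsg.Agent.Lib.Helper4.KSBootA

/-!
# KS12c / S2954', piece PKG (helper21, for helper27's skeleton `plans/KX_Skel.lean.txt`)

A subgroup `P ≅ S₄` or `S₄ × C₂` with Sylow 2-subgroup `T` carries the package `Pkg T P E` of helper4's
`KSBootA`, with `|E| ≤ 8`.
-/

set_option autoImplicit false

namespace Cfsg.Agent.Helper27.KV

open Cfsg Cfsg.Agent.Helper4.KSBoot Cfsg.Agent.Helper15

universe u

variable {G : Type u} [Group G] [Finite G]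

/-- PKG.  `Helper4.KSBoot.pkg_of_equiv` with `v4` resp. `v4c`. -/
theorem exists_pkg {T P : Subgroup G} (hsyl : IsSylowTwoIn T P)
    (h : Nonempty (↥P ≃* Equiv.Perm (Fin 4)) ∨
      Nonempty (↥P ≃* Equiv.Perm (Fin 4) × Multiplicative (ZMod 2))) :
    ∃ E : Subgroup G, Pkg T P E ∧ Nat.card ↥E ≤ 8 := by
  have : Fact (Nat.Prime 2) := ⟨Nat.prime_two⟩
  have hT : IsSylowIn 2 T P :=
    isSylowIn_of_not_dvd_relIndex hsyl.2.1 hsyl.1
      (by rw [← even_iff_two_dvd, Nat.not_even_iff_odd]; exact hsyl.2.2)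
  rcases h with ⟨⟨e⟩⟩ | ⟨⟨e⟩⟩
  · refine ⟨pkgE e v4, pkg_of_equiv e v4 v4_exp v4_cent v4_index v4_ne_bot hT, ?_⟩
    rw [card_pkgE, v4_card]
    norm_num
  · refine ⟨pkgE e v4c, pkg_of_equiv e v4c v4c_exp v4c_cent v4c_index v4c_ne_bot hT, ?_⟩
    rw [card_pkgE, v4c_card]

end Cfsg.Agent.Helper27.KV
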