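import Mathlib
import Cfsg.Prelude.Def_JComponents
import Cfsg.Agent.Lib.Helper27.KVDefs2
import Cfsg.Agent.Lib.Helper4.KSBootA
import Cfsg.Agent.Lib.Helper14.Ambient

/-!
# KS12c / S2954', piece TINT (helper21, for helper27's skeleton `plans/KX_Skel.lean.txt`)

`|P₁ : T| = 3` (from `h6`: `|P₁ : O₂(P₁)| = 6 = |P₁ : T| |T : O₂(P₁)|`, first factor odd, second a power of 2), so
`T ≤ P₁ ⊓ P₂ ≤ P₁` forces `P₁ ⊓ P₂ = T` or `P₁ ≤ P₂ ≤ L₂`; the latter gives `L₂ = L₁` by `huniq`.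
-/

set_option autoImplicit false

namespace Cfsg.Agent.Helper27.KV

open Cfsg Cfsg.Agent.Helper4.KSBoot Cfsg.Agent.Helper15

universe u

variable {G : Type u} [Group G] [Finite G]

/-- `|P : T| = 3` for a Sylow 2-subgroup `T` of `P` with `|P : O₂(P)| = 6`. -/
theorem relIndex_eq_three_of_six {T P : Subgroup G} (hsyl : IsSylowTwoIn T P)
    (h6 : (pCoreOf 2 P).relIndex P = 6) : T.relIndex P = 3 := by
  have : Fact (Nat.Prime 2) := ⟨Nat.prime_two⟩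
  have hT : IsSylowIn 2 T P :=
    isSylowIn_of_not_dvd_relIndex hsyl.2.1 hsyl.1
      (by rw [← even_iff_two_dvd, Nat.not_even_iff_odd]; exact hsyl.2.2)
  have hle : pCoreOf 2 P ≤ T :=
    le_of_isSylowIn_of_normal hT (Cfsg.Agent.Helper14.pCoreOf_isPGroup 2 P)
      (Cfsg.Agent.Helper14.pCoreOf_le 2 P)
      (hT.le.trans (Cfsg.Agent.Helper14.le_normalizer_pCoreOf 2 P))
  have h6' : (pCoreOf 2 P).relIndex T * T.relIndex P = 6 := by
    rw [Subgroup.relIndex_mul_relIndex _ _ _ hle hT.le, h6]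
  have hodd : ¬ 2 ∣ T.relIndex P := hT.not_dvd_relIndex
  obtain ⟨j, hj⟩ := (IsPGroup.iff_card (p := 2) (G := ↥T)).mp hT.isPGroup
  have hdvd : (pCoreOf 2 P).relIndex T ∣ 2 ^ j := by
    rw [← hj]
    exact Subgroup.index_dvd_card _
  obtain ⟨i, -, hi⟩ := (Nat.dvd_prime_pow Nat.prime_two).mp hdvd
  rw [hi] at h6'
  rcases i with _ | _ | i
  · exfalso
    apply hodd
    rw [pow_zero, one_mul] at h6'
    rw [h6']
    decide
  · have h7 : 2 * T.relIndex P = 6 := by simpa using h6'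
    omega
  · exfalso
    have h7 : 4 * (2 ^ i * T.relIndex P) = 6 := by
      rw [← h6']
      ring
    generalize 2 ^ i * T.relIndex P = m at h7
    omega

/-- TINT. -/
theorem inf_eq_of_compData {T K₁ K₂ L₁ L₂ : Subgroup G} (h₁ : CompData T K₁ L₁) (h₂ : CompData T K₂ L₂)
    (hne : L₁ ≠ L₂) : T = (K₁ ⊔ T) ⊓ (K₂ ⊔ T) := by
  have h3 : T.relIndex (K₁ ⊔ T) = 3 := relIndex_eq_three_of_six h₁.hsyl h₁.h6
  have hTD : T ≤ (K₁ ⊔ T) ⊓ (K₂ ⊔ T) := le_inf le_sup_right le_sup_right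
  have hmul : T.relIndex ((K₁ ⊔ T) ⊓ (K₂ ⊔ T)) * ((K₁ ⊔ T) ⊓ (K₂ ⊔ T)).relIndex (K₁ ⊔ T) = 3 := by
    rw [Subgroup.relIndex_mul_relIndex _ _ _ hTD inf_le_left, h3]
  have hp : Nat.Prime 3 := by norm_num
  rcases (Nat.dvd_prime hp).mp (Dvd.intro _ hmul) with h | h
  · exact le_antisymm hTD (Subgroup.relIndex_eq_one.mp h)
  · exfalso
    rw [h] at hmul
    have h1 : ((K₁ ⊔ T) ⊓ (K₂ ⊔ T)).relIndex (K₁ ⊔ T) = 1 := by omega
    have h2 : K₁ ⊔ T ≤ (K₁ ⊔ T) ⊓ (K₂ ⊔ T) := Subgroup.relIndex_eq_one.mp h1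
    have h4 : K₁ ⊔ T ≤ L₂ := (h2.trans inf_le_right).trans h₂.hPL
    exact hne (h₁.huniq L₂ h₂.hmax h4).symm

end Cfsg.Agent.Helper27.KV
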