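import Mathlib
import Cfsg.Agent.Lib.Helper21.ClassSize

/-!
Groups in which the centralizer of every nonidentity element is a maximal subgroup (`CM`).
-/

namespace Cfsg.Agent.Helper21.MaxCent

open Subgroup Cfsg.Agent.Helper21.ClassSize

variable {H : Type*} [Group H]

/-- every nonidentity element has a maximal centralizer -/
def CM (H : Type*) [Group H] : Prop :=
  ∀ h : H, h ≠ 1 → IsCoatom (centralizer ({h} : Set H))

theorem cent_eq_of_le (hH : CM H) {h k : H} (hh : h ≠ 1) (hk : k ≠ 1)
    (hle : centralizer ({h} : Set H) ≤ centralizer ({k} : Set H)) :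
    centralizer ({h} : Set H) = centralizer ({k} : Set H) := by
  rcases (hH h hh).le_iff.mp hle with h1 | h1
  · exact absurd h1 (hH k hk).1
  · exact h1.symm

theorem cent_le_pow (h : H) (j : ℕ) :
    centralizer ({h} : Set H) ≤ centralizer ({h ^ j} : Set H) := by
  intro g hg
  rw [mem_centralizer_singleton] at hg ⊢
  exact ((Commute.pow_left (show Commute h g from hg) j)).eq

theorem cent_pow (hH : CM H) {h : H} {j : ℕ} (hj : h ^ j ≠ 1) :
    centralizer ({h ^ j} : Set H) = centralizer ({h} : Set H) := by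
  have hh : h ≠ 1 := by
    intro h1; rw [h1, one_pow] at hj; exact hj rfl
  exact (cent_eq_of_le hH hh hj (cent_le_pow h j)).symm

theorem cent_inv (h : H) : centralizer ({h⁻¹} : Set H) = centralizer ({h} : Set H) := by
  ext g
  rw [mem_centralizer_singleton, mem_centralizer_singleton]
  constructor
  · intro hg
    exact ((Commute.inv_left (show Commute h⁻¹ g from hg))).eq.trans (by rw [inv_inv])
      |> fun e => by simpa using e
  · intro hg
    exact ((Commute.inv_left (show Commute h g from hg))).eq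

theorem exists_not_comm (hH : CM H) {h : H} (hh : h ≠ 1) : ∃ x : H, h * x ≠ x * h := by
  by_contra hcon
  push_neg at hcon
  apply (hH h hh).1
  rw [eq_top_iff]
  intro x _
  rw [mem_centralizer_singleton]
  exact hcon x

/-- auxiliary: the centralizer of a product of commuting elements with distinct centralizers -/
theorem cent_mul_ne (hH : CM H) {h k : H} (hh : h ≠ 1) (hk : k ≠ 1) (hcomm : h * k = k * h)
    (hne : centralizer ({h} : Set H) ≠ centralizer ({k} : Set H)) :
    h * k ≠ 1 ∧ centralizer ({h * k} : Set H) ≠ centralizer ({k} : Set H) := by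
  have hhk : h * k ≠ 1 := by
    intro h1
    apply hne
    have : h = k⁻¹ := eq_inv_of_mul_eq_one_left h1
    rw [this, cent_inv]
  refine ⟨hhk, fun heq => hne ?_⟩
  symm
  apply cent_eq_of_le hH hk hh
  intro g hg
  have hg2 : g ∈ centralizer ({h * k} : Set H) := heq ▸ hg
  rw [mem_centralizer_singleton] at hg hg2 ⊢
  have c1 : Commute g k := hg.symm
  have c2 : Commute g (h * k) := hg2.symm
  have : h = (h * k) * k⁻¹ := by group
  rw [this]
  exact (Commute.mul_right c2 c1.inv_right).symm.eq

theorem pow_orderOf_eq_one_of_comm [Finite H] (hH : CM H) {h k : H} (hh : h ≠ 1) (hk : k ≠ 1)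
    (hcomm : h * k = k * h)
    (hne : centralizer ({h} : Set H) ≠ centralizer ({k} : Set H)) : k ^ orderOf h = 1 := by
  by_contra hka
  obtain ⟨hhk, h1⟩ := cent_mul_ne hH hh hk hcomm hne
  have e1 : (h * k) ^ orderOf h = k ^ orderOf h := by
    rw [(show Commute h k from hcomm).mul_pow, pow_orderOf_eq_one, one_mul]
  have e2 : centralizer ({k ^ orderOf h} : Set H) = centralizer ({k} : Set H) := cent_pow hH hka
  have e3 : centralizer ({(h * k) ^ orderOf h} : Set H) = centralizer ({h * k} : Set H) :=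
    cent_pow hH (by rw [e1]; exact hka)
  apply h1
  rw [← e3, e1, e2]

theorem orderOf_eq_of_comm [Finite H] (hH : CM H) {h k : H} (hh : h ≠ 1) (hk : k ≠ 1)
    (hcomm : h * k = k * h)
    (hne : centralizer ({h} : Set H) ≠ centralizer ({k} : Set H)) : orderOf h = orderOf k := by
  apply Nat.dvd_antisymm
  · exact orderOf_dvd_of_pow_eq_one
      (pow_orderOf_eq_one_of_comm hH hk hh hcomm.symm (fun e => hne e.symm))
  · exact orderOf_dvd_of_pow_eq_one (pow_orderOf_eq_one_of_comm hH hh hk hcomm hne)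

/-- the partition lemma -/
theorem orderOf_prime_of_comm [Finite H] (hH : CM H) {h k : H} (hh : h ≠ 1) (hk : k ≠ 1)
    (hcomm : h * k = k * h)
    (hne : centralizer ({h} : Set H) ≠ centralizer ({k} : Set H)) :
    ∃ r : ℕ, r.Prime ∧ orderOf h = r ∧ orderOf k = r := by
  have heq := orderOf_eq_of_comm hH hh hk hcomm hne
  have h1 : orderOf h ≠ 1 := by
    intro h1; exact hh (orderOf_eq_one_iff.mp h1)
  obtain ⟨r, hr, hre⟩ := Nat.exists_prime_and_dvd h1
  have hor : orderOf h = r := by
    by_contra hne2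
    obtain ⟨e', he'⟩ := hre
    have hpos : 0 < orderOf h := orderOf_pos h
    have he'pos : 0 < e' := by
      rcases Nat.eq_zero_or_pos e' with h0 | h0
      · rw [h0, mul_zero] at he'; omega
      · exact h0
    have he'1 : e' ≠ 1 := by
      intro h1'; rw [h1', mul_one] at he'; exact hne2 he'
    -- h' = h ^ r has order e'
    have ho : orderOf (h ^ r) = e' := by
      rw [orderOf_pow' h hr.ne_zero, Nat.gcd_eq_right ⟨e', he'⟩, he',
        Nat.mul_div_cancel_left _ hr.pos]
    have hh' : h ^ r ≠ 1 := by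
      intro h0
      rw [h0, orderOf_one] at ho
      exact he'1 ho.symm
    have hc' : centralizer ({h ^ r} : Set H) = centralizer ({h} : Set H) := cent_pow hH hh'
    have hcomm' : h ^ r * k = k * h ^ r := ((show Commute h k from hcomm).pow_left r).eq
    have := orderOf_eq_of_comm hH hh' hk hcomm' (by rw [hc']; exact hne)
    rw [ho, ← heq, he'] at this
    have : e' * 1 = e' * r := by rw [mul_one, mul_comm]; exact this
    have := Nat.eq_of_mul_eq_mul_left he'pos this
    exact hr.one_lt.ne this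
  exact ⟨r, hr, hor, heq ▸ hor⟩

/-- P3: a nonabelian centralizer has prime exponent -/
theorem exp_of_nonabelian [Finite H] (hH : CM H) {h : H} (hh : h ≠ 1)
    {u v : H} (hu : u ∈ centralizer ({h} : Set H)) (hv : v ∈ centralizer ({h} : Set H))
    (huv : u * v ≠ v * u) :
    ∃ r : ℕ, r.Prime ∧ ∀ w ∈ centralizer ({h} : Set H), w ≠ 1 → orderOf w = r := by
  have hu1 : u ≠ 1 := by
    intro h1; apply huv; rw [h1, one_mul, mul_one]
  rw [mem_centralizer_singleton] at hu hv
  have hne : centralizer ({u} : Set H) ≠ centralizer ({h} : Set H) := by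
    intro heq
    have : v ∈ centralizer ({u} : Set H) := by
      rw [heq, mem_centralizer_singleton]; exact hv
    rw [mem_centralizer_singleton] at this
    exact huv this
  obtain ⟨r, hr, hur, hhr⟩ := orderOf_prime_of_comm hH hu1 hh hu.symm hne
  refine ⟨r, hr, fun w hw hw1 => ?_⟩
  rw [mem_centralizer_singleton] at hw
  by_cases hwc : centralizer ({w} : Set H) = centralizer ({h} : Set H)
  · have huw : u ∈ centralizer ({w} : Set H) := by
      rw [hwc, mem_centralizer_singleton]; exact hu
    rw [mem_centralizer_singleton] at huw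
    obtain ⟨r', _, hwr', hur'⟩ := orderOf_prime_of_comm hH hw1 hu1 huw
      (by rw [hwc]; exact fun e => hne e.symm)
    rw [hwr', ← hur', hur]
  · obtain ⟨r', _, hwr', hhr'⟩ := orderOf_prime_of_comm hH hw1 hh hw.symm hwc
    rw [hwr', ← hhr', hhr]

/-- a normal maximal subgroup of a finite group has prime index -/
theorem index_prime_of_normal_coatom {G : Type*} [Group G] [Finite G] (N : Subgroup G)
    [hN : N.Normal] (hco : IsCoatom N) : N.index.Prime := by
  have hcard : Nat.card (G ⧸ N) ≠ 1 := by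
    intro h1
    apply hco.1
    rw [← Subgroup.index_eq_one]
    exact h1
  obtain ⟨p, hp, hpd⟩ := Nat.exists_prime_and_dvd hcard
  haveI : Fact p.Prime := ⟨hp⟩
  obtain ⟨q, hq⟩ := exists_prime_orderOf_dvd_card' p hpd
  have hq1 : q ≠ 1 := by
    intro h1; rw [h1, orderOf_one] at hq; exact hp.one_lt.ne hq
  set K : Subgroup G := (Subgroup.zpowers q).comap (QuotientGroup.mk' N) with hK
  have hNK : N ≤ K := by
    intro n hn
    rw [hK, Subgroup.mem_comap]
    have : (QuotientGroup.mk' N) n = 1 := (QuotientGroup.eq_one_iff n).mpr hn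
    rw [this]; exact Subgroup.one_mem _
  have hKtop : K = ⊤ := by
    rcases hco.le_iff.mp hNK with h1 | h1
    · exact h1
    · exfalso
      obtain ⟨g, rfl⟩ := QuotientGroup.mk'_surjective N q
      have hg : g ∈ K := by
        rw [hK, Subgroup.mem_comap]; exact Subgroup.mem_zpowers _
      rw [h1] at hg
      exact hq1 ((QuotientGroup.eq_one_iff g).mpr hg)
  have hall : ∀ x : G ⧸ N, x ∈ Subgroup.zpowers q := by
    intro x
    obtain ⟨g, rfl⟩ := QuotientGroup.mk'_surjective N x
    have : g ∈ K := by rw [hKtop]; exact Subgroup.mem_top g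
    exact this
  have : Nat.card (G ⧸ N) = p := by
    rw [← hq]
    exact (orderOf_eq_card_of_forall_mem_zpowers hall).symm
  rw [Subgroup.index, this]
  exact hp

theorem not_isPGroup [Finite H] (hH : CM H) {h₀ : H} (hh₀ : h₀ ≠ 1) {p : ℕ} (hp : p.Prime) :
    ¬ IsPGroup p H := by
  intro hP
  haveI : Fact p.Prime := ⟨hp⟩
  haveI : Nontrivial H := ⟨⟨h₀, 1, hh₀⟩⟩
  haveI := hP.center_nontrivial
  obtain ⟨z, hz⟩ := exists_ne (1 : center H)
  have hz1 : (z : H) ≠ 1 := fun h1 => hz (Subtype.ext h1)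
  apply (hH (z : H) hz1).1
  rw [eq_top_iff]
  intro x _
  rw [mem_centralizer_singleton]
  exact ((Subgroup.mem_center_iff.mp z.2) x).symm

theorem case1_inf [Finite H] (hH : CM H) {h₀ : H} (hh₀ : h₀ ≠ 1)
    (hMn : (centralizer ({h₀} : Set H)).Normal) {g b : H}
    (hg : g ∉ centralizer ({h₀} : Set H))
    (hb : b ∈ centralizer ({h₀} : Set H)) (hbg : b ∈ centralizer ({g} : Set H)) : b = 1 := by
  by_contra hb1
  have hg1 : g ≠ 1 := fun h1 => hg (h1 ▸ Subgroup.one_mem _)
  rw [mem_centralizer_singleton] at hb hbg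
  have hne1 : centralizer ({b} : Set H) ≠ centralizer ({g} : Set H) := by
    intro heq
    apply hg
    have : h₀ ∈ centralizer ({b} : Set H) := by
      rw [mem_centralizer_singleton]; exact hb.symm
    rw [heq, mem_centralizer_singleton] at this
    rw [mem_centralizer_singleton]; exact this.symm
  obtain ⟨r, hr, hbr, hgr⟩ := orderOf_prime_of_comm hH hb1 hg1 hbg.symm hne1
  have hne2 : centralizer ({b} : Set H) ≠ centralizer ({h₀} : Set H) := by
    intro heq
    apply hg
    rw [← heq, mem_centralizer_singleton]; exact hbg.symm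
  obtain ⟨r2, _, hbr2, hh₀r2⟩ := orderOf_prime_of_comm hH hb1 hh₀ hb.symm hne2
  have hh₀r : orderOf h₀ = r := by rw [hh₀r2, ← hbr2, hbr]
  have h3 : ∀ m ∈ centralizer ({h₀} : Set H), m ^ r = 1 := by
    intro m hm
    by_cases hm1 : m = 1
    · rw [hm1, one_pow]
    rw [mem_centralizer_singleton] at hm
    by_cases hmc : centralizer ({m} : Set H) = centralizer ({h₀} : Set H)
    · have : b ∈ centralizer ({m} : Set H) := by
        rw [hmc, mem_centralizer_singleton]; exact hb
      rw [mem_centralizer_singleton] at this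
      obtain ⟨r3, _, hmr3, hbr3⟩ := orderOf_prime_of_comm hH hm1 hb1 this
        (by rw [hmc]; exact fun e => hne2 e.symm)
      rw [← hbr, hbr3, ← hmr3]; exact pow_orderOf_eq_one m
    · obtain ⟨r3, _, hmr3, hhr3⟩ := orderOf_prime_of_comm hH hm1 hh₀ hm.symm hmc
      rw [← hh₀r, hhr3, ← hmr3]; exact pow_orderOf_eq_one m
  have hidx := index_prime_of_normal_coatom (centralizer ({h₀} : Set H)) (hH h₀ hh₀)
  have hgp : ∀ y : H, y ^ (centralizer ({h₀} : Set H)).index ∈ centralizer ({h₀} : Set H) :=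
    fun y => Subgroup.pow_index_mem _ y
  have hpr : (centralizer ({h₀} : Set H)).index = r := by
    by_contra hne
    have hcop : Nat.Coprime (centralizer ({h₀} : Set H)).index (orderOf g) := by
      rw [hgr]; exact (Nat.coprime_primes hidx hr).mpr hne
    obtain ⟨m, hm⟩ := exists_pow_eq_self_of_coprime hcop
    apply hg
    rw [← hm]
    exact Subgroup.pow_mem _ (hgp g) m
  apply not_isPGroup hH hh₀ hr
  intro y
  refine ⟨2, ?_⟩
  rw [pow_two, pow_mul]
  have := hgp y
  rw [hpr] at this
  exact h3 _ this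

theorem case1_cent [Finite H] (hH : CM H) {h₀ : H} (hh₀ : h₀ ≠ 1)
    (hMn : (centralizer ({h₀} : Set H)).Normal) {b : H}
    (hb : b ∈ centralizer ({h₀} : Set H)) (hb1 : b ≠ 1) :
    centralizer ({b} : Set H) = centralizer ({h₀} : Set H) := by
  apply cent_eq_of_le hH hb1 hh₀
  intro g hg
  by_contra hgM
  apply hb1
  apply case1_inf hH hh₀ hMn hgM hb
  rw [mem_centralizer_singleton] at hg ⊢
  exact hg.symm

theorem case1_abelian [Finite H] (hH : CM H) {h₀ : H} (hh₀ : h₀ ≠ 1)
    (hMn : (centralizer ({h₀} : Set H)).Normal) {a b : H}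
    (ha : a ∈ centralizer ({h₀} : Set H)) (hb : b ∈ centralizer ({h₀} : Set H)) :
    a * b = b * a := by
  by_cases ha1 : a = 1
  · rw [ha1, one_mul, mul_one]
  have := case1_cent hH hh₀ hMn ha ha1
  rw [← this, mem_centralizer_singleton] at hb
  exact hb

theorem case1_pow [Finite H] (hH : CM H) {h₀ : H} (hh₀ : h₀ ≠ 1)
    (hMn : (centralizer ({h₀} : Set H)).Normal) {g : H}
    (hg : g ∉ centralizer ({h₀} : Set H)) :
    g ^ (centralizer ({h₀} : Set H)).index = 1 := by
  apply case1_inf hH hh₀ hMn hg (Subgroup.pow_index_mem _ g)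
  rw [mem_centralizer_singleton]
  exact (Commute.pow_right (Commute.refl g) _).eq

theorem case1_cent_out [Finite H] (hH : CM H) {h₀ : H} (hh₀ : h₀ ≠ 1)
    (hMn : (centralizer ({h₀} : Set H)).Normal) {g : H}
    (hg : g ∉ centralizer ({h₀} : Set H)) :
    centralizer ({g} : Set H) = Subgroup.zpowers g := by
  apply le_antisymm
  · intro c hc
    have htop : Subgroup.zpowers g ⊔ centralizer ({h₀} : Set H) = ⊤ := by
      rcases (hH h₀ hh₀).le_iff.mp
        (le_sup_right : centralizer ({h₀} : Set H) ≤ Subgroup.zpowers g ⊔ _) with h1 | h1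
      · exact h1
      · exfalso
        apply hg
        rw [← h1]
        exact (le_sup_left : Subgroup.zpowers g ≤ _) (Subgroup.mem_zpowers g)
    have hc2 : c ∈ ((Subgroup.zpowers g ⊔ centralizer ({h₀} : Set H) : Subgroup H) : Set H) := by
      rw [htop]; exact Set.mem_univ c
    rw [Subgroup.mul_normal] at hc2
    obtain ⟨x, hx, y, hy, rfl⟩ := Set.mem_mul.mp hc2
    have hxc : x ∈ centralizer ({g} : Set H) := by
      obtain ⟨k, rfl⟩ := Subgroup.mem_zpowers_iff.mp hx
      rw [mem_centralizer_singleton]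
      exact (Commute.zpow_right (Commute.refl g) k).eq
    have hyc : y ∈ centralizer ({g} : Set H) := by
      have : y = x⁻¹ * (x * y) := by group
      rw [this]
      exact Subgroup.mul_mem _ (Subgroup.inv_mem _ hxc) hc
    have := case1_inf hH hh₀ hMn hg hy hyc
    rw [this, mul_one]
    exact hx
  · intro c hc
    obtain ⟨k, rfl⟩ := Subgroup.mem_zpowers_iff.mp hc
    rw [mem_centralizer_singleton]
    exact (Commute.zpow_right (Commute.refl g) k).eq

theorem case1_min [Finite H] (hH : CM H) {h₀ : H} (hh₀ : h₀ ≠ 1)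
    (hMn : (centralizer ({h₀} : Set H)).Normal) (N : Subgroup H) [N.Normal]
    (hNM : N ≤ centralizer ({h₀} : Set H)) (hN : N ≠ ⊥) :
    centralizer ({h₀} : Set H) ≤ N := by
  obtain ⟨g, hg⟩ : ∃ g : H, g ∉ centralizer ({h₀} : Set H) := by
    by_contra hcon
    push_neg at hcon
    exact (hH h₀ hh₀).1 (eq_top_iff.mpr fun x _ => hcon x)
  have hg1 : g ≠ 1 := fun h1 => hg (h1 ▸ Subgroup.one_mem _)
  have htop : centralizer ({g} : Set H) ⊔ N = ⊤ := by
    rcases (hH g hg1).le_iff.mp
      (le_sup_left : centralizer ({g} : Set H) ≤ _ ⊔ N) with h1 | h1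
    · exact h1
    · exfalso
      apply hN
      rw [eq_bot_iff]
      intro n hn
      rw [Subgroup.mem_bot]
      apply case1_inf hH hh₀ hMn hg (hNM hn)
      rw [← h1]
      exact (le_sup_right : N ≤ _) hn
  intro m hm
  have hm2 : m ∈ ((centralizer ({g} : Set H) ⊔ N : Subgroup H) : Set H) := by
    rw [htop]; exact Set.mem_univ m
  rw [Subgroup.mul_normal] at hm2
  obtain ⟨c, hc, n, hn, rfl⟩ := Set.mem_mul.mp hm2
  have hcM : c ∈ centralizer ({h₀} : Set H) := by
    have : c = (c * n) * n⁻¹ := by group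
    rw [this]
    exact Subgroup.mul_mem _ hm (Subgroup.inv_mem _ (hNM hn))
  have := case1_inf hH hh₀ hMn hg hcM hc
  rw [this, one_mul]
  exact hn

/-- the subgroup of elements of an abelian `M` killed by `r` -/
def omega (M : Subgroup H) (hab : ∀ a ∈ M, ∀ b ∈ M, a * b = b * a) (r : ℕ) : Subgroup H where
  carrier := {m | m ∈ M ∧ m ^ r = 1}
  mul_mem' := by
    rintro a b ⟨ha, ha'⟩ ⟨hb, hb'⟩
    refine ⟨M.mul_mem ha hb, ?_⟩
    rw [(show Commute a b from hab a ha b hb).mul_pow, ha', hb', one_mul]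
  one_mem' := ⟨M.one_mem, one_pow r⟩
  inv_mem' := by
    rintro a ⟨ha, ha'⟩
    exact ⟨M.inv_mem ha, by rw [inv_pow, ha', inv_one]⟩

theorem mem_omega {M : Subgroup H} {hab : ∀ a ∈ M, ∀ b ∈ M, a * b = b * a} {r : ℕ} {m : H} :
    m ∈ omega M hab r ↔ m ∈ M ∧ m ^ r = 1 := Iff.rfl

theorem case1_exp [Finite H] (hH : CM H) {h₀ : H} (hh₀ : h₀ ≠ 1)
    (hMn : (centralizer ({h₀} : Set H)).Normal) :
    ∃ r : ℕ, r.Prime ∧ ∀ m ∈ centralizer ({h₀} : Set H), m ^ r = 1 := by
  have ho1 : orderOf h₀ ≠ 1 := fun h1 => hh₀ (orderOf_eq_one_iff.mp h1)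
  obtain ⟨r, hr, hrd⟩ := Nat.exists_prime_and_dvd ho1
  refine ⟨r, hr, ?_⟩
  have hab : ∀ a ∈ centralizer ({h₀} : Set H), ∀ b ∈ centralizer ({h₀} : Set H),
      a * b = b * a := fun a ha b hb => case1_abelian hH hh₀ hMn ha hb
  have hpos : 0 < orderOf h₀ := orderOf_pos h₀
  have hb₀1 : h₀ ^ (orderOf h₀ / r) ≠ 1 := by
    apply pow_ne_one_of_lt_orderOf
    · exact (Nat.div_pos (Nat.le_of_dvd hpos hrd) hr.pos).ne'
    · exact Nat.div_lt_self hpos hr.one_lt
  have hb₀r : (h₀ ^ (orderOf h₀ / r)) ^ r = 1 := by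
    rw [← pow_mul, Nat.div_mul_cancel hrd, pow_orderOf_eq_one]
  have hh₀M : h₀ ∈ centralizer ({h₀} : Set H) := by
    rw [mem_centralizer_singleton]
  haveI : (omega (centralizer ({h₀} : Set H)) hab r).Normal := by
    constructor
    intro n hn y
    rw [mem_omega] at hn ⊢
    refine ⟨hMn.conj_mem n hn.1 y, ?_⟩
    rw [conj_pow, hn.2, mul_one, mul_inv_cancel]
  have hle := case1_min hH hh₀ hMn (omega (centralizer ({h₀} : Set H)) hab r)
    (fun m hm => (mem_omega.mp hm).1) (by
      intro hbot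
      have : h₀ ^ (orderOf h₀ / r) ∈ omega (centralizer ({h₀} : Set H)) hab r :=
        mem_omega.mpr ⟨Subgroup.pow_mem _ hh₀M _, hb₀r⟩
      rw [hbot, Subgroup.mem_bot] at this
      exact hb₀1 this)
  intro m hm
  exact (mem_omega.mp (hle hm)).2

theorem case1 [Finite H] (hH : CM H) {h₀ : H} (hh₀ : h₀ ≠ 1)
    (hMn : (centralizer ({h₀} : Set H)).Normal) :
    (∀ X : Subgroup H, X ≠ ⊤ → ∀ a ∈ X, ∀ b ∈ X, a * b = b * a) ∧
    ∃ r p a : ℕ, r.Prime ∧ p.Prime ∧ r ≠ p ∧ Nat.card H = r ^ a * p ∧
      ∀ S : Subgroup H, Nat.card S = r ^ a → S = centralizer ({h₀} : Set H) := by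
  have hidx := index_prime_of_normal_coatom (centralizer ({h₀} : Set H)) (hH h₀ hh₀)
  refine ⟨?_, ?_⟩
  · intro X hX a ha b hb
    by_cases hXM : X ≤ centralizer ({h₀} : Set H)
    · exact case1_abelian hH hh₀ hMn (hXM ha) (hXM hb)
    · obtain ⟨g, hgX, hgM⟩ := SetLike.not_le_iff_exists.mp hXM
      have hg1 : g ≠ 1 := fun h1 => hgM (h1 ▸ Subgroup.one_mem _)
      have hcg := case1_cent_out hH hh₀ hMn hgM
      have hle : centralizer ({g} : Set H) ≤ X := by
        rw [hcg, Subgroup.zpowers_le]; exact hgX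
      rcases (hH g hg1).le_iff.mp hle with h1 | h1
      · exact absurd h1 hX
      · rw [h1, hcg] at ha hb
        obtain ⟨i, rfl⟩ := Subgroup.mem_zpowers_iff.mp ha
        obtain ⟨j, rfl⟩ := Subgroup.mem_zpowers_iff.mp hb
        exact (Commute.zpow_zpow (Commute.refl g) i j).eq
  · obtain ⟨r, hr, hexp⟩ := case1_exp hH hh₀ hMn
    haveI : Fact r.Prime := ⟨hr⟩
    have hPM : IsPGroup r ↥(centralizer ({h₀} : Set H)) := by
      intro m
      refine ⟨1, ?_⟩
      rw [pow_one]
      exact Subtype.ext (by simpa using hexp m.1 m.2)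
    obtain ⟨a, ha⟩ := IsPGroup.iff_card.mp hPM
    have hrp : r ≠ (centralizer ({h₀} : Set H)).index := by
      intro hrp
      apply not_isPGroup hH hh₀ hr
      intro y
      refine ⟨2, ?_⟩
      rw [pow_two, pow_mul]
      have : y ^ r ∈ centralizer ({h₀} : Set H) := by
        rw [hrp]; exact Subgroup.pow_index_mem _ y
      exact hexp _ this
    refine ⟨r, (centralizer ({h₀} : Set H)).index, a, hr, hidx, hrp, ?_, ?_⟩
    · rw [← ha]; exact (Subgroup.card_mul_index _).symm
    · intro S hS
      by_cases hSM : S ≤ centralizer ({h₀} : Set H)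
      · exact Subgroup.eq_of_le_of_card_ge hSM (by rw [hS, ha])
      · exfalso
        obtain ⟨g, hgS, hgM⟩ := SetLike.not_le_iff_exists.mp hSM
        have hg1 : g ≠ 1 := fun h1 => hgM (h1 ▸ Subgroup.one_mem _)
        have hgp := case1_pow hH hh₀ hMn hgM
        have hog : orderOf g = (centralizer ({h₀} : Set H)).index := by
          haveI : Fact (centralizer ({h₀} : Set H)).index.Prime := ⟨hidx⟩
          exact orderOf_eq_prime hgp hg1
        have hd : orderOf g ∣ Nat.card S := Subgroup.orderOf_dvd_natCard S hgS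
        rw [hog, hS] at hd
        have := (Nat.prime_dvd_prime_iff_eq hidx hr).mp (hidx.dvd_of_dvd_pow hd)
        exact hrp this.symm

theorem case1_solvable [Finite H] (hH : CM H) {h₀ : H} (hh₀ : h₀ ≠ 1)
    (hMn : (centralizer ({h₀} : Set H)).Normal) : Group.IsSolvable H := by
  have hidx := index_prime_of_normal_coatom (centralizer ({h₀} : Set H)) (hH h₀ hh₀)
  haveI : Fact (centralizer ({h₀} : Set H)).index.Prime := ⟨hidx⟩
  haveI : Group.IsSolvable ↥(centralizer ({h₀} : Set H)) :=
    isSolvable_of_comm (fun a b => Subtype.ext (case1_abelian hH hh₀ hMn a.2 b.2))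
  haveI : IsCyclic (H ⧸ centralizer ({h₀} : Set H)) :=
    isCyclic_of_prime_card (p := (centralizer ({h₀} : Set H)).index) rfl
  haveI : Group.IsSolvable (H ⧸ centralizer ({h₀} : Set H)) :=
    isSolvable_of_comm (fun a b => mul_comm' a b)
  apply solvable_of_ker_le_range (centralizer ({h₀} : Set H)).subtype
    (QuotientGroup.mk' (centralizer ({h₀} : Set H)))
  rw [QuotientGroup.ker_mk', Subgroup.range_subtype]

theorem conj_mem_cent_iff (n u m : H) :
    n * m * n⁻¹ ∈ centralizer ({n * u * n⁻¹} : Set H) ↔ m ∈ centralizer ({u} : Set H) := by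
  rw [mem_centralizer_singleton, mem_centralizer_singleton]
  constructor
  · intro h
    have h2 : n * (u * m) * n⁻¹ = n * (m * u) * n⁻¹ := by
      simpa [mul_assoc] using h
    exact mul_left_cancel (mul_right_cancel h2)
  · intro h
    have h2 : n * (u * m) * n⁻¹ = n * (m * u) * n⁻¹ := by rw [h]
    simpa [mul_assoc] using h2

theorem conj_mem_cent_iff' (n u m : H) :
    n⁻¹ * m * n ∈ centralizer ({n⁻¹ * u * n} : Set H) ↔ m ∈ centralizer ({u} : Set H) := by
  have := conj_mem_cent_iff n⁻¹ u m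
  rwa [inv_inv] at this

theorem exists_prime_order_pow {x : H} [Finite H] (hx : x ≠ 1) :
    ∃ s : ℕ, s.Prime ∧ ∃ j : ℕ, x ^ j ≠ 1 ∧ (x ^ j) ^ s = 1 := by
  have ho1 : orderOf x ≠ 1 := fun h1 => hx (orderOf_eq_one_iff.mp h1)
  obtain ⟨r, hr, hrd⟩ := Nat.exists_prime_and_dvd ho1
  have hpos : 0 < orderOf x := orderOf_pos x
  refine ⟨r, hr, orderOf x / r, ?_, ?_⟩
  · apply pow_ne_one_of_lt_orderOf
    · exact (Nat.div_pos (Nat.le_of_dvd hpos hrd) hr.pos).ne'
    · exact Nat.div_lt_self hpos hr.one_lt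
  · rw [← pow_mul, Nat.div_mul_cancel hrd, pow_orderOf_eq_one]

theorem self_normalizing (hH : CM H) {h : H} (hh : h ≠ 1)
    (hnn : ¬ (centralizer ({h} : Set H)).Normal) {n : H}
    (hn : ∀ m, m ∈ centralizer ({h} : Set H) ↔ n * m * n⁻¹ ∈ centralizer ({h} : Set H)) :
    n ∈ centralizer ({h} : Set H) := by
  have hn' : n ∈ normalizer ((centralizer ({h} : Set H) : Subgroup H) : Set H) :=
    Subgroup.mem_normalizer_iff.mpr hn
  rcases (hH h hh).le_iff.mp (Subgroup.le_normalizer (H := centralizer ({h} : Set H)))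
    with h1 | h1
  · exact absurd (Subgroup.normalizer_eq_top_iff.mp h1) hnn
  · rw [h1] at hn'; exact hn'

theorem exists_not_conj_mem [Finite H] (M : Subgroup H) (hM : M ≠ ⊤)
    (hab : ∀ a ∈ M, ∀ b ∈ M, a * b = b * a) : ∃ k : H, ∀ g : H, g⁻¹ * k * g ∉ M := by
  by_contra hcon
  push_neg at hcon
  have hcount := conj_union_count M M (fun l hl k hk => by
    have : l⁻¹ * k * l = k := by
      rw [mul_assoc, hab k hk l hl, ← mul_assoc, inv_mul_cancel, one_mul]
    rw [this]; exact hk)
  have huniv : ({x : H | ∃ g : H, g⁻¹ * x * g ∈ M} : Set H) = Set.univ := by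
    ext x; simp only [Set.mem_setOf_eq, Set.mem_univ, iff_true]; exact hcon x
  rw [huniv, Set.ncard_univ] at hcount
  have hpos : 0 < Nat.card M := Nat.card_pos
  have hle : Nat.card H ≤ Nat.card M := by nlinarith
  apply hM
  have := Subgroup.eq_of_le_of_card_ge (le_top : M ≤ ⊤) (by
    rw [Subgroup.card_top]; exact hle)
  exact this

theorem case2a [Finite H] (hH : CM H)
    (hnn : ∀ h : H, h ≠ 1 → ¬ (centralizer ({h} : Set H)).Normal)
    {h₀ : H} (hh₀ : h₀ ≠ 1)
    (hab : ∀ a ∈ centralizer ({h₀} : Set H), ∀ b ∈ centralizer ({h₀} : Set H), a * b = b * a) :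
    False := by
  -- (i)
  have hcent : ∀ u ∈ centralizer ({h₀} : Set H), u ≠ 1 →
      centralizer ({u} : Set H) = centralizer ({h₀} : Set H) := by
    intro u hu hu1
    symm
    apply cent_eq_of_le hH hh₀ hu1
    intro m hm
    rw [mem_centralizer_singleton]
    exact hab u hu m hm
  have hh₀M : h₀ ∈ centralizer ({h₀} : Set H) := by rw [mem_centralizer_singleton]
  -- (iii)
  obtain ⟨s, hs, j, hu1, hus⟩ := exists_prime_order_pow hh₀
  haveI : Fact s.Prime := ⟨hs⟩
  set u := h₀ ^ j with hu
  have huM : u ∈ centralizer ({h₀} : Set H) := Subgroup.pow_mem _ hh₀M j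
  have hou : orderOf u = s := orderOf_eq_prime hus hu1
  have hPz : IsPGroup s (Subgroup.zpowers u) :=
    IsPGroup.of_card (n := 1) (by rw [Nat.card_zpowers, hou, pow_one])
  obtain ⟨P, hP⟩ := hPz.exists_le_sylow
  have huP : u ∈ (P : Subgroup H) := hP (Subgroup.mem_zpowers u)
  -- (iv)
  have hPM : (P : Subgroup H) ≤ centralizer ({h₀} : Set H) := by
    haveI : Nontrivial ↥(P : Subgroup H) :=
      ⟨⟨⟨u, huP⟩, 1, fun h => hu1 (congrArg Subtype.val h)⟩⟩
    haveI := (P.isPGroup').center_nontrivial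
    obtain ⟨z, hz⟩ := exists_ne (1 : Subgroup.center ↥(P : Subgroup H))
    have hz1 : ((z : ↥(P : Subgroup H)) : H) ≠ 1 := by
      intro h1
      apply hz
      apply Subtype.ext
      apply Subtype.ext
      exact h1
    have hzc : ∀ y ∈ (P : Subgroup H), ((z : ↥(P : Subgroup H)) : H) * y =
        y * ((z : ↥(P : Subgroup H)) : H) := by
      intro y hy
      have := (Subgroup.mem_center_iff.mp z.2) ⟨y, hy⟩
      exact (congrArg Subtype.val this).symm
    have hzM : ((z : ↥(P : Subgroup H)) : H) ∈ centralizer ({h₀} : Set H) := by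
      rw [← hcent u huM hu1, mem_centralizer_singleton]
      exact (hzc u huP).symm
    intro y hy
    rw [← hcent _ hzM hz1, mem_centralizer_singleton]
    exact hzc y hy
  -- (v)
  have hNC : normalizer ((P : Subgroup H) : Set H) ≤ centralizer ((P : Subgroup H) : Set H) := by
    intro n hn
    have hn2 := Subgroup.mem_normalizer_iff.mp hn
    have hnu : n * u * n⁻¹ ∈ centralizer ({h₀} : Set H) := hPM ((hn2 u).mp huP)
    have hnu1 : n * u * n⁻¹ ≠ 1 := by
      intro h1
      apply hu1
      have : u = n⁻¹ * (n * u * n⁻¹) * n := by group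
      rw [this, h1]; group
    have hnM : n ∈ centralizer ({h₀} : Set H) := by
      apply self_normalizing hH hh₀ (hnn h₀ hh₀)
      intro m
      have e1 : n * m * n⁻¹ ∈ centralizer ({h₀} : Set H) ↔
          n * m * n⁻¹ ∈ centralizer ({n * u * n⁻¹} : Set H) := by rw [hcent _ hnu hnu1]
      rw [e1, conj_mem_cent_iff, hcent u huM hu1]
    rw [Subgroup.mem_centralizer_iff]
    intro y hy
    exact hab y (hPM hy) n hnM
  -- (vi)
  have hK := MonoidHom.ker_transferSylow_isComplement' P hNC
  -- (vii)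
  obtain ⟨k, hk⟩ := exists_not_conj_mem (centralizer ({h₀} : Set H)) (hH h₀ hh₀).1 hab
  have hk1 : k ≠ 1 := by
    intro h1
    apply hk 1
    rw [h1]; simp
  -- (viii)
  have hle : centralizer ({k} : Set H) ≤ (MonoidHom.transferSylow P hNC).ker := by
    intro v hv
    rw [MonoidHom.mem_ker]
    by_contra ht
    obtain ⟨e, he⟩ := (IsPGroup.iff_orderOf.mp P.isPGroup') (MonoidHom.transferSylow P hNC v)
    have he0 : e ≠ 0 := by
      intro h0
      rw [h0, pow_zero, orderOf_eq_one_iff] at he
      exact ht he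
    have hsd : s ∣ orderOf v := by
      have h1 : s ∣ orderOf (MonoidHom.transferSylow P hNC v) := by
        rw [he]; exact dvd_pow_self s he0
      exact h1.trans (orderOf_map_dvd _ v)
    have hpos : 0 < orderOf v := orderOf_pos v
    set v' := v ^ (orderOf v / s) with hv'
    have hv'1 : v' ≠ 1 := by
      apply pow_ne_one_of_lt_orderOf
      · exact (Nat.div_pos (Nat.le_of_dvd hpos hsd) hs.pos).ne'
      · exact Nat.div_lt_self hpos hs.one_lt
    have hv's : v' ^ s = 1 := by
      rw [hv', ← pow_mul, Nat.div_mul_cancel hsd, pow_orderOf_eq_one]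
    have hov' : orderOf v' = s := orderOf_eq_prime hv's hv'1
    have hPz' : IsPGroup s (Subgroup.zpowers v') :=
      IsPGroup.of_card (n := 1) (by rw [Nat.card_zpowers, hov', pow_one])
    have hidx : ¬ s ∣ (centralizer ({h₀} : Set H)).index := by
      intro hd
      exact P.not_dvd_index (hd.trans (Subgroup.index_dvd_of_le hPM))
    obtain ⟨g, hg⟩ := exists_conj_mem_of_not_dvd_index (Subgroup.zpowers v') hPz'
      (centralizer ({h₀} : Set H)) hidx
    have hw := hg v' (Subgroup.mem_zpowers v')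
    have hw1 : g⁻¹ * v' * g ≠ 1 := by
      intro h1
      apply hv'1
      have : v' = g * (g⁻¹ * v' * g) * g⁻¹ := by group
      rw [this, h1]; group
    have hkv' : k ∈ centralizer ({v'} : Set H) := by
      rw [mem_centralizer_singleton] at hv ⊢
      exact ((show Commute k v from hv).pow_right _).eq.symm
    apply hk g
    rw [← hcent _ hw hw1, conj_mem_cent_iff']
    exact hkv'
  -- (ix)
  have hKtop : (MonoidHom.transferSylow P hNC).ker ≠ ⊤ := by
    intro htop
    apply hu1
    exact (Subgroup.disjoint_def.mp hK.disjoint) (by rw [htop]; exact Subgroup.mem_top u) huP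
  rcases (hH k hk1).le_iff.mp hle with h1 | h1
  · exact hKtop h1
  · apply hnn k hk1
    rw [← h1]
    exact MonoidHom.normal_ker _

theorem card_center_mul_sq_le {P : Type*} [Group P] [Finite P] {r : ℕ} (hr : r.Prime)
    (hP : IsPGroup r P) (hna : ∃ a b : P, a * b ≠ b * a) :
    Nat.card (center P) * r ^ 2 ≤ Nat.card P := by
  haveI : Fact r.Prime := ⟨hr⟩
  obtain ⟨a, b, hab⟩ := hna
  have hQ : IsPGroup r (P ⧸ center P) := hP.to_quotient (center P)
  obtain ⟨k, hk⟩ := IsPGroup.iff_card.mp hQ
  have hidx : (center P).index = r ^ k := hk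
  have hk2 : 2 ≤ k := by
    by_contra hlt
    push_neg at hlt
    interval_cases k
    · rw [pow_zero, Subgroup.index_eq_one] at hidx
      apply hab
      have : b ∈ center P := by rw [hidx]; exact Subgroup.mem_top b
      exact ((Subgroup.mem_center_iff.mp this) a)
    · rw [pow_one] at hk
      haveI : IsCyclic (P ⧸ center P) := isCyclic_of_prime_card hk
      apply hab
      exact ((QuotientGroup.mk' (center P)).isMulCommutative_of_isCyclic_of_ker_le_center
        (by rw [QuotientGroup.ker_mk'])).is_comm.comm a b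
  calc Nat.card (center P) * r ^ 2 ≤ Nat.card (center P) * r ^ k :=
        Nat.mul_le_mul_left _ (Nat.pow_le_pow_right hr.pos hk2)
    _ = Nat.card P := by rw [← hidx]; exact Subgroup.card_mul_index _

theorem sum_inv_sq_le (N : ℕ) (hN : 2 ≤ N) :
    ∑ n ∈ Finset.Icc 3 N, (1 / (n : ℚ) ^ 2) ≤ 1 / 2 - 1 / (N : ℚ) := by
  induction N, hN using Nat.le_induction with
  | base => norm_num
  | succ N hN ih =>
    rw [Finset.sum_Icc_succ_top (by omega)]
    have hN0 : (0 : ℚ) < N := by exact_mod_cast (by omega : 0 < N)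
    have h1 : (1 : ℚ) / ((N + 1 : ℕ) : ℚ) ^ 2 ≤ 1 / N - 1 / ((N + 1 : ℕ) : ℚ) := by
      push_cast
      rw [div_sub_div _ _ hN0.ne' (by positivity), div_le_div_iff₀ (by positivity) (by positivity)]
      nlinarith
    linarith

section Case2b

variable [Finite H] (hH : CM H)
  (hna : ∀ h : H, h ≠ 1 → ∃ u ∈ centralizer ({h} : Set H), ∃ v ∈ centralizer ({h} : Set H),
    u * v ≠ v * u)

include hH hna

theorem c2b_exp {h : H} (hh : h ≠ 1) :
    ∃ r : ℕ, r.Prime ∧ 3 ≤ r ∧ orderOf h = r ∧ ∀ w ∈ centralizer ({h} : Set H), w ^ r = 1 := by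
  obtain ⟨u, hu, v, hv, huv⟩ := hna h hh
  obtain ⟨r, hr, hexp⟩ := exp_of_nonabelian hH hh hu hv huv
  have hpow : ∀ w ∈ centralizer ({h} : Set H), w ^ r = 1 := by
    intro w hw
    by_cases hw1 : w = 1
    · rw [hw1, one_pow]
    · rw [← hexp w hw hw1]; exact pow_orderOf_eq_one w
  have hhM : h ∈ centralizer ({h} : Set H) := by rw [mem_centralizer_singleton]
  refine ⟨r, hr, ?_, hexp h hhM hh, hpow⟩
  by_contra hlt
  have hr2 : r = 2 := by
    have := hr.two_le
    omega
  subst hr2
  have hu2 : u * u = 1 := by rw [← pow_two]; exact hpow u hu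
  have hv2 : v * v = 1 := by rw [← pow_two]; exact hpow v hv
  have huv2 : u * v * (u * v) = 1 := by
    rw [← pow_two]; exact hpow _ (Subgroup.mul_mem _ hu hv)
  apply huv
  have : v * u = u * (u * v * (u * v)) * v := by
    rw [show u * (u * v * (u * v)) * v = (u * u) * (v * u) * (v * v) by group, hu2, hv2,
      one_mul, mul_one]
  rw [huv2, mul_one] at this
  exact this.symm

theorem c2b_pgroup {h : H} (hh : h ≠ 1) {r : ℕ} (hr : orderOf h = r) :
    r.Prime ∧ IsPGroup r ↥(centralizer ({h} : Set H)) := by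
  obtain ⟨r', hr', _, hor, hpow⟩ := c2b_exp hH hna hh
  have : r' = r := by rw [← hor, hr]
  subst this
  refine ⟨hr', ?_⟩
  intro m
  refine ⟨1, ?_⟩
  rw [pow_one]
  exact Subtype.ext (by simpa using hpow m.1 m.2)

theorem c2b_not_dvd {h : H} (hh : h ≠ 1) {r : ℕ} (hr : orderOf h = r) :
    ¬ r ∣ (centralizer ({h} : Set H)).index := by
  obtain ⟨hrp, hP⟩ := c2b_pgroup hH hna hh hr
  haveI : Fact r.Prime := ⟨hrp⟩
  obtain ⟨Q, hQ⟩ := hP.exists_le_sylow
  rcases (hH h hh).le_iff.mp hQ with h1 | h1
  · exfalso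
    apply not_isPGroup hH hh hrp
    intro y
    have hy : y ∈ (Q : Subgroup H) := by rw [h1]; exact Subgroup.mem_top y
    obtain ⟨k, hk⟩ := Q.isPGroup' ⟨y, hy⟩
    exact ⟨k, by simpa using congrArg Subtype.val hk⟩
  · rw [← h1]
    exact Q.not_dvd_index

theorem c2b_conj {u₀ u : H} {r : ℕ} (hu₀ : orderOf u₀ = r) (hu : orderOf u = r) (hr3 : 3 ≤ r) :
    ∃ g : H, g⁻¹ * u * g ∈
      (Subgroup.center ↥(centralizer ({u₀} : Set H))).map (centralizer ({u₀} : Set H)).subtype := by
  have hu₀1 : u₀ ≠ 1 := by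
    intro h1; rw [h1, orderOf_one] at hu₀; omega
  have hu1 : u ≠ 1 := by
    intro h1; rw [h1, orderOf_one] at hu; omega
  obtain ⟨hrp, hP⟩ := c2b_pgroup hH hna hu1 hu
  haveI : Fact r.Prime := ⟨hrp⟩
  obtain ⟨g, hg⟩ := exists_conj_mem_of_not_dvd_index (centralizer ({u} : Set H)) hP
    (centralizer ({u₀} : Set H)) (c2b_not_dvd hH hna hu₀1 hu₀)
  refine ⟨g, ?_⟩
  have hu'1 : g⁻¹ * u * g ≠ 1 := by
    intro h1
    apply hu1
    have : u = g * (g⁻¹ * u * g) * g⁻¹ := by group
    rw [this, h1]; group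
  have hle : centralizer ({g⁻¹ * u * g} : Set H) ≤ centralizer ({u₀} : Set H) := by
    intro y' hy'
    have h1 : g * y' * g⁻¹ ∈ centralizer ({u} : Set H) := by
      rw [← conj_mem_cent_iff' g u (g * y' * g⁻¹)]
      have : g⁻¹ * (g * y' * g⁻¹) * g = y' := by group
      rw [this]; exact hy'
    have h2 := hg _ h1
    have : g⁻¹ * (g * y' * g⁻¹) * g = y' := by group
    rw [this] at h2
    exact h2
  have heq := cent_eq_of_le hH hu'1 hu₀1 hle
  have hmem : g⁻¹ * u * g ∈ centralizer ({u₀} : Set H) := by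
    rw [← heq, mem_centralizer_singleton]
  rw [Subgroup.mem_map]
  refine ⟨⟨g⁻¹ * u * g, hmem⟩, ?_, rfl⟩
  rw [Subgroup.mem_center_iff]
  intro m
  apply Subtype.ext
  have hm : (m : H) ∈ centralizer ({g⁻¹ * u * g} : Set H) := by rw [heq]; exact m.2
  rw [mem_centralizer_singleton] at hm
  exact hm.symm

theorem c2b_count (n : ℕ) (hn : 3 ≤ n) :
    ({u : H | orderOf u = n} : Set H).ncard * n ^ 2 ≤ Nat.card H := by
  by_cases hne : ∃ u₀ : H, orderOf u₀ = n
  · obtain ⟨u₀, hu₀⟩ := hne
    have hu₀1 : u₀ ≠ 1 := by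
      intro h1; rw [h1, orderOf_one] at hu₀; omega
    obtain ⟨hrp, hP⟩ := c2b_pgroup hH hna hu₀1 hu₀
    set P := centralizer ({u₀} : Set H) with hPdef
    set K := (Subgroup.center ↥P).map P.subtype with hKdef
    have hsub : ({u : H | orderOf u = n} : Set H) ⊆ {x : H | ∃ g : H, g⁻¹ * x * g ∈ K} := by
      intro u hu
      exact c2b_conj hH hna hu₀ hu hn
    have h1 := Set.ncard_le_ncard hsub (Set.toFinite _)
    have hcount := conj_union_count K P (fun l hl k hk => by
      obtain ⟨z, hz, rfl⟩ := Subgroup.mem_map.mp hk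
      have hc := (Subgroup.mem_center_iff.mp hz) ⟨l, hl⟩
      have hc' : l * (z : H) = (z : H) * l := congrArg Subtype.val hc
      have : l⁻¹ * (P.subtype z) * l = P.subtype z := by
        change l⁻¹ * (z : H) * l = (z : H)
        rw [mul_assoc, ← hc', ← mul_assoc, inv_mul_cancel, one_mul]
      rw [this]; exact hk)
    have hK : Nat.card K = Nat.card (Subgroup.center ↥P) :=
      Subgroup.card_map_of_injective (Subgroup.subtype_injective _)
    have h5 : Nat.card (Subgroup.center ↥P) * n ^ 2 ≤ Nat.card ↥P := by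
      apply card_center_mul_sq_le hrp hP
      obtain ⟨u, hu, v, hv, huv⟩ := hna u₀ hu₀1
      exact ⟨⟨u, hu⟩, ⟨v, hv⟩, fun h => huv (congrArg Subtype.val h)⟩
    rw [← hK] at h5
    have hPpos : 0 < Nat.card ↥P := Nat.card_pos
    have hPle : Nat.card ↥P ≤ Nat.card H := Subgroup.card_le_card_group P
    set U := ({x : H | ∃ g : H, g⁻¹ * x * g ∈ K} : Set H).ncard
    set c := ({u : H | orderOf u = n} : Set H).ncard
    have h2 : U * Nat.card ↥P ≤ Nat.card H * Nat.card K := by omega
    have h3 : (U * n ^ 2) * Nat.card ↥P ≤ Nat.card H * Nat.card ↥P := by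
      calc (U * n ^ 2) * Nat.card ↥P = (U * Nat.card ↥P) * n ^ 2 := by ring
        _ ≤ (Nat.card H * Nat.card K) * n ^ 2 := Nat.mul_le_mul_right _ h2
        _ = Nat.card H * (Nat.card K * n ^ 2) := by ring
        _ ≤ Nat.card H * Nat.card ↥P := Nat.mul_le_mul_left _ h5
    have h4 : U * n ^ 2 ≤ Nat.card H := Nat.le_of_mul_le_mul_right h3 hPpos
    exact (Nat.mul_le_mul_right _ h1).trans h4
  · have : ({u : H | orderOf u = n} : Set H) = ∅ := by
      ext u
      simp only [Set.mem_setOf_eq, Set.mem_empty_iff_false, iff_false]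
      exact fun h => hne ⟨u, h⟩
    rw [this, Set.ncard_empty, zero_mul]
    exact Nat.zero_le _

theorem case2b {h₀ : H} (hh₀ : h₀ ≠ 1) : False := by
  classical
  haveI := Fintype.ofFinite H
  set N := Nat.card H with hN
  have hNpos : 0 < N := Nat.card_pos
  have hmaps : ((Finset.univ.erase (1 : H) : Finset H) : Set H).MapsTo orderOf
      (Finset.Icc 3 N : Finset ℕ) := by
    intro x hx
    have hx1 : x ≠ 1 := by
      have := Finset.mem_coe.mp hx
      exact (Finset.mem_erase.mp this).1
    obtain ⟨r, _, hr3, hor, _⟩ := c2b_exp hH hna hx1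
    rw [Finset.coe_Icc, Set.mem_Icc]
    refine ⟨by rw [hor]; exact hr3, ?_⟩
    exact Nat.le_of_dvd hNpos (orderOf_dvd_natCard x)
  have hsum := Finset.card_eq_sum_card_fiberwise hmaps
  have hcard : (Finset.univ.erase (1 : H)).card = N - 1 := by
    rw [Finset.card_erase_of_mem (Finset.mem_univ _), Finset.card_univ, hN,
      Nat.card_eq_fintype_card]
  have hterm : ∀ b ∈ Finset.Icc 3 N,
      (((Finset.univ.erase (1 : H)).filter (fun a => orderOf a = b)).card : ℚ) ≤
        (N : ℚ) * (1 / (b : ℚ) ^ 2) := by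
    intro b hb
    have hb3 : 3 ≤ b := (Finset.mem_Icc.mp hb).1
    have h1 := c2b_count hH hna b hb3
    have h2 : ((Finset.univ.erase (1 : H)).filter (fun a => orderOf a = b)).card ≤
        ({u : H | orderOf u = b} : Set H).ncard := by
      rw [← Set.ncard_coe_finset]
      apply Set.ncard_le_ncard _ (Set.toFinite _)
      intro x hx
      have := Finset.mem_coe.mp hx
      exact (Finset.mem_filter.mp this).2
    have h3 : ((Finset.univ.erase (1 : H)).filter (fun a => orderOf a = b)).card * b ^ 2 ≤ N :=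
      (Nat.mul_le_mul_right _ h2).trans h1
    have hbpos : (0 : ℚ) < (b : ℚ) ^ 2 := by positivity
    rw [mul_one_div, le_div_iff₀ hbpos]
    exact_mod_cast h3
  have hQ : ((N - 1 : ℕ) : ℚ) ≤ (N : ℚ) * (1 / 2 - 1 / (N : ℚ)) := by
    rw [← hcard, hsum]
    push_cast
    calc ∑ b ∈ Finset.Icc 3 N,
          (((Finset.univ.erase (1 : H)).filter (fun a => orderOf a = b)).card : ℚ)
        ≤ ∑ b ∈ Finset.Icc 3 N, (N : ℚ) * (1 / (b : ℚ) ^ 2) := Finset.sum_le_sum hterm
      _ = (N : ℚ) * ∑ b ∈ Finset.Icc 3 N, (1 / (b : ℚ) ^ 2) := by rw [Finset.mul_sum]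
      _ ≤ (N : ℚ) * (1 / 2 - 1 / (N : ℚ)) := by
        apply mul_le_mul_of_nonneg_left _ (by positivity)
        apply sum_inv_sq_le
        haveI : Nontrivial H := ⟨⟨h₀, 1, hh₀⟩⟩
        exact Finite.one_lt_card
  have hNq : (0 : ℚ) < N := by exact_mod_cast hNpos
  rw [Nat.cast_sub hNpos, mul_sub, mul_one_div_cancel hNq.ne'] at hQ
  push_cast at hQ
  linarith

end Case2b

/-- in a finite `CM` group some nonidentity element has a normal centralizer -/
theorem exists_normal_cent [Finite H] (hH : CM H) {h₁ : H} (hh₁ : h₁ ≠ 1) :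
    ∃ h₀ : H, h₀ ≠ 1 ∧ (centralizer ({h₀} : Set H)).Normal := by
  by_contra hcon
  push_neg at hcon
  by_cases hab : ∃ h₀ : H, h₀ ≠ 1 ∧ ∀ a ∈ centralizer ({h₀} : Set H),
      ∀ b ∈ centralizer ({h₀} : Set H), a * b = b * a
  · obtain ⟨h₀, hh₀, hab⟩ := hab
    exact case2a hH hcon hh₀ hab
  · push_neg at hab
    exact case2b hH hab hh₁

/-! ### Reduction from `G` to `G ⧸ Z(G)` -/

section Reduction

variable {G : Type*} [Group G]

/-- the centralizer of every noncentral element is maximal -/
def NCM (G : Type*) [Group G] : Prop :=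
  ∀ x : G, x ∉ center G → IsCoatom (centralizer ({x} : Set G))

theorem pow_comm_of_central_comm {x g c : G} (hc : c ∈ center G) (h : g * x = x * g * c)
    (n : ℕ) : g ^ n * x = x * g ^ n * c ^ n ∧ g * x ^ n = x ^ n * g * c ^ n := by
  have hcc : ∀ y : G, y * c = c * y := fun y => (Subgroup.mem_center_iff.mp hc) y
  have hccn : ∀ (k : ℕ) (y : G), y * c ^ k = c ^ k * y := fun k y =>
    ((show Commute y c from hcc y).pow_right k).eq
  induction n with
  | zero => simp
  | succ n ih =>
    constructor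
    · calc g ^ (n + 1) * x = g ^ n * (g * x) := by rw [pow_succ, mul_assoc]
        _ = (g ^ n * x) * g * c := by rw [h]; group
        _ = x * g ^ n * c ^ n * g * c := by rw [ih.1]
        _ = x * g ^ n * (c ^ n * g) * c := by group
        _ = x * g ^ n * (g * c ^ n) * c := by rw [hccn n g]
        _ = x * g ^ (n + 1) * c ^ (n + 1) := by rw [pow_succ, pow_succ]; group
    · calc g * x ^ (n + 1) = (g * x ^ n) * x := by rw [pow_succ, mul_assoc]
        _ = x ^ n * g * c ^ n * x := by rw [ih.2]
        _ = x ^ n * g * (c ^ n * x) := by group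
        _ = x ^ n * g * (x * c ^ n) := by rw [hccn n x]
        _ = x ^ n * (g * x) * c ^ n := by group
        _ = x ^ n * (x * g * c) * c ^ n := by rw [h]
        _ = x ^ (n + 1) * g * c ^ (n + 1) := by rw [pow_succ, pow_succ']; group

theorem comm_mem_center_of_quot_comm (hab : ∀ a b : G ⧸ center G, a * b = b * a) (x g : G) :
    (x * g)⁻¹ * (g * x) ∈ center G := by
  rw [← QuotientGroup.eq]
  rw [QuotientGroup.mk_mul, QuotientGroup.mk_mul]
  exact hab _ _

/-- if `G / Z(G)` is abelian then every element has prime order modulo the center -/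
theorem alpha [Finite G] (hG : NCM G) (hab : ∀ a b : G ⧸ center G, a * b = b * a)
    {x : G} (hx : x ∉ center G) : ∃ p : ℕ, p.Prime ∧ x ^ p ∈ center G := by
  have hco := hG x hx
  haveI hn : (centralizer ({x} : Set G)).Normal := by
    constructor
    intro c hc g
    have h1 : g * c * g⁻¹ = c * ((g⁻¹ * c)⁻¹ * (c * g⁻¹)) := by group
    rw [h1]
    apply Subgroup.mul_mem _ hc
    exact Subgroup.center_le_centralizer _ (comm_mem_center_of_quot_comm hab g⁻¹ c)
  have hidx := index_prime_of_normal_coatom (centralizer ({x} : Set G)) hco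
  refine ⟨_, hidx, ?_⟩
  rw [Subgroup.mem_center_iff]
  intro g
  set p := (centralizer ({x} : Set G)).index
  set c := (x * g)⁻¹ * (g * x) with hc
  have hcZ : c ∈ center G := comm_mem_center_of_quot_comm hab x g
  have hgx : g * x = x * g * c := by rw [hc]; group
  have hpow := pow_comm_of_central_comm hcZ hgx p
  have hgp : g ^ p ∈ centralizer ({x} : Set G) := Subgroup.pow_index_mem _ g
  rw [mem_centralizer_singleton] at hgp
  have hcp : c ^ p = 1 := by
    have h1 := hpow.1
    rw [← hgp] at h1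
    have : x * g ^ p * 1 = x * g ^ p * c ^ p := by rw [mul_one]; exact h1
    exact (mul_left_cancel this).symm
  have h2 := hpow.2
  rw [hcp, mul_one] at h2
  exact h2

/-- the preimage of the centralizer of the image -/
theorem mem_comap_cent {x g : G} :
    g ∈ (centralizer ({(x : G ⧸ center G)} : Set (G ⧸ center G))).comap
      (QuotientGroup.mk' (center G)) ↔
    (x : G ⧸ center G) * (g : G ⧸ center G) = (g : G ⧸ center G) * (x : G ⧸ center G) := by
  rw [Subgroup.mem_comap, mem_centralizer_singleton]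
  rfl

theorem cent_le_comap_cent (x : G) :
    centralizer ({x} : Set G) ≤
      (centralizer ({(x : G ⧸ center G)} : Set (G ⧸ center G))).comap
        (QuotientGroup.mk' (center G)) := by
  intro g hg
  rw [mem_comap_cent]
  rw [mem_centralizer_singleton] at hg
  rw [← QuotientGroup.mk_mul, ← QuotientGroup.mk_mul, hg]

theorem not_mem_center_of_quot (hG : NCM G) (hnab : ∃ a b : G ⧸ center G, a * b ≠ b * a)
    {x₁ : G} (hx₁ : (x₁ : G ⧸ center G) ∈ center (G ⧸ center G)) : x₁ ∈ center G := by
  by_contra hx₁Z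
  have hx₁c : ∀ q : G ⧸ center G, q * (x₁ : G ⧸ center G) = (x₁ : G ⧸ center G) * q :=
    fun q => (Subgroup.mem_center_iff.mp hx₁) q
  -- Claim A
  have hA : ∀ x : G, (x : G ⧸ center G) ∉ center (G ⧸ center G) → x₁ * x = x * x₁ := by
    intro x hx
    have hxZ : x ∉ center G := by
      intro hxZ
      apply hx
      have : (x : G ⧸ center G) = 1 := (QuotientGroup.eq_one_iff x).mpr hxZ
      rw [this]; exact Subgroup.one_mem _
    have hstar : ∀ y : G, (y : G ⧸ center G) ∉ center (G ⧸ center G) → y ∉ center G →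
        (centralizer ({(y : G ⧸ center G)} : Set (G ⧸ center G))).comap
          (QuotientGroup.mk' (center G)) = centralizer ({y} : Set G) := by
      intro y hy hyZ
      rcases (hG y hyZ).le_iff.mp (cent_le_comap_cent y) with h1 | h1
      · exfalso
        apply hy
        rw [Subgroup.mem_center_iff]
        intro q
        obtain ⟨g, rfl⟩ := QuotientGroup.mk_surjective q
        have : g ∈ (centralizer ({(y : G ⧸ center G)} : Set (G ⧸ center G))).comap
            (QuotientGroup.mk' (center G)) := by rw [h1]; exact Subgroup.mem_top g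
        exact (mem_comap_cent.mp this).symm
      · exact h1
    have hxx₁ : ((x * x₁ : G) : G ⧸ center G) ∉ center (G ⧸ center G) := by
      intro hmem
      apply hx
      have : (x : G ⧸ center G) = ((x * x₁ : G) : G ⧸ center G) * (x₁ : G ⧸ center G)⁻¹ := by
        rw [QuotientGroup.mk_mul]; group
      rw [this]
      exact Subgroup.mul_mem _ hmem (Subgroup.inv_mem _ hx₁)
    have hxx₁Z : x * x₁ ∉ center G := by
      intro hZ
      apply hxx₁
      have : ((x * x₁ : G) : G ⧸ center G) = 1 := (QuotientGroup.eq_one_iff _).mpr hZ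
      rw [this]; exact Subgroup.one_mem _
    have h1 := hstar x hx hxZ
    have h2 := hstar (x * x₁) hxx₁ hxx₁Z
    have hxmem : x ∈ centralizer ({x * x₁} : Set G) := by
      rw [← h2, mem_comap_cent, QuotientGroup.mk_mul, mul_assoc, hx₁c, ← mul_assoc]
    rw [mem_centralizer_singleton] at hxmem
    have : x * (x₁ * x) = x * (x * x₁) := by rw [← mul_assoc, hxmem]
    exact mul_left_cancel this
  obtain ⟨a', b', hab'⟩ := hnab
  obtain ⟨a, rfl⟩ := QuotientGroup.mk_surjective a'
  have haZ : (a : G ⧸ center G) ∉ center (G ⧸ center G) := by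
    intro hmem
    exact hab' ((Subgroup.mem_center_iff.mp hmem) b').symm
  obtain ⟨b, hb⟩ : ∃ b : G, x₁ * b ≠ b * x₁ := by
    by_contra hcon
    push_neg at hcon
    apply hx₁Z
    rw [Subgroup.mem_center_iff]
    intro g
    exact (hcon g).symm
  have hbZ : (b : G ⧸ center G) ∈ center (G ⧸ center G) := by
    by_contra hbn
    exact hb (hA b hbn)
  have habZ : ((a * b : G) : G ⧸ center G) ∉ center (G ⧸ center G) := by
    intro hmem
    apply haZ
    have : (a : G ⧸ center G) = ((a * b : G) : G ⧸ center G) * (b : G ⧸ center G)⁻¹ := by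
      rw [QuotientGroup.mk_mul]; group
    rw [this]
    exact Subgroup.mul_mem _ hmem (Subgroup.inv_mem _ hbZ)
  have h1 := hA a haZ
  have h2 := hA (a * b) habZ
  apply hb
  have h3 : a * (x₁ * b) = a * (b * x₁) := by
    calc a * (x₁ * b) = (a * x₁) * b := (mul_assoc _ _ _).symm
      _ = (x₁ * a) * b := by rw [h1]
      _ = x₁ * (a * b) := mul_assoc _ _ _
      _ = a * b * x₁ := h2
      _ = a * (b * x₁) := mul_assoc _ _ _
  exact mul_left_cancel h3

theorem cm_quotient (hG : NCM G) (hnab : ∃ a b : G ⧸ center G, a * b ≠ b * a) :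
    CM (G ⧸ center G) := by
  intro q hq
  obtain ⟨x, rfl⟩ := QuotientGroup.mk_surjective q
  have hxQ : (x : G ⧸ center G) ∉ center (G ⧸ center G) := by
    intro hmem
    apply hq
    exact (QuotientGroup.eq_one_iff x).mpr (not_mem_center_of_quot hG hnab hmem)
  have hxZ : x ∉ center G := by
    intro hxZ
    exact hq ((QuotientGroup.eq_one_iff x).mpr hxZ)
  have hsurj : Function.Surjective (QuotientGroup.mk' (center G)) :=
    QuotientGroup.mk'_surjective _
  have hstar : (centralizer ({(x : G ⧸ center G)} : Set (G ⧸ center G))).comap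
      (QuotientGroup.mk' (center G)) = centralizer ({x} : Set G) := by
    rcases (hG x hxZ).le_iff.mp (cent_le_comap_cent x) with h1 | h1
    · exfalso
      apply hxQ
      rw [Subgroup.mem_center_iff]
      intro q
      obtain ⟨g, rfl⟩ := QuotientGroup.mk_surjective q
      have : g ∈ (centralizer ({(x : G ⧸ center G)} : Set (G ⧸ center G))).comap
          (QuotientGroup.mk' (center G)) := by rw [h1]; exact Subgroup.mem_top g
      exact (mem_comap_cent.mp this).symm
    · exact h1
  constructor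
  · intro htop
    apply (hG x hxZ).1
    rw [← hstar, htop, Subgroup.comap_top]
  · intro K hK
    have hle : centralizer ({x} : Set G) ≤ K.comap (QuotientGroup.mk' (center G)) := by
      rw [← hstar]; exact Subgroup.comap_mono hK.le
    rcases (hG x hxZ).le_iff.mp hle with h1 | h1
    · apply Subgroup.comap_injective hsurj
      rw [h1, Subgroup.comap_top]
    · exfalso
      have : K = centralizer ({(x : G ⧸ center G)} : Set (G ⧸ center G)) := by
        apply Subgroup.comap_injective hsurj
        rw [h1, hstar]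
      exact hK.ne this.symm

end Reduction
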