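import Mathlib
import Cfsg.Agent.Lib.Helper4.McLDefs

/-!
# S5075 piece FORM (helper21): the alternating form

Abstractly: a map `f : V → V*` (generators of the lines `Φ_x`) with `f x x = 0`, `f x ≠ 0` for
`x ≠ 0`, symmetric orthogonality `f u w = 0 → f w u = 0` and `f (c x) ∈ span {f x}` is induced,
up to nonzero scalars, by an alternating bilinear form.  The proof splits off hyperbolic planes
and propagates the property `B x ∈ span {f x}` by the rule: if it holds for `x`, `y` and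
`B x y ≠ 0`, then it holds for `x + y`.  (No group is needed.)
-/

set_option autoImplicit false

namespace Cfsg.Agent.Helper4.McL

open Module

section FORMabs

variable {k : Type*} [Field k] {V : Type*} [AddCommGroup V] [Module k V]

/-- abstract symplectic polarity data, in generator form -/
structure FormData (f : V → Dual k V) : Prop where
  zero : f 0 = 0
  ne : ∀ x, x ≠ 0 → f x ≠ 0
  self : ∀ x, f x x = 0
  symm : ∀ u w, f u w = 0 → f w u = 0
  smul : ∀ (c : k) (x : V), c ≠ 0 → ∃ d : k, d ≠ 0 ∧ f (c • x) = d • f x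

theorem form_span_pair {φ ψ θ : Dual k V}
    (h : ∀ z : V, φ z = 0 → ψ z = 0 → θ z = 0) : ∃ a b : k, θ = a • φ + b • ψ := by
  have h' : ⨅ i : Fin 2, LinearMap.ker ((![φ, ψ] : Fin 2 → (V →ₗ[k] k)) i) ≤ LinearMap.ker θ := by
    intro z hz
    rw [Submodule.mem_iInf] at hz
    have h0 := hz 0
    have h1 := hz 1
    rw [LinearMap.mem_ker] at h0 h1 ⊢
    exact h z h0 h1
  obtain ⟨c, hc⟩ := (Submodule.mem_span_range_iff_exists_fun k).1 (mem_span_of_iInf_ker_le_ker h')
  rw [Fin.sum_univ_two] at hc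
  exact ⟨c 0, c 1, hc.symm⟩

/-- `B x` generates the same line as `f x` -/
def FGood (f : V → Dual k V) (B : LinearMap.BilinForm k V) (x : V) : Prop :=
  ∃ c : k, c ≠ 0 ∧ B x = c • f x

/-- the orthogonal of a subspace -/
def fperp (f : V → Dual k V) (M : Submodule k V) : Submodule k V where
  carrier := {y | ∀ x ∈ M, f x y = 0}
  add_mem' := by
    intro a b ha hb x hx
    rw [map_add, ha x hx, hb x hx, add_zero]
  zero_mem' := by
    intro x _
    exact map_zero _
  smul_mem' := by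
    intro c y hy x hx
    rw [map_smul, hy x hx, smul_zero]

theorem mem_fperp {f : V → Dual k V} {M : Submodule k V} {y : V} :
    y ∈ fperp f M ↔ ∀ x ∈ M, f x y = 0 := Iff.rfl

/-- the form `φ x ψ y - ψ x φ y` -/
noncomputable def fomega (φ ψ : Dual k V) : LinearMap.BilinForm k V :=
  LinearMap.BilinForm.linMulLin φ ψ - LinearMap.BilinForm.linMulLin ψ φ

theorem fomega_apply (φ ψ : Dual k V) (x y : V) :
    fomega φ ψ x y = φ x * ψ y - ψ x * φ y := by
  rw [fomega, LinearMap.sub_apply, LinearMap.sub_apply, LinearMap.BilinForm.linMulLin_apply,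
    LinearMap.BilinForm.linMulLin_apply]

theorem fomega_fun (φ ψ : Dual k V) (x : V) : fomega φ ψ x = φ x • ψ - ψ x • φ := by
  apply LinearMap.ext
  intro y
  rw [fomega_apply, LinearMap.sub_apply, LinearMap.smul_apply, LinearMap.smul_apply, smul_eq_mul,
    smul_eq_mul]

theorem fomega_isAlt (φ ψ : Dual k V) : (fomega φ ψ).IsAlt := by
  intro x
  rw [fomega_apply, mul_comm, sub_self]

namespace FormData

variable {f : V → Dual k V}

theorem f3 (hf : FormData f) (x y : V) : ∃ a b : k, f (x + y) = a • f x + b • f y := by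
  apply form_span_pair
  intro z hx hy
  apply hf.symm
  rw [map_add, hf.symm _ _ hx, hf.symm _ _ hy, add_zero]

theorem good_zero (hf : FormData f) (B : LinearMap.BilinForm k V) : FGood f B 0 :=
  ⟨1, one_ne_zero, by rw [map_zero, hf.zero, smul_zero]⟩

theorem good_smul (hf : FormData f) {B : LinearMap.BilinForm k V} {x : V} (hx : FGood f B x)
    {c : k} (hc : c ≠ 0) : FGood f B (c • x) := by
  obtain ⟨a, ha, hxa⟩ := hx
  obtain ⟨d, hd, hfd⟩ := hf.smul c x hc
  refine ⟨c * a * d⁻¹, mul_ne_zero (mul_ne_zero hc ha) (inv_ne_zero hd), ?_⟩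
  rw [map_smul, hxa, hfd, smul_smul, smul_smul]
  congr 1
  field_simp

theorem good_add (hf : FormData f) {B : LinearMap.BilinForm k V} (hB : B.IsAlt) {x y : V}
    (hx : FGood f B x) (hy : FGood f B y) (hxy : B x y ≠ 0) : FGood f B (x + y) := by
  obtain ⟨a, ha, hxa⟩ := hx
  obtain ⟨b, hb, hyb⟩ := hy
  obtain ⟨l, m, hlm⟩ := hf.f3 x y
  have hne : x + y ≠ 0 := by
    intro h
    have hy' : y = -x := (neg_eq_of_add_eq_zero_right h).symm
    apply hxy
    rw [hy', map_neg, hB x, neg_zero]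
  have hyx : B y x = - B x y := (LinearMap.BilinForm.IsAlt.neg_eq hB x y).symm
  have hfx : f x = a⁻¹ • B x := by rw [hxa, smul_smul, inv_mul_cancel₀ ha, one_smul]
  have hfy : f y = b⁻¹ • B y := by rw [hyb, smul_smul, inv_mul_cancel₀ hb, one_smul]
  have h0 := hf.self (x + y)
  rw [hlm, hfx, hfy] at h0
  simp only [LinearMap.add_apply, LinearMap.smul_apply, map_add, smul_eq_mul, hB x, hB y, hyx]
    at h0
  have h1 : l * a⁻¹ = m * b⁻¹ := by
    have h2 : (l * a⁻¹ - m * b⁻¹) * B x y = 0 := by linear_combination h0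
    rcases mul_eq_zero.1 h2 with h | h
    · exact sub_eq_zero.1 h
    · exact absurd h hxy
  have h2 : f (x + y) = (l * a⁻¹) • B (x + y) := by
    rw [hlm, hfx, hfy, map_add, smul_add, smul_smul, smul_smul, h1]
  have h3 : l * a⁻¹ ≠ 0 := by
    intro h
    rw [h, zero_smul] at h2
    exact hf.ne _ hne h2
  exact ⟨(l * a⁻¹)⁻¹, inv_ne_zero h3, by rw [h2, smul_smul, inv_mul_cancel₀ h3, one_smul]⟩

theorem exists_form_aux [FiniteDimensional k V] (hf : FormData f) :
    ∀ n : ℕ, ∀ M : Submodule k V, finrank k M = n → M ⊓ fperp f M = ⊥ →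
      ∃ B : LinearMap.BilinForm k V, B.IsAlt ∧ (∀ x ∈ M, FGood f B x) ∧
        ∀ y ∈ fperp f M, B y = 0 := by
  intro n
  induction n using Nat.strong_induction_on with
  | _ n ih =>
  intro M hn hM
  by_cases hbot : M = ⊥
  · refine ⟨0, fun x => rfl, ?_, fun y _ => rfl⟩
    intro x hx
    rw [hbot, Submodule.mem_bot] at hx
    rw [hx]
    exact hf.good_zero 0
  obtain ⟨u, huM, hu0⟩ := (Submodule.ne_bot_iff M).1 hbot
  have hu_perp : u ∉ fperp f M := by
    intro h
    have h2 : u ∈ M ⊓ fperp f M := Submodule.mem_inf.2 ⟨huM, h⟩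
    rw [hM] at h2
    exact hu0 ((Submodule.mem_bot k).1 h2)
  obtain ⟨v, hvM, hvu⟩ : ∃ v ∈ M, f v u ≠ 0 := by
    by_contra hcon
    push Not at hcon
    exact hu_perp (mem_fperp.2 hcon)
  have huv : f u v ≠ 0 := fun h => hvu (hf.symm u v h)
  obtain ⟨φ, hφ⟩ : ∃ φ : Dual k V, φ = f u := ⟨_, rfl⟩
  obtain ⟨ψ, hψ⟩ : ∃ ψ : Dual k V, ψ = f v := ⟨_, rfl⟩
  have hφu : φ u = 0 := by rw [hφ]; exact hf.self u
  have hψv : ψ v = 0 := by rw [hψ]; exact hf.self v
  have hα : φ v ≠ 0 := by rw [hφ]; exact huv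
  have hβ : ψ u ≠ 0 := by rw [hψ]; exact hvu
  obtain ⟨M1, hM1def⟩ : ∃ M1 : Submodule k V,
      M1 = M ⊓ LinearMap.ker φ ⊓ LinearMap.ker ψ := ⟨_, rfl⟩
  have hmemM1 : ∀ x, x ∈ M1 ↔ x ∈ M ∧ φ x = 0 ∧ ψ x = 0 := by
    intro x
    rw [hM1def, Submodule.mem_inf, Submodule.mem_inf, LinearMap.mem_ker, LinearMap.mem_ker,
      and_assoc]
  have hM1le : M1 ≤ M := fun x hx => ((hmemM1 x).1 hx).1
  have hM1lt : M1 < M := by
    refine lt_of_le_of_ne hM1le ?_
    intro h
    have h2 : u ∈ M1 := by rw [h]; exact huM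
    exact hβ ((hmemM1 u).1 h2).2.2
  have hrank : finrank k M1 < n := by
    rw [← hn]
    exact Submodule.finrank_lt_finrank_of_lt hM1lt
  have hdec : ∀ x ∈ M, ∃ a b : k, ∃ m ∈ M1, x = a • u + b • v + m := by
    intro x hx
    refine ⟨ψ x / ψ u, φ x / φ v, x - (ψ x / ψ u) • u - (φ x / φ v) • v, ?_, by abel⟩
    rw [hmemM1]
    refine ⟨M.sub_mem (M.sub_mem hx (M.smul_mem _ huM)) (M.smul_mem _ hvM), ?_, ?_⟩
    · rw [map_sub, map_sub, map_smul, map_smul, hφu, smul_zero, sub_zero, smul_eq_mul,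
        div_mul_cancel₀ _ hα, sub_self]
    · rw [map_sub, map_sub, map_smul, map_smul, hψv, smul_zero, sub_zero, smul_eq_mul,
        div_mul_cancel₀ _ hβ, sub_self]
  have hM1nd : M1 ⊓ fperp f M1 = ⊥ := by
    rw [eq_bot_iff]
    intro y hy
    obtain ⟨hy1, hy2⟩ := Submodule.mem_inf.1 hy
    have hy1' := (hmemM1 y).1 hy1
    have hyperp : y ∈ fperp f M := by
      refine mem_fperp.2 (fun x hx => ?_)
      obtain ⟨a, b, m, hm, rfl⟩ := hdec x hx
      apply hf.symm
      have e1 : f y u = 0 := hf.symm u y (by rw [← hφ]; exact hy1'.2.1)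
      have e2 : f y v = 0 := hf.symm v y (by rw [← hψ]; exact hy1'.2.2)
      have e3 : f y m = 0 := hf.symm m y (mem_fperp.1 hy2 m hm)
      rw [map_add, map_add, map_smul, map_smul, e1, e2, e3, smul_zero, smul_zero, add_zero,
        add_zero]
    have h2 : y ∈ M ⊓ fperp f M := Submodule.mem_inf.2 ⟨hy1'.1, hyperp⟩
    rw [hM] at h2
    exact h2
  obtain ⟨B1, hB1alt, hB1good, hB1perp⟩ := ih _ hrank M1 rfl hM1nd
  have huperp : u ∈ fperp f M1 := by
    refine mem_fperp.2 (fun m hm => ?_)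
    apply hf.symm
    rw [← hφ]
    exact ((hmemM1 m).1 hm).2.1
  have hvperp : v ∈ fperp f M1 := by
    refine mem_fperp.2 (fun m hm => ?_)
    apply hf.symm
    rw [← hψ]
    exact ((hmemM1 m).1 hm).2.2
  have hB1u : B1 u = 0 := hB1perp u huperp
  have hB1v : B1 v = 0 := hB1perp v hvperp
  have hB1skew : ∀ x y, B1 y x = - B1 x y := fun x y =>
    (LinearMap.BilinForm.IsAlt.neg_eq hB1alt x y).symm
  have hB1xu : ∀ x, B1 x u = 0 := fun x => by
    rw [hB1skew u x, hB1u, LinearMap.zero_apply, neg_zero]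
  have hB1xv : ∀ x, B1 x v = 0 := fun x => by
    rw [hB1skew v x, hB1v, LinearMap.zero_apply, neg_zero]
  have hex : ∀ m ∈ M1, m ≠ 0 → ∃ m' ∈ M1, B1 m m' ≠ 0 := by
    intro m hm hm0
    have hmp : m ∉ fperp f M1 := by
      intro h
      have h2 : m ∈ M1 ⊓ fperp f M1 := Submodule.mem_inf.2 ⟨hm, h⟩
      rw [hM1nd] at h2
      exact hm0 ((Submodule.mem_bot k).1 h2)
    obtain ⟨m', hm', hm'm⟩ : ∃ m' ∈ M1, f m' m ≠ 0 := by
      by_contra hcon
      push Not at hcon
      exact hmp (mem_fperp.2 hcon)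
    refine ⟨m', hm', ?_⟩
    obtain ⟨c', hc', hB1m'⟩ := hB1good m' hm'
    rw [hB1skew m' m, hB1m', LinearMap.smul_apply, smul_eq_mul]
    exact neg_ne_zero.2 (mul_ne_zero hc' hm'm)
  obtain ⟨ω, hωdef⟩ : ∃ ω : LinearMap.BilinForm k V, ω = fomega φ ψ := ⟨_, rfl⟩
  have hωapp : ∀ x y, ω x y = φ x * ψ y - ψ x * φ y := fun x y => by rw [hωdef, fomega_apply]
  have hωfun : ∀ x, ω x = φ x • ψ - ψ x • φ := fun x => by rw [hωdef, fomega_fun]
  have hωalt : ω.IsAlt := by rw [hωdef]; exact fomega_isAlt φ ψ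
  have hωM1 : ∀ m ∈ M1, ω m = 0 := by
    intro m hm
    rw [hωfun, ((hmemM1 m).1 hm).2.1, ((hmemM1 m).1 hm).2.2, zero_smul, zero_smul, sub_zero]
  have hωxM1 : ∀ x, ∀ m ∈ M1, ω x m = 0 := by
    intro x m hm
    rw [hωapp, ((hmemM1 m).1 hm).2.1, ((hmemM1 m).1 hm).2.2, mul_zero, mul_zero, sub_zero]
  obtain ⟨c, hc0, hseed⟩ : ∃ c : k, c ≠ 0 ∧
      (M1 ≠ ⊥ → ∃ m₀ ∈ M1, m₀ ≠ 0 ∧ FGood f (c • ω + B1) (u + m₀)) := by
    by_cases hM1bot : M1 = ⊥
    · exact ⟨1, one_ne_zero, fun h => absurd hM1bot h⟩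
    · obtain ⟨m₀, hm₀, hm₀0⟩ := (Submodule.ne_bot_iff M1).1 hM1bot
      obtain ⟨c₁, hc₁, hB1m₀⟩ := hB1good m₀ hm₀
      obtain ⟨l, μ, hlμ⟩ := hf.f3 u m₀
      rw [← hφ] at hlμ
      have hm₀' := (hmemM1 m₀).1 hm₀
      have hl : l ≠ 0 := by
        intro h
        rw [h, zero_smul, zero_add] at hlμ
        have e1 : f m₀ v = 0 := hf.symm v m₀ (by rw [← hψ]; exact hm₀'.2.2)
        have e2 : f (u + m₀) v = 0 := by rw [hlμ, LinearMap.smul_apply, e1, smul_zero]
        have e3 := hf.symm _ _ e2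
        rw [← hψ, map_add, hm₀'.2.2, add_zero] at e3
        exact hβ e3
      have hμ : μ ≠ 0 := by
        intro h
        rw [h, zero_smul, add_zero] at hlμ
        obtain ⟨m', hm', hm'₀⟩ := hex m₀ hm₀ hm₀0
        have e2 : f (u + m₀) m' = 0 := by
          rw [hlμ, LinearMap.smul_apply, ((hmemM1 m').1 hm').2.1, smul_zero]
        have e3 := hf.symm _ _ e2
        obtain ⟨c', hc', hB1m'⟩ := hB1good m' hm'
        have e4 : B1 m' (u + m₀) = 0 := by
          rw [hB1m', LinearMap.smul_apply, e3, smul_zero]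
        rw [map_add, hB1xu, zero_add, hB1skew m₀ m'] at e4
        exact hm'₀ (neg_eq_zero.1 e4)
      refine ⟨-(c₁ * l) / (μ * ψ u), ?_, fun _ => ⟨m₀, hm₀, hm₀0, c₁ / μ, ?_, ?_⟩⟩
      · exact div_ne_zero (neg_ne_zero.2 (mul_ne_zero hc₁ hl)) (mul_ne_zero hμ hβ)
      · exact div_ne_zero hc₁ hμ
      · rw [LinearMap.add_apply, LinearMap.smul_apply, map_add, map_add, hωM1 m₀ hm₀, add_zero,
          hB1u, zero_add, hωfun, hφu, zero_smul, zero_sub, hB1m₀, hlμ]
        apply LinearMap.ext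
        intro y
        simp only [LinearMap.add_apply, LinearMap.smul_apply, LinearMap.neg_apply, smul_eq_mul]
        field_simp
  obtain ⟨B, hBdef⟩ : ∃ B : LinearMap.BilinForm k V, B = c • ω + B1 := ⟨_, rfl⟩
  rw [← hBdef] at hseed
  have hBfun : ∀ x, B x = c • ω x + B1 x := fun x => by
    rw [hBdef, LinearMap.add_apply, LinearMap.smul_apply]
  have hBapp : ∀ x y, B x y = c * ω x y + B1 x y := fun x y => by
    rw [hBfun, LinearMap.add_apply, LinearMap.smul_apply, smul_eq_mul]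
  have hBalt : B.IsAlt := by
    intro x
    rw [hBapp, hωalt x, hB1alt x, mul_zero, add_zero]
  have hBskew : ∀ x y, B y x = - B x y := fun x y =>
    (LinearMap.BilinForm.IsAlt.neg_eq hBalt x y).symm
  refine ⟨B, hBalt, ?_, ?_⟩
  swap
  · intro y hy
    have hy' := mem_fperp.1 hy
    have e1 : φ y = 0 := by rw [hφ]; exact hy' u huM
    have e2 : ψ y = 0 := by rw [hψ]; exact hy' v hvM
    have e3 : B1 y = 0 := hB1perp y (mem_fperp.2 (fun m hm => hy' m (hM1le hm)))
    rw [hBfun, hωfun, e1, e2, e3, zero_smul, zero_smul, sub_zero, smul_zero, add_zero]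
  obtain ⟨γ, hγdef⟩ : ∃ γ : k, γ = B u v := ⟨_, rfl⟩
  have hγ : γ ≠ 0 := by
    rw [hγdef, hBapp, hωapp, hφu, hψv, hB1u, LinearMap.zero_apply, zero_mul, zero_sub, add_zero]
    exact mul_ne_zero hc0 (neg_ne_zero.2 (mul_ne_zero hβ hα))
  have hBgu : FGood f B u := by
    refine ⟨-(c * ψ u), neg_ne_zero.2 (mul_ne_zero hc0 hβ), ?_⟩
    rw [hBfun, hωfun, hφu, hB1u, zero_smul, zero_sub, add_zero, hφ]
    apply LinearMap.ext
    intro y
    simp only [LinearMap.smul_apply, LinearMap.neg_apply, smul_eq_mul]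
    ring
  have hBgv : FGood f B v := by
    refine ⟨c * φ v, mul_ne_zero hc0 hα, ?_⟩
    rw [hBfun, hωfun, hψv, hB1v, zero_smul, sub_zero, add_zero, smul_smul, hψ]
  have hBum : ∀ m ∈ M1, B u m = 0 := fun m hm => by
    rw [hBapp, hωxM1 u m hm, hB1u, LinearMap.zero_apply, mul_zero, add_zero]
  have hBvm : ∀ m ∈ M1, B v m = 0 := fun m hm => by
    rw [hBapp, hωxM1 v m hm, hB1v, LinearMap.zero_apply, mul_zero, add_zero]
  have hBmu : ∀ m ∈ M1, B m u = 0 := fun m hm => by rw [hBskew u m, hBum m hm, neg_zero]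
  have hBmv : ∀ m ∈ M1, B m v = 0 := fun m hm => by rw [hBskew v m, hBvm m hm, neg_zero]
  have hBmm : ∀ m ∈ M1, ∀ x, B m x = B1 m x := fun m hm x => by
    rw [hBapp, hωM1 m hm, LinearMap.zero_apply, mul_zero, zero_add]
  have hBeval : ∀ (a b a' b' : k) (m m' : V), m ∈ M1 → m' ∈ M1 →
      B (a • u + b • v + m) (a' • u + b' • v + m') = (a * b' - b * a') * γ + B1 m m' := by
    intro a b a' b' m m' hm hm'
    simp only [map_add, map_smul, LinearMap.add_apply, LinearMap.smul_apply, smul_eq_mul,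
      hBalt u, hBalt v, hBskew u v, hBum m' hm', hBvm m' hm', hBmu m hm, hBmv m hm,
      hBmm m hm m', ← hγdef]
    ring
  have hadd : ∀ {a b a' b' : k} {m m' : V}, m ∈ M1 → m' ∈ M1 →
      FGood f B (a • u + b • v + m) → FGood f B (a' • u + b' • v + m') →
      (a * b' - b * a') * γ + B1 m m' ≠ 0 →
      ∀ {a'' b'' : k} {m'' : V}, a'' = a + a' → b'' = b + b' → m'' = m + m' →
        FGood f B (a'' • u + b'' • v + m'') := by
    intro a b a' b' m m' hm hm' h1 h2 h3 a'' b'' m'' ha hb hmm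
    have h4 := hf.good_add hBalt h1 h2 (by rw [hBeval a b a' b' m m' hm hm']; exact h3)
    have e : a'' • u + b'' • v + m'' = (a • u + b • v + m) + (a' • u + b' • v + m') := by
      rw [ha, hb, hmm]
      module
    rw [e]
    exact h4
  have hGE : ∀ a b : k, FGood f B (a • u + b • v + 0) := by
    intro a b
    by_cases ha : a = 0
    · by_cases hb : b = 0
      · have e : a • u + b • v + 0 = 0 := by rw [ha, hb]; module
        rw [e]
        exact hf.good_zero B
      · have e : a • u + b • v + 0 = b • v := by rw [ha]; module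
        rw [e]
        exact hf.good_smul hBgv hb
    · by_cases hb : b = 0
      · have e : a • u + b • v + 0 = a • u := by rw [hb]; module
        rw [e]
        exact hf.good_smul hBgu ha
      · have e : a • u + b • v + 0 = a • u + b • v := by module
        rw [e]
        apply hf.good_add hBalt (hf.good_smul hBgu ha) (hf.good_smul hBgv hb)
        have e2 : B (a • u) (b • v) = a * b * γ := by
          simp only [map_smul, LinearMap.smul_apply, smul_eq_mul, ← hγdef]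
          ring
        rw [e2]
        exact mul_ne_zero (mul_ne_zero ha hb) hγ
  have hGM : ∀ m ∈ M1, FGood f B ((0 : k) • u + (0 : k) • v + m) := by
    intro m hm
    have e : (0 : k) • u + (0 : k) • v + m = m := by module
    rw [e]
    obtain ⟨c', hc', h⟩ := hB1good m hm
    exact ⟨c', hc', by rw [hBfun, hωM1 m hm, smul_zero, zero_add, h]⟩
  intro x hx
  obtain ⟨a, b, m, hm, rfl⟩ := hdec x hx
  by_cases hm0 : m = 0
  · rw [hm0]
    exact hGE a b
  by_cases hab : a = 0 ∧ b = 0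
  · rw [hab.1, hab.2]
    exact hGM m hm
  have hM1bot : M1 ≠ ⊥ := fun h => hm0 ((Submodule.mem_bot k).1 (h ▸ hm))
  obtain ⟨m₀, hm₀, hm₀0, hs⟩ := hseed hM1bot
  have hs' : FGood f B ((1 : k) • u + (0 : k) • v + m₀) := by
    have e : (1 : k) • u + (0 : k) • v + m₀ = u + m₀ := by module
    rw [e]
    exact hs
  have hzero : (0 : V) ∈ M1 := M1.zero_mem
  have S1 : ∀ b' : k, b' ≠ 0 → FGood f B ((1 : k) • u + b' • v + m₀) := by
    intro b' hb'
    refine hadd hm₀ hzero hs' (hGE 0 b') ?_ (by ring) (by ring) (by rw [add_zero])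
    rw [map_zero]
    have e : ((1 : k) * b' - 0 * 0) * γ + 0 = b' * γ := by ring
    rw [e]
    exact mul_ne_zero hb' hγ
  have S2 : ∀ a' b' : k, b' ≠ 0 → FGood f B (a' • u + b' • v + m₀) := by
    intro a' b' hb'
    by_cases ha' : a' = 1
    · rw [ha']
      exact S1 b' hb'
    · refine hadd hm₀ hzero (S1 b' hb') (hGE (a' - 1) 0) ?_ (by ring) (by ring)
        (by rw [add_zero])
      rw [map_zero]
      have e : ((1 : k) * 0 - b' * (a' - 1)) * γ + 0 = -(b' * (a' - 1) * γ) := by ring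
      rw [e]
      exact neg_ne_zero.2 (mul_ne_zero (mul_ne_zero hb' (sub_ne_zero.2 ha')) hγ)
  have S3 : ∀ a' : k, a' ≠ 0 → FGood f B (a' • u + (0 : k) • v + m₀) := by
    intro a' ha'
    refine hadd hm₀ hzero (S2 a' 1 one_ne_zero) (hGE 0 (-1)) ?_ (by ring) (by ring)
      (by rw [add_zero])
    rw [map_zero]
    have e : (a' * (-1) - 1 * 0) * γ + 0 = -(a' * γ) := by ring
    rw [e]
    exact neg_ne_zero.2 (mul_ne_zero ha' hγ)
  have C1 : FGood f B (a • u + b • v + m₀) := by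
    by_cases hb : b = 0
    · have ha : a ≠ 0 := fun h => hab ⟨h, hb⟩
      rw [hb]
      exact S3 a ha
    · exact S2 a b hb
  have A' : ∀ m1 m2 : V, m1 ∈ M1 → m2 ∈ M1 → FGood f B (a • u + b • v + m1) →
      B1 m1 m2 ≠ 0 → FGood f B (a • u + b • v + m2) := by
    intro m1 m2 h1 h2 hg hne
    refine hadd h1 (M1.sub_mem h2 h1) hg (hGM (m2 - m1) (M1.sub_mem h2 h1)) ?_ (by ring)
      (by ring) (by abel)
    have e : (a * 0 - b * 0) * γ + B1 m1 (m2 - m1) = B1 m1 m2 := by
      rw [map_sub, hB1alt m1]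
      ring
    rw [e]
    exact hne
  obtain ⟨p₁, hp₁, hp₁'⟩ := hex m₀ hm₀ hm₀0
  obtain ⟨p₂, hp₂, hp₂'⟩ := hex m hm hm0
  obtain ⟨m'', hm'', h1, h2⟩ : ∃ m'' ∈ M1, B1 m₀ m'' ≠ 0 ∧ B1 m'' m ≠ 0 := by
    by_cases c1 : B1 m p₁ ≠ 0
    · exact ⟨p₁, hp₁, hp₁', by rw [hB1skew m p₁]; exact neg_ne_zero.2 c1⟩
    by_cases c2 : B1 m₀ p₂ ≠ 0
    · exact ⟨p₂, hp₂, c2, by rw [hB1skew m p₂]; exact neg_ne_zero.2 hp₂'⟩
    push Not at c1 c2
    refine ⟨p₁ + p₂, M1.add_mem hp₁ hp₂, ?_, ?_⟩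
    · rw [map_add, c2, add_zero]
      exact hp₁'
    · rw [hB1skew m (p₁ + p₂), map_add, c1, zero_add]
      exact neg_ne_zero.2 hp₂'
  exact A' m'' m hm'' hm (A' m₀ m'' hm₀ hm'' C1 h1) h2

theorem exists_form_abs [FiniteDimensional k V] (hf : FormData f) :
    ∃ B : LinearMap.BilinForm k V, B.IsAlt ∧ ∀ x, FGood f B x := by
  have htop : (⊤ : Submodule k V) ⊓ fperp f ⊤ = ⊥ := by
    rw [eq_bot_iff]
    intro y hy
    have hy2 := mem_fperp.1 (Submodule.mem_inf.1 hy).2
    rw [Submodule.mem_bot]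
    by_contra hne
    apply hf.ne y hne
    apply LinearMap.ext
    intro x
    rw [LinearMap.zero_apply]
    exact hf.symm x y (hy2 x Submodule.mem_top)
  obtain ⟨B, hBalt, hBgood, -⟩ := hf.exists_form_aux _ ⊤ rfl htop
  exact ⟨B, hBalt, fun x => hBgood x Submodule.mem_top⟩

end FormData

end FORMabs

section FORM
variable {p : ℕ} [Fact p.Prime] {V : Type*} [AddCommGroup V] [Module (ZMod p) V]
  [Module.Finite (ZMod p) V]

/-- PIECE FORM: the alternating form -/
theorem exists_form (K : Subgroup (V ≃ₗ[ZMod p] V))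
    (h1 : ∀ u : V, u ≠ 0 → finrank (ZMod p) ↥(Phi K u) = 1)
    (hs : ∀ u w : V, u ≠ 0 → w ≠ 0 → w ∈ Wsp K u → u ∈ Wsp K w) :
    ∃ B : LinearMap.BilinForm (ZMod p) V, B.IsAlt ∧
      ∀ u : V, u ≠ 0 → Phi K u = Submodule.span (ZMod p) {B u} := by
  classical
  have hgen : ∀ x : V, ∃ φ : Dual (ZMod p) V, (x = 0 → φ = 0) ∧
      (x ≠ 0 → φ ≠ 0 ∧ Phi K x = Submodule.span (ZMod p) {φ}) := by
    intro x
    by_cases hx : x = 0
    · exact ⟨0, fun _ => rfl, fun h => absurd hx h⟩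
    · obtain ⟨w, hw0, hw⟩ := finrank_eq_one_iff'.1 (h1 x hx)
      refine ⟨w.1, fun h => absurd h hx, fun _ => ⟨?_, ?_⟩⟩
      · intro h
        apply hw0
        exact Subtype.ext h
      · apply le_antisymm
        · intro ψ hψ
          obtain ⟨c, hc⟩ := hw ⟨ψ, hψ⟩
          rw [Submodule.mem_span_singleton]
          exact ⟨c, congrArg Subtype.val hc⟩
        · rw [Submodule.span_singleton_le_iff_mem]
          exact w.2
  choose f hf0 hf1 using hgen
  have hmem : ∀ x, x ≠ 0 → f x ∈ Phi K x := fun x hx => by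
    rw [(hf1 x hx).2]
    exact Submodule.mem_span_singleton_self _
  have hdata : FormData f := by
    refine ⟨hf0 0 rfl, fun x hx => (hf1 x hx).1, ?_, ?_, ?_⟩
    · intro x
      by_cases hx : x = 0
      · rw [hx, map_zero]
      · exact (mem_Phi.1 (hmem x hx)).1
    · intro u w h
      by_cases hu : u = 0
      · rw [hu, map_zero]
      by_cases hw : w = 0
      · rw [hw, hf0 0 rfl, LinearMap.zero_apply]
      have hwW : w ∈ Wsp K u := by
        rw [mem_Wsp]
        intro φ hφ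
        rw [(hf1 u hu).2, Submodule.mem_span_singleton] at hφ
        obtain ⟨c, rfl⟩ := hφ
        rw [LinearMap.smul_apply, h, smul_zero]
      have huW := hs u w hu hw hwW
      rw [mem_Wsp] at huW
      exact huW (f w) (hmem w hw)
    · intro c x hc
      by_cases hx : x = 0
      · exact ⟨1, one_ne_zero, by rw [hx, smul_zero, one_smul]⟩
      · have hcx : c • x ≠ 0 := smul_ne_zero hc hx
        have h2 : f (c • x) ∈ Phi K x := by
          rw [← Phi_smul hc x]
          exact hmem _ hcx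
        rw [(hf1 x hx).2, Submodule.mem_span_singleton] at h2
        obtain ⟨d, hd⟩ := h2
        refine ⟨d, ?_, hd.symm⟩
        intro h0
        rw [h0, zero_smul] at hd
        exact (hf1 _ hcx).1 hd.symm
  obtain ⟨B, hBalt, hBgood⟩ := hdata.exists_form_abs
  refine ⟨B, hBalt, fun u hu => ?_⟩
  obtain ⟨c, hc, hBu⟩ := hBgood u
  rw [(hf1 u hu).2, hBu, Submodule.span_singleton_smul_eq (IsUnit.mk0 c hc)]

end FORM

end Cfsg.Agent.Helper4.McL
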