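import Mathlib
import Cfsg.Agent.Lib.Helper4.McLDefs

/-!
# S5075 piece SUM (helper21): the direct sum decomposition
-/

set_option autoImplicit false

namespace Cfsg.Agent.Helper4.McL

open Module

section SUM
variable {F : Type*} [Field F] {V : Type*} [AddCommGroup V] [Module F V]

theorem sum_aux_decomp {n : ℕ} (K : Fin n → Subgroup (V ≃ₗ[F] V))
    (h2 : ∀ j, comm (K j) ⊔ fix (K j) = ⊤) (h3 : ∀ i j, i ≠ j → comm (K i) ≤ fix (K j))
    (S : Finset (Fin n)) :
    ∀ v : V, ∃ a ∈ ⨆ j, comm (K j), ∃ b : V, (∀ j ∈ S, b ∈ fix (K j)) ∧ v = a + b := by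
  classical
  induction S using Finset.induction_on with
  | empty =>
    intro v
    exact ⟨0, Submodule.zero_mem _, v, by simp, by simp⟩
  | insert i S hi ih =>
    intro v
    obtain ⟨a, ha, b, hb, rfl⟩ := ih v
    have hbt : b ∈ comm (K i) ⊔ fix (K i) := by rw [h2 i]; exact Submodule.mem_top
    obtain ⟨c, hc, d, hd, rfl⟩ := Submodule.mem_sup.1 hbt
    refine ⟨a + c, Submodule.add_mem _ ha (le_iSup (fun j => comm (K j)) i hc), d, ?_, by abel⟩
    intro j hj
    rcases Finset.mem_insert.1 hj with hji | hjS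
    · rw [hji]; exact hd
    · have hne : i ≠ j := by rintro rfl; exact hi hjS
      have h4 : c ∈ fix (K j) := h3 i j hne hc
      have h5 := hb j hjS
      have : d = (c + d) - c := by abel
      rw [this]
      exact Submodule.sub_mem _ h5 h4

theorem sum_aux_indep {n : ℕ} (K : Fin n → Subgroup (V ≃ₗ[F] V))
    (h1 : ∀ j, comm (K j) ⊓ fix (K j) = ⊥) (h2 : ∀ j, comm (K j) ⊔ fix (K j) = ⊤)
    (h3 : ∀ i j, i ≠ j → comm (K i) ≤ fix (K j)) {x : V} (hx : x ∈ ⨆ j, comm (K j))
    (hx0 : ∀ j, x ∈ fix (K j)) : x = 0 := by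
  classical
  have hc : ∀ j, IsCompl (comm (K j)) (fix (K j)) := fun j =>
    ⟨disjoint_iff.2 (h1 j), codisjoint_iff.2 (h2 j)⟩
  obtain ⟨π, hπ⟩ : ∃ π : Fin n → V →ₗ[F] V, π = fun j => (comm (K j)).subtype ∘ₗ
      Submodule.projectionOnto (comm (K j)) (fix (K j)) (hc j) := ⟨_, rfl⟩
  have hπ1 : ∀ j, ∀ y ∈ comm (K j), π j y = y := by
    intro j y hy
    rw [hπ]
    show ((Submodule.projectionOnto (comm (K j)) (fix (K j)) (hc j) y : comm (K j)) : V) = y
    have := Submodule.projectionOnto_apply_left (hc j) ⟨y, hy⟩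
    exact congrArg Subtype.val this
  have hπ0 : ∀ j, ∀ y ∈ fix (K j), π j y = 0 := by
    intro j y hy
    rw [hπ]
    show ((Submodule.projectionOnto (comm (K j)) (fix (K j)) (hc j) y : comm (K j)) : V) = 0
    rw [Submodule.projectionOnto_apply_of_mem_right (hc j) hy]
    rfl
  have key : x = ∑ j, π j x := by
    refine Submodule.iSup_induction (fun j => comm (K j)) (motive := fun x => x = ∑ j, π j x)
      hx ?_ ?_ ?_
    · intro j y hy
      show y = ∑ i, π i y
      rw [Finset.sum_eq_single j, hπ1 j y hy]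
      · intro i _ hij
        exact hπ0 i y (h3 j i (Ne.symm hij) hy)
      · intro h
        exact absurd (Finset.mem_univ j) h
    · show (0 : V) = ∑ i, π i 0
      simp
    · intro y z hy hz
      show y + z = ∑ i, π i (y + z)
      simp only [map_add, Finset.sum_add_distrib]
      rw [← hy, ← hz]
  rw [key]
  apply Finset.sum_eq_zero
  intro j _
  exact hπ0 j x (hx0 j)

/- independence + iSup = ⊤ -/
theorem isInternal_of_comm_fix {n : ℕ} (K : Fin n → Subgroup (V ≃ₗ[F] V))
    (h1 : ∀ j, comm (K j) ⊓ fix (K j) = ⊥) (h2 : ∀ j, comm (K j) ⊔ fix (K j) = ⊤)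
    (h3 : ∀ i j, i ≠ j → comm (K i) ≤ fix (K j)) :
    DirectSum.IsInternal
      (Fin.cons (⨅ j, fix (K j)) (fun j => comm (K j)) : Fin (n + 1) → Submodule F V) := by
  classical
  obtain ⟨A, hA⟩ : ∃ A : Fin (n + 1) → Submodule F V,
      A = Fin.cons (⨅ j, fix (K j)) (fun j => comm (K j)) := ⟨_, rfl⟩
  have hA0 : A 0 = ⨅ j, fix (K j) := by rw [hA, Fin.cons_zero]
  have hAs : ∀ j : Fin n, A j.succ = comm (K j) := fun j => by rw [hA, Fin.cons_succ]
  rw [← hA, DirectSum.isInternal_submodule_iff_iSupIndep_and_iSup_eq_top]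
  constructor
  · intro i
    rw [Submodule.disjoint_def]
    refine Fin.cases ?_ ?_ i
    · intro x hx hx'
      rw [hA0] at hx
      have hx0 : ∀ j, x ∈ fix (K j) := fun j => (Submodule.mem_iInf _).1 hx j
      have hle : (⨆ j, ⨆ (_ : j ≠ (0 : Fin (n + 1))), A j) ≤ ⨆ j, comm (K j) := by
        apply iSup₂_le
        intro j hj
        obtain ⟨k, rfl⟩ := Fin.exists_succ_eq.2 hj
        rw [hAs]
        exact le_iSup (fun j => comm (K j)) k
      exact sum_aux_indep K h1 h2 h3 (hle hx') hx0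
    · intro j x hx hx'
      rw [hAs] at hx
      have hle : (⨆ k, ⨆ (_ : k ≠ j.succ), A k) ≤ fix (K j) := by
        apply iSup₂_le
        intro k
        refine Fin.cases ?_ ?_ k
        · intro _
          rw [hA0]
          exact iInf_le _ j
        · intro l hl
          rw [hAs]
          apply h3 l j
          intro h
          apply hl
          rw [h]
      have h4 : x ∈ comm (K j) ⊓ fix (K j) := ⟨hx, hle hx'⟩
      rw [h1 j] at h4
      exact (Submodule.mem_bot F).1 h4
  · rw [eq_top_iff]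
    intro v _
    obtain ⟨a, ha, b, hb, rfl⟩ := sum_aux_decomp K h2 h3 Finset.univ v
    apply Submodule.add_mem
    · have hle : (⨆ j, comm (K j)) ≤ ⨆ i, A i := by
        apply iSup_le
        intro j
        have := le_iSup A j.succ
        rwa [hAs] at this
      exact hle ha
    · have := le_iSup A 0
      rw [hA0] at this
      exact this ((Submodule.mem_iInf _).2 (fun j => hb j (Finset.mem_univ j)))

end SUM

end Cfsg.Agent.Helper4.McL
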