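import Mathlib
import Cfsg.Agent.Lib.Helper25.StabChain

set_option autoImplicit false

/-! Automorphism groups of a finite `p`-group stabilizing (as sets) a chain of normal subgroups with
cyclic steps: modulo the (normal `p`-) subgroup of automorphisms acting trivially on every step, such a
group is abelian, and its `p'`-elements have order dividing `p - 1`. -/

namespace Cfsg.Agent.Helper21.SupersolChain

open Cfsg.Agent.Helper25

variable {P : Type*} [Group P]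

/-- `V` is generated by `U` and one more element (elementwise form). -/
def CycStep (U V : Subgroup P) : Prop :=
  ∃ y₀ ∈ V, ∀ y ∈ V, ∃ j : ℤ, (y₀ ^ j)⁻¹ * y ∈ U

/-- An automorphism preserving `U ≤ V` with `V / U` cyclic acts on `V / U` as a power map. -/
theorem exists_pow_of_cycStep (U V : Subgroup P) [hU : U.Normal] (hcyc : CycStep U V)
    (α : MulAut P) (hαU : ∀ y ∈ U, α y ∈ U) (hαV : ∀ y ∈ V, α y ∈ V) :
    ∃ a : ℤ, ∀ y ∈ V, (QuotientGroup.mk (α y) : P ⧸ U) = (QuotientGroup.mk y : P ⧸ U) ^ a := by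
  obtain ⟨y₀, hy₀, hy⟩ := hcyc
  obtain ⟨a, ha⟩ := hy (α y₀) (hαV y₀ hy₀)
  have ha' : (QuotientGroup.mk (α y₀) : P ⧸ U) = (QuotientGroup.mk y₀ : P ⧸ U) ^ a := by
    have h1 : (QuotientGroup.mk ((y₀ ^ a)⁻¹ * α y₀) : P ⧸ U) = 1 :=
      (QuotientGroup.eq_one_iff _).mpr ha
    rw [QuotientGroup.mk_mul, QuotientGroup.mk_inv, QuotientGroup.mk_zpow] at h1
    exact (inv_mul_eq_one.mp h1).symm
  refine ⟨a, fun y hyV => ?_⟩
  obtain ⟨j, hj⟩ := hy y hyV
  have h1 : (QuotientGroup.mk y : P ⧸ U) = (QuotientGroup.mk y₀ : P ⧸ U) ^ j := by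
    have h2 : (QuotientGroup.mk ((y₀ ^ j)⁻¹ * y) : P ⧸ U) = 1 :=
      (QuotientGroup.eq_one_iff _).mpr hj
    rw [QuotientGroup.mk_mul, QuotientGroup.mk_inv, QuotientGroup.mk_zpow] at h2
    exact (inv_mul_eq_one.mp h2).symm
  have h3 : (QuotientGroup.mk (α ((y₀ ^ j)⁻¹ * y)) : P ⧸ U) = 1 :=
    (QuotientGroup.eq_one_iff _).mpr (hαU _ hj)
  rw [map_mul, map_inv, map_zpow, QuotientGroup.mk_mul, QuotientGroup.mk_inv,
    QuotientGroup.mk_zpow, ha'] at h3
  have h4 := (inv_mul_eq_one.mp h3).symm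
  rw [h4, h1, ← zpow_mul, ← zpow_mul, mul_comm]

/-- Two automorphisms preserving `U ≤ V` with `V / U` cyclic commute on `V / U`. -/
theorem comm_mem_of_cycStep (U V : Subgroup P) [hU : U.Normal] (hcyc : CycStep U V)
    (α β : MulAut P) (hαU : ∀ y ∈ U, α y ∈ U) (hαV : ∀ y ∈ V, α y ∈ V)
    (hβU : ∀ y ∈ U, β y ∈ U) (hβV : ∀ y ∈ V, β y ∈ V) :
    ∀ y ∈ V, (β (α y))⁻¹ * α (β y) ∈ U := by
  obtain ⟨a, ha⟩ := exists_pow_of_cycStep U V hcyc α hαU hαV
  obtain ⟨b, hb⟩ := exists_pow_of_cycStep U V hcyc β hβU hβV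
  intro y hy
  apply (QuotientGroup.eq_one_iff _).mp
  rw [QuotientGroup.mk_mul, QuotientGroup.mk_inv, ha _ (hβV y hy), hb _ (hαV y hy), ha y hy,
    hb y hy, ← zpow_mul, ← zpow_mul, mul_comm a b, inv_mul_cancel]

/-- Number theory: an integer whose order modulo `p ^ j` is prime to `p` has order dividing `p - 1`. -/
theorem dvd_pow_pred_sub_one {p : ℕ} (hp : p.Prime) (j : ℕ) (a : ℤ) (o : ℕ) (ho : o.Coprime p)
    (h : ((p ^ j : ℕ) : ℤ) ∣ a ^ o - 1) : ((p ^ j : ℕ) : ℤ) ∣ a ^ (p - 1) - 1 := by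
  haveI : NeZero (p ^ j) := ⟨pow_ne_zero _ hp.ne_zero⟩
  have ho0 : o ≠ 0 := by
    rintro rfl
    rw [Nat.coprime_zero_left] at ho
    exact hp.one_lt.ne' ho
  have h1 : ((a : ZMod (p ^ j))) ^ o = 1 := by
    have := (ZMod.intCast_zmod_eq_zero_iff_dvd (a ^ o - 1) (p ^ j)).mpr h
    rw [Int.cast_sub, Int.cast_pow, Int.cast_one, sub_eq_zero] at this
    exact this
  obtain ⟨u, hu⟩ : ∃ u : (ZMod (p ^ j))ˣ, (u : ZMod (p ^ j)) = (a : ZMod (p ^ j)) :=
    ⟨Units.ofPowEqOne _ o h1 ho0, rfl⟩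
  have hu1 : u ^ o = 1 := by
    apply Units.ext
    rw [Units.val_pow_eq_pow_val, hu, h1, Units.val_one]
  have hd1 : orderOf u ∣ o := orderOf_dvd_of_pow_eq_one hu1
  have hd2 : orderOf u ∣ (p ^ j).totient := by
    rw [← ZMod.card_units_eq_totient]
    exact orderOf_dvd_card
  have hd3 : (p ^ j).totient ∣ p ^ j * (p - 1) := by
    rcases Nat.eq_zero_or_pos j with rfl | hj
    · simp
    · rw [Nat.totient_prime_pow hp hj]
      exact Nat.mul_dvd_mul_right (pow_dvd_pow p (Nat.sub_le j 1)) _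
  have hcop : (orderOf u).Coprime (p ^ j) :=
    Nat.Coprime.pow_right _ (Nat.Coprime.coprime_dvd_left hd1 ho)
  have hd4 : orderOf u ∣ p - 1 := hcop.dvd_of_dvd_mul_left (hd2.trans hd3)
  have hu2 : u ^ (p - 1) = 1 := orderOf_dvd_iff_pow_eq_one.mp hd4
  have h2 : ((a : ZMod (p ^ j))) ^ (p - 1) = 1 := by
    rw [← hu, ← Units.val_pow_eq_pow_val, hu2, Units.val_one]
  apply (ZMod.intCast_zmod_eq_zero_iff_dvd (a ^ (p - 1) - 1) (p ^ j)).mp
  rw [Int.cast_sub, Int.cast_pow, Int.cast_one, h2, sub_self]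

/-- An automorphism of order prime to `p` preserving `U ≤ V` with `V / U` cyclic: its `(p-1)`-st power
acts trivially on `V / U`. -/
theorem pow_pred_mem_of_cycStep [Finite P] {p : ℕ} [hp : Fact p.Prime] (hP : IsPGroup p P)
    (U V : Subgroup P) [hU : U.Normal] (hcyc : CycStep U V)
    (α : MulAut P) (hαU : ∀ y ∈ U, α y ∈ U) (hαV : ∀ y ∈ V, α y ∈ V)
    (o : ℕ) (ho : o.Coprime p) (hαo : α ^ o = 1) :
    ∀ y ∈ V, y⁻¹ * (α ^ (p - 1)) y ∈ U := by
  obtain ⟨a, ha⟩ := exists_pow_of_cycStep U V hcyc α hαU hαV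
  have hpowV : ∀ k : ℕ, ∀ y ∈ V, (α ^ k) y ∈ V := by
    intro k
    induction k with
    | zero => intro y hy; simpa using hy
    | succ k ih =>
      intro y hy
      rw [pow_succ', MulAut.mul_apply]
      exact hαV _ (ih y hy)
  have hpow : ∀ k : ℕ, ∀ y ∈ V,
      (QuotientGroup.mk ((α ^ k) y) : P ⧸ U) = (QuotientGroup.mk y : P ⧸ U) ^ (a ^ k) := by
    intro k
    induction k with
    | zero => intro y hy; simp
    | succ k ih =>
      intro y hy
      rw [pow_succ', MulAut.mul_apply, ha _ (hpowV k y hy), ih y hy, ← zpow_mul, pow_succ]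
  obtain ⟨y₀, hy₀, hy⟩ := hcyc
  -- the order of the image of `y₀`
  obtain ⟨n, hn⟩ := hP.exists_card_eq
  have hc : orderOf (QuotientGroup.mk y₀ : P ⧸ U) ∣ p ^ n := by
    rw [← hn]
    exact (orderOf_dvd_natCard _).trans (Subgroup.card_quotient_dvd_card U)
  obtain ⟨j, -, hj⟩ := (Nat.dvd_prime_pow hp.out).mp hc
  have h1 : (QuotientGroup.mk y₀ : P ⧸ U) ^ (a ^ o - 1) = 1 := by
    have := hpow o y₀ hy₀
    rw [hαo, MulAut.one_apply] at this
    rw [zpow_sub, zpow_one, ← this, mul_inv_cancel]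
  have h2 : ((p ^ j : ℕ) : ℤ) ∣ a ^ o - 1 := by
    rw [← hj]; exact orderOf_dvd_iff_zpow_eq_one.mpr h1
  have h3 := dvd_pow_pred_sub_one hp.out j a o ho h2
  have h4 : (QuotientGroup.mk y₀ : P ⧸ U) ^ (a ^ (p - 1)) = (QuotientGroup.mk y₀ : P ⧸ U) := by
    have : (QuotientGroup.mk y₀ : P ⧸ U) ^ (a ^ (p - 1) - 1) = 1 := by
      rw [← hj] at h3; exact orderOf_dvd_iff_zpow_eq_one.mp h3
    rw [zpow_sub, zpow_one, mul_inv_eq_one] at this
    exact this
  intro y hyV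
  obtain ⟨i, hi⟩ := hy y hyV
  have h5 : (QuotientGroup.mk y : P ⧸ U) = (QuotientGroup.mk y₀ : P ⧸ U) ^ i := by
    have h6 : (QuotientGroup.mk ((y₀ ^ i)⁻¹ * y) : P ⧸ U) = 1 :=
      (QuotientGroup.eq_one_iff _).mpr hi
    rw [QuotientGroup.mk_mul, QuotientGroup.mk_inv, QuotientGroup.mk_zpow] at h6
    exact (inv_mul_eq_one.mp h6).symm
  apply (QuotientGroup.eq_one_iff _).mp
  rw [QuotientGroup.mk_mul, QuotientGroup.mk_inv, hpow (p - 1) y hyV, h5, ← zpow_mul,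
    mul_comm i, zpow_mul, h4, inv_mul_cancel]

/-- If `V = U⟨x⟩` with `U` normal in `V`, then for every subgroup `M ≤ V` the image of `M` in `V / U` is
cyclic (elementwise form). -/
theorem exists_gen_of_le_sup_zpowers {G : Type*} [Group G] (U V M : Subgroup G) (x : G)
    (hV : V = U ⊔ Subgroup.zpowers x) (hn : ∀ g ∈ V, ∀ u ∈ U, g * u * g⁻¹ ∈ U) (hM : M ≤ V) :
    ∃ y₀ ∈ M, ∀ y ∈ M, ∃ j : ℤ, (y₀ ^ j)⁻¹ * y ∈ U := by
  have hUV : U ≤ V := hV ▸ le_sup_left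
  have hxV : x ∈ V := hV ▸ Subgroup.mem_sup_right (Subgroup.mem_zpowers x)
  haveI hU' : (U.subgroupOf V).Normal := by
    constructor
    intro u hu g
    rw [Subgroup.mem_subgroupOf] at hu ⊢
    exact hn g g.2 u hu
  -- every element of `V` is `x ^ k * u`
  have hdec : ∀ v ∈ V, ∃ k : ℤ, (x ^ k)⁻¹ * v ∈ U := by
    intro v hv
    rw [hV, Subgroup.sup_eq_closure] at hv
    induction hv using Subgroup.closure_induction with
    | mem y hy =>
      rcases hy with hu | hy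
      · exact ⟨0, by simpa using hu⟩
      · obtain ⟨k, rfl⟩ := Subgroup.mem_zpowers_iff.mp hy
        exact ⟨k, by simp⟩
    | one => exact ⟨0, by simp⟩
    | mul a b _ _ ha hb =>
      obtain ⟨k, hk⟩ := ha
      obtain ⟨l, hl⟩ := hb
      refine ⟨k + l, ?_⟩
      have hxl : x ^ l ∈ V := Subgroup.zpow_mem _ hxV l
      have h1 := hn _ (Subgroup.inv_mem _ hxl) _ hk
      rw [inv_inv] at h1
      have e : (x ^ (k + l))⁻¹ * (a * b) =
          ((x ^ l)⁻¹ * ((x ^ k)⁻¹ * a) * x ^ l) * ((x ^ l)⁻¹ * b) := by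
        rw [zpow_add]; group
      rw [e]
      exact U.mul_mem h1 hl
    | inv a _ ha =>
      obtain ⟨k, hk⟩ := ha
      refine ⟨-k, ?_⟩
      have hxk : x ^ k ∈ V := Subgroup.zpow_mem _ hxV k
      have h1 := hn _ hxk _ (U.inv_mem hk)
      have e : (x ^ (-k))⁻¹ * a⁻¹ = x ^ k * ((x ^ k)⁻¹ * a)⁻¹ * (x ^ k)⁻¹ := by
        rw [zpow_neg]; group
      rw [e]
      exact h1
  haveI hcyc : IsCyclic (↥V ⧸ U.subgroupOf V) := by
    refine ⟨⟨QuotientGroup.mk ⟨x, hxV⟩, fun q => ?_⟩⟩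
    induction q using QuotientGroup.induction_on with
    | H v =>
      obtain ⟨k, hk⟩ := hdec v v.2
      refine ⟨k, ?_⟩
      show (QuotientGroup.mk ⟨x, hxV⟩ : ↥V ⧸ U.subgroupOf V) ^ k = QuotientGroup.mk v
      rw [← QuotientGroup.mk_zpow]
      apply QuotientGroup.eq.mpr
      rw [Subgroup.mem_subgroupOf]
      simpa using hk
  obtain ⟨g, hg⟩ := (Subgroup.isCyclic_iff_exists_zpowers_eq_top
    ((M.subgroupOf V).map (QuotientGroup.mk' (U.subgroupOf V)))).mp inferInstance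
  have hgM : g ∈ (M.subgroupOf V).map (QuotientGroup.mk' (U.subgroupOf V)) := by
    rw [← hg]; exact Subgroup.mem_zpowers g
  obtain ⟨y₀, hy₀, rfl⟩ := hgM
  refine ⟨(y₀ : G), Subgroup.mem_subgroupOf.mp hy₀, fun y hy => ?_⟩
  have hyV : y ∈ V := hM hy
  have h1 : (QuotientGroup.mk' (U.subgroupOf V)) ⟨y, hyV⟩ ∈
      (M.subgroupOf V).map (QuotientGroup.mk' (U.subgroupOf V)) :=
    ⟨⟨y, hyV⟩, Subgroup.mem_subgroupOf.mpr hy, rfl⟩
  rw [← hg] at h1
  obtain ⟨j, hj⟩ := Subgroup.mem_zpowers_iff.mp h1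
  refine ⟨j, ?_⟩
  have h2 : (QuotientGroup.mk (y₀ ^ j) : ↥V ⧸ U.subgroupOf V) = QuotientGroup.mk ⟨y, hyV⟩ := by
    rw [QuotientGroup.mk_zpow]; exact hj
  have h3 := QuotientGroup.eq.mp h2
  rw [Subgroup.mem_subgroupOf] at h3
  simpa using h3

section chain

variable [Finite P] {p : ℕ} [hp : Fact p.Prime]

/-- The stability group of a chain from `⊥` to `⊤` of a finite `p`-group is a `p`-group. -/
theorem isPGroup_stabChain (hP : IsPGroup p P) (A : Subgroup (MulAut P)) (c : ℕ → Subgroup P)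
    (m : ℕ) (hmono : ∀ i, c i ≤ c (i + 1)) (h0 : c 0 = ⊥) (hm : c m = ⊤) :
    IsPGroup p ↥(stabChain A c hmono) := by
  obtain ⟨n, hn⟩ := hP.exists_card_eq
  have hkill : ∀ (U : Subgroup P), ∀ u ∈ U, u ^ p ^ n = 1 := by
    intro U u _
    rw [← hn]; exact pow_card_eq_one'
  rintro ⟨γ, hγ⟩
  have hγ' : StabilizesChain A c γ := hγ
  have key : ∀ i, ∃ k : ℕ, ∀ y ∈ c i, (γ ^ p ^ k) y = y := by
    intro i
    induction i with
    | zero =>
      refine ⟨0, fun y hy => ?_⟩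
      rw [h0, Subgroup.mem_bot] at hy
      rw [hy, map_one]
    | succ i ih =>
      obtain ⟨k, hk⟩ := ih
      refine ⟨k + n, ?_⟩
      have hst := hγ'.pow hmono (p ^ k)
      have := pow_fixes_of_stabilizes (β := γ ^ p ^ k) hk (hst.2 i) (hkill (c i))
      rw [← pow_mul, ← pow_add] at this
      exact this
  obtain ⟨k, hk⟩ := key m
  refine ⟨k, Subtype.ext ?_⟩
  show γ ^ p ^ k = 1
  ext y
  exact hk y (by rw [hm]; trivial)

variable (hP : IsPGroup p P) (A : Subgroup (MulAut P)) (c : ℕ → Subgroup P) (m : ℕ)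
  (hmono : ∀ i, c i ≤ c (i + 1)) (h0 : c 0 = ⊥) (hm : c m = ⊤)
  (hnorm : ∀ i, (c i).Normal) (hinv : ∀ i, ∀ α ∈ A, ∀ y ∈ c i, α y ∈ c i)
  (hcyc : ∀ i, CycStep (c i) (c (i + 1)))

include hinv hcyc hnorm in
/-- Commutators of `A` stabilize the chain. -/
theorem stabilizesChain_commutator {α β : MulAut P} (hα : α ∈ A) (hβ : β ∈ A) :
    StabilizesChain A c (α * β * α⁻¹ * β⁻¹) := by
  refine ⟨A.mul_mem (A.mul_mem (A.mul_mem hα hβ) (A.inv_mem hα)) (A.inv_mem hβ), fun i y hy => ?_⟩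
  haveI := hnorm i
  obtain ⟨z, hz⟩ : ∃ z, z = α⁻¹ (β⁻¹ y) := ⟨_, rfl⟩
  have hzV : z ∈ c (i + 1) := by
    rw [hz]
    exact hinv _ _ (A.inv_mem hα) _ (hinv _ _ (A.inv_mem hβ) _ hy)
  have hy' : y = β (α z) := by
    rw [hz, MulAut.apply_inv_self, MulAut.apply_inv_self]
  have h1 := comm_mem_of_cycStep (c i) (c (i + 1)) (hcyc i) α β (hinv i α hα) (hinv (i + 1) α hα)
    (hinv i β hβ) (hinv (i + 1) β hβ) z hzV
  have h2 : (α * β * α⁻¹ * β⁻¹) y = α (β z) := by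
    rw [MulAut.mul_apply, MulAut.mul_apply, MulAut.mul_apply, hz]
  rw [h2, hy']
  exact h1

include hP hmono h0 hm hinv hcyc hnorm in
/-- `p`-elements of `A` lie in `O_p(A)`. -/
theorem mem_pCore_of_pElement {β : MulAut P} (hβ : β ∈ A) (hβp : ∃ k : ℕ, β ^ p ^ k = 1) :
    β ∈ (Cfsg.pCore p A).map A.subtype := by
  obtain ⟨B, hB⟩ : ∃ B : Subgroup (MulAut P), B = stabChain A c hmono := ⟨_, rfl⟩
  have hBA : B ≤ A := by rw [hB]; exact fun γ hγ => hγ.1
  have hBp : IsPGroup p B := by rw [hB]; exact isPGroup_stabChain hP A c m hmono h0 hm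
  have hBconj : ∀ γ ∈ B, ∀ α ∈ A, α * γ * α⁻¹ ∈ B := by
    intro γ hγ α hα
    rw [hB] at hγ ⊢
    exact StabilizesChain.conj hinv hγ hα
  have hcomm : ∀ α ∈ A, ∀ γ ∈ A, α * γ * α⁻¹ * γ⁻¹ ∈ B := by
    intro α hα γ hγ
    rw [hB]
    exact stabilizesChain_commutator A c hnorm hinv hcyc hα hγ
  obtain ⟨D, hD⟩ : ∃ D : Subgroup (MulAut P), D = B ⊔ Subgroup.zpowers β := ⟨_, rfl⟩
  have hDA : D ≤ A := by
    rw [hD]; exact sup_le hBA (Subgroup.zpowers_le.mpr hβ)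
  have hzp : IsPGroup p ↥(Subgroup.zpowers β) := by
    obtain ⟨k, hk⟩ := hβp
    rintro ⟨γ, hγ⟩
    obtain ⟨i, rfl⟩ := Subgroup.mem_zpowers_iff.mp hγ
    refine ⟨k, Subtype.ext ?_⟩
    show (β ^ i) ^ p ^ k = 1
    rw [← zpow_natCast, ← zpow_mul, mul_comm, zpow_mul, zpow_natCast, hk, one_zpow]
  have hDp : IsPGroup p D := by
    rw [hD]
    apply IsPGroup.to_sup_of_normal_left' hBp hzp
    rw [Subgroup.zpowers_le]
    rw [Subgroup.mem_normalizer_iff]
    intro γ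
    constructor
    · intro hγ; exact hBconj γ hγ β hβ
    · intro hγ
      have := hBconj _ hγ β⁻¹ (A.inv_mem hβ)
      have e : β⁻¹ * (β * γ * β⁻¹) * β⁻¹⁻¹ = γ := by group
      rwa [e] at this
  have hDn : (D.subgroupOf A).Normal := by
    constructor
    rintro ⟨γ, hγA⟩ hγ ⟨α, hαA⟩
    have hγD : γ ∈ D := Subgroup.mem_subgroupOf.mp hγ
    apply Subgroup.mem_subgroupOf.mpr
    show α * γ * α⁻¹ ∈ D
    have e : α * γ * α⁻¹ = (α * γ * α⁻¹ * γ⁻¹) * γ := by group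
    rw [e]
    refine D.mul_mem ?_ hγD
    rw [hD]
    exact Subgroup.mem_sup_left (hcomm α hαA γ hγA)
  have hle : D.subgroupOf A ≤ Cfsg.pCore p A :=
    le_pCore' hDn (hDp.comap_of_injective A.subtype A.subtype_injective)
  have hβD : β ∈ D := by
    rw [hD]; exact Subgroup.mem_sup_right (Subgroup.mem_zpowers β)
  exact ⟨⟨β, hβ⟩, hle (Subgroup.mem_subgroupOf.mpr hβD), rfl⟩

include hP hmono h0 hm hinv hcyc hnorm in
/-- If `A` is a `p'`-group it is abelian of exponent dividing `p - 1`. -/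
theorem comm_and_exp_of_coprime (hA : (Nat.card A).Coprime p) :
    (∀ α ∈ A, ∀ β ∈ A, α * β = β * α) ∧ ∀ α ∈ A, α ^ (p - 1) = 1 := by
  have hBp := isPGroup_stabChain hP A c m hmono h0 hm
  have hone : ∀ γ : MulAut P, StabilizesChain A c γ → γ = 1 := by
    intro γ hγ
    obtain ⟨k, hk⟩ := hBp ⟨γ, hγ⟩
    have hk' : γ ^ p ^ k = 1 := congrArg Subtype.val hk
    have h1 : orderOf γ ∣ p ^ k := orderOf_dvd_of_pow_eq_one hk'
    have h2 : orderOf γ ∣ Nat.card A := by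
      have : orderOf (⟨γ, hγ.1⟩ : A) ∣ Nat.card A := orderOf_dvd_natCard _
      rwa [Subgroup.orderOf_mk] at this
    have h3 : orderOf γ = 1 :=
      Nat.eq_one_of_dvd_coprimes (Nat.Coprime.pow_right k hA) h2 h1
    exact orderOf_eq_one_iff.mp h3
  constructor
  · intro α hα β hβ
    have h1 := hone _ (stabilizesChain_commutator A c hnorm hinv hcyc hα hβ)
    have e : α * β = (α * β * α⁻¹ * β⁻¹) * (β * α) := by group
    rw [e, h1, one_mul]
  · intro α hα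
    apply hone
    refine ⟨A.pow_mem hα _, fun i y hy => ?_⟩
    haveI := hnorm i
    have ho : (orderOf α).Coprime p := by
      have h2 : orderOf α ∣ Nat.card A := by
        have : orderOf (⟨α, hα⟩ : A) ∣ Nat.card A := orderOf_dvd_natCard _
        rwa [Subgroup.orderOf_mk] at this
      exact Nat.Coprime.coprime_dvd_left h2 hA
    exact pow_pred_mem_of_cycStep hP (c i) (c (i + 1)) (hcyc i) α (hinv i α hα) (hinv (i + 1) α hα)
      (orderOf α) ho (pow_orderOf_eq_one α) y hy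

end chain

end Cfsg.Agent.Helper21.SupersolChain
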