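import Mathlib
import Cfsg.Prelude.Def_OddOrderLocal
import Cfsg.Agent.Lib.Helper8.MetaAut
import Cfsg.Agent.Lib.Helper8.AutQuot
import Cfsg.Agent.Lib.Helper21.SupersolChain
import Cfsg.Agent.Lib.Helper21.MetaAut
import Cfsg.Agent.Lib.Helper21.PGroupFrattini
import Cfsg.Agent.Lib.Helper1.AbEssC

set_option autoImplicit false

/-! `p'`-groups of automorphisms of a metacyclic `p`-group, `p` odd, which is neither cyclic nor
homocyclic of rank two, are abelian of exponent dividing `p - 1`. -/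

namespace Cfsg.Agent.Helper21.MetaAutOdd

open Cfsg

universe u

variable {S : Type u} [Group S] [Finite S] {p : ℕ} [hp : Fact p.Prime]

/-- a subgroup of prime index is a coatom -/
theorem isCoatom_of_index_prime (M : Subgroup S) (hM : M.index = p) : IsCoatom M := by
  constructor
  · intro h
    rw [h, Subgroup.index_top] at hM
    exact hp.out.one_lt.ne hM
  · intro N hN
    have h1 : N.index ∣ M.index := Subgroup.index_dvd_of_le hN.le
    rw [hM] at h1
    rcases (Nat.dvd_prime hp.out).mp h1 with h2 | h2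
    · exact Subgroup.index_eq_one.mp h2
    · exfalso
      have h3 : M.relIndex N = 1 := by
        have := Subgroup.relIndex_mul_index hN.le
        rw [hM, h2] at this
        have hp0 := hp.out.pos
        exact Nat.eq_of_mul_eq_mul_right hp0 (by rw [this, one_mul])
      have h4 : N ≤ M := Subgroup.relIndex_eq_one.mp h3
      exact lt_irrefl _ (lt_of_lt_of_le hN h4)

theorem index_cases (hS : IsPGroup p S) (K : Subgroup S) (h : K.index ≤ p * p) :
    K.index = 1 ∨ K.index = p ∨ K.index = p ^ 2 := by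
  obtain ⟨n, hn⟩ := IsPGroup.iff_card.mp hS
  have h1 : K.index ∣ p ^ n := hn ▸ Subgroup.index_dvd_card K
  obtain ⟨i, -, hi⟩ := (Nat.dvd_prime_pow hp.out).mp h1
  have hi2 : i ≤ 2 := by
    by_contra hcon
    have h2 : p ^ 3 ≤ p ^ i := Nat.pow_le_pow_right hp.out.pos (by omega)
    have h3 : p * p < p ^ 3 := by
      have := hp.out.one_lt
      have h4 : p ^ 3 = p * p * p := by ring
      rw [h4]
      nlinarith
    omega
  interval_cases i
  · left; simpa using hi
  · right; left; simpa using hi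
  · right; right; exact hi

/-- an abelian two-generated `p`-group which is not homocyclic of rank two has a characteristic
subgroup of index `p` -/
theorem exists_char_max_of_comm [Nontrivial S] (hS : IsPGroup p S)
    (hc : ∀ x y : S, x * y = y * x) (M0 : MCGen S)
    (hnh : ¬ ∃ n : ℕ, 0 < n ∧
      Nonempty (S ≃* Multiplicative (ZMod (p ^ n)) × Multiplicative (ZMod (p ^ n)))) :
    ∃ M : Subgroup S, M.index = p ∧ ∀ α : MulAut S, ∀ x ∈ M, α x ∈ M := by
  have hp0 : 0 < p := hp.out.pos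
  letI : CommGroup S := { (inferInstance : Group S) with mul_comm := hc }
  set P2 : Subgroup S := (powMonoidHom p : S →* S).range with hP2
  have hP2mem : ∀ y : S, y ^ p ∈ P2 := fun y => ⟨y, rfl⟩
  have hP2inv : ∀ α : MulAut S, ∀ x ∈ P2, α x ∈ P2 := by
    rintro α _ ⟨y, rfl⟩
    refine ⟨α y, ?_⟩
    simp [powMonoidHom_apply]
  have hidxle : P2.index ≤ p * p :=
    MetaAut.index_le_mul M0 P2 p hp0 (hP2mem _) (hP2mem _)
  rcases index_cases hS P2 hidxle with h | h | hidx
  · exfalso
    have htop : P2 = ⊤ := Subgroup.index_eq_one.mp h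
    have hsurj : Function.Surjective (powMonoidHom p : S →* S) :=
      MonoidHom.range_eq_top.mp htop
    have hinj : Function.Injective (powMonoidHom p : S →* S) :=
      Finite.injective_iff_surjective.mpr hsurj
    obtain ⟨n, hn⟩ := IsPGroup.iff_card.mp hS
    have hn0 : n ≠ 0 := by
      rintro rfl
      rw [pow_zero] at hn
      have := Finite.one_lt_card (α := S)
      omega
    have h2 : p ∣ Nat.card S := by rw [hn]; exact dvd_pow_self p hn0
    obtain ⟨x, hx⟩ := exists_prime_orderOf_dvd_card' p h2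
    have hx2 : x ^ p = 1 := by rw [← hx]; exact pow_orderOf_eq_one x
    have hx1 : x = 1 := by
      apply hinj
      simp [powMonoidHom_apply, hx2]
    rw [hx1, orderOf_one] at hx
    exact hp.out.one_lt.ne hx
  · exact ⟨P2, h, hP2inv⟩
  -- the exponent
  have hex : ∃ e : ℕ, ∀ h : S, h ^ p ^ e = 1 := by
    obtain ⟨n, hn⟩ := IsPGroup.iff_card.mp hS
    exact ⟨n, fun h => by rw [← hn]; exact pow_card_eq_one'⟩
  classical
  set e := Nat.find hex with he
  have hexp : ∀ h : S, h ^ p ^ e = 1 := Nat.find_spec hex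
  have he1 : 1 ≤ e := by
    by_contra hcon
    have he0 : e = 0 := by omega
    obtain ⟨x, hx⟩ := exists_ne (1 : S)
    have := hexp x
    rw [he0, pow_zero, pow_one] at this
    exact hx this
  have hmin : ¬ ∀ h : S, h ^ p ^ (e - 1) = 1 := Nat.find_min hex (by omega)
  set Om : Subgroup S := (powMonoidHom (p ^ (e - 1)) : S →* S).ker with hOm
  have hP2Om : P2 ≤ Om := by
    rintro _ ⟨y, rfl⟩
    rw [hOm, MonoidHom.mem_ker, powMonoidHom_apply, powMonoidHom_apply, ← pow_mul]
    have : p * p ^ (e - 1) = p ^ e := by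
      rw [← pow_succ']
      congr 1
      omega
    rw [this]
    exact hexp y
  have hOmtop : Om ≠ ⊤ := by
    intro h
    apply hmin
    intro x
    have : x ∈ Om := h ▸ Subgroup.mem_top x
    rwa [hOm, MonoidHom.mem_ker, powMonoidHom_apply] at this
  have hOminv : ∀ α : MulAut S, ∀ x ∈ Om, α x ∈ Om := by
    intro α x hx
    rw [hOm, MonoidHom.mem_ker, powMonoidHom_apply] at hx ⊢
    rw [← map_pow, hx, map_one]
  have hdvd : Om.index ∣ P2.index := Subgroup.index_dvd_of_le hP2Om
  have hle : Om.index ≤ p * p := by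
    rw [hidx] at hdvd
    have := Nat.le_of_dvd (pow_pos hp0 2) hdvd
    rwa [pow_two] at this
  rcases index_cases hS Om hle with h | h | h
  · exact (hOmtop (Subgroup.index_eq_one.mp h)).elim
  · exact ⟨Om, h, hOminv⟩
  · exfalso
    have hOmeq : Om = P2 := by
      apply le_antisymm _ hP2Om
      have h1 := Subgroup.relIndex_mul_index hP2Om
      rw [h, hidx] at h1
      have h2 : P2.relIndex Om = 1 :=
        Nat.eq_of_mul_eq_mul_right (pow_pos hp0 2) (by rw [h1, one_mul])
      exact Subgroup.relIndex_eq_one.mp h2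
    obtain ⟨ε⟩ := Cfsg.Agent.Helper1.AbEss.nonempty_equiv_homocyclic hS e he1 hexp hOmeq hidx
    exact hnh ⟨e, he1, ⟨ε.trans (MulEquiv.prodMultiplicative _ _)⟩⟩

/-- an invariant subgroup of index `p` -/
theorem exists_inv_max [Nontrivial S] (hp2 : p ≠ 2) (hS : IsPGroup p S) (hm : IsMetacyclic S)
    (hnh : ¬ ∃ n : ℕ, 0 < n ∧
      Nonempty (S ≃* Multiplicative (ZMod (p ^ n)) × Multiplicative (ZMod (p ^ n))))
    (H : Subgroup (MulAut S)) (hH : (Nat.card ↥H).Coprime p) :
    ∃ M : Subgroup S, M.index = p ∧ ∀ h ∈ H, ∀ x ∈ M, h x ∈ M := by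
  by_cases hab : ∀ x y : S, x * y = y * x
  · obtain ⟨N, hNn, hNc, hQc⟩ := hm
    obtain ⟨M0⟩ := exists_mcGen N hNc hQc
    obtain ⟨M, hM, hinv⟩ := exists_char_max_of_comm hS hab M0 hnh
    exact ⟨M, hM, fun h _ x hx => hinv h x hx⟩
  · by_contra hno
    apply hab
    apply Cfsg.Agent.Helper8.MetaAut.comm_of_metacyclic hp2 hS hm H.subtype hH
    intro K hKn hK
    by_contra hKtop
    apply hno
    obtain ⟨M, hM, hKM⟩ := (eq_top_or_exists_le_coatom K).resolve_left hKtop
    refine ⟨M, coatom_index_of_isPGroup hS M hM, ?_⟩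
    intro h hh x hx
    have h1 : h x = x * (x⁻¹ * h x) := by group
    rw [h1]
    exact M.mul_mem hx (hKM (hK ⟨h, hh⟩ x))

open SupersolChain in
/-- from an invariant subgroup of index `p` to the structure of `H` -/
theorem comm_exp_of_inv_max (hS : IsPGroup p S) (M0 : MCGen S) (H : Subgroup (MulAut S))
    (hH : (Nat.card ↥H).Coprime p) (M : Subgroup S) (hMidx : M.index = p)
    (hMinv : ∀ h ∈ H, ∀ x ∈ M, h x ∈ M) :
    IsMulCommutative ↥H ∧ ∀ h ∈ H, h ^ (p - 1) = 1 := by
  have hp0 : 0 < p := hp.out.pos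
  obtain ⟨Φ, hΦ⟩ : ∃ Φ : Subgroup S, Φ = frattini S := ⟨_, rfl⟩
  haveI hΦc : Φ.Characteristic := by rw [hΦ]; infer_instance
  obtain ⟨π, hπ⟩ : ∃ π : S →* S ⧸ Φ, π = QuotientGroup.mk' Φ := ⟨_, rfl⟩
  have hπs : Function.Surjective π := hπ ▸ QuotientGroup.mk'_surjective Φ
  have hπker : π.ker = Φ := by rw [hπ, QuotientGroup.ker_mk']
  have hP : IsPGroup p (S ⧸ Φ) := hS.to_quotient Φ
  obtain ⟨A, hAdef⟩ : ∃ A : Subgroup (MulAut (S ⧸ Φ)), A = H.map (Helper8.autQuot Φ) := ⟨_, rfl⟩
  have hA : (Nat.card ↥A).Coprime p := by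
    rw [hAdef]
    exact Nat.Coprime.coprime_dvd_left (Subgroup.card_map_dvd H _) hH
  have hMcoatom := isCoatom_of_index_prime M hMidx
  have hΦM : Φ ≤ M := hΦ ▸ frattini_le_coatom hMcoatom
  haveI hMn : M.Normal := coatom_normal_of_isPGroup hS M hMcoatom
  obtain ⟨Mb, hMb⟩ : ∃ Mb : Subgroup (S ⧸ Φ), Mb = M.map π := ⟨_, rfl⟩
  have hMbn : Mb.Normal := hMb ▸ Subgroup.Normal.map hMn π hπs
  -- the chain
  obtain ⟨c, hc⟩ : ∃ c : ℕ → Subgroup (S ⧸ Φ),
      c = fun i => if i = 0 then ⊥ else if i = 1 then Mb else ⊤ := ⟨_, rfl⟩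
  have hc0 : c 0 = ⊥ := by rw [hc]; simp
  have hc1 : c 1 = Mb := by rw [hc]; simp
  have hc2 : ∀ i, 2 ≤ i → c i = ⊤ := by
    intro i hi
    rw [hc]
    have h1 : i ≠ 0 := by omega
    have h2 : i ≠ 1 := by omega
    simp [h1, h2]
  have hmono : ∀ i, c i ≤ c (i + 1) := by
    intro i
    rcases Nat.lt_or_ge i 1 with h | h
    · have : i = 0 := by omega
      subst this
      rw [hc0]; exact bot_le
    · rw [hc2 (i + 1) (by omega)]; exact le_top
  have hnorm : ∀ i, (c i).Normal := by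
    intro i
    rcases Nat.lt_or_ge i 2 with h | h
    · interval_cases i
      · rw [hc0]; infer_instance
      · rw [hc1]; exact hMbn
    · rw [hc2 i h]; infer_instance
  have hinv : ∀ i, ∀ α ∈ A, ∀ y ∈ c i, α y ∈ c i := by
    intro i α hα y hy
    rcases Nat.lt_or_ge i 2 with h | h
    · interval_cases i
      · rw [hc0, Subgroup.mem_bot] at hy ⊢
        rw [hy, map_one]
      · rw [hc1, hMb] at hy ⊢
        rw [hAdef] at hα
        obtain ⟨h0, hh0, rfl⟩ := hα
        obtain ⟨x, hx, rfl⟩ := hy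
        refine ⟨h0 x, hMinv h0 hh0 x hx, ?_⟩
        rw [hπ]
        rfl
    · rw [hc2 i h]; exact Subgroup.mem_top _
  -- cardinalities
  have hΦidx : Φ.index ≤ p * p := by
    haveI : Φ.Normal := Subgroup.normal_of_characteristic Φ
    apply MetaAut.index_le_mul M0 Φ p hp0
    · rw [hΦ]; exact pow_mem_frattini_of_isPGroup hS _
    · rw [hΦ]; exact pow_mem_frattini_of_isPGroup hS _
  have hMbidx : Mb.index = p := by
    rw [hMb, Subgroup.index_map_eq M hπs (by rw [hπker]; exact hΦM), hMidx]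
  have hMbcard : Nat.card ↥Mb ≤ p := by
    have h1 := Subgroup.card_mul_index Mb
    rw [hMbidx] at h1
    have h2 : Nat.card (S ⧸ Φ) = Φ.index := (Subgroup.index_eq_card Φ).symm
    rw [h2] at h1
    have h3 : Nat.card ↥Mb * p ≤ p * p := h1 ▸ hΦidx
    exact Nat.le_of_mul_le_mul_right h3 hp0
  have hMbcyc : IsCyclic ↥Mb := by
    obtain ⟨t, ht⟩ := IsPGroup.iff_card.mp (hP.to_subgroup Mb)
    have ht1 : t ≤ 1 := by
      by_contra hcon
      have h1 : p ^ 2 ≤ p ^ t := Nat.pow_le_pow_right hp0 (by omega)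
      have h2 : p < p ^ 2 := by
        have := hp.out.one_lt
        rw [pow_two]; nlinarith
      omega
    interval_cases t
    · rw [pow_zero] at ht
      haveI : Subsingleton ↥Mb := (Nat.card_eq_one_iff_unique.mp ht).1
      infer_instance
    · rw [pow_one] at ht
      exact isCyclic_of_prime_card ht
  have hcyc : ∀ i, CycStep (c i) (c (i + 1)) := by
    intro i
    rcases Nat.lt_or_ge i 2 with h | h
    · interval_cases i
      · rw [hc0, hc1]
        obtain ⟨⟨g, hgM⟩, hg⟩ := hMbcyc.exists_generator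
        refine ⟨g, hgM, fun y hy => ?_⟩
        have h1 := hg ⟨y, hy⟩
        rw [Subgroup.mem_zpowers_iff] at h1
        obtain ⟨j, hj⟩ := h1
        refine ⟨j, ?_⟩
        have h2 : g ^ j = y := by
          have := congrArg Subtype.val hj
          rwa [Subgroup.coe_zpow] at this
        rw [h2, inv_mul_cancel]
        exact Subgroup.one_mem _
      · rw [hc1, hc2 2 le_rfl]
        have hQcard : Nat.card (S ⧸ M) = p := by rw [← Subgroup.index_eq_card, hMidx]
        have hQc : IsCyclic (S ⧸ M) := isCyclic_of_prime_card hQcard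
        obtain ⟨q, hq⟩ := hQc.exists_generator
        obtain ⟨s, rfl⟩ := QuotientGroup.mk_surjective q
        refine ⟨π s, Subgroup.mem_top _, fun y _ => ?_⟩
        obtain ⟨x, rfl⟩ := hπs y
        have h1 := hq (QuotientGroup.mk x)
        rw [Subgroup.mem_zpowers_iff] at h1
        obtain ⟨j, hj⟩ := h1
        refine ⟨j, ?_⟩
        rw [← QuotientGroup.mk_zpow] at hj
        have h2 : (s ^ j)⁻¹ * x ∈ M := QuotientGroup.eq.mp hj
        rw [hMb]
        refine ⟨(s ^ j)⁻¹ * x, h2, ?_⟩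
        rw [map_mul, map_inv, map_zpow]
    · rw [hc2 i h, hc2 (i + 1) (by omega)]
      refine ⟨1, Subgroup.mem_top _, fun y _ => ⟨0, Subgroup.mem_top _⟩⟩
  obtain ⟨hcomm, hexp⟩ := comm_and_exp_of_coprime hP A c 2 hmono hc0 (hc2 2 le_rfl) hnorm hinv
    hcyc hA
  -- lifting
  have hlift : ∀ γ ∈ H, Helper8.autQuot Φ γ = 1 → γ = 1 := by
    intro γ hγ h1
    have hcop : (orderOf γ).Coprime p := by
      have h2 : orderOf γ ∣ Nat.card ↥H := by
        have : orderOf (⟨γ, hγ⟩ : H) ∣ Nat.card ↥H := orderOf_dvd_natCard _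
        rwa [Subgroup.orderOf_mk] at this
      exact Nat.Coprime.coprime_dvd_left h2 hH
    have hker : γ ∈ (Helper8.autQuot (frattini S)).ker := by
      subst hΦ
      exact MonoidHom.mem_ker.mpr h1
    exact Helper8.eq_one_of_autQuot_frattini hS γ hcop hker
  have hAmem : ∀ α ∈ H, Helper8.autQuot Φ α ∈ A := by
    intro α hα
    rw [hAdef]
    exact Subgroup.mem_map_of_mem _ hα
  have hHcomm : ∀ α ∈ H, ∀ β ∈ H, α * β = β * α := by
    intro α hα β hβ
    have h1 : α * β * (β * α)⁻¹ = 1 := by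
      apply hlift _ (H.mul_mem (H.mul_mem hα hβ) (H.inv_mem (H.mul_mem hβ hα)))
      rw [map_mul, map_inv, map_mul, map_mul, hcomm _ (hAmem α hα) _ (hAmem β hβ),
        mul_inv_cancel]
    exact mul_inv_eq_one.mp h1
  constructor
  · refine ⟨⟨fun a b => Subtype.ext ?_⟩⟩
    rw [Subgroup.coe_mul, Subgroup.coe_mul]
    exact hHcomm a a.2 b b.2
  · intro α hα
    apply hlift _ (H.pow_mem hα _)
    rw [map_pow]
    exact hexp _ (hAmem α hα)

/-- **the automorphism condition for odd `p`** -/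
theorem autCond_odd (hp2 : p ≠ 2)
    (hS : IsPGroup p S) (hm : Cfsg.IsMetacyclic S) (hnc : ¬ IsCyclic S)
    (hnh : ¬ ∃ n : ℕ, 0 < n ∧
      Nonempty (S ≃* Multiplicative (ZMod (p ^ n)) × Multiplicative (ZMod (p ^ n))))
    (H : Subgroup (MulAut S)) (hH : (Nat.card ↥H).Coprime p) :
    IsMulCommutative ↥H ∧ ∀ h ∈ H, h ^ (p - 1) = 1 := by
  haveI : Nontrivial S := by
    by_contra hnt
    rw [not_nontrivial_iff_subsingleton] at hnt
    exact hnc inferInstance
  obtain ⟨M, hMidx, hMinv⟩ := exists_inv_max hp2 hS hm hnh H hH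
  obtain ⟨N, hNn, hNc, hQc⟩ := hm
  obtain ⟨M0⟩ := exists_mcGen N hNc hQc
  exact comm_exp_of_inv_max hS M0 H hH M hMidx hMinv

end Cfsg.Agent.Helper21.MetaAutOdd
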