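import Mathlib
import Cfsg.Agent.Lib.Helper21.MetaFusion
import Cfsg.Agent.Lib.Helper25.FusionAlperin2
import Cfsg.Agent.Lib.Helper25.FusionMorph
import Cfsg.Agent.Lib.Helper25.FusionInner
import Cfsg.Agent.Lib.Helper3.KLBasic

set_option autoImplicit false

/-! Metacyclic `2`-groups supporting only the inner fusion system. -/

namespace Cfsg.Agent.Helper21.MetaFusion

open Cfsg Cfsg.FusionSystem Cfsg.Agent.Helper25 Cfsg.Agent.Helper21 Cfsg.Agent.Helper21.MetaAut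
open Cfsg.Agent.Helper3.KL

variable {Ω : Type*} [Group Ω] {S : Subgroup Ω}

theorem exists_odd_of_not_isPGroup {G : Type*} [Group G] [Finite G] (h : ¬ IsPGroup 2 G) :
    ∃ g : G, g ≠ 1 ∧ Odd (orderOf g) := by
  unfold IsPGroup at h
  push Not at h
  obtain ⟨α, hαk⟩ := h
  have hpos : orderOf α ≠ 0 := (isOfFinOrder_of_finite α).orderOf_pos.ne'
  obtain ⟨k, m, hm, hkm⟩ := Nat.exists_eq_two_pow_mul_odd hpos
  refine ⟨α ^ 2 ^ k, hαk k, ?_⟩
  have : orderOf (α ^ 2 ^ k) = m := by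
    rw [orderOf_pow' _ (by positivity), hkm, Nat.gcd_eq_right (Dvd.intro _ rfl)]
    exact Nat.mul_div_cancel_left m (by positivity)
  rw [this]
  exact hm

/-- the product of two copies versus functions on `Fin 2` -/
def prodEquivPiFinTwo (A : Type*) [AddGroup A] : (A × A) ≃+ (Fin 2 → A) where
  toFun p := ![p.1, p.2]
  invFun f := (f 0, f 1)
  left_inv p := by simp
  right_inv f := by
    ext i
    fin_cases i <;> simp
  map_add' p q := by
    ext i
    fin_cases i <;> simp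

/-- the automizer of a metacyclic `2`-group which is neither homocyclic nor quaternion is a
`2`-group -/
theorem isPGroup_autGroup_top [Finite S] (hS : IsPGroup 2 S) (F : FusionSystem S)
    (hm : Cfsg.IsMetacyclic ↥S)
    (hh : ¬ ∃ n k : ℕ, Nonempty (↥S ≃* Multiplicative (Fin k → ZMod (2 ^ n))))
    (hq : ¬ ∃ m : ℕ, Nonempty (↥S ≃* QuaternionGroup m)) : IsPGroup 2 (F.autGroup S) := by
  haveI : Fact (Nat.Prime 2) := ⟨Nat.prime_two⟩
  by_contra hnot
  obtain ⟨⟨α, hαA⟩, hα1, hαodd⟩ := exists_odd_of_not_isPGroup hnot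
  have hα1' : α ≠ 1 := fun h => hα1 (Subtype.ext h)
  have hαodd' : Odd (orderOf α) := by
    have : orderOf (⟨α, hαA⟩ : F.autGroup S) = orderOf α := Subgroup.orderOf_mk α hαA
    rw [← this]
    exact hαodd
  obtain ⟨N, hNn, hNc, hQc⟩ := hm
  obtain ⟨M⟩ := exists_mcGen N hNc hQc
  rcases mazurov hS M α hα1' hαodd' with ⟨e, -, ⟨E⟩⟩ | hquat
  · apply hh
    refine ⟨e, 2, ⟨E.trans ?_⟩⟩
    exact AddEquiv.toMultiplicative (prodEquivPiFinTwo (ZMod (2 ^ e)))
  · obtain ⟨ε⟩ := quat_equiv hquat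
    exact hq ⟨2, ⟨ε⟩⟩

/-- a metacyclic `2`-group which is not homocyclic, dihedral, quasidihedral or quaternion supports
only the inner fusion system -/
theorem isInner_of_metacyclic [Finite S] (hS : IsPGroup 2 S) (F : FusionSystem S)
    (hF : F.IsSaturated 2) (hm : Cfsg.IsMetacyclic ↥S)
    (hh : ¬ ∃ n k : ℕ, Nonempty (↥S ≃* Multiplicative (Fin k → ZMod (2 ^ n))))
    (hd : ¬ ∃ m : ℕ, Nonempty (↥S ≃* DihedralGroup m))
    (hq : ¬ ∃ m : ℕ, Nonempty (↥S ≃* QuaternionGroup m))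
    (hsd : ¬ Cfsg.IsQuasiDihedral ↥S) : IsInner F := by
  haveI : Fact (Nat.Prime 2) := ⟨Nat.prime_two⟩
  have hSsc : F.StronglyClosed S := ⟨le_rfl, fun R _ φ hφ x => (F.le_of_mem hφ).2 x⟩
  have hSn : F.IsNormal S := by
    apply (Cfsg.Agent.S5086.result 2 hS F hF S).mpr
    exact ⟨hSsc, fun R hRc hRr => le_of_centric_radical hS F hSsc hm hd hq hsd hRc hRr⟩
  have hA2 := isPGroup_autGroup_top hS F hm hh hq
  have hFA : F.IsFullyAutomized 2 S := isFullyAutomized_of_eq_or_essential 2 hS F hF (Or.inl rfl)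
  have hAS : autInducedBy S S = F.autGroup S := autInducedBy_eq_autGroup_of_isPGroup F 2 hFA hA2
  intro P φ hφ
  have hPS : P ≤ S := (F.le_of_mem hφ).1
  obtain ⟨ψ, hψ, hψφ, hψS⟩ := hSn.2 P φ hφ
  have hle : S ≤ P ⊔ S := le_sup_right
  have hψ' := restrict_mem F hle hψ
  have hrange : (ψ.comp (Subgroup.inclusion hle)).range = S := by
    ext y
    constructor
    · rintro ⟨s, rfl⟩
      have : ψ (Subgroup.inclusion hle s) ∈ Subgroup.map ψ (S.subgroupOf (P ⊔ S)) :=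
        ⟨Subgroup.inclusion hle s, Subgroup.mem_subgroupOf.mpr s.2, rfl⟩
      rw [hψS] at this
      exact this
    · intro hy
      have : y ∈ Subgroup.map ψ (S.subgroupOf (P ⊔ S)) := by rw [hψS]; exact hy
      obtain ⟨t, ht, rfl⟩ := this
      exact ⟨⟨t, Subgroup.mem_subgroupOf.mp ht⟩, rfl⟩
  obtain ⟨β, hβA, hβ⟩ := aut_of_range_eq F hψ' hrange
  rw [← hAS, mem_autInducedBy_iff] at hβA
  obtain ⟨g, hgS, hg⟩ := hβA
  refine ⟨g, hgS, fun x => ?_⟩
  have h1 := hβ ⟨x, hPS x.2⟩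
  rw [hg] at h1
  rw [← hψφ x]
  exact h1.symm

end Cfsg.Agent.Helper21.MetaFusion
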