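import Mathlib

set_option autoImplicit false

/-! Common eigenvectors: a finite commuting family of operators killed by a split polynomial has a common
eigenvector in every nonzero invariant subspace.  Multiplicative version: an abelian group of exponent
dividing `p - 1` acting on a group normalizes a subgroup of order `p` of every nontrivial invariant
elementary abelian `p`-subgroup.  Consequence: chief-like series with steps of order `p`. -/

namespace Cfsg.Agent.Helper21.SupersolEigen

open Polynomial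

section linear


variable {F V : Type*} [Field F] [AddCommGroup V] [Module F V]

theorem exists_eigenvector_of_splits (s : Module.End F V) (W : Submodule F V)
    (hW : ∀ w ∈ W, s w ∈ W) :
    ∀ (n : ℕ) (q : F[X]), q.natDegree = n → q.Splits → q ≠ 0 → ∀ w ∈ W, w ≠ 0 →
      (aeval s q) w = 0 → ∃ v ∈ W, v ≠ 0 ∧ ∃ c : F, s v = c • v := by
  intro n
  induction n with
  | zero =>
    intro q hn _ hq0 w _ hw0 hqw
    exfalso
    rw [Polynomial.eq_C_of_natDegree_eq_zero hn] at hqw hq0
    rw [aeval_C, Module.algebraMap_end_apply] at hqw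
    have hc : q.coeff 0 ≠ 0 := fun h => hq0 (by rw [h, C_0])
    exact hw0 ((smul_eq_zero.mp hqw).resolve_left hc)
  | succ n ih =>
    intro q hn hq hq0 w hw hw0 hqw
    have hdeg : q.degree ≠ 0 := by
      rw [Polynomial.degree_eq_natDegree hq0, hn]
      exact_mod_cast Nat.succ_ne_zero n
    obtain ⟨r, hr⟩ := hq.exists_eval_eq_zero hdeg
    have hfac : (X - C r) * (q /ₘ (X - C r)) = q := Polynomial.mul_divByMonic_eq_iff_isRoot.mpr hr
    obtain ⟨q', hq'⟩ : ∃ q', q' = q /ₘ (X - C r) := ⟨_, rfl⟩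
    rw [← hq'] at hfac
    have hq'0 : q' ≠ 0 := by
      rintro rfl
      rw [mul_zero] at hfac
      exact hq0 hfac.symm
    have hq's : q'.Splits := by
      rw [← hfac] at hq
      exact splits_X_sub_C_mul_iff.mp hq
    have hq'n : q'.natDegree = n := by
      have := congrArg natDegree hfac
      rw [natDegree_mul (X_sub_C_ne_zero r) hq'0, natDegree_X_sub_C, hn] at this
      omega
    have hw' : s w - r • w ∈ W := W.sub_mem (hW w hw) (W.smul_mem r hw)
    by_cases h0 : s w - r • w = 0
    · exact ⟨w, hw, hw0, r, sub_eq_zero.mp h0⟩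
    · apply ih q' hq'n hq's hq'0 (s w - r • w) hw' h0
      rw [← hfac, mul_comm, map_mul, Module.End.mul_apply] at hqw
      rw [map_sub, aeval_X, aeval_C, LinearMap.sub_apply, Module.algebraMap_end_apply] at hqw
      exact hqw

theorem exists_common_eigenvector_of_splits (q : F[X]) (hq : q.Splits) (hq0 : q ≠ 0)
    (S : Finset (Module.End F V)) (hS : ∀ s ∈ S, aeval s q = 0)
    (hc : ∀ s ∈ S, ∀ t ∈ S, s * t = t * s) :
    ∀ W : Submodule F V, W ≠ ⊥ → (∀ s ∈ S, ∀ w ∈ W, s w ∈ W) →
      ∃ v ∈ W, v ≠ 0 ∧ ∀ s ∈ S, ∃ c : F, s v = c • v := by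
  classical
  induction S using Finset.induction_on with
  | empty =>
    intro W hW _
    obtain ⟨v, hv, hv0⟩ := (Submodule.ne_bot_iff W).1 hW
    exact ⟨v, hv, hv0, by simp⟩
  | insert s S hs ih =>
    intro W hW hinv
    have hS' : ∀ t ∈ S, aeval t q = 0 := fun t ht => hS t (Finset.mem_insert_of_mem ht)
    have hc' : ∀ t ∈ S, ∀ u ∈ S, t * u = u * t := fun t ht u hu =>
      hc t (Finset.mem_insert_of_mem ht) u (Finset.mem_insert_of_mem hu)
    have hst : ∀ t ∈ S, ∀ v, s (t v) = t (s v) := by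
      intro t ht v
      have := hc s (Finset.mem_insert_self _ _) t (Finset.mem_insert_of_mem ht)
      rw [← Module.End.mul_apply, this]
      rfl
    have hWinv : ∀ t ∈ S, ∀ w ∈ W, t w ∈ W := fun t ht =>
      hinv t (Finset.mem_insert_of_mem ht)
    have hsW : ∀ w ∈ W, s w ∈ W := hinv s (Finset.mem_insert_self _ _)
    obtain ⟨w, hw, hw0⟩ := (Submodule.ne_bot_iff W).1 hW
    have hsq : (aeval s q) w = 0 := by
      rw [hS s (Finset.mem_insert_self _ _)]; rfl
    obtain ⟨v, hv, hv0, c, hcv⟩ :=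
      exists_eigenvector_of_splits s W hsW _ q rfl hq hq0 w hw hw0 hsq
    let Wc : Submodule F V :=
      { carrier := {w | w ∈ W ∧ s w = c • w}
        add_mem' := by
          rintro a b ⟨ha1, ha2⟩ ⟨hb1, hb2⟩
          exact ⟨W.add_mem ha1 hb1, by rw [map_add, ha2, hb2, smul_add]⟩
        zero_mem' := ⟨W.zero_mem, by rw [map_zero, smul_zero]⟩
        smul_mem' := by
          rintro d a ⟨ha1, ha2⟩
          exact ⟨W.smul_mem d ha1, by rw [map_smul, ha2, smul_comm]⟩ }
    have hWc_inv : ∀ t ∈ S, ∀ w ∈ Wc, t w ∈ Wc := by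
      rintro t ht w ⟨hw1, hw2⟩
      exact ⟨hWinv t ht w hw1, by rw [hst t ht, hw2, map_smul]⟩
    have hWc : Wc ≠ ⊥ := by
      intro hbot
      have : v ∈ Wc := ⟨hv, hcv⟩
      rw [hbot, Submodule.mem_bot] at this
      exact hv0 this
    obtain ⟨u, hu, hu0, huS⟩ := ih hS' hc' Wc hWc hWc_inv
    refine ⟨u, hu.1, hu0, ?_⟩
    intro t ht
    rcases Finset.mem_insert.1 ht with rfl | ht
    · exact ⟨c, hu.2⟩
    · exact huS t ht


end linear


theorem splits_X_pow_pred_sub_one (p : ℕ) [hp : Fact p.Prime] :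
    (X ^ (p - 1) - 1 : (ZMod p)[X]).Splits := by
  classical
  have h := Lagrange.nodal_subgroup_eq_X_pow_card_sub_one (R := ZMod p) (⊤ : Subgroup (ZMod p)ˣ)
  have hc : Fintype.card (⊤ : Subgroup (ZMod p)ˣ) = p - 1 := by
    rw [← ZMod.card_units p]
    exact Fintype.card_congr (Subgroup.topEquiv (G := (ZMod p)ˣ)).toEquiv
  rw [hc] at h
  rw [← h, Lagrange.nodal_eq]
  exact Splits.prod (fun i _ => Splits.X_sub_C _)

theorem X_pow_pred_sub_one_ne_zero (p : ℕ) [hp : Fact p.Prime] :
    (X ^ (p - 1) - 1 : (ZMod p)[X]) ≠ 0 := by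
  have h1 : 0 < p - 1 := Nat.sub_pos_of_lt hp.out.one_lt
  exact X_pow_sub_C_ne_zero h1 (1 : ZMod p)



theorem exists_invariant_zpowers {P : Type*} [Group P] {p : ℕ} [hp : Fact p.Prime] {K : Type*} [Group K]
    [Finite K] (hKc : ∀ a b : K, a * b = b * a) (hKe : ∀ a : K, a ^ (p - 1) = 1) (ρ : K →* MulAut P)
    (V : Subgroup P) (hVc : ∀ x ∈ V, ∀ y ∈ V, x * y = y * x) (hVp : ∀ x ∈ V, x ^ p = 1)
    (hV1 : V ≠ ⊥) (hVinv : ∀ a : K, ∀ x ∈ V, ρ a x ∈ V) :
    ∃ v ∈ V, v ≠ 1 ∧ ∀ a : K, ρ a v ∈ Subgroup.zpowers v := by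
  classical
  haveI : Fintype K := Fintype.ofFinite K
  letI : CommGroup ↥V :=
    { (inferInstance : Group ↥V) with mul_comm := fun x y => Subtype.ext (hVc x x.2 y y.2) }
  have hpM : ∀ x : Additive ↥V, p • x = 0 := by
    intro x
    obtain ⟨z, rfl⟩ := Additive.ofMul.surjective x
    rw [← ofMul_pow]
    have : z ^ p = 1 := Subtype.ext (by rw [Subgroup.coe_pow]; exact hVp z z.2)
    rw [this, ofMul_one]
  haveI : Module (ZMod p) (Additive ↥V) := AddCommGroup.zmodModule hpM
  obtain ⟨f, hf⟩ : ∃ f : K → (↥V →* ↥V), ∀ a z, ((f a z : ↥V) : P) = ρ a z :=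
    ⟨fun a => MonoidHom.codRestrict ((ρ a).toMonoidHom.comp V.subtype) V (fun z => hVinv a z z.2),
      fun a z => rfl⟩
  obtain ⟨T, hT⟩ : ∃ T : K → Module.End (ZMod p) (Additive ↥V),
      ∀ (a : K) (z : ↥V), T a (Additive.ofMul z) = Additive.ofMul (f a z) :=
    ⟨fun a => (MonoidHom.toAdditive (f a)).toZModLinearMap p, fun a z => rfl⟩
  have hTmul : ∀ a b, T a * T b = T (a * b) := by
    intro a b
    ext x
    obtain ⟨z, rfl⟩ := Additive.ofMul.surjective x
    have key : f a (f b z) = f (a * b) z :=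
      Subtype.ext (by rw [hf, hf, hf, map_mul, MulAut.mul_apply])
    rw [Module.End.mul_apply, hT, hT, hT, key]
  have hTone : T 1 = 1 := by
    ext x
    obtain ⟨z, rfl⟩ := Additive.ofMul.surjective x
    have key : f 1 z = z := Subtype.ext (by rw [hf, map_one, MulAut.one_apply])
    rw [hT, Module.End.one_apply, key]
  have hTpow : ∀ (a : K) (n : ℕ), T a ^ n = T (a ^ n) := by
    intro a n
    induction n with
    | zero => rw [pow_zero, pow_zero, hTone]
    | succ n ih => rw [pow_succ, pow_succ, ih, hTmul]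
  have hq : ∀ s ∈ Finset.univ.image T, aeval s (X ^ (p - 1) - 1 : (ZMod p)[X]) = 0 := by
    intro s hs
    obtain ⟨a, -, rfl⟩ := Finset.mem_image.mp hs
    rw [map_sub, map_pow, aeval_X, map_one, hTpow, hKe, hTone, sub_self]
  have hcm : ∀ s ∈ Finset.univ.image T, ∀ t ∈ Finset.univ.image T, s * t = t * s := by
    intro s hs t ht
    obtain ⟨a, -, rfl⟩ := Finset.mem_image.mp hs
    obtain ⟨b, -, rfl⟩ := Finset.mem_image.mp ht
    rw [hTmul, hTmul, hKc]
  have htop : (⊤ : Submodule (ZMod p) (Additive ↥V)) ≠ ⊥ := by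
    obtain ⟨z, hz1⟩ := Subgroup.ne_bot_iff_exists_ne_one.mp hV1
    intro h
    have h1 : Additive.ofMul z ∈ (⊤ : Submodule (ZMod p) (Additive ↥V)) := trivial
    rw [h, Submodule.mem_bot] at h1
    exact hz1 (Additive.ofMul.injective (h1.trans ofMul_one.symm))
  obtain ⟨v, -, hv0, hv⟩ := exists_common_eigenvector_of_splits _
    (splits_X_pow_pred_sub_one p) (X_pow_pred_sub_one_ne_zero p) (Finset.univ.image T) hq hcm ⊤
    htop (fun _ _ _ _ => trivial)
  obtain ⟨z, rfl⟩ := Additive.ofMul.surjective v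
  refine ⟨(z : P), z.2, ?_, fun a => ?_⟩
  · intro h
    apply hv0
    have : z = 1 := Subtype.ext h
    rw [this, ofMul_one]
  · obtain ⟨c, hc⟩ := hv (T a) (Finset.mem_image.mpr ⟨a, Finset.mem_univ _, rfl⟩)
    rw [hT] at hc
    have h1 : c • Additive.ofMul z = c.val • Additive.ofMul z := by
      conv_lhs => rw [← ZMod.natCast_zmod_val c]
      exact Nat.cast_smul_eq_nsmul (ZMod p) c.val (Additive.ofMul z)
    rw [h1, ← ofMul_pow] at hc
    have h2 : f a z = z ^ c.val := Additive.ofMul.injective hc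
    have h3 : ρ a z = (z : P) ^ c.val := by
      rw [← hf, h2, Subgroup.coe_pow]
    rw [h3]
    exact Subgroup.pow_mem _ (Subgroup.mem_zpowers _) _


/-- An invariant subgroup is mapped onto itself. -/
theorem map_eq_of_invariant {P : Type*} [Group P] {K : Type*} [Group K] (ρ : K →* MulAut P)
    (N : Subgroup P) (hN : ∀ a : K, ∀ y ∈ N, ρ a y ∈ N) (a : K) :
    N.map (ρ a).toMonoidHom = N := by
  apply le_antisymm
  · rintro _ ⟨y, hy, rfl⟩
    exact hN a y hy
  · intro y hy
    refine ⟨ρ a⁻¹ y, hN a⁻¹ y hy, ?_⟩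
    show ρ a (ρ a⁻¹ y) = y
    rw [← MulAut.mul_apply, ← map_mul, mul_inv_cancel, map_one, MulAut.one_apply]

/-- The action induced on a quotient by an invariant normal subgroup. -/
noncomputable def quotAct {P : Type*} [Group P] {K : Type*} [Group K] (ρ : K →* MulAut P)
    (N : Subgroup P) [N.Normal] (hN : ∀ a : K, ∀ y ∈ N, ρ a y ∈ N) : K →* MulAut (P ⧸ N) where
  toFun a := QuotientGroup.congr N N (ρ a) (map_eq_of_invariant ρ N hN a)
  map_one' := by
    ext x
    induction x using QuotientGroup.induction_on with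
    | H x =>
      show (QuotientGroup.mk ((ρ 1) x) : P ⧸ N) = QuotientGroup.mk x
      rw [map_one, MulAut.one_apply]
  map_mul' a b := by
    ext x
    induction x using QuotientGroup.induction_on with
    | H x =>
      show (QuotientGroup.mk ((ρ (a * b)) x) : P ⧸ N) = QuotientGroup.mk (ρ a (ρ b x))
      rw [map_mul, MulAut.mul_apply]

theorem quotAct_mk {P : Type*} [Group P] {K : Type*} [Group K] (ρ : K →* MulAut P)
    (N : Subgroup P) [N.Normal] (hN : ∀ a : K, ∀ y ∈ N, ρ a y ∈ N) (a : K) (x : P) :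
    quotAct ρ N hN a (QuotientGroup.mk x) = QuotientGroup.mk (ρ a x) := rfl

universe u

/-- A finite abelian group of exponent dividing `p - 1` acting on a finite `p`-group stabilizes a chain of
normal subgroups from `⊥` to `⊤` whose steps are generated by one element. -/
theorem exists_chain_of_abelian_action {p : ℕ} [hp : Fact p.Prime] {K : Type*} [Group K] [Finite K]
    (hKc : ∀ a b : K, a * b = b * a) (hKe : ∀ a : K, a ^ (p - 1) = 1) :
    ∀ (n : ℕ) (P : Type u) [Group P] [Finite P], Nat.card P = p ^ n → ∀ ρ : K →* MulAut P,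
      ∃ c : ℕ → Subgroup P, c 0 = ⊥ ∧ c n = ⊤ ∧ (∀ i, c i ≤ c (i + 1)) ∧ (∀ i, (c i).Normal) ∧
        (∀ i, ∀ a : K, ∀ y ∈ c i, ρ a y ∈ c i) ∧
        ∀ i, ∃ x : P, c (i + 1) = c i ⊔ Subgroup.zpowers x := by
  intro n
  induction n with
  | zero =>
    intro P _ _ hcard ρ
    rw [pow_zero] at hcard
    haveI : Subsingleton P := (Nat.card_eq_one_iff_unique.mp hcard).1
    refine ⟨fun _ => ⊤, Subsingleton.elim _ _, rfl, fun _ => le_rfl, fun _ => inferInstance,
      fun _ _ _ _ => trivial, fun _ => ⟨1, ?_⟩⟩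
    simp
  | succ n ih =>
    intro P _ _ hcard ρ
    have hP : IsPGroup p P := IsPGroup.of_card hcard
    haveI : Nontrivial P := by
      apply (Finite.one_lt_card_iff_nontrivial).mp
      rw [hcard]
      exact Nat.one_lt_pow (Nat.succ_ne_zero n) hp.out.one_lt
    -- the elements of order dividing `p` of the centre
    obtain ⟨V, hV⟩ : ∃ V : Subgroup P, ∀ z, z ∈ V ↔ z ∈ Subgroup.center P ∧ z ^ p = 1 := by
      refine ⟨{ carrier := {z | z ∈ Subgroup.center P ∧ z ^ p = 1}
                one_mem' := ⟨Subgroup.one_mem _, one_pow _⟩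
                mul_mem' := ?_
                inv_mem' := ?_ }, fun z => Iff.rfl⟩
      · rintro a b ⟨ha, ha'⟩ ⟨hb, hb'⟩
        refine ⟨Subgroup.mul_mem _ ha hb, ?_⟩
        have hc : Commute a b := (Subgroup.mem_center_iff.mp ha b).symm
        rw [hc.mul_pow, ha', hb', one_mul]
      · rintro a ⟨ha, ha'⟩
        exact ⟨Subgroup.inv_mem _ ha, by rw [inv_pow, ha', inv_one]⟩
    have hVc : ∀ x ∈ V, ∀ y ∈ V, x * y = y * x := by
      intro x hx y _
      exact (Subgroup.mem_center_iff.mp ((hV x).mp hx).1 y).symm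
    have hVp : ∀ x ∈ V, x ^ p = 1 := fun x hx => ((hV x).mp hx).2
    have hV1 : V ≠ ⊥ := by
      haveI : Nontrivial (Subgroup.center P) := hP.center_nontrivial
      have hZp : IsPGroup p (Subgroup.center P) := hP.to_subgroup _
      have hdvd : p ∣ Nat.card (Subgroup.center P) := by
        rcases hZp.card_eq_or_dvd with h | h
        · exact absurd h (Finite.one_lt_card_iff_nontrivial.mpr inferInstance).ne'
        · exact h
      obtain ⟨z, hz⟩ := exists_prime_orderOf_dvd_card' p hdvd
      intro hbot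
      have hzV : (z : P) ∈ V := by
        rw [hV]
        refine ⟨z.2, ?_⟩
        have : z ^ p = 1 := by rw [← hz]; exact pow_orderOf_eq_one z
        have := congrArg Subtype.val this
        simpa using this
      rw [hbot, Subgroup.mem_bot] at hzV
      have : z = 1 := Subtype.ext hzV
      rw [this, orderOf_one] at hz
      exact hp.out.one_lt.ne hz
    have hVinv : ∀ a : K, ∀ x ∈ V, ρ a x ∈ V := by
      intro a x hx
      rw [hV] at hx ⊢
      refine ⟨?_, by rw [← map_pow, hx.2, map_one]⟩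
      rw [Subgroup.mem_center_iff]
      intro g
      have h1 := Subgroup.mem_center_iff.mp hx.1 ((ρ a).symm g)
      have h2 := congrArg (ρ a) h1
      rw [map_mul, map_mul, MulEquiv.apply_symm_apply] at h2
      exact h2
    obtain ⟨v, hvV, hv1, hvK⟩ := exists_invariant_zpowers hKc hKe ρ V hVc hVp hV1 hVinv
    obtain ⟨N, hNdef⟩ : ∃ N : Subgroup P, N = Subgroup.zpowers v := ⟨_, rfl⟩
    have hvc : v ∈ Subgroup.center P := ((hV v).mp hvV).1
    haveI hNn : N.Normal := by
      constructor
      intro y hy g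
      have hyc : y ∈ Subgroup.center P := by
        rw [hNdef] at hy
        exact (Subgroup.zpowers_le.mpr hvc) hy
      have : g * y * g⁻¹ = y := by
        rw [Subgroup.mem_center_iff.mp hyc g, mul_inv_cancel_right]
      rw [this]; exact hy
    have hNinv : ∀ a : K, ∀ y ∈ N, ρ a y ∈ N := by
      intro a y hy
      rw [hNdef] at hy ⊢
      obtain ⟨k, rfl⟩ := Subgroup.mem_zpowers_iff.mp hy
      rw [map_zpow]
      exact Subgroup.zpow_mem _ (hvK a) k
    have hNcard : Nat.card N = p := by
      rw [hNdef, Nat.card_zpowers]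
      exact orderOf_eq_prime (hVp v hvV) hv1
    have hQcard : Nat.card (P ⧸ N) = p ^ n := by
      have h1 := Subgroup.card_eq_card_quotient_mul_card_subgroup N
      rw [hcard, hNcard, pow_succ] at h1
      exact (Nat.eq_of_mul_eq_mul_right hp.out.pos h1).symm
    obtain ⟨c', hc0, hcn, hcmono, hcnorm, hcinv, hcstep⟩ :=
      ih (P ⧸ N) hQcard (quotAct ρ N hNinv)
    have hker : (⊥ : Subgroup (P ⧸ N)).comap (QuotientGroup.mk' N) = N := by
      rw [MonoidHom.comap_bot, QuotientGroup.ker_mk']
    have hNle : ∀ D : Subgroup (P ⧸ N), N ≤ D.comap (QuotientGroup.mk' N) := by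
      intro D
      exact (le_of_eq hker.symm).trans (Subgroup.comap_mono bot_le)
    refine ⟨fun i => Nat.casesOn i ⊥ (fun i => (c' i).comap (QuotientGroup.mk' N)), rfl, ?_, ?_, ?_,
      ?_, ?_⟩
    · show (c' n).comap (QuotientGroup.mk' N) = ⊤
      rw [hcn, Subgroup.comap_top]
    · intro i
      cases i with
      | zero => exact bot_le
      | succ i => exact Subgroup.comap_mono (hcmono i)
    · intro i
      cases i with
      | zero => exact (inferInstance : (⊥ : Subgroup P).Normal)
      | succ i =>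
        haveI := hcnorm i
        exact (inferInstance : ((c' i).comap (QuotientGroup.mk' N)).Normal)
    · intro i a y hy
      cases i with
      | zero =>
        have hy' : y = 1 := Subgroup.mem_bot.mp hy
        rw [hy', map_one]
        exact Subgroup.one_mem _
      | succ i =>
        have hy' : (QuotientGroup.mk y : P ⧸ N) ∈ c' i := hy
        have := hcinv i a _ hy'
        rw [quotAct_mk] at this
        exact this
    · intro i
      cases i with
      | zero =>
        refine ⟨v, ?_⟩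
        show (c' 0).comap (QuotientGroup.mk' N) = ⊥ ⊔ Subgroup.zpowers v
        rw [hc0, hker, bot_sup_eq, hNdef]
      | succ i =>
        obtain ⟨xb, hxb⟩ := hcstep i
        obtain ⟨x, rfl⟩ := QuotientGroup.mk_surjective xb
        refine ⟨x, ?_⟩
        show (c' (i + 1)).comap (QuotientGroup.mk' N) =
          (c' i).comap (QuotientGroup.mk' N) ⊔ Subgroup.zpowers x
        rw [hxb, ← Subgroup.comap_sup_eq _ _ _ (QuotientGroup.mk'_surjective N)]
        have h1 : (Subgroup.zpowers (QuotientGroup.mk x : P ⧸ N)).comap (QuotientGroup.mk' N) =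
            Subgroup.zpowers x ⊔ N := by
          have : Subgroup.zpowers (QuotientGroup.mk x : P ⧸ N) =
              (Subgroup.zpowers x).map (QuotientGroup.mk' N) := by
            rw [MonoidHom.map_zpowers]; rfl
          rw [this, Subgroup.comap_map_eq, QuotientGroup.ker_mk']
        rw [h1, ← sup_assoc, sup_comm _ (Subgroup.zpowers x), sup_assoc,
          sup_eq_left.mpr (hNle (c' i)), sup_comm]

end Cfsg.Agent.Helper21.SupersolEigen
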