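import Mathlib
import Cfsg.Prelude.Def_FusionSystem
import Cfsg.Agent.Lib.Helper25.FusionNormal3
import Cfsg.Agent.Lib.Helper25.FusionRS
import Cfsg.Agent.Lib.Helper25.FusionProduct3
import Cfsg.Agent.Lib.Helper21.SupersolChain
import Cfsg.Agent.Lib.Helper21.SupersolEigen
import Cfsg.Agent.Lib.Helper21.AutSys

set_option autoImplicit false

/-! Supersoluble fusion systems: a saturated fusion system with a chain of strongly closed subgroups with
cyclic steps is the fusion system of `S ⋊ H` with `H` an abelian `p'`-group of exponent dividing `p - 1`,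
and conversely. -/

namespace Cfsg.Agent.Helper21.SupersolFusion

open Cfsg Cfsg.FusionSystem Cfsg.Agent.Helper25 Cfsg.Agent.Helper21.SupersolChain
  Cfsg.Agent.Helper21.SupersolEigen Cfsg.Agent.Helper21.AutSys

variable {Ω : Type*} [Group Ω] {S : Subgroup Ω}

/-- `ℕ`-indexed form of a chain of strongly closed subgroups with cyclic steps. -/
structure NChain (F : FusionSystem S) (R : ℕ → Subgroup Ω) (m : ℕ) : Prop where
  zero : R 0 = ⊥
  top : ∀ i, m ≤ i → R i = S
  mono : ∀ i, R i ≤ R (i + 1)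
  sc : ∀ i, F.StronglyClosed (R i)
  step : ∀ i, ∃ x ∈ S, R (i + 1) = R i ⊔ Subgroup.zpowers x

theorem stronglyClosed_self (F : FusionSystem S) : F.StronglyClosed S :=
  ⟨le_rfl, fun _ _ _ hφ x => (F.le_of_mem hφ).2 x⟩

theorem exists_nchain (F : FusionSystem S) (m : ℕ) (c : Fin (m + 1) → Subgroup Ω) (h0 : c 0 = ⊥)
    (hm : c (Fin.last m) = S) (hsc : ∀ i, F.StronglyClosed (c i))
    (hstep : ∀ i : Fin m, c i.castSucc ≤ c i.succ ∧
      ∃ x ∈ S, c i.succ = c i.castSucc ⊔ Subgroup.zpowers x) :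
    ∃ R : ℕ → Subgroup Ω, NChain F R m := by
  obtain ⟨R, hR⟩ : ∃ R : ℕ → Subgroup Ω, R = fun i =>
      if h : i ≤ m then c ⟨i, Nat.lt_succ_of_le h⟩ else S := ⟨_, rfl⟩
  have hle : ∀ i (h : i ≤ m), R i = c ⟨i, Nat.lt_succ_of_le h⟩ := by
    intro i h; rw [hR]; simp [h]
  have hgt : ∀ i, ¬ i ≤ m → R i = S := by
    intro i h; rw [hR]; simp [h]
  have hlast : R m = S := by
    rw [hle m le_rfl, ← hm]; rfl
  refine ⟨R, ⟨?_, ?_, ?_, ?_, ?_⟩⟩
  · rw [hle 0 (Nat.zero_le m), ← h0]; rfl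
  · intro i hi
    rcases Nat.eq_or_lt_of_le hi with rfl | hlt
    · exact hlast
    · exact hgt i (by omega)
  · intro i
    by_cases hi : i + 1 ≤ m
    · rw [hle i (by omega), hle (i + 1) hi]
      exact (hstep ⟨i, by omega⟩).1
    · rw [hgt (i + 1) hi]
      by_cases hi' : i ≤ m
      · rw [hle i hi']; exact (hsc _).1
      · rw [hgt i hi']
  · intro i
    by_cases hi : i ≤ m
    · rw [hle i hi]; exact hsc _
    · rw [hgt i hi]; exact stronglyClosed_self F
  · intro i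
    by_cases hi : i + 1 ≤ m
    · rw [hle i (by omega), hle (i + 1) hi]
      exact (hstep ⟨i, by omega⟩).2
    · refine ⟨1, S.one_mem, ?_⟩
      rw [hgt (i + 1) hi]
      have : R i = S := by
        by_cases hi' : i ≤ m
        · have : i = m := by omega
          rw [this]; exact hlast
        · exact hgt i hi'
      rw [this]
      simp

/-- The chain induced on a subgroup `P ≤ S`. -/
theorem chain_in (F : FusionSystem S) {R : ℕ → Subgroup Ω} {m : ℕ} (hR : NChain F R m)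
    {P : Subgroup Ω} (hPS : P ≤ S) :
    (R 0).subgroupOf P = ⊥ ∧ (R m).subgroupOf P = ⊤ ∧
      (∀ i, (R i).subgroupOf P ≤ (R (i + 1)).subgroupOf P) ∧
      (∀ i, ((R i).subgroupOf P).Normal) ∧
      (∀ i, ∀ α ∈ F.autGroup P, ∀ y ∈ (R i).subgroupOf P, α y ∈ (R i).subgroupOf P) ∧
      ∀ i, CycStep ((R i).subgroupOf P) ((R (i + 1)).subgroupOf P) := by
  refine ⟨?_, ?_, ?_, ?_, ?_, ?_⟩
  · rw [hR.zero, Subgroup.bot_subgroupOf]
  · rw [hR.top m le_rfl]
    exact Subgroup.subgroupOf_eq_top.mpr hPS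
  · intro i
    exact Subgroup.subgroupOf_mono P (hR.mono i)
  · intro i
    constructor
    intro y hy g
    rw [Subgroup.mem_subgroupOf] at hy ⊢
    exact conj_mem_of_stronglyClosed F (hR.sc i) (hPS g.2) hy
  · intro i α hα y hy
    rw [Subgroup.mem_subgroupOf] at hy ⊢
    exact aut_mem_of_stronglyClosed F (hR.sc i) hPS hα hy
  · intro i
    obtain ⟨x, hxS, hx⟩ := hR.step i
    have hn : ∀ g ∈ R (i + 1), ∀ u ∈ R i, g * u * g⁻¹ ∈ R i := fun g hg u hu =>
      conj_mem_of_stronglyClosed F (hR.sc i) ((hR.sc (i + 1)).1 hg) hu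
    obtain ⟨y₀, hy₀, hy⟩ := exists_gen_of_le_sup_zpowers (R i) (R (i + 1)) (R (i + 1) ⊓ P) x hx hn
      inf_le_left
    refine ⟨⟨y₀, hy₀.2⟩, Subgroup.mem_subgroupOf.mpr hy₀.1, fun y hyV => ?_⟩
    obtain ⟨j, hj⟩ := hy (y : Ω) ⟨Subgroup.mem_subgroupOf.mp hyV, y.2⟩
    refine ⟨j, ?_⟩
    rw [Subgroup.mem_subgroupOf]
    simpa using hj

/-- A saturated fusion system with a chain of strongly closed subgroups with cyclic steps has `S`
normal. -/
theorem isNormal_of_nchain [Finite S] (p : ℕ) [Fact p.Prime] (hS : IsPGroup p S)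
    (F : FusionSystem S) (hF : F.IsSaturated p) {R : ℕ → Subgroup Ω} {m : ℕ} (hR : NChain F R m) :
    F.IsNormal S := by
  apply isNormal_of_stronglyClosed_of_forall p hS F hF (stronglyClosed_self F)
  intro P hc _ x hxS hxN
  have hPS : P ≤ S := hc.1
  haveI : Finite P := finite_of_le_finite hPS
  have hPp : IsPGroup p P := hS.to_le hPS
  obtain ⟨h0, hm, hmono, hnorm, hinv, hcyc⟩ := chain_in F hR hPS
  obtain ⟨β, hβ⟩ : ∃ β : MulAut P, β = P.normalizerMonoidHom ⟨x, hxN⟩ := ⟨_, rfl⟩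
  have hβA : β ∈ F.autGroup P := by
    apply autInducedBy_le_autGroup F hPS
    rw [hβ]
    exact (mem_autInducedBy_iff _).mpr ⟨x, hxS, fun y => rfl⟩
  have hβp : ∃ k : ℕ, β ^ p ^ k = 1 := by
    obtain ⟨k, hk⟩ := hS ⟨x, hxS⟩
    refine ⟨k, ?_⟩
    have hk' : x ^ p ^ k = 1 := by
      have := congrArg Subtype.val hk
      simpa using this
    rw [hβ, ← map_pow]
    have : (⟨x, hxN⟩ : ↥(Subgroup.normalizer (P : Set Ω))) ^ p ^ k = 1 := by
      apply Subtype.ext
      rw [Subgroup.coe_pow]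
      exact hk'
    rw [this, map_one]
  rw [← hβ]
  exact mem_pCore_of_pElement hPp (F.autGroup P) (fun i => (R i).subgroupOf P) m hmono h0 hm hnorm hinv
    hcyc hβA hβp

/-- If the fusion system of `S ⋊ H` (`H` a `p'`-group of automorphisms of `S`) has a chain of strongly
closed subgroups with cyclic steps, then `H` is abelian of exponent dividing `p - 1`. -/
theorem comm_exp_of_nchain [Finite S] (p : ℕ) [Fact p.Prime] (hS : IsPGroup p S)
    (H : Subgroup (MulAut S)) (hH : (Nat.card H).Coprime p) {R : ℕ → Subgroup Ω} {m : ℕ}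
    (hR : NChain (autSys S H) R m) :
    (∀ α ∈ H, ∀ β ∈ H, α * β = β * α) ∧ ∀ α ∈ H, α ^ (p - 1) = 1 := by
  obtain ⟨h0, hm, hmono, hnorm, hinv, hcyc⟩ := chain_in (autSys S H) hR (le_refl S)
  have hHA : ∀ α ∈ H, α ∈ (autSys S H).autGroup S := fun α hα =>
    (mem_autGroup_iff _ le_rfl α).mpr (subtype_comp_mem hα)
  exact comm_and_exp_of_coprime hS H (fun i => (R i).subgroupOf S) m hmono h0 hm hnorm
    (fun i α hα => hinv i α (hHA α hα)) hcyc hH

/-- A saturated fusion system with `S` normal, such that the `p'`-subgroups of `Aut(S)` are abelian of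
exponent dividing `p - 1`, has a chain of strongly closed subgroups with cyclic steps. -/
theorem exists_chain_of_isNormal [Finite S] (p : ℕ) [hp : Fact p.Prime] (hS : IsPGroup p S)
    (F : FusionSystem S) (hF : F.IsSaturated p) (hN : F.IsNormal S)
    (hQ : ∀ H : Subgroup (MulAut ↥S), (Nat.card ↥H).Coprime p →
      IsMulCommutative ↥H ∧ ∀ h ∈ H, h ^ (p - 1) = 1) :
    ∃ (m : ℕ) (c : Fin (m + 1) → Subgroup Ω), c 0 = ⊥ ∧ c (Fin.last m) = S ∧
      (∀ i : Fin (m + 1), F.StronglyClosed (c i)) ∧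
      ∀ i : Fin m, c i.castSucc ≤ c i.succ ∧
        ∃ x ∈ S, c i.succ = c i.castSucc ⊔ Subgroup.zpowers x := by
  haveI : Finite (MulAut S) := inferInstance
  obtain ⟨-, Rs, hRs⟩ := isFullyAutomized_self p F hF
  -- `Aut_S(S)` is normal in `Aut_F(S)`
  haveI hRn : (Rs : Subgroup (F.autGroup S)).Normal := by
    constructor
    intro γ hγ α
    rw [hRs, Subgroup.mem_subgroupOf] at hγ ⊢
    obtain ⟨g, hg, hgγ⟩ := (mem_autInducedBy_iff _).mp hγ
    rw [mem_autInducedBy_iff]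
    refine ⟨((α : MulAut S) ⟨g, hg⟩ : S), Subtype.property _, fun x => ?_⟩
    have h1 : ((α * γ * α⁻¹ : F.autGroup S) : MulAut S) x =
        (α : MulAut S) ((γ : MulAut S) ((α : MulAut S)⁻¹ x)) := rfl
    have h2 : (γ : MulAut S) ((α : MulAut S)⁻¹ x) =
        ⟨g, hg⟩ * ((α : MulAut S)⁻¹ x) * ⟨g, hg⟩⁻¹ := Subtype.ext (hgγ _)
    rw [h1, h2, map_mul, map_mul, MulAut.apply_inv_self, map_inv]
    rfl
  obtain ⟨H', hH'⟩ := Subgroup.exists_left_complement'_of_coprime (N := (Rs : Subgroup (F.autGroup S)))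
    Rs.card_coprime_index
  have hH'card : (Nat.card H').Coprime p := by
    rw [← hH'.index_eq_card]
    exact ((Nat.Prime.coprime_iff_not_dvd hp.out).mpr Rs.not_dvd_index).symm
  obtain ⟨H, hHdef⟩ : ∃ H : Subgroup (MulAut S), H = H'.map (F.autGroup S).subtype := ⟨_, rfl⟩
  have hHcard : (Nat.card H).Coprime p := by
    rw [hHdef, Subgroup.card_map_of_injective (F.autGroup S).subtype_injective]
    exact hH'card
  obtain ⟨hHc, hHe⟩ := hQ H hHcard
  have hKc : ∀ a b : H, a * b = b * a := fun a b => hHc.is_comm.comm a b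
  have hKe : ∀ a : H, a ^ (p - 1) = 1 := fun a => Subtype.ext (by
    rw [Subgroup.coe_pow]; exact hHe a.1 a.2)
  obtain ⟨n, hn⟩ := hS.exists_card_eq
  obtain ⟨c, hc0, hcn, hcmono, hcnorm, hcinv, hcstep⟩ :=
    exists_chain_of_abelian_action hKc hKe n ↥S hn H.subtype
  -- every element of `Aut_F(S)` preserves the chain
  have hpres : ∀ β ∈ F.autGroup S, ∀ i, ∀ y ∈ c i, β y ∈ c i := by
    intro β hβ i y hy
    obtain ⟨⟨⟨h, hh⟩, ⟨r, hr⟩⟩, hhr⟩ := (hH'.existsUnique ⟨β, hβ⟩).exists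
    have hβeq : β = (h : MulAut S) * (r : MulAut S) := by
      have := congrArg Subtype.val hhr
      exact this.symm
    have hr' : (r : MulAut S) ∈ autInducedBy S S := by
      have : r ∈ (Rs : Subgroup (F.autGroup S)) := hr
      rw [hRs, Subgroup.mem_subgroupOf] at this
      exact this
    obtain ⟨g, hg, hgr⟩ := (mem_autInducedBy_iff _).mp hr'
    have h1 : (r : MulAut S) y ∈ c i := by
      have : (r : MulAut S) y = ⟨g, hg⟩ * y * ⟨g, hg⟩⁻¹ := Subtype.ext (hgr y)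
      rw [this]
      exact (hcnorm i).conj_mem y hy _
    have hhH : (h : MulAut S) ∈ H := by
      rw [hHdef]; exact ⟨h, hh, rfl⟩
    have h2 := hcinv i ⟨(h : MulAut S), hhH⟩ _ h1
    rw [hβeq, MulAut.mul_apply]
    exact h2
  refine ⟨n, fun i => (c i).map S.subtype, ?_, ?_, ?_, ?_⟩
  · show (c ((0 : Fin (n + 1)) : ℕ)).map S.subtype = ⊥
    rw [Fin.val_zero, hc0, Subgroup.map_bot]
  · show (c ((Fin.last n : Fin (n + 1)) : ℕ)).map S.subtype = S
    rw [Fin.val_last, hcn, ← MonoidHom.range_eq_map, Subgroup.range_subtype]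
  · intro i
    refine ⟨Subgroup.map_subtype_le _, fun T hT φ hφ x => ?_⟩
    have hTS : T ≤ S := hT.trans (Subgroup.map_subtype_le _)
    obtain ⟨ψ, hψ, hext, -⟩ := hN.2 T φ hφ
    have hψ' := restrict_mem F (le_sup_right : S ≤ T ⊔ S) hψ
    have hval : ∀ s : S, (ψ.comp (Subgroup.inclusion (le_sup_right : S ≤ T ⊔ S))) s ∈ S :=
      (F.le_of_mem hψ').2
    obtain ⟨β, hβA, hβ⟩ := exists_aut_of_hom F hψ' hval
    have hx : (⟨(x : Ω), hTS x.2⟩ : S) ∈ c i := by
      obtain ⟨y, hy, hyx⟩ := hT x.2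
      have : y = ⟨(x : Ω), hTS x.2⟩ := Subtype.ext hyx
      rw [← this]; exact hy
    have h1 := hpres β hβA i _ hx
    have h2 : φ x = ((β ⟨(x : Ω), hTS x.2⟩ : S) : Ω) := by
      rw [hβ, ← hext x]
      rfl
    rw [h2]
    exact ⟨_, h1, rfl⟩
  · intro i
    refine ⟨?_, ?_⟩
    · show (c ((i.castSucc : Fin (n + 1)) : ℕ)).map S.subtype ≤
        (c ((i.succ : Fin (n + 1)) : ℕ)).map S.subtype
      rw [Fin.coe_castSucc, Fin.val_succ]
      exact Subgroup.map_mono (hcmono i)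
    · obtain ⟨x, hx⟩ := hcstep i
      refine ⟨(x : Ω), x.2, ?_⟩
      show (c ((i.succ : Fin (n + 1)) : ℕ)).map S.subtype =
        (c ((i.castSucc : Fin (n + 1)) : ℕ)).map S.subtype ⊔ Subgroup.zpowers (x : Ω)
      rw [Fin.coe_castSucc, Fin.val_succ, hx, Subgroup.map_sup, MonoidHom.map_zpowers]
      rfl

end Cfsg.Agent.Helper21.SupersolFusion
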