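import Mathlib
import Cfsg.Agent.S5283
import Cfsg.Agent.S5234
import Cfsg.Agent.S5235
import Cfsg.Agent.Lib.Helper21.MetaAut
import Cfsg.Agent.Lib.Helper21.MetaAut2
import Cfsg.Agent.Lib.Helper21.SupersolFusion

set_option autoImplicit false

/-! Metacyclic `p`-groups which are not homocyclic of rank two, dihedral, quasidihedral or
generalized quaternion are of supersoluble type. -/

namespace Cfsg.Agent.Helper21.MetaSS

open Cfsg

section abstract

variable {X : Type*} [Group X] [Finite X]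

/-- odd order automorphism groups of a metacyclic `2`-group which is neither homocyclic nor
quaternion are trivial -/
theorem autCond_two (hX : IsPGroup 2 X) (hm : IsMetacyclic X)
    (hh : ¬ ∃ n : ℕ, 0 < n ∧
      Nonempty (X ≃* Multiplicative (ZMod (2 ^ n)) × Multiplicative (ZMod (2 ^ n))))
    (hq : ¬ ∃ n : ℕ, 2 ≤ n ∧ Nonempty (X ≃* QuaternionGroup n))
    (H : Subgroup (MulAut X)) (hH : (Nat.card ↥H).Coprime 2) :
    IsMulCommutative ↥H ∧ ∀ h ∈ H, h ^ (2 - 1) = 1 := by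
  have key : ∀ α ∈ H, α = 1 := by
    intro α hα
    by_contra hne
    obtain ⟨N, hNn, hNc, hQc⟩ := hm
    obtain ⟨M0⟩ := exists_mcGen N hNc hQc
    have hodd : Odd (orderOf α) := by
      have h2 : orderOf α ∣ Nat.card ↥H := by
        have : orderOf (⟨α, hα⟩ : H) ∣ Nat.card ↥H := orderOf_dvd_natCard _
        rwa [Subgroup.orderOf_mk] at this
      have h3 := Nat.Coprime.coprime_dvd_left h2 hH
      rwa [Nat.coprime_two_right] at h3
    rcases MetaAut.mazurov hX M0 α hne hodd with ⟨e, he, ⟨ε⟩⟩ | hQ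
    · exact hh ⟨e, he, ⟨ε.trans (MulEquiv.prodMultiplicative _ _)⟩⟩
    · exact hq ⟨2, le_rfl, MetaAut.quat_equiv hQ⟩
  constructor
  · refine ⟨⟨fun a b => Subtype.ext ?_⟩⟩
    rw [Subgroup.coe_mul, Subgroup.coe_mul, key a a.2, key b b.2]
  · intro h hh
    rw [key h hh, one_pow]

end abstract

variable {Ω : Type*} [Group Ω] {S : Subgroup Ω}

theorem stronglyClosed_bot' (F : FusionSystem S) : F.StronglyClosed ⊥ := by
  refine ⟨bot_le, fun R hR φ _ x => ?_⟩
  have hx : (x : Ω) = 1 := by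
    have := hR x.2
    rwa [Subgroup.mem_bot] at this
  have hx1 : x = 1 := Subtype.ext hx
  rw [hx1, map_one]
  exact Subgroup.one_mem _

/-- cyclic groups -/
theorem chain_of_cyclic (hc : IsCyclic ↥S) (F : FusionSystem S) :
    ∃ (m : ℕ) (c : Fin (m + 1) → Subgroup Ω), c 0 = ⊥ ∧ c (Fin.last m) = S ∧
      (∀ i : Fin (m + 1), F.StronglyClosed (c i)) ∧
      ∀ i : Fin m, c i.castSucc ≤ c i.succ ∧
        ∃ x ∈ S, c i.succ = c i.castSucc ⊔ Subgroup.zpowers x := by
  obtain ⟨⟨g, hgS⟩, hg⟩ := hc.exists_generator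
  have hSg : S = Subgroup.zpowers g := by
    apply le_antisymm
    · intro x hx
      have := hg ⟨x, hx⟩
      rw [Subgroup.mem_zpowers_iff] at this ⊢
      obtain ⟨k, hk⟩ := this
      refine ⟨k, ?_⟩
      have := congrArg Subtype.val hk
      rwa [Subgroup.coe_zpow] at this
    · rw [Subgroup.zpowers_le]; exact hgS
  refine ⟨1, ![⊥, S], rfl, rfl, ?_, ?_⟩
  · intro i
    fin_cases i
    · exact stronglyClosed_bot' F
    · exact SupersolFusion.stronglyClosed_self F
  · intro i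
    fin_cases i
    refine ⟨bot_le, g, hgS, ?_⟩
    show S = ⊥ ⊔ Subgroup.zpowers g
    rw [bot_sup_eq]
    exact hSg

/-- the list of exceptions -/
def Bad (p : ℕ) (S : Subgroup Ω) : Prop :=
  (∃ n : ℕ, 0 < n ∧
      Nonempty (↥S ≃* Multiplicative (ZMod (p ^ n)) × Multiplicative (ZMod (p ^ n)))) ∨
    (p = 2 ∧ ((∃ n : ℕ, 2 ≤ n ∧ Nonempty (↥S ≃* DihedralGroup n)) ∨ Cfsg.IsQuasiDihedral ↥S ∨
      (∃ n : ℕ, 2 ≤ n ∧ Nonempty (↥S ≃* QuaternionGroup n))))

variable [Finite S]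

theorem not_dihedral (hnc : ¬ IsCyclic ↥S) (hbad : ¬ Bad 2 S) :
    ¬ ∃ m : ℕ, Nonempty (↥S ≃* DihedralGroup m) := by
  rintro ⟨m, ⟨e⟩⟩
  rcases Nat.lt_or_ge m 2 with hm | hm
  · interval_cases m
    · have h1 : orderOf (e.symm (DihedralGroup.r 1)) = 0 := by
        rw [MulEquiv.orderOf_eq, DihedralGroup.orderOf_r_one]
      have h2 := orderOf_pos (e.symm (DihedralGroup.r 1))
      omega
    · apply hnc
      haveI : Fact (Nat.Prime 2) := ⟨Nat.prime_two⟩
      apply isCyclic_of_prime_card (p := 2)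
      rw [Nat.card_congr e.toEquiv, DihedralGroup.nat_card]
  · exact hbad (Or.inr ⟨rfl, Or.inl ⟨m, hm, ⟨e⟩⟩⟩)

theorem not_quaternion (hnc : ¬ IsCyclic ↥S) (hbad : ¬ Bad 2 S) :
    ¬ ∃ m : ℕ, Nonempty (↥S ≃* QuaternionGroup m) := by
  rintro ⟨m, ⟨e⟩⟩
  rcases Nat.lt_or_ge m 2 with hm | hm
  · interval_cases m
    · have h1 : orderOf (e.symm (QuaternionGroup.a 1)) = 0 := by
        rw [MulEquiv.orderOf_eq, QuaternionGroup.orderOf_a_one]
      have h2 := orderOf_pos (e.symm (QuaternionGroup.a 1))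
      omega
    · apply hnc
      haveI := QuaternionGroup.quaternionGroup_one_isCyclic
      exact isCyclic_of_surjective e.symm.toMonoidHom e.symm.surjective
  · exact hbad (Or.inr ⟨rfl, Or.inr (Or.inr ⟨m, hm, ⟨e⟩⟩)⟩)

theorem resistant (p : ℕ) [Fact p.Prime] (hS : IsPGroup p ↥S) (hm : IsMetacyclic ↥S)
    (hnc : ¬ IsCyclic ↥S) (hbad : ¬ Bad p S) (F : FusionSystem S) (hF : F.IsSaturated p) :
    F.IsNormal S := by
  by_cases hp : p = 2
  · subst hp
    exact Cfsg.Agent.S5235.result 2 hS F hF S (SupersolFusion.stronglyClosed_self F) rfl hm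
      (not_dihedral hnc hbad) (not_quaternion hnc hbad)
      (fun h => hbad (Or.inr ⟨rfl, Or.inr (Or.inl h)⟩))
  · exact Cfsg.Agent.S5234.result p hS F hF S (SupersolFusion.stronglyClosed_self F) hp hm

/-- the main implication, modulo the automorphism condition for odd `p` -/
theorem chain_of_not_bad (p : ℕ) [Fact p.Prime] (hS : IsPGroup p ↥S) (hm : IsMetacyclic ↥S)
    (hbad : ¬ Bad p S)
    (hodd : p ≠ 2 → ¬ IsCyclic ↥S → ∀ H : Subgroup (MulAut ↥S), (Nat.card ↥H).Coprime p →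
      IsMulCommutative ↥H ∧ ∀ h ∈ H, h ^ (p - 1) = 1)
    (F : FusionSystem S) (hF : F.IsSaturated p) :
    ∃ (m : ℕ) (c : Fin (m + 1) → Subgroup Ω), c 0 = ⊥ ∧ c (Fin.last m) = S ∧
      (∀ i : Fin (m + 1), F.StronglyClosed (c i)) ∧
      ∀ i : Fin m, c i.castSucc ≤ c i.succ ∧
        ∃ x ∈ S, c i.succ = c i.castSucc ⊔ Subgroup.zpowers x := by
  by_cases hc : IsCyclic ↥S
  · exact chain_of_cyclic hc F
  · refine (Cfsg.Agent.S5283.result p hS).mpr ⟨?_, ?_⟩ F hF
    · intro F' hF'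
      exact resistant p hS hm hc hbad F' hF'
    · intro H hH
      by_cases hp : p = 2
      · subst hp
        exact autCond_two hS hm (fun h => hbad (Or.inl h))
          (fun h => hbad (Or.inr ⟨rfl, Or.inr (Or.inr h)⟩)) H hH
      · exact hodd hp hc H hH

end Cfsg.Agent.Helper21.MetaSS
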