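import Mathlib
import Cfsg.Agent.S4219

set_option autoImplicit false
set_option linter.unusedSectionVars false
set_option linter.unusedVariables false

namespace Cfsg.Agent.Helper21.Miller

open Equiv Equiv.Perm MulAction

variable {α : Type*} [Fintype α] [DecidableEq α]

theorem witt_perm (G : Subgroup (Perm α)) {t : ℕ}
    (hG : IsMultiplyPretransitive G α t) (x : Fin t ↪ α) (p : ℕ) [Fact p.Prime] :
    ∃ Q : Subgroup (Perm α), Q ≤ G ∧ IsPGroup p Q ∧ (∀ q ∈ Q, ∀ i, q (x i) = x i) ∧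
      (p ∣ Nat.card (stabilizer G x) → Q ≠ ⊥) ∧
      ∀ a b : Fin t ↪ α, (∀ i, ∀ q ∈ Q, q (a i) = a i) → (∀ i, ∀ q ∈ Q, q (b i) = b i) →
        ∃ g ∈ G, g ∈ Subgroup.normalizer (Q : Set (Perm α)) ∧ ∀ i, g (a i) = b i := by
  obtain ⟨P⟩ : Nonempty (Sylow p (stabilizer G x)) := inferInstance
  set QG : Subgroup G := (P : Subgroup (stabilizer G x)).map (stabilizer G x).subtype with hQG
  have hmem : ∀ q : Perm α, q ∈ QG.map G.subtype ↔ ∃ h : q ∈ G, (⟨q, h⟩ : G) ∈ QG := by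
    intro q
    constructor
    · rintro ⟨q', hq', rfl⟩
      exact ⟨q'.2, hq'⟩
    · rintro ⟨h, hq⟩
      exact ⟨⟨q, h⟩, hq, rfl⟩
  refine ⟨QG.map G.subtype, ?_, ?_, ?_, ?_, ?_⟩
  · rintro _ ⟨q', _, rfl⟩
    exact q'.2
  · exact (P.isPGroup'.map _).map _
  · intro q hq i
    obtain ⟨h, hq'⟩ := (hmem q).mp hq
    obtain ⟨q'', _, hq''⟩ := hq'
    have h1 : (q'' : G) • x = x := q''.2
    have h2 : ((q'' : G) : Perm α) = q := by
      have := congrArg (Subtype.val : G → Perm α) hq''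
      exact this
    rw [← h2]
    exact DFunLike.congr_fun h1 i
  · intro hdvd hbot
    have h1 : (P : Subgroup (stabilizer G x)) ≠ ⊥ := P.ne_bot_of_dvd_card hdvd
    apply h1
    have h2 : QG = ⊥ := by
      rw [← Subgroup.map_eq_bot_iff_of_injective QG (Subgroup.subtype_injective G)]
      exact hbot
    rw [hQG] at h2
    rwa [Subgroup.map_eq_bot_iff_of_injective _ (Subgroup.subtype_injective _)] at h2
  · intro a b ha hb
    have ha' : ∀ i, a i ∈ MulAction.fixedPoints QG α := by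
      intro i
      rw [MulAction.mem_fixedPoints]
      intro m
      exact ha i ((m : G) : Perm α) ((hmem _).mpr ⟨(m : G).2, m.2⟩)
    have hb' : ∀ i, b i ∈ MulAction.fixedPoints QG α := by
      intro i
      rw [MulAction.mem_fixedPoints]
      intro m
      exact hb i ((m : G) : Perm α) ((hmem _).mpr ⟨(m : G).2, m.2⟩)
    obtain ⟨g, hgN, hg⟩ := Cfsg.Agent.S4219.result hG x P a b ha' hb'
    refine ⟨(g : Perm α), g.2, ?_, ?_⟩
    · rw [Subgroup.mem_normalizer_iff] at hgN ⊢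
      intro q
      constructor
      · intro hq
        obtain ⟨h, hq'⟩ := (hmem q).mp hq
        have := (hgN ⟨q, h⟩).mp hq'
        exact (hmem _).mpr ⟨G.mul_mem (G.mul_mem g.2 h) (G.inv_mem g.2), this⟩
      · intro hq
        obtain ⟨h, hq'⟩ := (hmem _).mp hq
        have hqG : q ∈ G := by
          have : q = (g : Perm α)⁻¹ * ((g : Perm α) * q * (g : Perm α)⁻¹) * (g : Perm α) := by group
          rw [this]
          exact G.mul_mem (G.mul_mem (G.inv_mem g.2) h) g.2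
        refine (hmem q).mpr ⟨hqG, ?_⟩
        exact (hgN ⟨q, hqG⟩).mpr hq'
    · intro i
      exact DFunLike.congr_fun hg i


/-- The finset of common fixed points of a subgroup of `Perm α`. -/
noncomputable def fixF (Q : Subgroup (Perm α)) : Finset α := by
  classical exact Finset.univ.filter (fun ω => ∀ q ∈ Q, q ω = ω)

theorem mem_fixF {Q : Subgroup (Perm α)} {ω : α} : ω ∈ fixF Q ↔ ∀ q ∈ Q, q ω = ω := by
  classical
  unfold fixF
  simp

theorem normalizer_preserves {Q : Subgroup (Perm α)} {g : Perm α}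
    (hg : g ∈ Subgroup.normalizer (Q : Set (Perm α))) (ω : α) :
    g ω ∈ fixF Q ↔ ω ∈ fixF Q := by
  rw [Subgroup.mem_normalizer_iff] at hg
  rw [mem_fixF, mem_fixF]
  refine Iff.symm ?_
  constructor
  · intro h q hq
    have h1 : g⁻¹ * q * g ∈ Q := by
      rw [hg]
      have : g * (g⁻¹ * q * g) * g⁻¹ = q := by group
      rwa [this]
    have h2 := h _ h1
    simp only [Perm.mul_apply] at h2
    rw [Perm.inv_eq_iff_eq] at h2
    exact h2
  · intro h q hq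
    have h1 : g * q * g⁻¹ ∈ Q := (hg q).mp hq
    have h2 := h _ h1
    simp only [Perm.mul_apply] at h2
    rw [show g⁻¹ (g ω) = ω from by simp] at h2
    exact g.injective h2

theorem card_fixF_modEq {Q : Subgroup (Perm α)} {p : ℕ} [Fact p.Prime] (hQ : IsPGroup p Q) :
    Fintype.card α ≡ (fixF Q).card [MOD p] := by
  have h := hQ.card_modEq_card_fixedPoints (α := α)
  have h2 : (MulAction.fixedPoints Q α : Set α) = ↑(fixF Q) := by
    ext ω
    rw [MulAction.mem_fixedPoints, Finset.mem_coe, mem_fixF]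
    constructor
    · intro h q hq
      exact h ⟨q, hq⟩
    · intro h q
      exact h q.1 q.2
  rw [Nat.card_eq_fintype_card] at h
  rw [Nat.card_coe_set_eq, h2, Set.ncard_coe_finset] at h
  exact h

/-- The group induced on a finset `Γ` by the elements of `N` (those that happen to
restrict to a permutation of `Γ`). -/
def induced (N : Subgroup (Perm α)) (Γ : Finset α) : Subgroup (Perm {ω // ω ∈ Γ}) where
  carrier := {σ | ∃ g ∈ N, ∀ ω : {ω // ω ∈ Γ}, g ω = σ ω}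
  one_mem' := ⟨1, N.one_mem, fun ω => rfl⟩
  mul_mem' := by
    rintro σ τ ⟨g, hg, hgσ⟩ ⟨h, hh, hhτ⟩
    refine ⟨g * h, N.mul_mem hg hh, fun ω => ?_⟩
    rw [Perm.mul_apply, hhτ, hgσ, Perm.mul_apply]
  inv_mem' := by
    rintro σ ⟨g, hg, hgσ⟩
    refine ⟨g⁻¹, N.inv_mem hg, fun ω => ?_⟩
    rw [Perm.inv_eq_iff_eq, hgσ]
    simp

theorem mem_induced {N : Subgroup (Perm α)} {Γ : Finset α} {σ : Perm {ω // ω ∈ Γ}} :
    σ ∈ induced N Γ ↔ ∃ g ∈ N, ∀ ω : {ω // ω ∈ Γ}, g ω = σ ω := Iff.rfl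

theorem induced_pretransitive (N : Subgroup (Perm α)) (Γ : Finset α) (t : ℕ)
    (hN : ∀ a b : Fin t ↪ α, (∀ i, a i ∈ Γ) → (∀ i, b i ∈ Γ) →
      ∃ g ∈ N, (∀ ω, g ω ∈ Γ ↔ ω ∈ Γ) ∧ ∀ i, g (a i) = b i) :
    IsMultiplyPretransitive (induced N Γ) {ω // ω ∈ Γ} t := by
  refine ⟨fun a b => ?_⟩
  obtain ⟨g, hgN, hgΓ, hg⟩ := hN (a.trans (Function.Embedding.subtype _))
    (b.trans (Function.Embedding.subtype _)) (fun i => (a i).2) (fun i => (b i).2)
  have hσ : g.subtypePerm hgΓ ∈ induced N Γ := ⟨g, hgN, fun ω => rfl⟩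
  refine ⟨⟨g.subtypePerm hgΓ, hσ⟩, ?_⟩
  ext i
  have := hg i
  simp only [Function.Embedding.trans_apply, Function.Embedding.subtype_apply] at this
  exact this

/-- power trick -/
theorem power_trick (N : Subgroup (Perm α)) (Γ : Finset α) {g : Perm α} (hg : g ∈ N)
    (τ : Perm {ω // ω ∈ Γ}) (hgτ : ∀ ω : {ω // ω ∈ Γ}, g ω = τ ω) {p : ℕ} (hp : p.Prime)
    {a : ℕ} (hτ : τ ^ (p ^ a) = 1) :
    ∃ y ∈ N, (∀ ω : {ω // ω ∈ Γ}, y ω = τ ω) ∧ ∃ b : ℕ, y ^ (p ^ b) = 1 := by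
  have hpow : ∀ (n : ℕ) (ω : {ω // ω ∈ Γ}), (g ^ n) ω = (τ ^ n) ω := by
    intro n
    induction n with
    | zero => intro ω; rfl
    | succ n ih =>
      intro ω
      rw [pow_succ, pow_succ, Perm.mul_apply, Perm.mul_apply, hgτ, ih]
  obtain ⟨b, m, hm, hgm⟩ := Nat.exists_eq_pow_mul_and_not_dvd (orderOf_pos g).ne' p hp.ne_one
  have hcop : m.Coprime (orderOf τ) := by
    apply Nat.Coprime.symm
    have h1 : orderOf τ ∣ p ^ a := orderOf_dvd_of_pow_eq_one hτ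
    obtain ⟨c, _, hc⟩ := (Nat.dvd_prime_pow hp).mp h1
    rw [hc]
    exact Nat.Coprime.pow_left c ((Nat.Prime.coprime_iff_not_dvd hp).mpr hm)
  obtain ⟨u, hu⟩ := exists_pow_eq_self_of_coprime hcop
  refine ⟨(g ^ m) ^ u, N.pow_mem (N.pow_mem hg m) u, fun ω => ?_, b, ?_⟩
  · rw [← pow_mul, hpow, pow_mul, hu]
  · rw [← pow_mul, ← pow_mul, show m * (u * p ^ b) = (p ^ b * m) * u from by ring, ← hgm, pow_mul,
      pow_orderOf_eq_one, one_pow]

theorem orbit_card_p {R : Subgroup (Perm α)} {p : ℕ} [hp : Fact p.Prime] (hR : IsPGroup p R)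
    (S : Finset α) (hS : S.card < p ^ 2) {ω : α} (hsub : ∀ σ ∈ R, σ ω ∈ S)
    (hmoved : ∃ σ ∈ R, σ ω ≠ ω) : Nat.card (MulAction.orbit R ω) = p := by
  have hcard_lt : Nat.card (MulAction.orbit R ω) < p ^ 2 := by
    have h1 : (MulAction.orbit R ω) ⊆ (S : Set α) := by
      rintro _ ⟨σ, rfl⟩
      exact hsub σ.1 σ.2
    rw [Nat.card_coe_set_eq]
    calc (MulAction.orbit R ω).ncard ≤ (S : Set α).ncard := Set.ncard_le_ncard h1
      _ = S.card := Set.ncard_coe_finset S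
      _ < p ^ 2 := hS
  obtain ⟨n, hn⟩ := hR.card_orbit ω
  have hn0 : n ≠ 0 := by
    rintro rfl
    rw [pow_zero, Nat.card_eq_one_iff_unique] at hn
    obtain ⟨hsub', _⟩ := hn
    obtain ⟨σ, hσ, hne⟩ := hmoved
    apply hne
    have h1 : (⟨(⟨σ, hσ⟩ : R) • ω, MulAction.mem_orbit _ _⟩ : MulAction.orbit R ω) =
        ⟨ω, MulAction.mem_orbit_self ω⟩ := Subsingleton.elim _ _
    exact congrArg Subtype.val h1
  have hn2 : n < 2 := by
    rw [hn] at hcard_lt
    exact (Nat.pow_lt_pow_iff_right hp.out.one_lt).mp hcard_lt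
  have hn1 : n = 1 := by omega
  rw [hn, hn1, pow_one]

theorem T1 {Q : Subgroup (Perm α)} {p : ℕ} [hp : Fact p.Prime] (hQ : IsPGroup p Q)
    (hsmall : Fintype.card α < (fixF Q).card + p ^ 2)
    {y : Perm α} (hyN : y ∈ Subgroup.normalizer (Q : Set (Perm α))) {b : ℕ}
    (hy : y ^ (p ^ b) = 1) {ω : α} (hω : ω ∉ fixF Q) :
    ∃ u ∈ Q, ∀ q ∈ Q, y (q ω) = u (q ω) := by
  classical
  set R : Subgroup (Perm α) := Q ⊔ Subgroup.zpowers y with hR
  have hzN : Subgroup.zpowers y ≤ Subgroup.normalizer (Q : Set (Perm α)) := by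
    rw [Subgroup.zpowers_le]; exact hyN
  have hzp : IsPGroup p (Subgroup.zpowers y) := by
    have h1 : orderOf y ∣ p ^ b := orderOf_dvd_of_pow_eq_one hy
    obtain ⟨c, _, hc⟩ := (Nat.dvd_prime_pow hp.out).mp h1
    apply IsPGroup.of_card (n := c)
    rw [Nat.card_zpowers, hc]
  have hRp : IsPGroup p R := IsPGroup.to_sup_of_normal_left' hQ hzp hzN
  have hRN : R ≤ Subgroup.normalizer (Q : Set (Perm α)) := sup_le Subgroup.le_normalizer hzN
  have hRpres : ∀ σ ∈ R, ∀ ω', σ ω' ∈ fixF Q ↔ ω' ∈ fixF Q :=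
    fun σ hσ => normalizer_preserves (hRN hσ)
  have hScard : ((fixF Q)ᶜ).card < p ^ 2 := by
    rw [Finset.card_compl]
    have := Finset.card_le_univ (fixF Q)
    omega
  have hmovedQ : ∃ σ ∈ Q, σ ω ≠ ω := by
    by_contra h
    push Not at h
    exact hω (mem_fixF.mpr h)
  have hcardR : Nat.card (MulAction.orbit R ω) = p := by
    apply orbit_card_p hRp _ hScard
    · intro σ hσ
      rw [Finset.mem_compl, hRpres σ hσ]
      exact hω
    · obtain ⟨σ, hσ, h⟩ := hmovedQ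
      exact ⟨σ, Subgroup.mem_sup_left hσ, h⟩
  have hcardQ : Nat.card (MulAction.orbit Q ω) = p := by
    apply orbit_card_p hQ _ hScard
    · intro σ hσ
      rw [Finset.mem_compl, hRpres σ (Subgroup.mem_sup_left hσ)]
      exact hω
    · exact hmovedQ
  have horb : (MulAction.orbit Q ω : Set α) = MulAction.orbit R ω := by
    apply Set.eq_of_subset_of_ncard_le
    · rintro _ ⟨σ, rfl⟩
      exact ⟨⟨σ.1, Subgroup.mem_sup_left σ.2⟩, rfl⟩
    · rw [← Nat.card_coe_set_eq, ← Nat.card_coe_set_eq, hcardQ, hcardR]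
    · exact Set.toFinite _
  have hyR : y ∈ R := Subgroup.mem_sup_right (Subgroup.mem_zpowers y)
  have hyorb : y ω ∈ MulAction.orbit Q ω := by
    rw [horb]
    exact ⟨⟨y, hyR⟩, rfl⟩
  obtain ⟨u, hu⟩ := hyorb
  have hu' : (u : Perm α) ω = y ω := hu
  -- stabilizer normal
  have hidxp : (MulAction.stabilizer R ω).index = p := by
    rw [MulAction.index_stabilizer, ← Nat.card_coe_set_eq, hcardR]
  have hidx : (MulAction.stabilizer R ω).index = (Nat.card R).minFac := by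
    obtain ⟨m, hm⟩ := hRp.exists_card_eq
    have hm0 : m ≠ 0 := by
      rintro rfl
      have h1 : (MulAction.stabilizer R ω).index ∣ Nat.card R := Subgroup.index_dvd_card _
      rw [hidxp, hm, pow_zero] at h1
      exact hp.out.one_lt.ne' (Nat.dvd_one.mp h1)
    rw [hm, Nat.Prime.pow_minFac hp.out hm0, hidxp]
  have hnormal : (MulAction.stabilizer R ω).Normal := Subgroup.normal_of_index_eq_minFac_card hidx
  set s : R := ⟨(u : Perm α)⁻¹ * y, R.mul_mem (R.inv_mem (Subgroup.mem_sup_left u.2)) hyR⟩ with hs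
  have hsω : s ∈ MulAction.stabilizer R ω := by
    rw [MulAction.mem_stabilizer_iff]
    show ((u : Perm α)⁻¹ * y) ω = ω
    rw [Perm.mul_apply, ← hu']
    simp
  refine ⟨u, u.2, fun q hq => ?_⟩
  have hqR : q ∈ R := Subgroup.mem_sup_left hq
  have h1 : (⟨q, hqR⟩ : R)⁻¹ * s * (⟨q, hqR⟩ : R)⁻¹⁻¹ ∈ MulAction.stabilizer R ω :=
    hnormal.conj_mem s hsω _
  rw [MulAction.mem_stabilizer_iff] at h1
  rw [inv_inv] at h1
  have h2 : (q⁻¹ * ((u : Perm α)⁻¹ * y) * q) ω = ω := h1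
  simp only [Perm.mul_apply] at h2
  rw [Perm.inv_eq_iff_eq, Perm.inv_eq_iff_eq] at h2
  exact h2

/-- `w` acts on each nontrivial `Q`-orbit like an element of `Q`. -/
def OrbLike (Q : Subgroup (Perm α)) (w : Perm α) : Prop :=
  ∀ ω, ω ∉ fixF Q → ∃ u ∈ Q, ∀ q ∈ Q, w (q ω) = u (q ω)

theorem OrbLike.mul {Q : Subgroup (Perm α)} {w₁ w₂ : Perm α} (h₁ : OrbLike Q w₁)
    (h₂ : OrbLike Q w₂) : OrbLike Q (w₁ * w₂) := by
  intro ω hω
  obtain ⟨u₁, hu₁, h1⟩ := h₁ ω hω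
  obtain ⟨u₂, hu₂, h2⟩ := h₂ ω hω
  refine ⟨u₁ * u₂, Q.mul_mem hu₁ hu₂, fun q hq => ?_⟩
  rw [Perm.mul_apply, Perm.mul_apply, h2 q hq]
  have := h1 (u₂ * q) (Q.mul_mem hu₂ hq)
  rw [Perm.mul_apply] at this
  exact this

theorem pow_p_fix {Q : Subgroup (Perm α)} {p : ℕ} [hp : Fact p.Prime] (hQ : IsPGroup p Q)
    (hsmall : Fintype.card α < (fixF Q).card + p ^ 2) {u : Perm α} (hu : u ∈ Q)
    {ω : α} (hω : ω ∉ fixF Q) : (u ^ p) ω = ω := by
  classical
  by_cases hfix : u ω = ω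
  · exact Equiv.Perm.pow_apply_eq_self_of_apply_eq_self hfix p
  have hzQ : Subgroup.zpowers u ≤ Q := by rw [Subgroup.zpowers_le]; exact hu
  have hScard : ((fixF Q)ᶜ).card < p ^ 2 := by
    rw [Finset.card_compl]
    have := Finset.card_le_univ (fixF Q)
    omega
  have hcard : Nat.card (MulAction.orbit (Subgroup.zpowers u) ω) = p := by
    apply orbit_card_p (hQ.to_le hzQ) _ hScard
    · intro σ hσ
      rw [Finset.mem_compl, normalizer_preserves (Subgroup.le_normalizer (hzQ hσ))]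
      exact hω
    · exact ⟨u, Subgroup.mem_zpowers u, hfix⟩
  have h1 : Function.minimalPeriod (u • ·) ω = p := by
    rw [MulAction.minimalPeriod_eq_card, ← Nat.card_eq_fintype_card, hcard]
  have h2 : u ^ p • ω = ω := by
    rw [MulAction.pow_smul_eq_iff_minimalPeriod_dvd, h1]
  exact h2

theorem OrbLike.pow_p_fix {Q : Subgroup (Perm α)} {p : ℕ} [hp : Fact p.Prime]
    (hQ : IsPGroup p Q) (hsmall : Fintype.card α < (fixF Q).card + p ^ 2) {w : Perm α}
    (hw : OrbLike Q w) {ω : α} (hω : ω ∉ fixF Q) : (w ^ p) ω = ω := by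
  obtain ⟨u, hu, h⟩ := hw ω hω
  have key : ∀ (n : ℕ), ∀ q ∈ Q, (w ^ n) (q ω) = (u ^ n) (q ω) := by
    intro n
    induction n with
    | zero => intro q _; rfl
    | succ n ih =>
      intro q hq
      rw [pow_succ, pow_succ, Perm.mul_apply, Perm.mul_apply, h q hq]
      have := ih (u * q) (Q.mul_mem hu hq)
      rw [Perm.mul_apply] at this
      exact this
  have := key p 1 Q.one_mem
  rw [Perm.one_apply] at this
  rw [this]
  exact Miller.pow_p_fix hQ hsmall hu hω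

theorem OrbLike.of_pElement {Q : Subgroup (Perm α)} {p : ℕ} [hp : Fact p.Prime]
    (hQ : IsPGroup p Q) (hsmall : Fintype.card α < (fixF Q).card + p ^ 2)
    {y : Perm α} (hyN : y ∈ Subgroup.normalizer (Q : Set (Perm α))) {b : ℕ}
    (hy : y ^ (p ^ b) = 1) : OrbLike Q y :=
  fun _ hω => T1 hQ hsmall hyN hy hω

theorem comm_three_cycle {β : Type*} [DecidableEq β] (c : Perm β) {a1 a2 a3 b1 b2 : β}
    (h12 : c a1 = a2) (h23 : c a2 = a3) (hb1 : c b1 = b1) (hb2 : c b2 = b2)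
    (d12 : a1 ≠ a2) (d13 : a1 ≠ a3) (d23 : a2 ≠ a3) (db : b1 ≠ b2)
    (e11 : a1 ≠ b1) (e12 : a1 ≠ b2) (e21 : a2 ≠ b1) (e22 : a2 ≠ b2) (e31 : a3 ≠ b1)
    (e32 : a3 ≠ b2) :
    (swap a1 a2 * swap b1 b2) * c * (swap a1 a2 * swap b1 b2)⁻¹ * c⁻¹ =
      swap a1 a2 * swap a2 a3 := by
  set h' : Perm β := swap a1 a2 * swap b1 b2 with hh'
  have hA1 : h' a1 = a2 := by
    rw [hh', Perm.mul_apply, swap_apply_of_ne_of_ne e11 e12, swap_apply_left]
  have hA2 : h' a2 = a1 := by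
    rw [hh', Perm.mul_apply, swap_apply_of_ne_of_ne e21 e22, swap_apply_right]
  have hB1 : h' b1 = b2 := by
    rw [hh', Perm.mul_apply, swap_apply_left, swap_apply_of_ne_of_ne e12.symm e22.symm]
  have hB2 : h' b2 = b1 := by
    rw [hh', Perm.mul_apply, swap_apply_right, swap_apply_of_ne_of_ne e11.symm e21.symm]
  have hO : ∀ ω, ω ≠ a1 → ω ≠ a2 → ω ≠ b1 → ω ≠ b2 → h' ω = ω := by
    intro ω n1 n2 n3 n4
    rw [hh', Perm.mul_apply, swap_apply_of_ne_of_ne n3 n4, swap_apply_of_ne_of_ne n1 n2]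
  have hinv : ∀ ω, h'⁻¹ ω = h' ω := by
    intro ω
    rw [Perm.inv_eq_iff_eq]
    by_cases n1 : ω = a1
    · rw [n1, hA1, hA2]
    by_cases n2 : ω = a2
    · rw [n2, hA2, hA1]
    by_cases n3 : ω = b1
    · rw [n3, hB1, hB2]
    by_cases n4 : ω = b2
    · rw [n4, hB2, hB1]
    rw [hO ω n1 n2 n3 n4, hO ω n1 n2 n3 n4]
  clear_value h'
  ext ω
  obtain ⟨ν, rfl⟩ := c.surjective ω
  have hL : (h' * c * h'⁻¹ * c⁻¹) (c ν) = h' (c (h' ν)) := by
    simp only [Perm.mul_apply]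
    rw [show c⁻¹ (c ν) = ν from by simp, hinv]
  rw [hL, Perm.mul_apply (swap a1 a2)]
  by_cases n1 : ν = a1
  · rw [n1, hA1, h12, h23, hO a3 d13.symm d23.symm e31 e32, swap_apply_left,
      swap_apply_of_ne_of_ne d13.symm d23.symm]
  by_cases n2 : ν = a2
  · rw [n2, hA2, h12, h23, hA2, swap_apply_right, swap_apply_right]
  by_cases n3 : ν = b1
  · rw [n3, hB1, hb2, hB2, hb1, swap_apply_of_ne_of_ne e21.symm e31.symm,
      swap_apply_of_ne_of_ne e11.symm e21.symm]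
  by_cases n4 : ν = b2
  · rw [n4, hB2, hb1, hB1, hb2, swap_apply_of_ne_of_ne e22.symm e32.symm,
      swap_apply_of_ne_of_ne e12.symm e22.symm]
  rw [hO ν n1 n2 n3 n4]
  have m2 : c ν ≠ a2 := fun h => n1 (c.injective (h.trans h12.symm))
  have m3 : c ν ≠ a3 := fun h => n2 (c.injective (h.trans h23.symm))
  have m4 : c ν ≠ b1 := fun h => n3 (c.injective (h.trans hb1.symm))
  have m5 : c ν ≠ b2 := fun h => n4 (c.injective (h.trans hb2.symm))
  rw [swap_apply_of_ne_of_ne m2 m3]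
  by_cases m1 : c ν = a1
  · rw [m1, hA1, swap_apply_left]
  · rw [hO _ m1 m2 m4 m5, swap_apply_of_ne_of_ne m1 m2]

theorem exists_cycle_data (β : Type*) [Fintype β] [DecidableEq β] (m : ℕ) (hm : Even m)
    (hcard : m + 5 ≤ Fintype.card β) :
    ∃ (c : Perm β) (a1 a2 a3 b1 b2 : β), c ^ (m + 3) = 1 ∧ Perm.sign c = 1 ∧
      c a1 = a2 ∧ c a2 = a3 ∧ c b1 = b1 ∧ c b2 = b2 ∧
      a1 ≠ a2 ∧ a1 ≠ a3 ∧ a2 ≠ a3 ∧ b1 ≠ b2 ∧
      a1 ≠ b1 ∧ a1 ≠ b2 ∧ a2 ≠ b1 ∧ a2 ≠ b2 ∧ a3 ≠ b1 ∧ a3 ≠ b2 := by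
  obtain ⟨f⟩ : Nonempty (Fin (m + 3) ↪ β) :=
    Function.Embedding.nonempty_of_card_le (by rw [Fintype.card_fin]; omega)
  have hcompl : 1 < (Finset.univ \ Finset.univ.map f).card := by
    rw [Finset.card_sdiff_of_subset (Finset.subset_univ _), Finset.card_map, Finset.card_univ,
      Finset.card_univ, Fintype.card_fin]
    omega
  obtain ⟨b1, hb1, b2, hb2, hb12⟩ := Finset.one_lt_card.mp hcompl
  have hb1' : b1 ∉ Set.range f := by
    rintro ⟨i, rfl⟩
    simp at hb1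
  have hb2' : b2 ∉ Set.range f := by
    rintro ⟨i, rfl⟩
    simp at hb2
  set c : Perm β := (finRotate (m + 3)).viaFintypeEmbedding f with hc
  have h0 : finRotate (m + 3) ⟨0, by omega⟩ = ⟨1, by omega⟩ := finRotate_of_lt (by omega)
  have h1 : finRotate (m + 3) ⟨1, by omega⟩ = ⟨2, by omega⟩ := finRotate_of_lt (by omega)
  have hne : ∀ i j : Fin (m + 3), i ≠ j → f i ≠ f j := fun i j h h' => h (f.injective h')
  have hnb : ∀ (i : Fin (m + 3)) (b : β), b ∉ Set.range f → f i ≠ b := by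
    rintro i b hb rfl
    exact hb ⟨i, rfl⟩
  refine ⟨c, f ⟨0, by omega⟩, f ⟨1, by omega⟩, f ⟨2, by omega⟩, b1, b2, ?_, ?_, ?_, ?_, ?_, ?_,
    hne _ _ (by simp), hne _ _ (by simp [Fin.ext_iff]),
    hne _ _ (by simp [Fin.ext_iff]), hb12, hnb _ _ hb1', hnb _ _ hb2', hnb _ _ hb1', hnb _ _ hb2',
    hnb _ _ hb1', hnb _ _ hb2'⟩
  · rw [hc, Equiv.Perm.viaFintypeEmbedding, ← extendDomain_pow]
    have : finRotate (m + 3) ^ (m + 3) = 1 := by
      have h2 : orderOf (finRotate (m + 3)) = m + 3 := by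
        rw [← Equiv.Perm.lcm_cycleType, cycleType_finRotate_of_le (by omega)]
        simp
      have h3 := pow_orderOf_eq_one (finRotate (m + 3))
      rw [h2] at h3
      exact h3
    rw [this, extendDomain_one]
  · rw [hc, viaFintypeEmbedding_sign, sign_finRotate]
    have : Even (m + 3 - 1) := by
      obtain ⟨j, rfl⟩ := hm
      exact ⟨j + 1, by omega⟩
    exact Even.neg_one_pow this
  · rw [hc, viaFintypeEmbedding_apply_image, h0]
  · rw [hc, viaFintypeEmbedding_apply_image, h1]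
  · rw [hc, viaFintypeEmbedding_apply_notMem_range _ _ hb1']
  · rw [hc, viaFintypeEmbedding_apply_notMem_range _ _ hb2']

/-- `g` restricted to `Γ` is `σ`. -/
def Agree (Γ : Finset α) (g : Perm α) (σ : Perm {ω // ω ∈ Γ}) : Prop :=
  ∀ ω : {ω // ω ∈ Γ}, g ω = σ ω

theorem Agree.mul {Γ : Finset α} {g h : Perm α} {σ τ : Perm {ω // ω ∈ Γ}}
    (hg : Agree Γ g σ) (hh : Agree Γ h τ) : Agree Γ (g * h) (σ * τ) := by
  intro ω
  rw [Perm.mul_apply, hh, hg, Perm.mul_apply]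

theorem Agree.inv {Γ : Finset α} {g : Perm α} {σ : Perm {ω // ω ∈ Γ}}
    (hg : Agree Γ g σ) : Agree Γ g⁻¹ σ⁻¹ := by
  intro ω
  rw [Perm.inv_eq_iff_eq, hg]
  simp

theorem Agree.pow {Γ : Finset α} {g : Perm α} {σ : Perm {ω // ω ∈ Γ}}
    (hg : Agree Γ g σ) (n : ℕ) : Agree Γ (g ^ n) (σ ^ n) := by
  induction n with
  | zero => intro ω; rfl
  | succ n ih =>
    rw [pow_succ, pow_succ]
    exact ih.mul hg

theorem Agree.eq_ofSubtype {Γ : Finset α} {g : Perm α} {σ : Perm {ω // ω ∈ Γ}}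
    (hg : Agree Γ g σ) (hfix : ∀ ω, ω ∉ Γ → g ω = ω) : g = Perm.ofSubtype σ := by
  ext ω
  by_cases hω : ω ∈ Γ
  · rw [Perm.ofSubtype_apply_of_mem σ hω]
    exact hg ⟨ω, hω⟩
  · rw [Perm.ofSubtype_apply_of_not_mem σ hω]
    exact hfix ω hω

theorem Agree.isThreeCycle {Γ : Finset α} {g : Perm α} {σ : Perm {ω // ω ∈ Γ}}
    (hg : Agree Γ g σ) (hfix : ∀ ω, ω ∉ Γ → g ω = ω) (h3 : σ.IsThreeCycle) :
    g.IsThreeCycle := by
  rw [hg.eq_ofSubtype hfix]
  unfold Perm.IsThreeCycle at h3 ⊢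
  rw [Perm.cycleType_ofSubtype]
  exact h3

theorem isPreprimitive_of_multi (G : Subgroup (Perm α)) {t : ℕ} (ht : 2 ≤ t)
    (hcard : t ≤ Fintype.card α) (hG : IsMultiplyPretransitive G α t) :
    IsPreprimitive G α := by
  apply MulAction.isPreprimitive_of_is_two_pretransitive
  apply MulAction.isMultiplyPretransitive_of_le (n := t) ht
  rw [Nat.card_eq_fintype_card]
  exact hcard

theorem isThreeCycle_pow_of_not_dvd {β : Type*} [Fintype β] [DecidableEq β] {τ : Perm β}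
    (h3 : τ.IsThreeCycle) {n : ℕ} (hn : ¬ 3 ∣ n) : (τ ^ n).IsThreeCycle := by
  have ho := h3.orderOf
  have h1 : τ ^ n = τ ^ (n % 3) := by
    rw [← ho, pow_mod_orderOf]
  have h2 : n % 3 = 1 ∨ n % 3 = 2 := by omega
  rcases h2 with h | h
  · rw [h1, h, pow_one]; exact h3
  · rw [h1, h, pow_two]; exact h3.isThreeCycle_sq

end Cfsg.Agent.Helper21.Miller
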