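import Mathlib
import Cfsg.Agent.Lib.Helper21.MillerBase

set_option autoImplicit false
set_option linter.unusedSectionVars false
set_option linter.unusedVariables false

namespace Cfsg.Agent.Helper21.Miller

open Equiv Equiv.Perm MulAction

variable {α : Type*} [Fintype α] [DecidableEq α]

/-- Case 1 of Miller's theorem: some `(r+1)`-point stabilizer has order divisible by `p`. -/
theorem case1 (G : Subgroup (Perm α)) {k p r : ℕ} [hp : Fact p.Prime]
    (hn : Fintype.card α = k * p + r) (hk : 2 ≤ k) (hpk : k < p) (hrk : k < r)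
    (hG : IsMultiplyPretransitive G α (r + 1))
    (IH : ∀ j, j < k → 1 ≤ j → ∀ (Γ : Finset α) (G' : Subgroup (Perm {ω // ω ∈ Γ})),
      Γ.card = j * p + r → IsMultiplyPretransitive G' {ω // ω ∈ Γ} (r + 1) →
      alternatingGroup {ω // ω ∈ Γ} ≤ G')
    (x' : Fin (r + 1) ↪ α) (hx' : p ∣ Nat.card (stabilizer G x')) :
    alternatingGroup α ≤ G := by
  classical
  have hprim : IsPreprimitive G α :=
    isPreprimitive_of_multi G (t := r + 1) (by omega) (by rw [hn]; nlinarith) hG
  obtain ⟨Q, hQG, hQp, hQx, hQne, hW⟩ := witt_perm G hG x' p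
  have hQne' : Q ≠ ⊥ := hQne hx'
  set Γ : Finset α := fixF Q with hΓ
  -- range x' ⊆ Γ
  have hxΓ : ∀ i, x' i ∈ Γ := fun i => mem_fixF.mpr (fun q hq => hQx q hq i)
  have hcard_ge : r + 1 ≤ Γ.card := by
    have : (Finset.univ.map x').card ≤ Γ.card := by
      apply Finset.card_le_card
      intro ω hω
      obtain ⟨i, _, rfl⟩ := Finset.mem_map.mp hω
      exact hxΓ i
    rwa [Finset.card_map, Finset.card_univ, Fintype.card_fin] at this
  -- Γ ≠ univ
  obtain ⟨q₀, hq₀Q, hq₀1⟩ : ∃ q ∈ Q, q ≠ 1 := by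
    by_contra h
    push Not at h
    exact hQne' ((Subgroup.eq_bot_iff_forall Q).mpr h)
  have hcard_lt : Γ.card < Fintype.card α := by
    obtain ⟨ω, hω⟩ : ∃ ω, q₀ ω ≠ ω := by
      by_contra h
      push Not at h
      exact hq₀1 (Perm.ext h)
    have hωΓ : ω ∉ Γ := fun h => hω (mem_fixF.mp h q₀ hq₀Q)
    exact Finset.card_lt_univ_of_notMem hωΓ
  have hmod : Fintype.card α ≡ Γ.card [MOD p] := card_fixF_modEq hQp
  obtain ⟨j, hj1, hjk, hΓcard⟩ : ∃ j, 1 ≤ j ∧ j < k ∧ Γ.card = j * p + r := by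
    have h1 : Γ.card % p = r % p := by
      have := hmod
      unfold Nat.ModEq at this
      rw [← this, hn, Nat.mul_add_mod']
    have h2 : (Γ.card - r) % p = 0 := Nat.sub_mod_eq_zero_of_mod_eq h1
    obtain ⟨j, hj⟩ := Nat.dvd_of_mod_eq_zero h2
    have hppos := hp.out.pos
    refine ⟨j, ?_, ?_, ?_⟩
    · by_contra h
      have : j = 0 := by omega
      rw [this] at hj
      omega
    · by_contra h
      push Not at h
      have : p * k ≤ p * j := Nat.mul_le_mul_left p h
      rw [hn] at hcard_lt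
      have h3 : Γ.card = r + p * j := by omega
      nlinarith
    · rw [mul_comm]; omega
  set N : Subgroup (Perm α) := G ⊓ Subgroup.normalizer (Q : Set (Perm α)) with hN
  have hNW : ∀ a b : Fin (r + 1) ↪ α, (∀ i, a i ∈ Γ) → (∀ i, b i ∈ Γ) →
      ∃ g ∈ N, (∀ ω, g ω ∈ Γ ↔ ω ∈ Γ) ∧ ∀ i, g (a i) = b i := by
    intro a b ha hb
    obtain ⟨g, hgG, hgN, hg⟩ := hW a b (fun i q hq => mem_fixF.mp (ha i) q hq)
      (fun i q hq => mem_fixF.mp (hb i) q hq)
    exact ⟨g, ⟨hgG, hgN⟩, normalizer_preserves hgN, hg⟩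
  have htrans := induced_pretransitive N Γ (r + 1) hNW
  have hAlt : alternatingGroup {ω // ω ∈ Γ} ≤ induced N Γ := IH j hjk hj1 Γ _ hΓcard htrans
  have hsmall : Fintype.card α < (fixF Q).card + p ^ 2 := by
    rw [← hΓ, hn, hΓcard]
    nlinarith
  by_cases hp3 : p = 3
  · -- p = 3: k = 2, j = 1, three moved points
    have hk2 : k = 2 := by omega
    have hj1' : j = 1 := by omega
    have hsupp : q₀.support ⊆ Γᶜ := by
      intro ω hω
      rw [Finset.mem_compl]
      intro h
      exact (Perm.mem_support.mp hω) (mem_fixF.mp h q₀ hq₀Q)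
    have hc3 : (Γᶜ).card = 3 := by
      rw [Finset.card_compl, hn, hΓcard, hk2, hj1', hp3]
      omega
    have hle : q₀.support.card ≤ 3 := hc3 ▸ Finset.card_le_card hsupp
    have h0 : q₀.support.card ≠ 0 := by
      rw [Ne, Finset.card_eq_zero, Perm.support_eq_empty_iff]
      exact hq₀1
    have h1 : q₀.support.card ≠ 1 := Perm.card_support_ne_one q₀
    have h2 : q₀.support.card ≠ 2 := by
      intro h
      have hs : q₀.IsSwap := Perm.card_support_eq_two.mp h
      have ho : orderOf q₀ = 2 := hs.orderOf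
      obtain ⟨e, he⟩ := (IsPGroup.iff_orderOf.mp hQp) ⟨q₀, hq₀Q⟩
      rw [Subgroup.orderOf_mk, ho, hp3] at he
      have : (2 : ℕ) ∣ 3 ^ e := by rw [← he]
      have := (Nat.Prime.dvd_of_dvd_pow Nat.prime_two this)
      omega
    have h3 : q₀.support.card = 3 := by omega
    exact alternatingGroup_le_of_isPreprimitive_of_isThreeCycle_mem hprim
      (card_support_eq_three_iff.mp h3) (hQG hq₀Q)
  · -- p ≥ 5
    have hp2 : p ≠ 2 := by omega
    have hpodd : Odd p := hp.out.odd_of_ne_two hp2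
    obtain ⟨m, rfl⟩ : ∃ m, p = m + 3 := ⟨p - 3, by omega⟩
    have hmeven : Even m := by
      obtain ⟨t, ht⟩ := hpodd
      exact ⟨t - 1, by omega⟩
    have hβcard : m + 5 ≤ Fintype.card {ω // ω ∈ Γ} := by
      rw [Fintype.card_coe, hΓcard]
      nlinarith
    obtain ⟨c, a1, a2, a3, b1, b2, hcp, hcs, h12, h23, hb1, hb2, d12, d13, d23, db, e11, e12,
      e21, e22, e31, e32⟩ := exists_cycle_data {ω // ω ∈ Γ} m hmeven hβcard
    -- lift c
    obtain ⟨g₀, hg₀N, hg₀⟩ := mem_induced.mp (hAlt (Perm.mem_alternatingGroup.mpr hcs))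
    obtain ⟨y, hyN, hyc, b, hyb⟩ := power_trick N Γ hg₀N c hg₀ hp.out (a := 1)
      (by rw [pow_one]; exact hcp)
    set h' : Perm {ω // ω ∈ Γ} := swap a1 a2 * swap b1 b2 with hh'
    have hh's : Perm.sign h' = 1 := by
      rw [hh', map_mul, Perm.sign_swap d12, Perm.sign_swap db]
      rfl
    obtain ⟨h, hhN, hh⟩ := mem_induced.mp (hAlt (Perm.mem_alternatingGroup.mpr hh's))
    set w : Perm α := h * y * h⁻¹ * y⁻¹ with hw
    have hwN : w ∈ N := N.mul_mem (N.mul_mem (N.mul_mem hhN hyN) (N.inv_mem hhN)) (N.inv_mem hyN)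
    have hwagree : Agree Γ w (swap a1 a2 * swap a2 a3) := by
      rw [← comm_three_cycle c h12 h23 hb1 hb2 d12 d13 d23 db e11 e12 e21 e22 e31 e32]
      exact ((Agree.mul (Agree.mul hh hyc) (Agree.inv hh))).mul (Agree.inv hyc)
    have hworb : OrbLike Q w := by
      rw [hw]
      apply OrbLike.mul
      · apply OrbLike.of_pElement hQp hsmall (N.mul_mem (N.mul_mem hhN hyN) (N.inv_mem hhN)).2
          (b := b)
        rw [conj_pow, hyb, mul_one, mul_inv_cancel]
      · apply OrbLike.of_pElement hQp hsmall (N.inv_mem hyN).2 (b := b)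
        rw [inv_pow, hyb, inv_one]
    set θ : Perm α := w ^ (m + 3) with hθ
    have hθG : θ ∈ G := G.pow_mem hwN.1 _
    have hθfix : ∀ ω, ω ∉ Γ → θ ω = ω := fun ω hω => hworb.pow_p_fix hQp hsmall hω
    have hτ3 : (swap a1 a2 * swap a2 a3 : Perm {ω // ω ∈ Γ}).IsThreeCycle := by
      rw [swap_comm a1 a2]
      exact Perm.isThreeCycle_swap_mul_swap_same d12.symm d23 d13
    have hθ3 : θ.IsThreeCycle := by
      apply (hwagree.pow (m + 3)).isThreeCycle hθfix
      apply isThreeCycle_pow_of_not_dvd hτ3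
      intro h3
      have := (Nat.prime_dvd_prime_iff_eq Nat.prime_three hp.out).mp h3
      omega
    exact alternatingGroup_le_of_isPreprimitive_of_isThreeCycle_mem hprim hθ3 hθG

end Cfsg.Agent.Helper21.Miller
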