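import Mathlib
import Cfsg.Agent.Lib.Helper21.MillerBase
import Cfsg.Agent.S0713

set_option autoImplicit false
set_option linter.unusedSectionVars false
set_option linter.unusedVariables false

namespace Cfsg.Agent.Helper21.Miller

open Equiv Equiv.Perm MulAction
open scoped commutatorElement

variable {α : Type*} [Fintype α] [DecidableEq α]

/-- an element acting on `x` by `σ` preserves the complement of the range of `x` -/
theorem acts_compl {d : ℕ} (x : Fin d ↪ α) {g : Perm α} {σ : Perm (Fin d)}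
    (hg : ∀ i, g (x i) = x (σ i)) {ω : α} (hω : ω ∉ Set.range x) : g ω ∉ Set.range x := by
  rintro ⟨i, hi⟩
  apply hω
  refine ⟨σ⁻¹ i, ?_⟩
  apply g.injective
  rw [hg, ← hi]
  simp

theorem acts_pow {d : ℕ} (x : Fin d ↪ α) {g : Perm α} {σ : Perm (Fin d)}
    (hg : ∀ i, g (x i) = x (σ i)) (n : ℕ) : ∀ i, (g ^ n) (x i) = x ((σ ^ n) i) := by
  induction n with
  | zero => intro i; rfl
  | succ n ih =>
    rw [pow_succ, pow_succ]
    exact Cfsg.Agent.S0713.acts_mul x _ _ _ _ ih hg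

/-- The subgroup of `Perm (Fin r)` induced by elements of `G` commuting with `z`. -/
def centInduced (G : Subgroup (Perm α)) {r : ℕ} (x : Fin r ↪ α) (z : Perm α) :
    Subgroup (Perm (Fin r)) where
  carrier := {σ | ∃ c ∈ G, Commute c z ∧ ∀ i, c (x i) = x (σ i)}
  one_mem' := ⟨1, G.one_mem, Commute.one_left z, fun i => rfl⟩
  mul_mem' := by
    rintro σ τ ⟨g, hgG, hgz, hg⟩ ⟨h, hhG, hhz, hh⟩
    exact ⟨g * h, G.mul_mem hgG hhG, hgz.mul_left hhz,
      Cfsg.Agent.S0713.acts_mul x _ _ _ _ hg hh⟩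
  inv_mem' := by
    rintro σ ⟨g, hgG, hgz, hg⟩
    exact ⟨g⁻¹, G.inv_mem hgG, hgz.inv_left, Cfsg.Agent.S0713.acts_inv x _ _ hg⟩

theorem alt_le_centInduced (G : Subgroup (Perm α)) {r : ℕ} (x : Fin r ↪ α) (z : Perm α)
    (hlift : ∀ σ : Perm (Fin r), ∃ h ∈ G,
      h ∈ Subgroup.normalizer ((Subgroup.zpowers z : Subgroup (Perm α)) : Set (Perm α)) ∧
      ∀ i, h (x i) = x (σ i)) :
    alternatingGroup (Fin r) ≤ centInduced G x z := by
  rw [← Equiv.Perm.closure_three_cycles_eq_alternating, Subgroup.closure_le]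
  intro t ht
  have ht3 : t.IsThreeCycle := ht
  -- s = t * t is a three cycle with s * s = t
  have hs3 : (t * t).IsThreeCycle := ht3.isThreeCycle_sq
  have hss : (t * t) * (t * t) = t := by
    have h3 : t ^ 3 = 1 := by rw [← ht3.orderOf]; exact pow_orderOf_eq_one t
    calc (t * t) * (t * t) = t ^ 3 * t := by simp only [pow_succ, pow_zero, one_mul, mul_assoc]
      _ = t := by rw [h3, one_mul]
  set s := t * t with hs
  obtain ⟨a, ha⟩ : ∃ a, a ∈ s.support := by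
    have : s.support.card = 3 := hs3.card_support
    exact Finset.card_pos.mp (by omega)
  have hdec := hs3.eq_swap_mul_swap_iff_mem_support.mpr ha
  have hnod := hs3.nodup_iff_mem_support.mpr ha
  have hab : a ≠ s a := by
    intro h; simp [← h] at hnod
  have hbc : s a ≠ s (s a) := by
    intro h; simp [← h] at hnod
  have hac : a ≠ s (s a) := by
    intro h; simp [← h] at hnod
  set σ₁ : Perm (Fin r) := swap (s a) a with hσ₁
  set σ₂ : Perm (Fin r) := swap (s a) (s (s a)) with hσ₂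
  have hs12 : s = σ₁ * σ₂ := by
    rw [hσ₁, swap_comm (s a) a]; exact hdec
  obtain ⟨h₁, h1G, h1N, h1⟩ := hlift σ₁
  obtain ⟨h₂, h2G, h2N, h2⟩ := hlift σ₂
  have hcomm := Cfsg.Agent.S0713.commutator_commute_of_normalizer z h₁ h₂ h1N h2N
  refine ⟨⁅h₁, h₂⁆, ?_, hcomm, ?_⟩
  · rw [commutatorElement_def]
    exact G.mul_mem (G.mul_mem (G.mul_mem h1G h2G) (G.inv_mem h1G)) (G.inv_mem h2G)
  · have hρ : t = σ₁ * σ₂ * σ₁⁻¹ * σ₂⁻¹ := by
      rw [← hss, hs12, hσ₁, hσ₂, swap_inv, swap_inv]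
      simp [mul_assoc]
    rw [commutatorElement_def, hρ]
    exact Cfsg.Agent.S0713.acts_mul x _ _ _ _ (Cfsg.Agent.S0713.acts_mul x _ _ _ _
      (Cfsg.Agent.S0713.acts_mul x _ _ _ _ h1 h2) (Cfsg.Agent.S0713.acts_inv x _ _ h1))
      (Cfsg.Agent.S0713.acts_inv x _ _ h2)

theorem zpow_compl {d : ℕ} (x : Fin d ↪ α) {z : Perm α} (hzx : ∀ i, z (x i) = x i) (j : ℤ)
    {ω : α} (hω : ω ∉ Set.range x) : (z ^ j) ω ∉ Set.range x := by
  rintro ⟨i, hi⟩
  apply hω
  refine ⟨i, ?_⟩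
  apply (z ^ j).injective
  rw [← hi]
  exact Equiv.Perm.zpow_apply_eq_self_of_apply_eq_self (hzx i) j

/-- The subgroup of `Perm (Fin r)` induced by elements of `G` commuting with `z` and
preserving every `z`-orbit outside the range of `x`. -/
def orbInduced (G : Subgroup (Perm α)) {r : ℕ} (x : Fin r ↪ α) (z : Perm α)
    (hzx : ∀ i, z (x i) = x i) : Subgroup (Perm (Fin r)) where
  carrier := {σ | ∃ g ∈ G, Commute g z ∧ (∀ ω, ω ∉ Set.range x → ∃ i : ℤ, g ω = (z ^ i) ω) ∧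
    ∀ i, g (x i) = x (σ i)}
  one_mem' := ⟨1, G.one_mem, Commute.one_left z, fun ω _ => ⟨0, by simp⟩, fun i => rfl⟩
  mul_mem' := by
    rintro σ τ ⟨g, hgG, hgz, hgo, hg⟩ ⟨h, hhG, hhz, hho, hh⟩
    refine ⟨g * h, G.mul_mem hgG hhG, hgz.mul_left hhz, fun ω hω => ?_,
      Cfsg.Agent.S0713.acts_mul x _ _ _ _ hg hh⟩
    obtain ⟨i, hi⟩ := hho ω hω
    obtain ⟨j, hj⟩ := hgo ω hω
    refine ⟨i + j, ?_⟩
    rw [Perm.mul_apply, hi]
    have hc : Commute g (z ^ i) := hgz.zpow_right i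
    have h1 : g ((z ^ i) ω) = (z ^ i) (g ω) := by
      have := congrArg (fun f : Perm α => f ω) hc.eq
      simpa [Perm.mul_apply] using this
    rw [h1, hj, zpow_add, Perm.mul_apply]
  inv_mem' := by
    rintro σ ⟨g, hgG, hgz, hgo, hg⟩
    refine ⟨g⁻¹, G.inv_mem hgG, hgz.inv_left, fun ω hω => ?_,
      Cfsg.Agent.S0713.acts_inv x _ _ hg⟩
    have hω' : g⁻¹ ω ∉ Set.range x := acts_compl x (Cfsg.Agent.S0713.acts_inv x _ _ hg) hω
    obtain ⟨i, hi⟩ := hgo _ hω'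
    refine ⟨-i, ?_⟩
    have h1 : g (g⁻¹ ω) = ω := by simp
    rw [h1] at hi
    rw [zpow_neg, Perm.eq_inv_iff_eq, ← hi]

theorem orbInduced_normal (G : Subgroup (Perm α)) {r : ℕ} (x : Fin r ↪ α) (z : Perm α)
    (hzx : ∀ i, z (x i) = x i)
    (hlift : ∀ σ : Perm (Fin r), ∃ h ∈ G,
      h ∈ Subgroup.normalizer ((Subgroup.zpowers z : Subgroup (Perm α)) : Set (Perm α)) ∧
      ∀ i, h (x i) = x (σ i)) : (orbInduced G x z hzx).Normal := by
  constructor
  rintro σ ⟨g, hgG, hgz, hgo, hg⟩ τ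
  obtain ⟨h, hhG, hhN, hh⟩ := hlift τ
  rw [Subgroup.mem_normalizer_iff] at hhN
  refine ⟨h * g * h⁻¹, G.mul_mem (G.mul_mem hhG hgG) (G.inv_mem hhG), ?_, fun ω hω => ?_,
    Cfsg.Agent.S0713.acts_mul x _ _ _ _ (Cfsg.Agent.S0713.acts_mul x _ _ _ _ hh hg)
      (Cfsg.Agent.S0713.acts_inv x _ _ hh)⟩
  · -- commute
    have h1 : h⁻¹ * z * h ∈ Subgroup.zpowers z := by
      rw [hhN]
      have : h * (h⁻¹ * z * h) * h⁻¹ = z := by group
      rw [this]
      exact Subgroup.mem_zpowers z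
    obtain ⟨m, hm⟩ := Subgroup.mem_zpowers_iff.mp h1
    have hc : Commute g (z ^ m) := hgz.zpow_right m
    rw [hm] at hc
    show h * g * h⁻¹ * z = z * (h * g * h⁻¹)
    have hc' : g * (h⁻¹ * z * h) = (h⁻¹ * z * h) * g := hc.eq
    calc h * g * h⁻¹ * z = h * (g * (h⁻¹ * z * h)) * h⁻¹ := by group
      _ = h * ((h⁻¹ * z * h) * g) * h⁻¹ := by rw [hc']
      _ = z * (h * g * h⁻¹) := by group
  · have hω' : h⁻¹ ω ∉ Set.range x := acts_compl x (Cfsg.Agent.S0713.acts_inv x _ _ hh) hω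
    obtain ⟨i, hi⟩ := hgo _ hω'
    have h1 : h * z ^ i * h⁻¹ ∈ Subgroup.zpowers z :=
      (hhN (z ^ i)).mp (Subgroup.zpow_mem_zpowers z i)
    obtain ⟨m, hm⟩ := Subgroup.mem_zpowers_iff.mp h1
    refine ⟨m, ?_⟩
    rw [hm]
    simp only [Perm.mul_apply]
    rw [hi]

theorem orbInduced_pow (G : Subgroup (Perm α)) {r p : ℕ} (x : Fin r ↪ α) (z : Perm α)
    (hzx : ∀ i, z (x i) = x i) (hzp : z ^ p = 1) {σ : Perm (Fin r)}
    (hσ : σ ∈ orbInduced G x z hzx) :
    ∃ θ ∈ G, (∀ ω, ω ∉ Set.range x → θ ω = ω) ∧ ∀ i, θ (x i) = x ((σ ^ p) i) := by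
  obtain ⟨g, hgG, hgz, hgo, hg⟩ := hσ
  refine ⟨g ^ p, G.pow_mem hgG p, fun ω hω => ?_, acts_pow x hg p⟩
  obtain ⟨i, hi⟩ := hgo ω hω
  have key : ∀ n : ℕ, (g ^ n) ω = (z ^ (i * n)) ω := by
    intro n
    induction n with
    | zero => simp
    | succ n ih =>
      rw [pow_succ, Perm.mul_apply, hi]
      have hc : Commute (g ^ n) (z ^ i) := (hgz.pow_left n).zpow_right i
      have h1 : (g ^ n) ((z ^ i) ω) = (z ^ i) ((g ^ n) ω) := by
        have := congrArg (fun f : Perm α => f ω) hc.eq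
        simpa [Perm.mul_apply] using this
      rw [h1, ih, ← Perm.mul_apply, ← zpow_add]
      congr 2
      push_cast
      ring
  rw [key p, mul_comm, zpow_mul, zpow_natCast, hzp, one_zpow, Perm.one_apply]

theorem card_cycleFactors_eq {k p r : ℕ} [hp : Fact p.Prime]
    (hn : Fintype.card α = k * p + r) (x : Fin r ↪ α) (z : Perm α) (hzo : orderOf z = p)
    (hzx : ∀ i, z (x i) = x i) (hzmove : ∀ ω, ω ∉ Set.range x → z ω ≠ ω) :
    z.cycleFactorsFinset.card = k := by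
  have hsupp : z.support = (Finset.univ.map x)ᶜ := by
    ext ω
    rw [Perm.mem_support, Finset.mem_compl, Finset.mem_map]
    constructor
    · rintro h ⟨i, _, rfl⟩
      exact h (hzx i)
    · intro h
      apply hzmove
      rintro ⟨i, rfl⟩
      exact h ⟨i, Finset.mem_univ _, rfl⟩
  have hsc : z.support.card = k * p := by
    rw [hsupp, Finset.card_compl, Finset.card_map, Finset.card_univ, Fintype.card_fin, hn]
    omega
  obtain ⟨n, hnz⟩ := Perm.cycleType_prime_order (σ := z) (by rw [hzo]; exact hp.out)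
  have h1 : z.cycleType.sum = z.support.card := Perm.sum_cycleType z
  rw [hnz, Multiset.sum_replicate, hsc, hzo, smul_eq_mul] at h1
  have h2 : n + 1 = k := Nat.eq_of_mul_eq_mul_right hp.out.pos h1
  have h3 : Multiset.card z.cycleType = z.cycleFactorsFinset.card := by
    rw [Perm.cycleType_def, Multiset.card_map]
    rfl
  rw [← h3, hnz, Multiset.card_replicate, h2]

theorem orbit_of_ker {r : ℕ} (x : Fin r ↪ α) (z g : Perm α)
    (hzmove : ∀ ω, ω ∉ Set.range x → z ω ≠ ω)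
    (hker : ∀ c ∈ z.cycleFactorsFinset, Commute g c) :
    ∀ ω, ω ∉ Set.range x → ∃ i : ℤ, g ω = (z ^ i) ω := by
  intro ω hω
  have hωs : ω ∈ z.support := Perm.mem_support.mpr (hzmove ω hω)
  have htmem : z.cycleOf ω ∈ z.cycleFactorsFinset :=
    Perm.cycleOf_mem_cycleFactorsFinset_iff.mpr hωs
  have hc := hker _ htmem
  have hωt : ω ∈ (z.cycleOf ω).support := by
    rw [Perm.mem_support_cycleOf_iff]
    exact ⟨Perm.SameCycle.refl _ _, hωs⟩
  have hgωt : g ω ∈ (z.cycleOf ω).support := by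
    rw [Perm.mem_support] at hωt ⊢
    intro h
    apply hωt
    have h1 : (g * z.cycleOf ω) ω = (z.cycleOf ω * g) ω := by rw [hc.eq]
    rw [Perm.mul_apply, Perm.mul_apply, h] at h1
    exact g.injective h1
  rw [Perm.mem_support_cycleOf_iff] at hgωt
  obtain ⟨i, hi⟩ := hgωt.1
  exact ⟨i, hi.symm⟩


theorem orbInduced_nontrivial (G : Subgroup (Perm α)) {k p r : ℕ} [hp : Fact p.Prime]
    (hn : Fintype.card α = k * p + r) (hrk : k < r) (hr : 3 ≤ r)
    (x : Fin r ↪ α) (z : Perm α) (hzo : orderOf z = p)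
    (hzx : ∀ i, z (x i) = x i) (hzmove : ∀ ω, ω ∉ Set.range x → z ω ≠ ω)
    (halt : alternatingGroup (Fin r) ≤ centInduced G x z) :
    ∃ ρ ∈ orbInduced G x z hzx, ρ ≠ 1 ∧ Perm.sign ρ = 1 := by
  classical
  have hcF := card_cycleFactors_eq hn x z hzo hzx hzmove
  choose cc hccG hccz hcc using fun σ : alternatingGroup (Fin r) => halt σ.2
  have hcent : ∀ σ, cc σ ∈ Subgroup.centralizer {z} := fun σ =>
    Subgroup.mem_centralizer_singleton_iff.mpr (hccz σ).eq
  set f : alternatingGroup (Fin r) → Perm z.cycleFactorsFinset :=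
    fun σ => Perm.OnCycleFactors.toPermHom z ⟨cc σ, hcent σ⟩ with hf
  have : Nontrivial (Fin r) := Fin.nontrivial_iff_two_le.mpr (by omega)
  have hcardlt : Fintype.card (Perm z.cycleFactorsFinset) <
      Fintype.card (alternatingGroup (Fin r)) := by
    have h1 : 2 * Fintype.card (alternatingGroup (Fin r)) = Fintype.card (Perm (Fin r)) :=
      two_mul_card_alternatingGroup
    rw [Fintype.card_perm, Fintype.card_fin] at h1
    rw [Fintype.card_perm, Fintype.card_coe, hcF]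
    obtain ⟨r', rfl⟩ : ∃ r', r = r' + 1 := ⟨r - 1, by omega⟩
    have h2 : k.factorial ≤ r'.factorial := Nat.factorial_le (by omega)
    have h3 : (r' + 1).factorial = (r' + 1) * r'.factorial := Nat.factorial_succ r'
    have h4 : 0 < r'.factorial := Nat.factorial_pos r'
    nlinarith
  obtain ⟨σ, σ', hne, hff⟩ := Fintype.exists_ne_map_eq_of_card_lt f hcardlt
  set γ : Subgroup.centralizer ({z} : Set (Perm α)) := ⟨cc σ, hcent σ⟩⁻¹ * ⟨cc σ', hcent σ'⟩
    with hγ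
  have hγker : γ ∈ (Perm.OnCycleFactors.toPermHom z).ker := by
    rw [MonoidHom.mem_ker, hγ, map_mul, map_inv]
    have : (Perm.OnCycleFactors.toPermHom z) ⟨cc σ, hcent σ⟩ =
        (Perm.OnCycleFactors.toPermHom z) ⟨cc σ', hcent σ'⟩ := hff
    rw [this, inv_mul_cancel]
  rw [Perm.OnCycleFactors.mem_ker_toPermHom_iff] at hγker
  have hγval : (γ : Perm α) = (cc σ)⁻¹ * cc σ' := rfl
  rw [hγval] at hγker
  refine ⟨(σ : Perm (Fin r))⁻¹ * σ', ⟨(cc σ)⁻¹ * cc σ', G.mul_mem (G.inv_mem (hccG σ)) (hccG σ'),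
    (hccz σ).inv_left.mul_left (hccz σ'), orbit_of_ker x z _ hzmove hγker,
    Cfsg.Agent.S0713.acts_mul x _ _ _ _ (Cfsg.Agent.S0713.acts_inv x _ _ (hcc σ)) (hcc σ')⟩,
    ?_, ?_⟩
  · intro h
    apply hne
    apply Subtype.ext
    exact inv_mul_eq_one.mp h
  · rw [map_mul, map_inv, Perm.mem_alternatingGroup.mp σ.2, Perm.mem_alternatingGroup.mp σ'.2]
    simp

theorem exists_fix_move (G : Subgroup (Perm α)) {t : ℕ}
    (hG : IsMultiplyPretransitive G α (t + 1)) (y : Fin t ↪ α) {ω ω' : α}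
    (hω : ω ∉ Set.range y) (hω' : ω' ∉ Set.range y) :
    ∃ h ∈ G, (∀ i, h (y i) = y i) ∧ h ω = ω' := by
  obtain ⟨g, hg⟩ := hG.exists_smul_eq (Fin.Embedding.snoc y hω) (Fin.Embedding.snoc y hω')
  refine ⟨(g : Perm α), g.2, fun i => ?_, ?_⟩
  · have h1 : (g : Perm α) ((Fin.Embedding.snoc y hω) (Fin.castSucc i)) =
        (Fin.Embedding.snoc y hω') (Fin.castSucc i) := DFunLike.congr_fun hg (Fin.castSucc i)
    rw [Fin.Embedding.snoc_castSucc, Fin.Embedding.snoc_castSucc] at h1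
    exact h1
  · have h1 : (g : Perm α) ((Fin.Embedding.snoc y hω) (Fin.last t)) =
        (Fin.Embedding.snoc y hω') (Fin.last t) := DFunLike.congr_fun hg (Fin.last t)
    rw [Fin.Embedding.snoc_last, Fin.Embedding.snoc_last] at h1
    exact h1

theorem dvd_card_stabilizer (G : Subgroup (Perm α)) {t : ℕ}
    (hG : IsMultiplyPretransitive G α (t + 1)) (y : Fin t ↪ α) (ht : t < Fintype.card α) :
    (Fintype.card α - t) ∣ Nat.card (stabilizer G y) := by
  classical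
  set S : Finset α := (Finset.univ.map y)ᶜ with hS
  have hScard : S.card = Fintype.card α - t := by
    rw [hS, Finset.card_compl, Finset.card_map, Finset.card_univ, Fintype.card_fin]
  have hmemS : ∀ ω, ω ∈ S ↔ ω ∉ Set.range y := by
    intro ω
    rw [hS, Finset.mem_compl, Finset.mem_map]
    constructor
    · rintro h ⟨i, rfl⟩
      exact h ⟨i, Finset.mem_univ _, rfl⟩
    · rintro h ⟨i, _, rfl⟩
      exact h ⟨i, rfl⟩
  obtain ⟨ω₀, hω₀⟩ : S.Nonempty := by
    rw [← Finset.card_pos, hScard]; omega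
  have hω₀' := (hmemS ω₀).mp hω₀
  have horb : (MulAction.orbit (stabilizer G y) ω₀ : Set α) = ↑S := by
    ext ω
    rw [Finset.mem_coe, hmemS]
    constructor
    · rintro ⟨h, rfl⟩ ⟨i, hi⟩
      have h1 : ((h : G) : Perm α) (y i) = y i := by
        have := h.2
        rw [MulAction.mem_stabilizer_iff] at this
        exact DFunLike.congr_fun this i
      apply hω₀'
      refine ⟨i, ?_⟩
      have h2 : ((h : G) : Perm α) ω₀ = y i := hi.symm
      rw [← h1] at h2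
      exact (((h : G) : Perm α).injective h2).symm
    · intro hω
      obtain ⟨h, hhG, hfix, hmove⟩ := exists_fix_move G hG y hω₀' hω
      have hst : (⟨h, hhG⟩ : G) ∈ stabilizer G y := by
        rw [MulAction.mem_stabilizer_iff]
        ext i
        exact hfix i
      exact ⟨⟨⟨h, hhG⟩, hst⟩, hmove⟩
  have h1 : (stabilizer (stabilizer G y) ω₀).index ∣ Nat.card (stabilizer G y) :=
    Subgroup.index_dvd_card _
  rw [MulAction.index_stabilizer, horb, Set.ncard_coe_finset, hScard] at h1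
  exact h1

theorem not_fix_of_case2 (G : Subgroup (Perm α)) {t p : ℕ} [hp : Fact p.Prime]
    (h2 : ∀ x' : Fin (t + 1) ↪ α, ¬ p ∣ Nat.card (stabilizer G x')) (y : Fin t ↪ α)
    {q : Perm α} (hqG : q ∈ G) (hqy : ∀ i, q (y i) = y i) (hq1 : q ≠ 1) {e : ℕ}
    (hqe : q ^ (p ^ e) = 1) {ω : α} (hω : ω ∉ Set.range y) : q ω ≠ ω := by
  intro hfix
  apply h2 (Fin.Embedding.snoc y hω)
  have hst : (⟨q, hqG⟩ : G) ∈ stabilizer G (Fin.Embedding.snoc y hω) := by
    rw [MulAction.mem_stabilizer_iff]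
    ext i
    show q ((Fin.Embedding.snoc y hω) i) = (Fin.Embedding.snoc y hω) i
    refine Fin.lastCases ?_ (fun j => ?_) i
    · rw [Fin.Embedding.snoc_last]; exact hfix
    · rw [Fin.Embedding.snoc_castSucc]; exact hqy j
  have ho : orderOf q ∣ p ^ e := orderOf_dvd_of_pow_eq_one hqe
  obtain ⟨c, _, hc⟩ := (Nat.dvd_prime_pow hp.out).mp ho
  have hc0 : c ≠ 0 := by
    rintro rfl
    rw [pow_zero, orderOf_eq_one_iff] at hc
    exact hq1 hc
  have h3 : orderOf (⟨⟨q, hqG⟩, hst⟩ : stabilizer G (Fin.Embedding.snoc y hω)) = orderOf q := by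
    rw [Subgroup.orderOf_mk, Subgroup.orderOf_mk]
  have h4 := orderOf_dvd_natCard (⟨⟨q, hqG⟩, hst⟩ : stabilizer G (Fin.Embedding.snoc y hω))
  rw [h3, hc] at h4
  exact (dvd_pow_self p hc0).trans h4


theorem acts_eq_extend {d : ℕ} (x : Fin d ↪ α) {θ : Perm α} {σ : Perm (Fin d)}
    (hfix : ∀ ω, ω ∉ Set.range x → θ ω = ω) (hact : ∀ i, θ (x i) = x (σ i)) :
    θ = σ.extendDomain (Equiv.ofInjective x x.injective) := by
  ext y
  by_cases hy : y ∈ Set.range x
  · obtain ⟨i, rfl⟩ := hy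
    have h3 : x i = ((Equiv.ofInjective x x.injective i : {y // y ∈ Set.range x}) : α) := rfl
    conv_rhs => rw [h3]
    rw [Equiv.Perm.extendDomain_apply_image, hact]
    rfl
  · rw [Equiv.Perm.extendDomain_apply_not_subtype _ _ hy]
    exact hfix y hy

theorem acts_isThreeCycle {d : ℕ} (x : Fin d ↪ α) {θ : Perm α} {σ : Perm (Fin d)}
    (hfix : ∀ ω, ω ∉ Set.range x → θ ω = ω) (hact : ∀ i, θ (x i) = x (σ i))
    (h3 : σ.IsThreeCycle) : θ.IsThreeCycle := by
  rw [acts_eq_extend x hfix hact]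
  unfold Perm.IsThreeCycle at h3 ⊢
  rw [Perm.cycleType_extendDomain]
  exact h3

theorem acts_eq_swaps {d : ℕ} (x : Fin d ↪ α) {θ : Perm α} {i0 i1 i2 i3 : Fin d}
    (hfix : ∀ ω, ω ∉ Set.range x → θ ω = ω)
    (hact : ∀ i, θ (x i) = x ((swap i0 i1 * swap i2 i3) i)) :
    θ = swap (x i0) (x i1) * swap (x i2) (x i3) := by
  ext ω
  by_cases hω : ω ∈ Set.range x
  · obtain ⟨i, rfl⟩ := hω
    rw [hact, Perm.mul_apply, Perm.mul_apply, ← x.injective.swap_apply, ← x.injective.swap_apply]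
  · rw [hfix ω hω, Perm.mul_apply]
    have h : ∀ i, ω ≠ x i := fun i h => hω ⟨i, h.symm⟩
    rw [swap_apply_of_ne_of_ne (h _) (h _), swap_apply_of_ne_of_ne (h _) (h _)]

theorem exists_three_cycle_of_double (G : Subgroup (Perm α))
    (hG4 : IsMultiplyPretransitive G α 4) {a1 a2 a3 a4 a5 : α}
    (d12 : a1 ≠ a2) (d13 : a1 ≠ a3) (d23 : a2 ≠ a3) (d14 : a1 ≠ a4) (d24 : a2 ≠ a4)
    (d34 : a3 ≠ a4) (d15 : a1 ≠ a5) (d25 : a2 ≠ a5) (d35 : a3 ≠ a5) (d45 : a4 ≠ a5)
    (hmem : swap a1 a2 * swap a3 a4 ∈ G) : ∃ t ∈ G, t.IsThreeCycle := by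
  have hinj : Function.Injective ![a1, a2, a3] := by
    intro i j h
    fin_cases i <;> fin_cases j <;> simp_all
  set y : Fin 3 ↪ α := ⟨![a1, a2, a3], hinj⟩ with hy
  have hr : ∀ ω, ω ≠ a1 → ω ≠ a2 → ω ≠ a3 → ω ∉ Set.range y := by
    rintro ω n1 n2 n3 ⟨i, rfl⟩
    fin_cases i
    · exact n1 rfl
    · exact n2 rfl
    · exact n3 rfl
  obtain ⟨h, hhG, hfix, hmove⟩ := exists_fix_move G hG4 y (hr a4 d14.symm d24.symm d34.symm)
    (hr a5 d15.symm d25.symm d35.symm)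
  have h1 : h a1 = a1 := hfix 0
  have h2 : h a2 = a2 := hfix 1
  have h3 : h a3 = a3 := hfix 2
  have hconj : h * (swap a1 a2 * swap a3 a4) * h⁻¹ = swap a1 a2 * swap a3 a5 := by
    have e1 : h * swap a1 a2 * h⁻¹ = swap a1 a2 := by
      rw [← swap_apply_apply, h1, h2]
    have e2 : h * swap a3 a4 * h⁻¹ = swap a3 a5 := by
      rw [← swap_apply_apply, h3, hmove]
    calc h * (swap a1 a2 * swap a3 a4) * h⁻¹ = (h * swap a1 a2 * h⁻¹) * (h * swap a3 a4 * h⁻¹) := by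
          group
      _ = swap a1 a2 * swap a3 a5 := by rw [e1, e2]
  have hmem2 : swap a1 a2 * swap a3 a5 ∈ G := by
    rw [← hconj]
    exact G.mul_mem (G.mul_mem hhG hmem) (G.inv_mem hhG)
  refine ⟨(swap a1 a2 * swap a3 a4) * (swap a1 a2 * swap a3 a5), G.mul_mem hmem hmem2, ?_⟩
  have hcomm : swap a1 a2 * swap a3 a4 = swap a3 a4 * swap a1 a2 := by
    ext ω
    simp only [Perm.mul_apply, swap_apply_def]
    split_ifs <;> simp_all
  have : (swap a1 a2 * swap a3 a4) * (swap a1 a2 * swap a3 a5) = swap a3 a4 * swap a3 a5 := by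
    rw [hcomm, mul_assoc, ← mul_assoc (swap a1 a2), swap_mul_self, one_mul]
  rw [this]
  exact Perm.isThreeCycle_swap_mul_swap_same d34 d35 d45


instance s4DecPred : DecidablePred (fun ρ : Perm (Fin 4) => ∃ a b : Perm (Fin 4),
    a * ρ * a⁻¹ * (b * ρ * b⁻¹) = swap 0 1 * swap 2 3 ∨ a * ρ * a⁻¹ = swap 0 1 * swap 2 3) :=
  fun _ => inferInstance

set_option maxRecDepth 100000 in
theorem s4_lemma : ∀ ρ : Perm (Fin 4), ρ ≠ 1 → Perm.sign ρ = 1 →
    ∃ a b : Perm (Fin 4), a * ρ * a⁻¹ * (b * ρ * b⁻¹) = swap 0 1 * swap 2 3 ∨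
      a * ρ * a⁻¹ = swap 0 1 * swap 2 3 := by
  decide

theorem s3_lemma : ∀ ρ : Perm (Fin 3), ρ ≠ 1 → Perm.sign ρ = 1 → ρ.support.card = 3 := by
  decide


end Cfsg.Agent.Helper21.Miller
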