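import Mathlib
import Cfsg.Agent.Lib.Helper21.MillerCase2

set_option autoImplicit false
set_option linter.unusedSectionVars false
set_option linter.unusedVariables false

namespace Cfsg.Agent.Helper21.Miller

open Equiv Equiv.Perm MulAction
open scoped commutatorElement

variable {α : Type*} [Fintype α] [DecidableEq α]

/-- Structure of case 2: produces the element `z` of order `p` and the lifting property. -/
theorem case2_setup (G : Subgroup (Perm α)) {k p r : ℕ} [hp : Fact p.Prime]
    (hn : Fintype.card α = k * p + r) (hk : 1 ≤ k) (hpk : k < p) (hr : 1 ≤ r)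
    (hG : IsMultiplyPretransitive G α (r + 1))
    (h2 : ∀ x' : Fin (r + 1) ↪ α, ¬ p ∣ Nat.card (stabilizer G x')) :
    ∃ (x : Fin r ↪ α) (z : Perm α), z ∈ G ∧ orderOf z = p ∧ (∀ i, z (x i) = x i) ∧
      (∀ ω, ω ∉ Set.range x → z ω ≠ ω) ∧
      ∀ σ : Perm (Fin r), ∃ h ∈ G,
        h ∈ Subgroup.normalizer ((Subgroup.zpowers z : Subgroup (Perm α)) : Set (Perm α)) ∧
        ∀ i, h (x i) = x (σ i) := by
  classical
  have hppos := hp.out.pos
  have hkp : 0 < k * p := Nat.mul_pos hk hppos
  have hcard : r + 1 ≤ Fintype.card α := by rw [hn]; omega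
  have hGr : IsMultiplyPretransitive G α r := by
    apply MulAction.isMultiplyPretransitive_of_le (n := r + 1) (Nat.le_succ r)
    rw [Nat.card_eq_fintype_card]; exact hcard
  obtain ⟨x⟩ : Nonempty (Fin r ↪ α) :=
    Function.Embedding.nonempty_of_card_le (by rw [Fintype.card_fin]; omega)
  obtain ⟨Q, hQG, hQp, hQx, hQne, hW⟩ := witt_perm G hGr x p
  have hdvd : p ∣ Nat.card (stabilizer G x) := by
    have h1 := dvd_card_stabilizer G hG x (by omega)
    have h3 : Fintype.card α - r = k * p := by omega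
    rw [h3] at h1
    exact (Dvd.intro_left k rfl).trans h1
  have hQne' : Q ≠ ⊥ := hQne hdvd
  obtain ⟨z, hzQ, hz1⟩ : ∃ q ∈ Q, q ≠ 1 := by
    by_contra h
    push Not at h
    exact hQne' ((Subgroup.eq_bot_iff_forall Q).mpr h)
  have hQpow : ∀ q ∈ Q, ∃ e : ℕ, q ^ (p ^ e) = 1 := by
    intro q hq
    obtain ⟨e, he⟩ := hQp ⟨q, hq⟩
    refine ⟨e, ?_⟩
    have := congrArg (Subtype.val : Q → Perm α) he
    simpa using this
  have hA : ∀ q ∈ Q, q ≠ 1 → ∀ ω, ω ∉ Set.range x → q ω ≠ ω := by
    intro q hq hq1 ω hω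
    obtain ⟨e, he⟩ := hQpow q hq
    exact not_fix_of_case2 G h2 x (hQG hq) (hQx q hq) hq1 he hω
  -- card Q = p
  set S : Finset α := (Finset.univ.map x)ᶜ with hS
  have hScard : S.card = k * p := by
    rw [hS, Finset.card_compl, Finset.card_map, Finset.card_univ, Fintype.card_fin, hn]
    omega
  have hmemS : ∀ ω, ω ∈ S ↔ ω ∉ Set.range x := by
    intro ω
    rw [hS, Finset.mem_compl, Finset.mem_map]
    constructor
    · rintro h ⟨i, rfl⟩
      exact h ⟨i, Finset.mem_univ _, rfl⟩
    · rintro h ⟨i, _, rfl⟩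
      exact h ⟨i, rfl⟩
  obtain ⟨ω₀, hω₀⟩ : S.Nonempty := by
    rw [← Finset.card_pos, hScard]; exact hkp
  have hω₀' := (hmemS ω₀).mp hω₀
  have hSlt : S.card < p ^ 2 := by
    rw [hScard, pow_two]
    exact Nat.mul_lt_mul_of_pos_right hpk hppos
  have horb : Nat.card (MulAction.orbit Q ω₀) = p := by
    apply orbit_card_p hQp S hSlt
    · intro σ hσ
      rw [hmemS]
      rintro ⟨i, hi⟩
      apply hω₀'
      refine ⟨i, ?_⟩
      apply σ.injective
      rw [hQx σ hσ i, hi]
    · exact ⟨z, hzQ, hA z hzQ hz1 ω₀ hω₀'⟩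
  have hstab : Nat.card (MulAction.stabilizer Q ω₀) = 1 := by
    rw [Nat.card_eq_one_iff_unique]
    refine ⟨⟨fun a b => ?_⟩, ⟨1⟩⟩
    have key : ∀ s : MulAction.stabilizer Q ω₀, s = 1 := by
      intro s
      have hs : ((s : Q) : Perm α) ω₀ = ω₀ := s.2
      by_contra hne
      apply hA ((s : Q) : Perm α) (s : Q).2 _ ω₀ hω₀' hs
      intro h1
      apply hne
      apply Subtype.ext
      apply Subtype.ext
      exact h1
    rw [key a, key b]
  have hQcard : Nat.card Q = p := by
    rw [← Subgroup.card_mul_index (MulAction.stabilizer Q ω₀), hstab, one_mul,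
      MulAction.index_stabilizer, ← Nat.card_coe_set_eq, horb]
  have hzo : orderOf z = p := by
    have h1 : orderOf (⟨z, hzQ⟩ : Q) ∣ Nat.card Q := orderOf_dvd_natCard _
    rw [Subgroup.orderOf_mk, hQcard] at h1
    rcases (Nat.dvd_prime hp.out).mp h1 with h | h
    · exact absurd (orderOf_eq_one_iff.mp h) hz1
    · exact h
  have hzQ' : Subgroup.zpowers z = Q := by
    apply Subgroup.eq_of_le_of_card_ge
    · rw [Subgroup.zpowers_le]; exact hzQ
    · rw [Nat.card_zpowers, hzo, hQcard]
  refine ⟨x, z, hQG hzQ, hzo, hQx z hzQ, hA z hzQ hz1, fun σ => ?_⟩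
  have hfixed : ∀ i, ∀ q ∈ Q, q (x i) = x i := fun i q hq => hQx q hq i
  obtain ⟨g, hgG, hgN, hg⟩ := hW x (σ.toEmbedding.trans x) hfixed (fun i => hfixed (σ i))
  refine ⟨g, hgG, ?_, hg⟩
  rw [hzQ']
  exact hgN

theorem swap_comm_disjoint {β : Type*} [DecidableEq β] {a b c d : β} (hac : a ≠ c) (had : a ≠ d)
    (hbc : b ≠ c) (hbd : b ≠ d) : swap a b * swap c d = swap c d * swap a b := by
  ext ω
  simp only [Perm.mul_apply, swap_apply_def]
  split_ifs <;> simp_all

theorem double_swap_pow_odd {β : Type*} [DecidableEq β] {a b c d : β} (hac : a ≠ c)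
    (had : a ≠ d) (hbc : b ≠ c) (hbd : b ≠ d) {p : ℕ} (hp : Odd p) :
    (swap a b * swap c d) ^ p = swap a b * swap c d := by
  have hsq : (swap a b * swap c d) * (swap a b * swap c d) = 1 := by
    calc (swap a b * swap c d) * (swap a b * swap c d)
        = (swap a b * swap c d) * (swap c d * swap a b) := by
          rw [← swap_comm_disjoint hac had hbc hbd]
      _ = 1 := by
        rw [mul_assoc, ← mul_assoc (swap c d), swap_mul_self, one_mul, swap_mul_self]
  obtain ⟨m, hm⟩ := hp
  rw [hm, pow_succ, pow_mul, pow_two, hsq, one_pow, one_mul]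

/-- Case 2 of Miller's theorem: no `(r+1)`-point stabilizer has order divisible by `p`
(the case `r = p = 3` is excluded and treated separately). -/
theorem case2 (G : Subgroup (Perm α)) {k p r : ℕ} [hp : Fact p.Prime]
    (hn : Fintype.card α = k * p + r) (hk : 2 ≤ k) (hpk : k < p) (hrk : k < r)
    (hG : IsMultiplyPretransitive G α (r + 1))
    (h2 : ∀ x' : Fin (r + 1) ↪ α, ¬ p ∣ Nat.card (stabilizer G x'))
    (hr3p : ¬ (r = 3 ∧ p = 3)) : alternatingGroup α ≤ G := by
  classical
  have hr : 3 ≤ r := by omega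
  have hppos := hp.out.pos
  have hcard : r + 1 ≤ Fintype.card α := by rw [hn]; nlinarith
  have hprim : IsPreprimitive G α :=
    isPreprimitive_of_multi G (t := r + 1) (by omega) hcard hG
  obtain ⟨x, z, hzG, hzo, hzx, hzmove, hlift⟩ :=
    case2_setup G hn (by omega) hpk (by omega) hG h2
  have halt := alt_le_centInduced G x z hlift
  obtain ⟨ρ, hρL, hρ1, hρs⟩ := orbInduced_nontrivial G hn hrk hr x z hzo hzx hzmove halt
  have hnormal := orbInduced_normal G x z hzx hlift
  have hzp : z ^ p = 1 := by rw [← hzo]; exact pow_orderOf_eq_one z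
  have hp2 : p ≠ 2 := by omega
  have hpodd : Odd p := hp.out.odd_of_ne_two hp2
  rcases Nat.lt_or_ge r 4 with hr4 | hr4
  · -- r = 3
    have hr3 : r = 3 := by omega
    subst hr3
    have hp3 : p ≠ 3 := fun h => hr3p ⟨rfl, h⟩
    have hρ3 : ρ.IsThreeCycle := card_support_eq_three_iff.mp (s3_lemma ρ hρ1 hρs)
    obtain ⟨θ, hθG, hθfix, hθact⟩ := orbInduced_pow G x z hzx hzp hρL
    have h3 : (ρ ^ p).IsThreeCycle := by
      apply isThreeCycle_pow_of_not_dvd hρ3
      intro h
      exact hp3 ((Nat.prime_dvd_prime_iff_eq Nat.prime_three hp.out).mp h).symm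
    exact alternatingGroup_le_of_isPreprimitive_of_isThreeCycle_mem hprim
      (acts_isThreeCycle x hθfix hθact h3) hθG
  · -- r ≥ 4 : a double transposition
    set i0 : Fin r := ⟨0, by omega⟩ with hi0
    set i1 : Fin r := ⟨1, by omega⟩ with hi1
    set i2 : Fin r := ⟨2, by omega⟩ with hi2
    set i3 : Fin r := ⟨3, by omega⟩ with hi3
    have d01 : i0 ≠ i1 := by simp [hi0, hi1, Fin.ext_iff]
    have d02 : i0 ≠ i2 := by simp [hi0, hi2, Fin.ext_iff]
    have d03 : i0 ≠ i3 := by simp [hi0, hi3, Fin.ext_iff]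
    have d12 : i1 ≠ i2 := by simp [hi1, hi2, Fin.ext_iff]
    have d13 : i1 ≠ i3 := by simp [hi1, hi3, Fin.ext_iff]
    have d23 : i2 ≠ i3 := by simp [hi2, hi3, Fin.ext_iff]
    have hσ₀ : swap i0 i1 * swap i2 i3 ∈ orbInduced G x z hzx := by
      rcases Nat.lt_or_ge r 5 with hr5 | hr5
      · have hr4' : r = 4 := by omega
        subst hr4'
        obtain ⟨a, b, hab⟩ := s4_lemma ρ hρ1 hρs
        have e0 : i0 = 0 := rfl
        have e1 : i1 = 1 := rfl
        have e2 : i2 = 2 := rfl
        have e3 : i3 = 3 := rfl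
        rw [e0, e1, e2, e3]
        rcases hab with hab | hab
        · rw [← hab]
          exact (orbInduced G x z hzx).mul_mem (hnormal.conj_mem ρ hρL a)
            (hnormal.conj_mem ρ hρL b)
        · rw [← hab]
          exact hnormal.conj_mem ρ hρL a
      · have h5 : 5 ≤ Nat.card (Fin r) := by rw [Nat.card_eq_fintype_card, Fintype.card_fin]; exact hr5
        have hnt : Nontrivial (orbInduced G x z hzx) :=
          ⟨⟨⟨ρ, hρL⟩, 1, fun h => hρ1 (congrArg Subtype.val h)⟩⟩
        have hle := Equiv.Perm.alternatingGroup_le_of_normal h5 hnt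
        apply hle
        rw [Perm.mem_alternatingGroup, map_mul, Perm.sign_swap d01, Perm.sign_swap d23]
        rfl
    obtain ⟨θ, hθG, hθfix, hθact⟩ := orbInduced_pow G x z hzx hzp hσ₀
    have hσpow : (swap i0 i1 * swap i2 i3) ^ p = swap i0 i1 * swap i2 i3 :=
      double_swap_pow_odd d02 d03 d12 d13 hpodd
    rw [hσpow] at hθact
    have hθeq := acts_eq_swaps x hθfix hθact
    -- a fifth point
    obtain ⟨ω₀, hω₀⟩ : ∃ ω₀, ω₀ ∉ Set.range x := by
      by_contra h
      push Not at h
      have hsurj : Function.Surjective x := h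
      have := Fintype.card_le_of_surjective x hsurj
      rw [Fintype.card_fin] at this
      omega
    have hG4 : IsMultiplyPretransitive G α 4 := by
      apply MulAction.isMultiplyPretransitive_of_le (n := r + 1) (by omega)
      rw [Nat.card_eq_fintype_card]; exact hcard
    have hx : ∀ i j : Fin r, i ≠ j → x i ≠ x j := fun i j h h' => h (x.injective h')
    have hxω : ∀ i : Fin r, x i ≠ ω₀ := fun i h => hω₀ ⟨i, h⟩
    obtain ⟨t, htG, ht3⟩ := exists_three_cycle_of_double G hG4 (hx _ _ d01) (hx _ _ d02)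
      (hx _ _ d12) (hx _ _ d03) (hx _ _ d13) (hx _ _ d23) (hxω _) (hxω _) (hxω _) (hxω _)
      (hθeq ▸ hθG)
    exact alternatingGroup_le_of_isPreprimitive_of_isThreeCycle_mem hprim ht3 htG

end Cfsg.Agent.Helper21.Miller
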