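import Mathlib
import Cfsg.Agent.Lib.Helper21.MillerCase2b

set_option autoImplicit false
set_option linter.unusedSectionVars false
set_option linter.unusedVariables false

namespace Cfsg.Agent.Helper21.Miller

open Equiv Equiv.Perm MulAction

variable {α : Type*} [Fintype α] [DecidableEq α]

/-- an element of prime order `q` with `n < 2q` and `q + 3 ≤ n` in a primitive group -/
theorem alt_le_of_prime_order (G : Subgroup (Perm α)) (hprim : IsPreprimitive G α) {q : ℕ}
    (hq : q.Prime) (h5 : 5 ≤ Fintype.card α) (h1 : q + 3 ≤ Fintype.card α)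
    (h2 : Fintype.card α < 2 * q) {u : Perm α} (huG : u ∈ G) (huo : orderOf u = q) :
    alternatingGroup α ≤ G := by
  have hc : u.IsCycle := Perm.isCycle_of_prime_order' (by rw [huo]; exact hq) (by rw [huo]; exact h2)
  have hs : u.support.card = q := by rw [← hc.orderOf, huo]
  exact Cfsg.Agent.S0713.result G hprim hq h5 h1 hc hs huG

/-- (ii): a `4`-point stabilizer of order divisible by 5 in degree 9. -/
theorem nine_five (G : Subgroup (Perm α)) (hcard : Fintype.card α = 9)
    (hprim : IsPreprimitive G α) (x : Fin 4 ↪ α) (h5 : 5 ∣ Nat.card (stabilizer G x)) :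
    alternatingGroup α ≤ G := by
  have : Fact (Nat.Prime 5) := ⟨by norm_num⟩
  obtain ⟨u, hu⟩ := exists_prime_orderOf_dvd_card' 5 h5
  apply alt_le_of_prime_order G hprim (q := 5) (by norm_num) (by omega) (by omega) (by omega)
    (u := ((u : G) : Perm α)) (u : G).2
  rw [Subgroup.orderOf_coe, Subgroup.orderOf_coe, hu]

/-- a permutation of order five on a five element type -/
theorem exists_order_five (β : Type*) [Fintype β] [DecidableEq β] (hβ : Fintype.card β = 5) :
    ∃ c : Perm β, orderOf c = 5 := by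
  obtain ⟨f⟩ : Nonempty (Fin 5 ↪ β) :=
    Function.Embedding.nonempty_of_card_le (by rw [Fintype.card_fin, hβ])
  set c : Perm β := (finRotate 5).viaFintypeEmbedding f with hc
  have h5 : c ^ 5 = 1 := by
    rw [hc, Equiv.Perm.viaFintypeEmbedding, ← extendDomain_pow]
    have : finRotate 5 ^ 5 = 1 := by decide
    rw [this, extendDomain_one]
  have h1 : c ≠ 1 := by
    intro h
    have h2 : c (f 0) = f 1 := by
      rw [hc, viaFintypeEmbedding_apply_image]
      rfl
    rw [h, Perm.one_apply] at h2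
    have := f.injective h2
    exact absurd this (by decide)
  refine ⟨c, ?_⟩
  have hd : orderOf c ∣ 5 := orderOf_dvd_of_pow_eq_one h5
  rcases (Nat.dvd_prime (by norm_num : Nat.Prime 5)).mp hd with h | h
  · exact absurd (orderOf_eq_one_iff.mp h) h1
  · exact h

/-- (iii): a `4`-point stabilizer of even order in degree 9. -/
theorem nine_two (G : Subgroup (Perm α)) (hcard : Fintype.card α = 9)
    (hprim : IsPreprimitive G α) (hG : IsMultiplyPretransitive G α 4) (x : Fin 4 ↪ α)
    (h2 : 2 ∣ Nat.card (stabilizer G x)) : alternatingGroup α ≤ G := by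
  classical
  have : Fact (Nat.Prime 2) := ⟨Nat.prime_two⟩
  obtain ⟨Q, hQG, hQp, hQx, hQne, hW⟩ := witt_perm G hG x 2
  have hQne' : Q ≠ ⊥ := hQne h2
  set Γ : Finset α := fixF Q with hΓ
  have hxΓ : ∀ i, x i ∈ Γ := fun i => mem_fixF.mpr (fun q hq => hQx q hq i)
  have hcard_ge : 4 ≤ Γ.card := by
    have : (Finset.univ.map x).card ≤ Γ.card := by
      apply Finset.card_le_card
      intro ω hω
      obtain ⟨i, _, rfl⟩ := Finset.mem_map.mp hω
      exact hxΓ i
    rwa [Finset.card_map, Finset.card_univ, Fintype.card_fin] at this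
  obtain ⟨q₀, hq₀Q, hq₀1⟩ : ∃ q ∈ Q, q ≠ 1 := by
    by_contra h
    push Not at h
    exact hQne' ((Subgroup.eq_bot_iff_forall Q).mpr h)
  have hcard_lt : Γ.card < 9 := by
    rw [← hcard]
    obtain ⟨ω, hω⟩ : ∃ ω, q₀ ω ≠ ω := by
      by_contra h
      push Not at h
      exact hq₀1 (Perm.ext h)
    have hωΓ : ω ∉ Γ := fun h => hω (mem_fixF.mp h q₀ hq₀Q)
    exact Finset.card_lt_univ_of_notMem hωΓ
  have hmod : Fintype.card α ≡ Γ.card [MOD 2] := card_fixF_modEq hQp
  rw [hcard] at hmod
  have hodd : Γ.card % 2 = 1 := by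
    have := hmod
    unfold Nat.ModEq at this
    omega
  have hsupp : q₀.support ⊆ Γᶜ := by
    intro ω hω
    rw [Finset.mem_compl]
    intro h
    exact (Perm.mem_support.mp hω) (mem_fixF.mp h q₀ hq₀Q)
  have hcases : Γ.card = 5 ∨ Γ.card = 7 := by omega
  rcases hcases with h5 | h7
  · -- five fixed points
    set N : Subgroup (Perm α) := G ⊓ Subgroup.normalizer (Q : Set (Perm α)) with hN
    have hNW : ∀ a b : Fin 4 ↪ α, (∀ i, a i ∈ Γ) → (∀ i, b i ∈ Γ) →
        ∃ g ∈ N, (∀ ω, g ω ∈ Γ ↔ ω ∈ Γ) ∧ ∀ i, g (a i) = b i := by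
      intro a b ha hb
      obtain ⟨g, hgG, hgN, hg⟩ := hW a b (fun i q hq => mem_fixF.mp (ha i) q hq)
        (fun i q hq => mem_fixF.mp (hb i) q hq)
      exact ⟨g, ⟨hgG, hgN⟩, normalizer_preserves hgN, hg⟩
    have htrans := induced_pretransitive N Γ 4 hNW
    have hβ : Fintype.card {ω // ω ∈ Γ} = 5 := by rw [Fintype.card_coe, h5]
    have htop : induced N Γ = ⊤ := by
      apply eq_top_of_isMultiplyPretransitive
      rw [Nat.card_eq_fintype_card, hβ]
      exact htrans
    obtain ⟨c, hc⟩ := exists_order_five {ω // ω ∈ Γ} hβ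
    obtain ⟨g, hgN, hg⟩ := mem_induced.mp (htop ▸ Subgroup.mem_top c)
    have hpres : ∀ ω, g ω ∈ Γ ↔ ω ∈ Γ := normalizer_preserves hgN.2
    have hpres' : ∀ ω, g ω ∉ Γ ↔ ω ∉ Γ := fun ω => not_congr (hpres ω)
    have h24 : (g.subtypePerm (p := fun ω => ω ∉ Γ) hpres') ^ 24 = 1 := by
      have h1 : Fintype.card (Perm {ω // ω ∉ Γ}) = 24 := by
        rw [Fintype.card_perm, Fintype.card_subtype_compl, Fintype.card_coe, hcard, h5]
        rfl
      rw [← h1]
      exact pow_card_eq_one
    set θ : Perm α := g ^ 24 with hθ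
    have hθfix : ∀ ω, ω ∉ Γ → θ ω = ω := by
      intro ω hω
      have h1 := congrArg (fun f : Perm {ω // ω ∉ Γ} => ((f ⟨ω, hω⟩ : {ω // ω ∉ Γ}) : α)) h24
      simp only [Perm.subtypePerm_pow, Perm.subtypePerm_apply, Perm.one_apply] at h1
      exact h1
    have hθagree : Agree Γ θ (c ^ 24) := Agree.pow hg 24
    have hθeq := hθagree.eq_ofSubtype hθfix
    have hc24 : c ^ 24 ≠ 1 := by
      intro h
      have := orderOf_dvd_of_pow_eq_one h
      rw [hc] at this
      omega
    have hθ1 : θ ≠ 1 := by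
      rw [hθeq]
      intro h
      apply hc24
      apply Perm.ofSubtype_injective
      rw [h, map_one]
    have hθ5 : θ ^ 5 = 1 := by
      rw [hθeq, ← map_pow, ← pow_mul, mul_comm, pow_mul]
      have : c ^ 5 = 1 := by rw [← hc]; exact pow_orderOf_eq_one c
      rw [this, one_pow, map_one]
    have hθo : orderOf θ = 5 := by
      have hd : orderOf θ ∣ 5 := orderOf_dvd_of_pow_eq_one hθ5
      rcases (Nat.dvd_prime (by norm_num : Nat.Prime 5)).mp hd with h | h
      · exact absurd (orderOf_eq_one_iff.mp h) hθ1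
      · exact h
    exact alt_le_of_prime_order G hprim (q := 5) (by norm_num) (by omega) (by omega) (by omega)
      (G.pow_mem hgN.1 24) hθo
  · -- seven fixed points: a transposition
    have hc2 : (Γᶜ).card = 2 := by
      rw [Finset.card_compl, hcard, h7]
    have hle : q₀.support.card ≤ 2 := hc2 ▸ Finset.card_le_card hsupp
    have h0 : q₀.support.card ≠ 0 := by
      rw [Ne, Finset.card_eq_zero, Perm.support_eq_empty_iff]
      exact hq₀1
    have h1 : q₀.support.card ≠ 1 := Perm.card_support_ne_one q₀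
    have hs : q₀.IsSwap := Perm.card_support_eq_two.mp (by omega)
    have := subgroup_eq_top_of_isPreprimitive_of_isSwap_mem hprim q₀ hs (hQG hq₀Q)
    rw [this]
    exact le_top

theorem card_mul_of_multi_gen {G : Type*} [Group G] [MulAction G α] {t : ℕ}
    (hG : IsMultiplyPretransitive G α t) (x : Fin t ↪ α) :
    Nat.card (stabilizer G x) * (Fintype.card α).descFactorial t = Nat.card G := by
  have inst : IsPretransitive G (Fin t ↪ α) := hG
  rw [← Subgroup.card_mul_index (stabilizer G x), MulAction.index_stabilizer_of_transitive,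
    Nat.card_eq_fintype_card (α := Fin t ↪ α), Fintype.card_embedding_eq, Fintype.card_fin]

theorem card_mul_of_multi (G : Subgroup (Perm α)) {t : ℕ}
    (hG : IsMultiplyPretransitive G α t) (x : Fin t ↪ α) :
    Nat.card (stabilizer G x) * (Fintype.card α).descFactorial t = Nat.card G :=
  card_mul_of_multi_gen (G := G) hG x

theorem commute_cycle_zpow {g c : Perm α} (hgc : g.IsCycle) (hc : Commute c g) :
    ∃ j : ℤ, ∀ y ∈ g.support, c y = (g ^ j) y := by
  obtain ⟨hc', hz⟩ := hgc.commute_iff.mp hc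
  obtain ⟨j, hj⟩ := Subgroup.mem_zpowers_iff.mp hz
  refine ⟨j, fun y hy => ?_⟩
  rw [hj]
  exact (Equiv.Perm.ofSubtype_subtypePerm_of_mem hc' hy).symm

/-- an element commuting with a cycle of length `card α - 2` but not one of its powers yields a
transposition -/
theorem swap_of_commute_cycle (G : Subgroup (Perm α)) {σ c : Perm α} (hσc : σ.IsCycle)
    (hσs : σ.support.card + 2 = Fintype.card α) (hσG : σ ∈ G) (hcG : c ∈ G)
    (hc : Commute c σ) (hcz : c ∉ Subgroup.zpowers σ) : ∃ θ ∈ G, θ.IsSwap := by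
  obtain ⟨j, hj⟩ := commute_cycle_zpow hσc hc
  set θ : Perm α := c * (σ ^ j)⁻¹ with hθ
  have hθG : θ ∈ G := G.mul_mem hcG (G.inv_mem (G.zpow_mem hσG j))
  have hθfix : ∀ y ∈ σ.support, θ y = y := by
    intro y hy
    rw [hθ, Perm.mul_apply]
    have hy' : (σ ^ j)⁻¹ y ∈ σ.support := by
      rw [← zpow_neg]
      exact Equiv.Perm.zpow_apply_mem_support.mpr hy
    rw [hj _ hy']
    simp
  have hθ1 : θ ≠ 1 := by
    intro h
    apply hcz
    rw [hθ, mul_inv_eq_one] at h
    rw [h]
    exact Subgroup.zpow_mem_zpowers σ j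
  have hsupp : θ.support ⊆ σ.supportᶜ := by
    intro y hy
    rw [Finset.mem_compl]
    intro h
    exact (Perm.mem_support.mp hy) (hθfix y h)
  have hle : θ.support.card ≤ 2 := by
    have := Finset.card_le_card hsupp
    rw [Finset.card_compl] at this
    omega
  have h0 : θ.support.card ≠ 0 := by
    rw [Ne, Finset.card_eq_zero, Perm.support_eq_empty_iff]
    exact hθ1
  have h1 : θ.support.card ≠ 1 := Perm.card_support_ne_one θ
  exact ⟨θ, hθG, Perm.card_support_eq_two.mp (by omega)⟩

/-- (iv): sharply 4-transitive of degree 9 is impossible (we derive the conclusion). -/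
theorem nine_sharp (G : Subgroup (Perm α)) (hcard : Fintype.card α = 9)
    (hprim : IsPreprimitive G α) (hG : IsMultiplyPretransitive G α 4) (x₄ : Fin 4 ↪ α)
    (hK : Nat.card (stabilizer G x₄) = 1) : alternatingGroup α ≤ G := by
  classical
  have : Fact (Nat.Prime 7) := ⟨by norm_num⟩
  have hGcard : Nat.card G = 3024 := by
    rw [← card_mul_of_multi G hG x₄, hK, hcard]
    rfl
  have hG2 : IsMultiplyPretransitive G α 2 := by
    apply MulAction.isMultiplyPretransitive_of_le (n := 4) (by omega)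
    rw [Nat.card_eq_fintype_card, hcard]; omega
  obtain ⟨x₂⟩ : Nonempty (Fin 2 ↪ α) :=
    Function.Embedding.nonempty_of_card_le (by rw [Fintype.card_fin, hcard]; omega)
  have hM : Nat.card (stabilizer G x₂) = 42 := by
    have h1 := card_mul_of_multi G hG2 x₂
    rw [hGcard, hcard] at h1
    have h2 : (9 : ℕ).descFactorial 2 = 72 := rfl
    rw [h2] at h1
    omega
  -- an element of order 7
  obtain ⟨u, hu⟩ := exists_prime_orderOf_dvd_card' (G := stabilizer G x₂) 7 (by rw [hM]; norm_num)
  set σ : Perm α := ((u : G) : Perm α) with hσ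
  have hσG : σ ∈ G := (u : G).2
  have hσo : orderOf σ = 7 := by rw [hσ, Subgroup.orderOf_coe, Subgroup.orderOf_coe, hu]
  have hσc : σ.IsCycle := Perm.isCycle_of_prime_order' (by rw [hσo]; norm_num) (by rw [hσo, hcard]; norm_num)
  have hσs : σ.support.card = 7 := by rw [← hσc.orderOf, hσo]
  have hσx : ∀ i, σ (x₂ i) = x₂ i := by
    intro i
    have := u.2
    rw [MulAction.mem_stabilizer_iff] at this
    exact DFunLike.congr_fun this i
  have hx : ∀ y, y ∈ Set.range x₂ ↔ y ∉ σ.support := by
    have hsub : Finset.univ.map x₂ ⊆ σ.supportᶜ := by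
      intro y hy
      obtain ⟨i, _, rfl⟩ := Finset.mem_map.mp hy
      rw [Finset.mem_compl, Perm.notMem_support]
      exact hσx i
    have heq : Finset.univ.map x₂ = σ.supportᶜ := by
      apply Finset.eq_of_subset_of_card_le hsub
      rw [Finset.card_compl, hσs, hcard, Finset.card_map, Finset.card_univ, Fintype.card_fin]
    intro y
    rw [← Finset.mem_compl, ← heq, Finset.mem_map]
    constructor
    · rintro ⟨i, rfl⟩; exact ⟨i, Finset.mem_univ _, rfl⟩
    · rintro ⟨i, _, rfl⟩; exact ⟨i, rfl⟩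
  obtain ⟨P, hP⟩ := Cfsg.Agent.S0713.exists_sylow_eq_zpowers G hσc hσs hσG x₂ hx
  set Z : Subgroup G := Subgroup.zpowers (⟨σ, hσG⟩ : G) with hZ
  have hZcard : Nat.card Z = 7 := by
    rw [hZ, Nat.card_zpowers, Subgroup.orderOf_mk, hσo]
  have hPcard : Nat.card (P : Subgroup (stabilizer G x₂)) = 7 := by
    have h1 : Nat.card (P : Subgroup (stabilizer G x₂)) =
        Nat.card ((P : Subgroup (stabilizer G x₂)).map (stabilizer G x₂).subtype) :=
      Nat.card_congr (Subgroup.equivMapOfInjective _ _ (Subgroup.subtype_injective _)).toEquiv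
    rw [h1, hP, hZcard]
  have hPidx : (P : Subgroup (stabilizer G x₂)).index = 6 := by
    have := Subgroup.card_mul_index (P : Subgroup (stabilizer G x₂))
    rw [hPcard, hM] at this
    omega
  have hsyl1 : Nat.card (Sylow 7 (stabilizer G x₂)) = 1 := by
    have h1 : Nat.card (Sylow 7 (stabilizer G x₂)) ≡ 1 [MOD 7] := card_sylow_modEq_one 7 (stabilizer G x₂)
    have h2 : Nat.card (Sylow 7 (stabilizer G x₂)) ∣ 6 := hPidx ▸ P.card_dvd_index
    have h3 : Nat.card (Sylow 7 (stabilizer G x₂)) ≤ 6 := Nat.le_of_dvd (by norm_num) h2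
    unfold Nat.ModEq at h1
    omega
  have hPnorm : Subgroup.normalizer ((P : Subgroup (stabilizer G x₂)) : Set (stabilizer G x₂)) = ⊤ := by
    have h1 := P.card_eq_index_normalizer
    rw [hsyl1] at h1
    exact Subgroup.index_eq_one.mp h1.symm
  have hMN : (stabilizer G x₂) ≤ Subgroup.normalizer (Z : Set G) := by
    intro m hm
    apply Subgroup.mem_normalizer_fintype
    intro n hn
    have hn' : n ∈ Z := hn
    rw [← hP] at hn'
    obtain ⟨w, hw, rfl⟩ := hn'
    have hmP : (⟨m, hm⟩ : (stabilizer G x₂)) ∈ Subgroup.normalizer ((P : Subgroup (stabilizer G x₂)) : Set (stabilizer G x₂)) := by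
      rw [hPnorm]; exact Subgroup.mem_top _
    rw [Subgroup.mem_normalizer_iff] at hmP
    have h1 := (hmP w).mp hw
    show m * ((stabilizer G x₂).subtype w) * m⁻¹ ∈ Z
    rw [← hP]
    exact ⟨_, h1, rfl⟩
  obtain ⟨h, hhN, hh⟩ := Cfsg.Agent.S0713.exists_normalizer_acts G hG2 hσc hσs hσG x₂ hx (swap 0 1)
  have hhM : h ∉ (stabilizer G x₂) := by
    intro hmem
    rw [MulAction.mem_stabilizer_iff] at hmem
    have h1 : (h : Perm α) (x₂ 0) = x₂ 0 := DFunLike.congr_fun hmem 0
    rw [hh 0, swap_apply_left] at h1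
    have := x₂.injective h1
    exact absurd this (by decide)
  have hNcard : 84 ≤ Nat.card (Subgroup.normalizer (Z : Set G)) := by
    have h1 : Nat.card (stabilizer G x₂) ∣ Nat.card (Subgroup.normalizer (Z : Set G)) :=
      Subgroup.card_dvd_of_le hMN
    have h2 : Nat.card (Subgroup.normalizer (Z : Set G)) ≠ Nat.card (stabilizer G x₂) := by
      intro heq
      have := Subgroup.eq_of_le_of_card_ge hMN heq.le
      apply hhM
      rw [this]
      exact hhN
    have h3 : 0 < Nat.card (Subgroup.normalizer (Z : Set G)) := Nat.card_pos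
    rw [hM] at h1 h2
    obtain ⟨c, hc⟩ := h1
    rcases c with _ | _ | c <;> omega
  -- the map to Aut(Z)
  have hker : 14 ≤ Nat.card (Z.normalizerMonoidHom).ker := by
    have h1 := Subgroup.card_mul_index (Z.normalizerMonoidHom).ker
    rw [Subgroup.index_ker] at h1
    have h2 : Nat.card (Z.normalizerMonoidHom).range ∣ Nat.card (MulAut Z) :=
      Subgroup.card_subgroup_dvd_card _
    rw [IsCyclic.card_mulAut, hZcard, Nat.totient_prime (by norm_num)] at h2
    have h3 : Nat.card (Z.normalizerMonoidHom).range ≤ 6 := Nat.le_of_dvd (by norm_num) h2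
    nlinarith
  obtain ⟨c, hcC, hcZ⟩ : ∃ c : G, c ∈ Subgroup.centralizer (Z : Set G) ∧ c ∉ Z := by
    by_contra hcon
    push Not at hcon
    have hle : (Z.normalizerMonoidHom).ker ≤ Z.subgroupOf (Subgroup.normalizer (Z : Set G)) := by
      rw [Subgroup.normalizerMonoidHom_ker]
      intro n hn
      rw [Subgroup.mem_subgroupOf] at hn ⊢
      exact hcon _ hn
    have h1 := Subgroup.card_le_of_le hle
    rw [Nat.card_congr (Subgroup.subgroupOfEquivOfLe Subgroup.le_normalizer).toEquiv, hZcard] at h1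
    omega
  have hcσ : Commute (c : Perm α) σ := by
    rw [Subgroup.mem_centralizer_iff] at hcC
    have := hcC ⟨σ, hσG⟩ (Subgroup.mem_zpowers _)
    have h2 := congrArg (Subtype.val : G → Perm α) this
    exact h2.symm
  have hcz : (c : Perm α) ∉ Subgroup.zpowers σ := by
    intro hmem
    obtain ⟨j, hj⟩ := Subgroup.mem_zpowers_iff.mp hmem
    apply hcZ
    rw [hZ, Subgroup.mem_zpowers_iff]
    refine ⟨j, ?_⟩
    apply Subtype.ext
    rw [Subgroup.coe_zpow]
    exact hj
  obtain ⟨θ, hθG, hθs⟩ := swap_of_commute_cycle G hσc (by rw [hσs, hcard]) hσG c.2 hcσ hcz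
  have := subgroup_eq_top_of_isPreprimitive_of_isSwap_mem hprim θ hθs hθG
  rw [this]
  exact le_top


/-- The special case `n = 9 = 2 * 3 + 3`: a `4`-transitive group of degree `9` whose `4`-point
stabilizers have order prime to `3` contains the alternating group. -/
theorem nine (G : Subgroup (Perm α)) (hcard : Fintype.card α = 9)
    (hG : IsMultiplyPretransitive G α 4)
    (h3 : ∀ x' : Fin 4 ↪ α, ¬ 3 ∣ Nat.card (stabilizer G x')) : alternatingGroup α ≤ G := by
  classical
  have hprim : IsPreprimitive G α :=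
    isPreprimitive_of_multi G (t := 4) (by omega) (by omega) hG
  obtain ⟨x⟩ : Nonempty (Fin 4 ↪ α) :=
    Function.Embedding.nonempty_of_card_le (by rw [Fintype.card_fin, hcard]; omega)
  set s : Finset α := (Finset.univ.map x)ᶜ with hs
  have hscard : s.card = 5 := by
    rw [hs, Finset.card_compl, Finset.card_map, Finset.card_univ, Fintype.card_fin, hcard]
  have hx : ∀ y, y ∈ Set.range x ↔ y ∉ s := by
    intro y
    rw [hs, Finset.mem_compl, not_not, Finset.mem_map]
    constructor
    · rintro ⟨i, rfl⟩; exact ⟨i, Finset.mem_univ _, rfl⟩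
    · rintro ⟨i, _, rfl⟩; exact ⟨i, rfl⟩
  have hdvd : Nat.card (stabilizer G x) ∣ 120 := by
    have := Cfsg.Agent.S0713.card_stabilizer_dvd G x s hx
    rw [hscard] at this
    exact this
  by_cases h5 : 5 ∣ Nat.card (stabilizer G x)
  · exact nine_five G hcard hprim x h5
  by_cases h2 : 2 ∣ Nat.card (stabilizer G x)
  · exact nine_two G hcard hprim hG x h2
  have hK : Nat.card (stabilizer G x) = 1 := by
    have c2 : Nat.Coprime (Nat.card (stabilizer G x)) 2 :=
      ((Nat.Prime.coprime_iff_not_dvd Nat.prime_two).mpr h2).symm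
    have c3 : Nat.Coprime (Nat.card (stabilizer G x)) 3 :=
      ((Nat.Prime.coprime_iff_not_dvd Nat.prime_three).mpr (h3 x)).symm
    have c5 : Nat.Coprime (Nat.card (stabilizer G x)) 5 :=
      ((Nat.Prime.coprime_iff_not_dvd (by norm_num : Nat.Prime 5)).mpr h5).symm
    have c120 : Nat.Coprime (Nat.card (stabilizer G x)) 120 := by
      have : (120 : ℕ) = 2 ^ 3 * 3 * 5 := by norm_num
      rw [this]
      exact ((c2.pow_right 3).mul_right c3).mul_right c5
    exact Nat.Coprime.eq_one_of_dvd c120 hdvd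
  exact nine_sharp G hcard hprim hG x hK

end Cfsg.Agent.Helper21.Miller
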