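import Mathlib
import Cfsg.Agent.Lib.Helper21.N9KDefs
import Cfsg.Agent.Lib.Helper9.N9KPCORE
import Cfsg.Agent.Lib.Helper7.PLocal6

/-!
# S3702 (helper21): the configuration `Cfg H J` from the hypotheses of the statement
-/

set_option autoImplicit false
set_option linter.unusedSectionVars false
set_option linter.unusedVariables false

namespace Cfsg.Agent.Helper21.N9

open Cfsg

universe u

variable {G : Type u} [Group G] [Finite G] {H J : Subgroup G}

/-- PIECE S3702-GR-CFG -/
theorem cfg_of_statement (H : Subgroup G) (hH : Nonempty (↥H ≃* ↥K0)) (J : Subgroup G)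
    (hJ : J = (Cfsg.pCore 3 ↥H).map H.subtype)
    (hC : ∀ j ∈ J, j ≠ 1 → Subgroup.centralizer ({j} : Set G) ≤ H) (hsc : Cfsg.IsStronglyClosed J H) :
    Nonempty (Cfg H J) := by
  obtain ⟨e⟩ := hH
  refine ⟨{ e := e, hJH := hsc.1, hJ := ?_, hC := hC, hsc := hsc.2 }⟩
  intro x
  rw [← pCore_K0, Cfsg.Agent.Helper7.mem_pCore_mulEquiv_iff 3 e x, hJ]
  constructor
  · rintro ⟨y, hy, hxy⟩
    have : y = x := Subtype.ext hxy
    rw [← this]
    exact hy
  · intro hx
    exact ⟨x, hx, rfl⟩

end Cfsg.Agent.Helper21.N9
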