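import Mathlib
import Cfsg.Agent.Lib.Helper21.N9KDefs
import Cfsg.Agent.Lib.Helper16.TC648Index
import Cfsg.Agent.Lib.Helper18.N9Counts
import Cfsg.Agent.Lib.Helper18.N9KCONJF
import Cfsg.Agent.Lib.Helper1.N9KCONJE
import Cfsg.Agent.Lib.Helper1.N9KCONJV
import Cfsg.Agent.Lib.Helper15.N9KCONJJ
import Cfsg.Agent.Lib.Helper25.N9KNCONJ
import Cfsg.Agent.Lib.Helper17.N9KINA
import Cfsg.Agent.Lib.Helper22.N9TRA
import Cfsg.Agent.Lib.Helper3.N9OUTCore
import Cfsg.Agent.Lib.Helper14.N9TRICore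
import Cfsg.Agent.Lib.Helper21.N9CFG

/-!
# S3702 (helper21): assembly of the group-theoretic part, `exists_cfg`

Pieces: helper18 (N9Counts: `cent_all`, the seven counts, mixed TRI; N9KCONJF), helper1 (KCONJE, KCONJV),
helper15 (KCONJJ), helper25 (KNCONJ), helper17 (KINA), helper22 (TRA), helper3 (`nconj_G_core`),
helper14 (`ti_of_fusion`), helper16 (`index_modEq_one_of_control`), helper12/helper9 (CFG, KPCORE).
-/

set_option autoImplicit false
set_option linter.unusedSectionVars false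
set_option linter.unusedVariables false

namespace Cfsg.Agent.Helper21.N9

open Cfsg Cfsg.Agent.Helper16

universe u

section Asm

variable {G : Type u} [Group G] [Finite G] {H J : Subgroup G}

/-- `H` controls fusion in `J` (centralizer orders 108, 54, 81) -/
theorem asm_fusion (c : Cfg H J) : ∀ x ∈ J, x ≠ 1 → ∀ g : G, g * x * g⁻¹ ∈ J → g ∈ H := by
  intro x hx hx1 g hg
  obtain ⟨i, j, k, rfl⟩ := cnt_exists_of_mem_J c hx
  obtain ⟨i', j', k', hx'⟩ := cnt_exists_of_mem_J c hg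
  have hv : ((i, j, k) : cnt_V) ≠ 0 := by
    intro h0
    apply hx1
    have h1 : Wj i j k = 1 := by
      rw [show Wj i j k = cnt_Wv (i, j, k) from rfl, h0, cnt_Wv_zero]
    rw [h1, map_one]
  have hv' : ((i', j', k') : cnt_V) ≠ 0 := by
    intro h0
    have h1 : c.ι (Wj i' j' k') = 1 := by
      rw [show Wj i' j' k' = cnt_Wv (i', j', k') from rfl, h0, cnt_Wv_zero, map_one]
    rw [h1] at hx'
    apply hx1
    have h2 : c.ι (Wj i j k) = g⁻¹ * (g * c.ι (Wj i j k) * g⁻¹) * g := by group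
    rw [h2, ← hx']
    group
  have hc1 := cnt_card_centralizer_Wv c (i, j, k) hv
  have hc2 := cnt_card_centralizer_Wv c (i', j', k') hv'
  have hcls : cnt_cls (i', j', k') = cnt_cls (i, j, k) := by
    obtain ⟨w, hw⟩ := cnt_cls_range (i, j, k)
    obtain ⟨w', hw'⟩ := cnt_cls_range (i', j', k')
    rw [hw, hw']
    congr 1
    apply cnt_cz_inj
    rw [← hw, ← hw', ← hc1, ← hc2]
    change Nat.card (Subgroup.centralizer ({c.ι (Wj i' j' k')} : Set G)) =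
      Nat.card (Subgroup.centralizer ({c.ι (Wj i j k)} : Set G))
    rw [hx', cnt_card_centralizer_conj]
  obtain ⟨q, hq⟩ := cntk_conjJ i j k ((cnt_ne_zero_iff (i, j, k)).mp hv)
  obtain ⟨q', hq'⟩ := cntk_conjJ i' j' k' ((cnt_ne_zero_iff (i', j', k')).mp hv')
  have hcls' : TC648.clsJ i' j' k' = TC648.clsJ i j k := hcls
  rw [hcls'] at hq'
  -- the element `(ι q')⁻¹ g (ι q)` centralizes the representative
  have hq1 : c.ι (Wk q) * c.ι (CK.z (TC648.clsJ i j k)) * (c.ι (Wk q))⁻¹ = c.ι (Wj i j k) := by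
    rw [← map_inv, ← map_mul, ← map_mul, hq]
  have hq2 : c.ι (Wk q') * c.ι (CK.z (TC648.clsJ i j k)) * (c.ι (Wk q'))⁻¹ = c.ι (Wj i' j' k') := by
    rw [← map_inv, ← map_mul, ← map_mul, hq']
  have hcen : (c.ι (Wk q'))⁻¹ * g * c.ι (Wk q) ∈
      Subgroup.centralizer ({c.ι (CK.z (TC648.clsJ i j k))} : Set G) := by
    rw [Subgroup.mem_centralizer_singleton_iff]
    have e1 : g * (c.ι (Wk q) * c.ι (CK.z (TC648.clsJ i j k)) * (c.ι (Wk q))⁻¹) * g⁻¹ =
        c.ι (Wk q') * c.ι (CK.z (TC648.clsJ i j k)) * (c.ι (Wk q'))⁻¹ := by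
      rw [hq1, hq2, hx']
    calc (c.ι (Wk q'))⁻¹ * g * c.ι (Wk q) * c.ι (CK.z (TC648.clsJ i j k))
        = (c.ι (Wk q'))⁻¹ * (g * (c.ι (Wk q) * c.ι (CK.z (TC648.clsJ i j k)) * (c.ι (Wk q))⁻¹) * g⁻¹) *
            g * c.ι (Wk q) := by group
      _ = (c.ι (Wk q'))⁻¹ * (c.ι (Wk q') * c.ι (CK.z (TC648.clsJ i j k)) * (c.ι (Wk q'))⁻¹) *
            g * c.ι (Wk q) := by rw [e1]
      _ = c.ι (CK.z (TC648.clsJ i j k)) * ((c.ι (Wk q'))⁻¹ * g * c.ι (Wk q)) := by group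
  have hH := cnt_centralizer_le c _ hcen
  have e2 : g = c.ι (Wk q') * ((c.ι (Wk q'))⁻¹ * g * c.ι (Wk q)) * (c.ι (Wk q))⁻¹ := by group
  rw [e2]
  exact H.mul_mem (H.mul_mem (cnt_ι_mem_H c _) hH) (H.inv_mem (cnt_ι_mem_H c _))

theorem asm_ti (c : Cfg H J) {x : G} (hx : x ∈ H) (k : ℕ) (hk : x ^ k ∈ J) (hk1 : x ^ k ≠ 1) {g : G}
    (hg : g * x * g⁻¹ ∈ H) : g ∈ H :=
  ti_of_fusion c (asm_fusion c) hx k hk hk1 hg

theorem asm_nconj (c : Cfg H J) : ∀ a b : Fin 9, IsConj (c.ι (CK.z a)) (c.ι (CK.z b)) → a = b :=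
  nconj_G_core c inA_K0 nconj_K0 (ι_injective c) (ι_mem c) (fun hg => exists_ι c hg) (ι_mem_J c)
    (fun hx k hk hk1 _ hg => asm_ti c hx k hk hk1 hg)

theorem asm_index (c : Cfg H J) : H.index % 27 = 1 := by
  have h := TC648.index_modEq_one_of_control H J c.hJH (by
    intro j hj hj1 g hg
    have h1 : g⁻¹ * j * g⁻¹⁻¹ ∈ J := c.hsc j hj g⁻¹ (by rw [inv_inv]; exact hg)
    have h2 : g⁻¹ ∈ H := asm_fusion c j hj hj1 g⁻¹ h1
    have h3 := H.inv_mem h2
    rwa [inv_inv] at h3)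
  rw [card_J c] at h
  exact h

end Asm

/-- the group-theoretic part of S3702 -/
theorem exists_cfg {G : Type*} [Group G] [Finite G] (H : Subgroup G)
    (hH : Nonempty (↥H ≃* ↥(Subgroup.closure ({Equiv.swap (0 : Fin 9) 1 * Equiv.swap 1 2,
        Equiv.swap (0 : Fin 9) 3 * Equiv.swap 3 6 * (Equiv.swap (1 : Fin 9) 4 * Equiv.swap 4 7) * (Equiv.swap (2 : Fin 9) 5 * Equiv.swap 5 8),
        Equiv.swap (0 : Fin 9) 1 * Equiv.swap 3 4, Equiv.swap (0 : Fin 9) 3 * Equiv.swap 1 4 * Equiv.swap 2 5 * Equiv.swap 6 7} : Set (Equiv.Perm (Fin 9))))))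
    (J : Subgroup G) (hJ : J = (Cfsg.pCore 3 ↥H).map H.subtype)
    (hC : ∀ j ∈ J, j ≠ 1 → Subgroup.centralizer ({j} : Set G) ≤ H) (hsc : Cfsg.IsStronglyClosed J H) :
    ∃ C : TC648.Cfg G, TC648.Facts C ∧ Nat.card H = 648 := by
  obtain ⟨c⟩ := cfg_of_statement H hH J hJ hC hsc
  have hcard : Nat.card G = 648 * H.index := by rw [← card_H c, Subgroup.card_mul_index]
  refine ⟨mapCfg c.ι H.index hcard (asm_index c), ?_, card_H c⟩
  refine
    { nconj := ?_, cent := ?_, conjJ := ?_, conjF := ?_, conjE := ?_, conjV := ?_,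
      cnt_ffe := cnt_ffe c _ hcard _, cnt_fee := cnt_fee c _ hcard _, cnt_fev := cnt_fev c _ hcard _,
      cnt_fvf := cnt_fvf c _ hcard _, cnt_fvv := cnt_fvv c _ hcard _, cnt_eve := cnt_eve c _ hcard _,
      cnt_evv := cnt_evv c _ hcard _ }
  · intro a b h
    rw [mapCfg_z, mapCfg_z] at h
    exact asm_nconj c a b h
  · intro a
    exact cent_all c _ hcard _ a
  · intro i j k h
    rw [mapCfg_wJ, mapCfg_z]
    exact c.ι.map_isConj (conjJ_K0 i j k h)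
  · intro i j k l h
    rw [mapCfg_wJ, mapCfg_z, mapCfg_r, ← map_pow, ← map_mul]
    exact c.ι.map_isConj (conjF_K0 i j k l h)
  · intro i j k l h
    rw [mapCfg_wJ, mapCfg_z, mapCfg_s, ← map_pow, ← map_mul]
    exact c.ι.map_isConj (conjE_K0 i j k l h)
  · intro i j k l h
    rw [mapCfg_wJ, mapCfg_z, mapCfg_c, ← map_pow, ← map_mul]
    exact c.ι.map_isConj (conjV_K0 i j k l h)

end Cfsg.Agent.Helper21.N9
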