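import Mathlib
import Cfsg.Agent.Lib.Helper21.ClassSize
import Cfsg.Agent.Lib.Helper21.MaxCent
import Cfsg.Agent.Lib.Helper12.PGroup
import Cfsg.Agent.Lib.Helper1.FpfThompson

/-!
# Prime power order and maximal centralizers outside a normal subgroup (helper21)
-/

set_option autoImplicit false

namespace Cfsg.Agent.Helper21.OutsidePP

open Subgroup Cfsg.Agent.Helper21.ClassSize

variable {G : Type*} [Group G]

/-- the (weakened) hypothesis -/
def Hyp (N : Subgroup G) : Prop :=
  ∀ x : G, x ∉ N → IsPrimePow (orderOf x) ∧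
    (centralizer ({x} : Set G) = ⊤ ∨ IsCoatom (centralizer ({x} : Set G)))

theorem mul_not_mem {N : Subgroup G} {y n : G} (hy : y ∉ N) (hn : n ∈ N) : y * n ∉ N := by
  intro h
  apply hy
  have : y = y * n * n⁻¹ := by group
  rw [this]
  exact N.mul_mem h (N.inv_mem hn)

theorem mem_of_pow_mem_of_coprime {N : Subgroup G} {y : G} {m : ℕ} (hm : m.Coprime (orderOf y))
    (h : y ^ m ∈ N) : y ∈ N := by
  obtain ⟨a, ha⟩ := exists_pow_eq_self_of_coprime hm
  rw [← ha]
  exact N.pow_mem h a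

/-- an element of `N` commuting with a `q`-element outside `N` is a `q`-element -/
theorem pelem [Finite G] {N : Subgroup G} (hH : Hyp N) {y n : G} (hy : y ∉ N) (hn : n ∈ N)
    (hc : y * n = n * y) {q k : ℕ} (hq : q.Prime) (hyo : orderOf y = q ^ k) :
    ∃ m, n ^ (q ^ m) = 1 := by
  have hyn : y * n ∉ N := mul_not_mem hy hn
  obtain ⟨r, j, hr, hj, hrj⟩ := (isPrimePow_nat_iff _).mp (hH _ hyn).1
  have hpow : (y * n) ^ (r ^ j) = 1 := by rw [hrj]; exact pow_orderOf_eq_one _
  rw [(show Commute y n from hc).mul_pow] at hpow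
  have hyN : y ^ (r ^ j) ∈ N := by
    have : y ^ (r ^ j) = (n ^ (r ^ j))⁻¹ := eq_inv_of_mul_eq_one_left hpow
    rw [this]
    exact N.inv_mem (N.pow_mem hn _)
  have hrq : r = q := by
    by_contra hne
    apply hy
    apply mem_of_pow_mem_of_coprime _ hyN
    rw [hyo]
    exact Nat.Coprime.pow _ _ ((Nat.coprime_primes hr hq).mpr hne)
  subst hrq
  refine ⟨j + k, ?_⟩
  have h1 : n ^ (r ^ j) = (y ^ (r ^ j))⁻¹ := eq_inv_of_mul_eq_one_right hpow
  rw [pow_add, pow_mul, h1, inv_pow, ← pow_mul, mul_comm, pow_mul, ← hyo, pow_orderOf_eq_one,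
    one_pow, inv_one]

/-- the intersection of `N` with the centralizer of a `q`-element outside `N` is a `q`-group -/
theorem cent_inf_pgroup [Finite G] {N : Subgroup G} (hH : Hyp N) {y : G} (hy : y ∉ N)
    {q k : ℕ} (hq : q.Prime) (hyo : orderOf y = q ^ k) :
    IsPGroup q ↥(N ⊓ centralizer ({y} : Set G)) := by
  intro g
  obtain ⟨m, hm⟩ := pelem hH hy (g.2.1) ((mem_centralizer_singleton.mp g.2.2)) hq hyo
  refine ⟨m, ?_⟩
  apply Subtype.ext
  rw [Subgroup.coe_pow]
  exact hm

/-- if `y ∉ N` but `y ^ p ∈ N` then `y` has `p`-power order -/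
theorem good_order [Finite G] {N : Subgroup G} (hH : Hyp N) {y : G} (hy : y ∉ N)
    {p : ℕ} (hp : p.Prime) (hyp : y ^ p ∈ N) : ∃ k, orderOf y = p ^ k := by
  obtain ⟨r, j, hr, hj, hrj⟩ := (isPrimePow_nat_iff _).mp (hH _ hy).1
  have hrp : r = p := by
    by_contra hne
    apply hy
    apply mem_of_pow_mem_of_coprime _ hyp
    rw [← hrj]
    exact Nat.Coprime.pow_right _ ((Nat.coprime_primes hp hr).mpr (Ne.symm hne))
  subst hrp
  exact ⟨j, hrj.symm⟩

/-- `D` is (the image of) a Sylow `p`-subgroup of `N` -/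
def SylIn (p : ℕ) (N D : Subgroup G) : Prop :=
  IsPGroup p D ∧ D ≤ N ∧ ∀ Q : Subgroup G, IsPGroup p Q → D ≤ Q → Q ≤ N → Q ≤ D

/-- the associated Sylow subgroup -/
noncomputable def SylIn.toSylow {p : ℕ} {N D : Subgroup G} (h : SylIn p N D) : Sylow p ↥N where
  toSubgroup := D.subgroupOf N
  isPGroup' := h.1.comap_subtype
  is_maximal' := by
    intro Q hQ hle
    apply le_antisymm
    · have h1 : Q.map N.subtype ≤ D := by
        apply h.2.2 _ (hQ.map _)
        · intro d hd
          exact ⟨⟨d, h.2.1 hd⟩, hle (Subgroup.mem_subgroupOf.mpr hd), rfl⟩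
        · exact Subgroup.map_subtype_le Q
      intro q hq
      rw [Subgroup.mem_subgroupOf]
      exact h1 ⟨q, hq, rfl⟩
    · exact hle

theorem SylIn.coe_toSylow {p : ℕ} {N D : Subgroup G} (h : SylIn p N D) :
    (h.toSylow : Subgroup ↥N) = D.subgroupOf N := rfl

/-- Sylow's conjugacy theorem inside `N` -/
theorem syl_conj [Finite G] {p : ℕ} [Fact p.Prime] {N D₁ D₂ : Subgroup G}
    (h₁ : SylIn p N D₁) (h₂ : SylIn p N D₂) :
    ∃ n ∈ N, ∀ g, g ∈ D₂ ↔ n⁻¹ * g * n ∈ D₁ := by
  obtain ⟨n, hn⟩ := MulAction.exists_smul_eq ↥N h₁.toSylow h₂.toSylow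
  refine ⟨n, n.2, ?_⟩
  have key : ∀ g : ↥N, g ∈ D₂.subgroupOf N ↔ n⁻¹ * g * n ∈ D₁.subgroupOf N := by
    intro g
    rw [← h₂.coe_toSylow, ← hn, Sylow.coe_subgroup_smul,
      Subgroup.mem_pointwise_smul_iff_inv_smul_mem, h₁.coe_toSylow, MulAut.smul_def,
      MulAut.conj_inv_apply]
  intro g
  constructor
  · intro hg
    have := (key ⟨g, h₂.2.1 hg⟩).mp (Subgroup.mem_subgroupOf.mpr hg)
    exact Subgroup.mem_subgroupOf.mp this
  · intro hg
    have hgN : g ∈ N := by
      have h1 : (n : G)⁻¹ * g * n ∈ N := h₁.2.1 hg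
      have h2 := N.mul_mem (N.mul_mem n.2 h1) (N.inv_mem n.2)
      have e : (n : G) * ((n : G)⁻¹ * g * n) * (n : G)⁻¹ = g := by group
      rwa [e] at h2
    have := (key ⟨g, hgN⟩).mpr (Subgroup.mem_subgroupOf.mpr hg)
    exact Subgroup.mem_subgroupOf.mp this

/-- a self-normalizing (in `N`) `p`-subgroup of `N` is a Sylow subgroup of `N` -/
theorem self_norm_syl [Finite G] {p : ℕ} [Fact p.Prime] {N D : Subgroup G} (hDN : D ≤ N)
    (hD : IsPGroup p D) (hsn : ∀ g ∈ N, g ∈ normalizer (D : Set G) → g ∈ D) : SylIn p N D := by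
  refine ⟨hD, hDN, ?_⟩
  intro Q hQ hDQ hQN
  by_contra hne
  have hlt : D < Q := lt_of_le_not_ge hDQ hne
  obtain ⟨g, hgQ, hgD, hgn⟩ := Cfsg.Agent.Helper12.exists_mem_normalizer_not_mem Q hQ D hlt
  exact hgD (hsn g (hQN hgQ) hgn)

theorem isSolvable_of_isPGroup [Finite G] {p : ℕ} [Fact p.Prime] {H : Subgroup G}
    (h : IsPGroup p H) : Group.IsSolvable H := by
  haveI := h.isNilpotent
  infer_instance

/-- Step 1: all centralizers of elements outside `N` are maximal -/
theorem cent_coatom [Finite G] {N : Subgroup G} (hH : Hyp N) (hns : ¬ Group.IsSolvable N) {y : G}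
    (hy : y ∉ N) : IsCoatom (centralizer ({y} : Set G)) := by
  rcases (hH y hy).2 with htop | hco
  · exfalso
    obtain ⟨q, k, hq, hk, hqk⟩ := (isPrimePow_nat_iff _).mp (hH _ hy).1
    haveI : Fact q.Prime := ⟨hq⟩
    apply hns
    have hP : IsPGroup q ↥N := by
      intro g
      have hc : y * g = g * y :=
        mem_centralizer_singleton.mp (by rw [htop]; exact Subgroup.mem_top _)
      obtain ⟨m, hm⟩ := pelem hH hy g.2 hc hq hqk.symm
      exact ⟨m, Subtype.ext (by rw [Subgroup.coe_pow]; exact hm)⟩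
    exact isSolvable_of_isPGroup hP
  · exact hco

theorem cent_le_normalizer {N : Subgroup G} [hN : N.Normal] (y : G) :
    centralizer ({y} : Set G) ≤
      normalizer ((N ⊓ centralizer ({y} : Set G) : Subgroup G) : Set G) := by
  intro g hg
  rw [Subgroup.mem_normalizer_iff]
  intro h
  rw [Subgroup.mem_inf, Subgroup.mem_inf]
  constructor
  · rintro ⟨h1, h2⟩
    exact ⟨hN.conj_mem h h1 g, mul_mem (mul_mem hg h2) (inv_mem hg)⟩
  · rintro ⟨h1, h2⟩
    constructor
    · have := hN.conj_mem _ h1 g⁻¹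
      have e : g⁻¹ * (g * h * g⁻¹) * g⁻¹⁻¹ = h := by group
      rwa [e] at this
    · have := mul_mem (mul_mem (inv_mem hg) h2) hg
      have e : g⁻¹ * (g * h * g⁻¹) * g = h := by group
      rwa [e] at this

/-- Thompson's theorem applied to conjugation by `y` on `N` -/
theorem fpf_step [Finite G] {N : Subgroup G} [hN : N.Normal] {p : ℕ} (hp : p.Prime) {y : G}
    (hyp : y ^ p = 1) (hfix : ∀ n ∈ N, y * n = n * y → n = 1) : Group.IsNilpotent ↥N := by
  refine Cfsg.Agent.Helper1.Fpf.fpf_nilpotent (MulAut.conjNormal y : MulAut ↥N) ?_ hp ?_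
  · intro n hn
    have h1 : y * n * y⁻¹ = n := by
      have := congrArg Subtype.val hn
      rwa [MulAut.conjNormal_apply] at this
    apply Subtype.ext
    apply hfix n n.2
    calc y * n = y * n * y⁻¹ * y := by group
      _ = n * y := by rw [h1]
  · rw [← map_pow, hyp, map_one]

/-- the minimality hypothesis -/
def Min (N : Subgroup G) : Prop :=
  ∀ D : Subgroup G, D.Normal → D ≤ N → Group.IsSolvable D → D = ⊥

theorem good_normalizer [Finite G] {N : Subgroup G} [hN : N.Normal] (hH : Hyp N)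
    (hns : ¬ Group.IsSolvable N) (hmin : Min N) {p : ℕ} [hp : Fact p.Prime] {y : G}
    (hy : y ∉ N) (hyp : y ^ p ∈ N) :
    normalizer ((N ⊓ centralizer ({y} : Set G) : Subgroup G) : Set G) =
      centralizer ({y} : Set G) := by
  obtain ⟨k, hk⟩ := good_order hH hy hp.out hyp
  have hPG := cent_inf_pgroup hH hy hp.out hk
  rcases (cent_coatom hH hns hy).le_iff.mp (cent_le_normalizer (N := N) y) with h1 | h1
  · exfalso
    have hnorm : (N ⊓ centralizer ({y} : Set G)).Normal := Subgroup.normalizer_eq_top_iff.mp h1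
    have hbot := hmin _ hnorm inf_le_left (isSolvable_of_isPGroup hPG)
    have hyp1 : y ^ p = 1 := by
      have : y ^ p ∈ N ⊓ centralizer ({y} : Set G) :=
        Subgroup.mem_inf.mpr ⟨hyp, mem_centralizer_singleton.mpr
          (Commute.pow_right (Commute.refl y) p).eq⟩
      rw [hbot] at this
      exact Subgroup.mem_bot.mp this
    apply hns
    haveI := fpf_step (N := N) hp.out hyp1 (fun n hn hc => by
      have : n ∈ N ⊓ centralizer ({y} : Set G) :=
        Subgroup.mem_inf.mpr ⟨hn, mem_centralizer_singleton.mpr hc⟩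
      rw [hbot] at this
      exact Subgroup.mem_bot.mp this)
    infer_instance
  · exact h1

theorem good_syl [Finite G] {N : Subgroup G} [hN : N.Normal] (hH : Hyp N)
    (hns : ¬ Group.IsSolvable N) (hmin : Min N) {p : ℕ} [hp : Fact p.Prime] {y : G}
    (hy : y ∉ N) (hyp : y ^ p ∈ N) : SylIn p N (N ⊓ centralizer ({y} : Set G)) := by
  obtain ⟨k, hk⟩ := good_order hH hy hp.out hyp
  apply self_norm_syl inf_le_left (cent_inf_pgroup hH hy hp.out hk)
  intro g hgN hgn
  rw [good_normalizer hH hns hmin hy hyp] at hgn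
  exact ⟨hgN, hgn⟩

theorem coset_good {N : Subgroup G} [hN : N.Normal] {p : ℕ} {x m : G} (hx : x ∉ N)
    (hxp : x ^ p ∈ N) (hm : m ∈ N) : x * m ∉ N ∧ (x * m) ^ p ∈ N := by
  refine ⟨mul_not_mem hx hm, ?_⟩
  rw [← QuotientGroup.eq_one_iff, QuotientGroup.mk_pow, QuotientGroup.mk_mul,
    (QuotientGroup.eq_one_iff m).mpr hm, mul_one, ← QuotientGroup.mk_pow,
    QuotientGroup.eq_one_iff]
  exact hxp

theorem coset_conj [Finite G] {N : Subgroup G} [hN : N.Normal] (hH : Hyp N)
    (hns : ¬ Group.IsSolvable N) (hmin : Min N) {p : ℕ} [hp : Fact p.Prime] {x : G}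
    (hx : x ∉ N) (hxp : x ^ p ∈ N) {m : G} (hm : m ∈ N) :
    ∃ n ∈ N, ∃ ζ ∈ N ⊓ centralizer ({x} : Set G),
      ζ ∈ centralizer ((N ⊓ centralizer ({x} : Set G) : Subgroup G) : Set G) ∧
      x * m = n * (x * ζ) * n⁻¹ := by
  obtain ⟨hy, hyp⟩ := coset_good hx hxp hm
  obtain ⟨n, hnN, hn⟩ := syl_conj (good_syl hH hns hmin hx hxp) (good_syl hH hns hmin hy hyp)
  have hD : ∀ d, d ∈ N ⊓ centralizer ({x} : Set G) →
      (n⁻¹ * (x * m) * n) * d = d * (n⁻¹ * (x * m) * n) := by
    intro d hd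
    have h1 : n * d * n⁻¹ ∈ N ⊓ centralizer ({x * m} : Set G) := by
      rw [hn]
      have e : n⁻¹ * (n * d * n⁻¹) * n = d := by group
      rw [e]; exact hd
    have h2 : (x * m) * (n * d * n⁻¹) = (n * d * n⁻¹) * (x * m) :=
      mem_centralizer_singleton.mp h1.2
    calc (n⁻¹ * (x * m) * n) * d = n⁻¹ * ((x * m) * (n * d * n⁻¹)) * n := by group
      _ = n⁻¹ * ((n * d * n⁻¹) * (x * m)) * n := by rw [h2]
      _ = d * (n⁻¹ * (x * m) * n) := by group
  have hζN : x⁻¹ * (n⁻¹ * (x * m) * n) ∈ N := by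
    have e : x⁻¹ * (n⁻¹ * (x * m) * n) = (x⁻¹ * n⁻¹ * x⁻¹⁻¹) * m * n := by group
    rw [e]
    exact N.mul_mem (N.mul_mem (hN.conj_mem _ (N.inv_mem hnN) _) hm) hnN
  have hζc : x⁻¹ * (n⁻¹ * (x * m) * n) ∈
      centralizer ((N ⊓ centralizer ({x} : Set G) : Subgroup G) : Set G) := by
    rw [Subgroup.mem_centralizer_iff]
    intro d hd
    have h1 : x * d = d * x := mem_centralizer_singleton.mp hd.2
    have h2 := hD d hd
    have h3 : x⁻¹ * d = d * x⁻¹ := by
      calc x⁻¹ * d = x⁻¹ * (d * x) * x⁻¹ := by group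
        _ = x⁻¹ * (x * d) * x⁻¹ := by rw [h1]
        _ = d * x⁻¹ := by group
    calc d * (x⁻¹ * (n⁻¹ * (x * m) * n)) = (d * x⁻¹) * (n⁻¹ * (x * m) * n) :=
          (mul_assoc _ _ _).symm
      _ = (x⁻¹ * d) * (n⁻¹ * (x * m) * n) := by rw [h3]
      _ = x⁻¹ * (d * (n⁻¹ * (x * m) * n)) := mul_assoc _ _ _
      _ = x⁻¹ * ((n⁻¹ * (x * m) * n) * d) := by rw [h2]
      _ = x⁻¹ * (n⁻¹ * (x * m) * n) * d := (mul_assoc _ _ _).symm
  have hζD : x⁻¹ * (n⁻¹ * (x * m) * n) ∈ N ⊓ centralizer ({x} : Set G) := by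
    refine ⟨hζN, ?_⟩
    rw [← good_normalizer hH hns hmin hx hxp]
    exact Subgroup.centralizer_le_normalizer _ hζc
  refine ⟨n, hnN, _, hζD, hζc, ?_⟩
  group

/-- Step 5: the counting argument, `D = N ∩ C(x)` is abelian -/
theorem D_le_cent [Finite G] {N : Subgroup G} [hN : N.Normal] (hH : Hyp N)
    (hns : ¬ Group.IsSolvable N) (hmin : Min N) {p : ℕ} [hp : Fact p.Prime] {x : G}
    (hx : x ∉ N) (hxp : x ^ p ∈ N) :
    N ⊓ centralizer ({x} : Set G) ≤
      centralizer ((N ⊓ centralizer ({x} : Set G) : Subgroup G) : Set G) := by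
  obtain ⟨D, hD⟩ : ∃ D : Subgroup G, D = N ⊓ centralizer ({x} : Set G) := ⟨_, rfl⟩
  obtain ⟨Z, hZ⟩ : ∃ Z : Subgroup G, Z = D ⊓ centralizer (D : Set G) := ⟨_, rfl⟩
  rw [← hD]
  have hDN : D ≤ N := by rw [hD]; exact inf_le_left
  have hDx : ∀ d ∈ D, x * d = d * x := by
    intro d hd
    rw [hD] at hd
    exact mem_centralizer_singleton.mp hd.2
  have hZD : Z ≤ D := by rw [hZ]; exact inf_le_left
  have hZc : ∀ ζ ∈ Z, ∀ d ∈ D, d * ζ = ζ * d := by
    intro ζ hζ d hd
    rw [hZ] at hζ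
    exact Subgroup.mem_centralizer_iff.mp hζ.2 d hd
  have hex : ∀ m : ↥N, ∃ nζ : ↥N × ↥Z,
      x * m = (nζ.1 : G) * (x * (nζ.2 : G)) * (nζ.1 : G)⁻¹ := by
    intro m
    obtain ⟨n, hn, ζ, hζD, hζc, h⟩ := coset_conj hH hns hmin hx hxp m.2
    refine ⟨(⟨n, hn⟩, ⟨ζ, ?_⟩), h⟩
    rw [hZ, hD]
    exact Subgroup.mem_inf.mpr ⟨hζD, hζc⟩
  choose F hF using hex
  have key : ∀ (m : ↥N) (d : ↥D), x * m =
      (((F m).1 : G) * d) * (x * ((F m).2 : G)) * (((F m).1 : G) * d)⁻¹ := by
    intro m d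
    have hdx : (d : G) * x = x * d := (hDx d d.2).symm
    have hdζ : (d : G) * ((F m).2 : G) = ((F m).2 : G) * d := hZc _ (F m).2.2 d d.2
    have e : (d : G) * (x * (F m).2) * (d : G)⁻¹ = x * (F m).2 := by
      rw [← mul_assoc, hdx, mul_assoc x, hdζ]; group
    calc x * m = (F m).1 * (x * (F m).2) * ((F m).1 : G)⁻¹ := hF m
      _ = (F m).1 * ((d : G) * (x * (F m).2) * (d : G)⁻¹) * ((F m).1 : G)⁻¹ := by rw [e]
      _ = _ := by group
  let Φ : ↥N × ↥D → ↥N × ↥Z := fun md => ((F md.1).1 * ⟨md.2, hDN md.2.2⟩, (F md.1).2)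
  have hinj : Function.Injective Φ := by
    rintro ⟨m, d⟩ ⟨m', d'⟩ h
    have h1a : (Φ (m, d)).1 = (Φ (m', d')).1 := congrArg Prod.fst h
    have h2a : (Φ (m, d)).2 = (Φ (m', d')).2 := congrArg Prod.snd h
    have h1 : (F m).1 * ⟨d, hDN d.2⟩ = (F m').1 * ⟨d', hDN d'.2⟩ := h1a
    have h2 : (F m).2 = (F m').2 := h2a
    have h1' : ((F m).1 : G) * d = ((F m').1 : G) * d' := congrArg Subtype.val h1
    have hmm : m = m' := by
      apply Subtype.ext
      have e1 := key m d
      rw [h1', h2, ← key m' d'] at e1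
      exact mul_left_cancel e1
    subst hmm
    have h3 : (d : G) = d' := mul_left_cancel h1'
    have : d = d' := Subtype.ext h3
    rw [this]
  have hcard := Nat.card_le_card_of_injective Φ hinj
  rw [Nat.card_prod, Nat.card_prod] at hcard
  have hpos : 0 < Nat.card ↥N := Nat.card_pos
  have hle : Nat.card ↥D ≤ Nat.card ↥Z := Nat.le_of_mul_le_mul_left hcard hpos
  have hZD' : Z = D := Subgroup.eq_of_le_of_card_ge hZD hle
  intro d hd
  rw [← hZD', hZ] at hd
  exact hd.2

/-- Steps 6 and 7: the core contradiction -/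
theorem core [Finite G] {N : Subgroup G} [hN : N.Normal] (hNtop : N ≠ ⊤) (hH : Hyp N)
    (hmin : Min N) : Group.IsSolvable ↥N := by
  by_contra hns
  obtain ⟨x₁, hx₁⟩ : ∃ x, x ∉ N := by
    by_contra hcon
    push_neg at hcon
    exact hNtop (eq_top_iff.mpr (fun g _ => hcon g))
  obtain ⟨q, k₁, hq, hk₁, hqk₁⟩ := (isPrimePow_nat_iff _).mp (hH _ hx₁).1
  have hex : ∃ i, x₁ ^ (q ^ i) ∈ N :=
    ⟨k₁, by rw [hqk₁, pow_orderOf_eq_one]; exact N.one_mem⟩
  classical
  have hfind := Nat.find_spec hex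
  have hi0 : Nat.find hex ≠ 0 := by
    intro h0
    rw [h0, pow_zero, pow_one] at hfind
    exact hx₁ hfind
  obtain ⟨i, hi⟩ := Nat.exists_eq_succ_of_ne_zero hi0
  have hx : x₁ ^ (q ^ i) ∉ N := Nat.find_min hex (by rw [hi]; exact Nat.lt_succ_self i)
  have hxp : (x₁ ^ (q ^ i)) ^ q ∈ N := by
    rw [← pow_mul, ← pow_succ, ← Nat.succ_eq_add_one, ← hi]; exact hfind
  generalize x₁ ^ (q ^ i) = x at hx hxp
  haveI hp : Fact q.Prime := ⟨hq⟩
  obtain ⟨k, hk⟩ := good_order hH hx hq hxp
  have hk0 : k ≠ 0 := by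
    intro h0
    rw [h0, pow_zero, orderOf_eq_one_iff] at hk
    exact hx (hk ▸ N.one_mem)
  have hsyl := good_syl hH hns hmin hx hxp
  have hnorm := good_normalizer hH hns hmin hx hxp
  have hab := D_le_cent hH hns hmin hx hxp
  obtain ⟨P, hP⟩ : ∃ P : Sylow q ↥N, (P : Subgroup ↥N) =
      (N ⊓ centralizer ({x} : Set G)).subgroupOf N := ⟨hsyl.toSylow, rfl⟩
  have hNC : normalizer ((P : Subgroup ↥N) : Set ↥N) ≤
      centralizer ((P : Subgroup ↥N) : Set ↥N) := by
    intro g hg
    have hg2 := Subgroup.mem_normalizer_iff.mp hg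
    rw [hP] at hg2
    have hgn : (g : G) ∈ normalizer ((N ⊓ centralizer ({x} : Set G) : Subgroup G) : Set G) := by
      rw [Subgroup.mem_normalizer_iff]
      intro h
      constructor
      · intro hh
        have := (hg2 ⟨h, hh.1⟩).mp (Subgroup.mem_subgroupOf.mpr hh)
        exact Subgroup.mem_subgroupOf.mp this
      · intro hh
        have hhN : h ∈ N := by
          have h1 : (g : G) * h * (g : G)⁻¹ ∈ N := hh.1
          have h2 := N.mul_mem (N.mul_mem (N.inv_mem g.2) h1) g.2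
          have e : (g : G)⁻¹ * ((g : G) * h * (g : G)⁻¹) * g = h := by group
          rwa [e] at h2
        have := (hg2 ⟨h, hhN⟩).mpr (Subgroup.mem_subgroupOf.mpr hh)
        exact Subgroup.mem_subgroupOf.mp this
    rw [hnorm] at hgn
    have hgD : (g : G) ∈ N ⊓ centralizer ({x} : Set G) := Subgroup.mem_inf.mpr ⟨g.2, hgn⟩
    rw [Subgroup.mem_centralizer_iff]
    intro y hy
    have hy' : y ∈ (P : Subgroup ↥N) := hy
    rw [hP] at hy'
    have hyD : (y : G) ∈ N ⊓ centralizer ({x} : Set G) := Subgroup.mem_subgroupOf.mp hy'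
    apply Subtype.ext
    exact Subgroup.mem_centralizer_iff.mp (hab hgD) y hyD
  have hK := MonoidHom.ker_transferSylow_isComplement' P hNC
  obtain ⟨t, ht⟩ : ∃ t : ↥N →* ↥(P : Subgroup ↥N), t = MonoidHom.transferSylow P hNC :=
    ⟨_, rfl⟩
  rw [← ht] at hK
  have hcop : ¬ q ∣ Nat.card t.ker := by
    have h1 := hK.card_mul
    have h2 := P.not_dvd_index
    have h3 : (P : Subgroup ↥N).index = Nat.card t.ker := by
      have h4 := (P : Subgroup ↥N).card_mul_index
      have hpos : 0 < Nat.card (P : Subgroup ↥N) := Nat.card_pos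
      have h5 : Nat.card (P : Subgroup ↥N) * (P : Subgroup ↥N).index =
          Nat.card (P : Subgroup ↥N) * Nat.card t.ker := by
        rw [h4, ← h1, mul_comm]
      exact Nat.eq_of_mul_eq_mul_left hpos h5
    rwa [h3] at h2
  have hKmem : ∀ n : ↥N, n ^ Nat.card t.ker = 1 → n ∈ t.ker := by
    intro n hn
    rw [MonoidHom.mem_ker]
    obtain ⟨e, he⟩ := (IsPGroup.iff_orderOf.mp P.isPGroup') (t n)
    have hd : orderOf (t n) ∣ Nat.card t.ker := by
      apply orderOf_dvd_of_pow_eq_one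
      rw [← map_pow, hn, map_one]
    rw [he] at hd
    have he0 : e = 0 := by
      by_contra hne
      exact hcop ((dvd_pow_self q hne).trans hd)
    rw [he0, pow_zero, orderOf_eq_one_iff] at he
    exact he
  -- the element of order `q`
  have hx₀q : (x ^ (q ^ (k - 1))) ^ q = 1 := by
    rw [← pow_mul, ← pow_succ, Nat.sub_add_cancel (Nat.one_le_iff_ne_zero.mpr hk0), ← hk,
      pow_orderOf_eq_one]
  have hx₀1 : x ^ (q ^ (k - 1)) ≠ 1 := by
    apply pow_ne_one_of_lt_orderOf
    · exact (pow_pos hq.pos _).ne'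
    · rw [hk]
      exact Nat.pow_lt_pow_right hq.one_lt (Nat.sub_lt (Nat.pos_of_ne_zero hk0) one_pos)
  have hle : centralizer ({x} : Set G) ≤ centralizer ({x ^ (q ^ (k - 1))} : Set G) :=
    Cfsg.Agent.Helper21.MaxCent.cent_le_pow x _
  generalize x ^ (q ^ (k - 1)) = x₀ at hx₀q hx₀1 hle
  rcases (cent_coatom hH hns hx).le_iff.mp hle with htop | hcase
  · by_cases hx₀N : x₀ ∈ N
    · have hc : x₀ ∈ center G ⊓ N := by
        refine Subgroup.mem_inf.mpr ⟨?_, hx₀N⟩
        rw [Subgroup.mem_center_iff]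
        intro g
        have : g ∈ centralizer ({x₀} : Set G) := by rw [htop]; exact Subgroup.mem_top g
        exact (mem_centralizer_singleton.mp this).symm
      have hnorm2 : (center G ⊓ N).Normal := inferInstance
      have hsol : Group.IsSolvable ↥(center G ⊓ N) := by
        apply isSolvable_of_comm
        intro a b
        apply Subtype.ext
        have ha : (a : G) ∈ center G := a.2.1
        exact ((Subgroup.mem_center_iff.mp ha) b).symm
      have hb := hmin _ hnorm2 inf_le_right hsol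
      rw [hb] at hc
      exact hx₀1 (Subgroup.mem_bot.mp hc)
    · exact (cent_coatom hH hns hx₀N).1 htop
  · have hinv : Cfsg.Agent.Helper1.Fpf.Inv (MulAut.conjNormal x₀ : MulAut ↥N) t.ker := by
      intro n hn
      apply hKmem
      rw [← map_pow]
      have h1 : n ^ Nat.card t.ker = 1 := by
        have := pow_card_eq_one' (x := (⟨n, hn⟩ : ↥t.ker))
        exact congrArg Subtype.val this
      rw [h1, map_one]
    have hψp : (Cfsg.Agent.Helper1.Fpf.restrict (MulAut.conjNormal x₀ : MulAut ↥N) t.ker hinv) ^ q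
        = 1 :=
      Cfsg.Agent.Helper1.Fpf.restrict_pow_eq_one _ _ _ (by rw [← map_pow, hx₀q, map_one])
    have hψf : MonoidHom.FixedPointFree
        (Cfsg.Agent.Helper1.Fpf.restrict (MulAut.conjNormal x₀ : MulAut ↥N) t.ker hinv) := by
      intro κ hκ
      have h1 : x₀ * ((κ : ↥N) : G) * x₀⁻¹ = ((κ : ↥N) : G) := by
        have h0 := congrArg (fun z : ↥t.ker => ((z : ↥N) : G)) hκ
        simp only [Cfsg.Agent.Helper1.Fpf.restrict_apply, MulAut.conjNormal_apply] at h0
        exact h0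
      have h2 : ((κ : ↥N) : G) ∈ centralizer ({x} : Set G) := by
        rw [← hcase, mem_centralizer_singleton]
        calc x₀ * ((κ : ↥N) : G) = x₀ * ((κ : ↥N) : G) * x₀⁻¹ * x₀ := by group
          _ = ((κ : ↥N) : G) * x₀ := by rw [h1]
      have h3 : (κ : ↥N) ∈ (P : Subgroup ↥N) :=
        (SetLike.ext_iff.mp hP _).mpr
          (Subgroup.mem_subgroupOf.mpr (Subgroup.mem_inf.mpr ⟨(κ : ↥N).2, h2⟩))
      have h4 : (κ : ↥N) = 1 := Subgroup.disjoint_def.mp hK.disjoint κ.2 h3
      exact Subtype.ext h4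
    haveI hnil : Group.IsNilpotent ↥t.ker :=
      Cfsg.Agent.Helper1.Fpf.fpf_nilpotent _ hψf hq hψp
    haveI : Group.IsSolvable ↥t.ker := inferInstance
    haveI : Group.IsSolvable ↥(P : Subgroup ↥N) := isSolvable_of_isPGroup P.isPGroup'
    apply hns
    exact solvable_of_ker_le_range t.ker.subtype t (by rw [Subgroup.range_subtype])

/-- the hypothesis passes to quotients by normal subgroups of `G` inside `N` -/
theorem hyp_quotient [Finite G] {N : Subgroup G} (hH : Hyp N) (D : Subgroup G)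
    [D.Normal] (hDN : D ≤ N) : Hyp (N.map (QuotientGroup.mk' D)) := by
  intro q hq
  obtain ⟨x, rfl⟩ := QuotientGroup.mk'_surjective D q
  have hx : x ∉ N := fun hxN => hq ⟨x, hxN, rfl⟩
  obtain ⟨hpp, hc⟩ := hH x hx
  have hsurj : Function.Surjective (QuotientGroup.mk' D) := QuotientGroup.mk'_surjective D
  have hne1 : (QuotientGroup.mk' D) x ≠ 1 := by
    intro h1
    exact hx (hDN ((QuotientGroup.eq_one_iff x).mp h1))
  have hle : centralizer ({x} : Set G) ≤
      (centralizer ({(QuotientGroup.mk' D) x} : Set (G ⧸ D))).comap (QuotientGroup.mk' D) := by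
    intro g hg
    rw [Subgroup.mem_comap, mem_centralizer_singleton]
    rw [mem_centralizer_singleton] at hg
    rw [← map_mul, ← map_mul, hg]
  constructor
  · obtain ⟨r, j, hr, hj, hrj⟩ := (isPrimePow_nat_iff _).mp hpp
    have hd : orderOf ((QuotientGroup.mk' D) x) ∣ r ^ j := by
      rw [hrj]; exact orderOf_map_dvd _ x
    obtain ⟨i, hi, hio⟩ := (Nat.dvd_prime_pow hr).mp hd
    rw [isPrimePow_nat_iff]
    refine ⟨r, i, hr, ?_, hio.symm⟩
    rcases Nat.eq_zero_or_pos i with h0 | h0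
    · exfalso
      rw [h0, pow_zero, orderOf_eq_one_iff] at hio
      exact hne1 hio
    · exact h0
  · have htop_of : (centralizer ({(QuotientGroup.mk' D) x} : Set (G ⧸ D))).comap
        (QuotientGroup.mk' D) = ⊤ →
        centralizer ({(QuotientGroup.mk' D) x} : Set (G ⧸ D)) = ⊤ := by
      intro h1
      apply Subgroup.comap_injective hsurj
      rw [h1, Subgroup.comap_top]
    rcases hc with htop | hco
    · left
      apply htop_of
      rw [eq_top_iff, ← htop]
      exact hle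
    · rcases hco.le_iff.mp hle with h1 | h1
      · left
        exact htop_of h1
      · right
        constructor
        · intro htop
          apply hco.1
          rw [← h1, htop, Subgroup.comap_top]
        · intro K hK
          have hle2 : centralizer ({x} : Set G) ≤ K.comap (QuotientGroup.mk' D) := by
            rw [← h1]; exact Subgroup.comap_mono hK.le
          rcases hco.le_iff.mp hle2 with h2 | h2
          · apply Subgroup.comap_injective hsurj
            rw [h2, Subgroup.comap_top]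
          · exfalso
            have : K = centralizer ({(QuotientGroup.mk' D) x} : Set (G ⧸ D)) := by
              apply Subgroup.comap_injective hsurj
              rw [h2, h1]
            exact hK.ne this.symm

theorem map_ne_top {N : Subgroup G} (hNtop : N ≠ ⊤) (D : Subgroup G) [D.Normal] (hDN : D ≤ N) :
    N.map (QuotientGroup.mk' D) ≠ ⊤ := by
  intro htop
  apply hNtop
  rw [eq_top_iff]
  intro g _
  have : (QuotientGroup.mk' D) g ∈ N.map (QuotientGroup.mk' D) := by
    rw [htop]; exact Subgroup.mem_top _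
  obtain ⟨n, hn, hng⟩ := this
  have h1 : n⁻¹ * g ∈ D := by
    have := QuotientGroup.eq.mp hng
    exact this
  have e : g = n * (n⁻¹ * g) := by group
  rw [e]
  exact N.mul_mem hn (hDN h1)

theorem solvable_of_quot {N : Subgroup G} (D : Subgroup G) [D.Normal] (hDN : D ≤ N)
    (h1 : Group.IsSolvable ↥D) (h2 : Group.IsSolvable ↥(N.map (QuotientGroup.mk' D))) :
    Group.IsSolvable ↥N := by
  apply solvable_of_ker_le_range (Subgroup.inclusion hDN) ((QuotientGroup.mk' D).subgroupMap N)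
  intro n hn
  rw [MonoidHom.mem_ker] at hn
  have h3 : (QuotientGroup.mk' D) (n : G) = 1 := by
    have := congrArg Subtype.val hn
    exact this
  have h4 : (n : G) ∈ D := (QuotientGroup.eq_one_iff _).mp h3
  exact ⟨⟨n, h4⟩, Subtype.ext rfl⟩

universe u

theorem main_aux : ∀ (n : ℕ) (G : Type u) [Group G] [Finite G], Nat.card G = n →
    ∀ (N : Subgroup G) [N.Normal], N ≠ ⊤ → Hyp N → Group.IsSolvable ↥N := by
  intro n
  induction n using Nat.strong_induction_on with
  | _ n ih =>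
  intro G _ _ hcard N _ hNtop hH
  by_contra hns
  apply hns
  apply core hNtop hH
  intro D hDnorm hDN hDsol
  by_contra hDbot
  haveI := hDnorm
  have hlt : Nat.card (G ⧸ D) < n := by
    rw [← hcard, Subgroup.card_eq_card_quotient_mul_card_subgroup D]
    have h1 : 1 < Nat.card ↥D := D.one_lt_card_iff_ne_bot.mpr hDbot
    have h2 : 0 < Nat.card (G ⧸ D) := Nat.card_pos
    nlinarith
  haveI : (N.map (QuotientGroup.mk' D)).Normal :=
    Subgroup.Normal.map inferInstance _ (QuotientGroup.mk'_surjective D)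
  have hq := ih _ hlt (G ⧸ D) rfl (N.map (QuotientGroup.mk' D)) (map_ne_top hNtop D hDN)
    (hyp_quotient hH D hDN)
  exact hns (solvable_of_quot D hDN hDsol hq)

/-- the main theorem -/
theorem main {G : Type u} [Group G] [Finite G] (N : Subgroup G) [N.Normal] (hN : N ≠ ⊤)
    (h : ∀ x : G, x ∉ N → IsPrimePow (orderOf x) ∧
      IsCoatom (Subgroup.centralizer ({x} : Set G))) : Group.IsSolvable ↥N :=
  main_aux _ G rfl N hN (fun x hx => ⟨(h x hx).1, Or.inr (h x hx).2⟩)

end Cfsg.Agent.Helper21.OutsidePP
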