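import Mathlib
import Cfsg.Agent.Lib.Helper21.ClassSize

/-!
# Groups all of whose `p`-elements are `p`-central (helper21)

If every `p`-element of `G` has class size prime to `p`, and `N` is a normal subgroup such that
`N` and `G ⧸ N` have abelian Sylow `p`-subgroups, then `G` has abelian Sylow `p`-subgroups.
Consequently a minimal group with `p`-central `p`-elements and non-abelian Sylow `p`-subgroups
is simple (reduction step of Navarro--Tiep).
-/

set_option autoImplicit false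

namespace Cfsg.Agent.Helper21.PCentral

open Subgroup
open scoped commutatorElement

variable {G : Type*} [Group G]

/-- every `p`-element has class size prime to `p` -/
def Hyp (p : ℕ) (G : Type*) [Group G] : Prop :=
  ∀ x : G, (∃ k : ℕ, orderOf x = p ^ k) → ¬ p ∣ (centralizer ({x} : Set G)).index

/-- a subgroup of index prime to `p` contains every element normalizing it whose `p^j`-th power
lies in it -/
theorem mem_of_normalizer [Finite G] {p : ℕ} [Fact p.Prime] (C : Subgroup G)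
    (hC : ¬ p ∣ C.index) (g : G) (hn : g ∈ normalizer (C : Set G)) (j : ℕ)
    (hj : g ^ (p ^ j) ∈ C) : g ∈ C := by
  have hp : p.Prime := Fact.out
  have hCN : C ≤ normalizer (C : Set G) := le_normalizer
  let gq : ↥(normalizer (C : Set G)) ⧸ C.subgroupOf (normalizer (C : Set G)) :=
    QuotientGroup.mk ⟨g, hn⟩
  have h1 : gq ^ (p ^ j) = 1 := by
    rw [← QuotientGroup.mk_pow, QuotientGroup.eq_one_iff, mem_subgroupOf]
    simpa using hj
  have h2 : orderOf gq ∣ p ^ j := orderOf_dvd_of_pow_eq_one h1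
  have h3 : orderOf gq ∣ C.relIndex (normalizer (C : Set G)) := orderOf_dvd_natCard gq
  have h5 : C.relIndex (normalizer (C : Set G)) ∣ C.index := relIndex_dvd_index_of_le hCN
  have hcop : Nat.Coprime (p ^ j) C.index :=
    Nat.Coprime.pow_left _ ((Nat.Prime.coprime_iff_not_dvd hp).mpr hC)
  have h7 : orderOf gq = 1 :=
    Nat.Coprime.eq_one_of_dvd (Nat.Coprime.coprime_dvd_left h2 hcop) (h3.trans h5)
  rw [orderOf_eq_one_iff, QuotientGroup.eq_one_iff, mem_subgroupOf] at h7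
  exact h7

theorem pow_eq_one_of_mem {p : ℕ} {R : Subgroup G} (hR : IsPGroup p R) {x : G} (hx : x ∈ R) :
    ∃ k : ℕ, x ^ (p ^ k) = 1 := by
  obtain ⟨k, hk⟩ := hR ⟨x, hx⟩
  exact ⟨k, by simpa using congrArg Subtype.val hk⟩

theorem orderOf_of_mem {p : ℕ} [Fact p.Prime] {R : Subgroup G} (hR : IsPGroup p R) {x : G}
    (hx : x ∈ R) : ∃ k : ℕ, orderOf x = p ^ k := by
  obtain ⟨k, hk⟩ := pow_eq_one_of_mem hR hx
  obtain ⟨j, _, hj⟩ := (Nat.dvd_prime_pow Fact.out).mp (orderOf_dvd_of_pow_eq_one hk)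
  exact ⟨j, hj⟩

theorem isPGroup_zpowers {p : ℕ} [Fact p.Prime] {x : G} {k : ℕ} (hk : x ^ (p ^ k) = 1) :
    IsPGroup p (zpowers x) := by
  obtain ⟨j, _, hj⟩ := (Nat.dvd_prime_pow Fact.out).mp (orderOf_dvd_of_pow_eq_one hk)
  apply IsPGroup.of_card (n := j)
  rw [Nat.card_zpowers, hj]

theorem smul_mem_iff {p : ℕ} (g t : G) (Q : Sylow p G) :
    t ∈ ((g • Q : Sylow p G) : Subgroup G) ↔ g⁻¹ * t * g ∈ (Q : Subgroup G) := by
  rw [Sylow.coe_subgroup_smul, Subgroup.mem_pointwise_smul_iff_inv_smul_mem, MulAut.smul_def,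
    MulAut.conj_inv_apply]

/-- Sylow conjugacy inside a subgroup `K`, stated in `G` -/
theorem exists_conj_le [Finite G] {p : ℕ} [Fact p.Prime] (K A B : Subgroup G)
    (hA : IsPGroup p A) (hB : IsPGroup p B) (hAK : A ≤ K) (hBK : B ≤ K) :
    ∃ u ∈ K, ∃ P : Subgroup G, IsPGroup p P ∧ B ≤ P ∧ ∀ a ∈ A, u * a * u⁻¹ ∈ P := by
  obtain ⟨PA, hPA⟩ := (hA.comap_subtype (K := K)).exists_le_sylow
  obtain ⟨PB, hPB⟩ := (hB.comap_subtype (K := K)).exists_le_sylow
  obtain ⟨u, hu⟩ := MulAction.exists_smul_eq ↥K PA PB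
  refine ⟨u, u.2, (PB : Subgroup ↥K).map K.subtype, PB.2.map _, ?_, ?_⟩
  · intro b hb
    exact ⟨⟨b, hBK hb⟩, hPB (mem_subgroupOf.mpr hb), rfl⟩
  · intro a ha
    have h1 : (⟨a, hAK ha⟩ : ↥K) ∈ (PA : Subgroup ↥K) := hPA (mem_subgroupOf.mpr ha)
    have h2 : u * ⟨a, hAK ha⟩ * u⁻¹ ∈ (PB : Subgroup ↥K) := by
      rw [← hu, smul_mem_iff]
      have : u⁻¹ * (u * ⟨a, hAK ha⟩ * u⁻¹) * u = ⟨a, hAK ha⟩ := by group
      rw [this]
      exact h1
    exact ⟨_, h2, rfl⟩

/-- a `p`-subgroup of a subgroup `K` of index prime to `p` lies in a Sylow `p`-subgroup of `G`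
contained in `K` -/
theorem exists_sylow_in [Finite G] {p : ℕ} [Fact p.Prime] (K D : Subgroup G)
    (hK : ¬ p ∣ K.index) (hD : IsPGroup p D) (hDK : D ≤ K) :
    ∃ Q : Sylow p G, (Q : Subgroup G) ≤ K ∧ D ≤ (Q : Subgroup G) := by
  obtain ⟨Q₀⟩ : Nonempty (Sylow p G) := inferInstance
  obtain ⟨g, hg⟩ := Cfsg.Agent.Helper21.ClassSize.exists_conj_mem_of_not_dvd_index
    (Q₀ : Subgroup G) Q₀.2 K hK
  have hQ₁ : ((g⁻¹ • Q₀ : Sylow p G) : Subgroup G) ≤ K := by
    intro t ht
    rw [smul_mem_iff, inv_inv] at ht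
    have h1 := hg _ ht
    have : g⁻¹ * (g * t * g⁻¹) * g = t := by group
    rwa [this] at h1
  obtain ⟨u, huK, P, hP, hQP, hconj⟩ :=
    exists_conj_le K D ((g⁻¹ • Q₀ : Sylow p G) : Subgroup G) hD (g⁻¹ • Q₀ : Sylow p G).2 hDK hQ₁
  have hPQ : P = ((g⁻¹ • Q₀ : Sylow p G) : Subgroup G) :=
    (g⁻¹ • Q₀ : Sylow p G).is_maximal' hP hQP
  refine ⟨u⁻¹ • (g⁻¹ • Q₀ : Sylow p G), ?_, ?_⟩
  · intro t ht
    rw [smul_mem_iff, inv_inv] at ht
    have h1 : u * t * u⁻¹ ∈ K := hQ₁ ht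
    have : t = u⁻¹ * (u * t * u⁻¹) * u := by group
    rw [this]
    exact K.mul_mem (K.mul_mem (K.inv_mem huK) h1) huK
  · intro d hd
    rw [smul_mem_iff, inv_inv, ← hPQ]
    exact hconj d hd

/-- the fixed-point subgroup of an automorphism -/
def fixsub {H : Type*} [Group H] (α : MulAut H) : Subgroup H where
  carrier := {h | α h = h}
  one_mem' := map_one α
  mul_mem' := by
    intro a b ha hb
    change α (a * b) = a * b
    rw [map_mul, ha, hb]
  inv_mem' := by
    intro a ha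
    change α a⁻¹ = a⁻¹
    rw [map_inv, ha]

theorem mem_fixsub {H : Type*} [Group H] (α : MulAut H) (h : H) : h ∈ fixsub α ↔ α h = h :=
  Iff.rfl

/-- the key lemma: in a group `H` with abelian `p`-subgroups, an automorphism whose fixed-point
subgroup has index prime to `p` cannot move a `p`-element `y` to `y * c` with `c ≠ 1` a fixed
`p`-element commuting with `y` -/
theorem lemmaA {H : Type*} [Group H] [Finite H] {p : ℕ} [Fact p.Prime]
    (hab : ∀ S : Subgroup H, IsPGroup p S → ∀ a ∈ S, ∀ b ∈ S, a * b = b * a)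
    (α : MulAut H) (hα : ¬ p ∣ (fixsub α).index) (y c : H) (hy : ∃ j : ℕ, y ^ (p ^ j) = 1)
    (hc : ∃ j : ℕ, c ^ (p ^ j) = 1) (h1 : α y = y * c) (h2 : α c = c) (h3 : y * c = c * y) :
    c = 1 := by
  obtain ⟨jc, hjc⟩ := hc
  obtain ⟨jy, hjy⟩ := hy
  have hcfix : zpowers c ≤ fixsub α := by
    rw [zpowers_le]
    exact h2
  obtain ⟨Q, hQK, hcQ⟩ := exists_sylow_in (fixsub α) (zpowers c) hα (isPGroup_zpowers hjc) hcfix
  have hcQ' : c ∈ (Q : Subgroup H) := hcQ (mem_zpowers c)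
  have hQE : (Q : Subgroup H) ≤ fixsub α ⊓ centralizer ({c} : Set H) := by
    intro q hq
    rw [Subgroup.mem_inf]
    refine ⟨hQK hq, ?_⟩
    rw [mem_centralizer_singleton_iff]
    exact hab _ Q.2 q hq c hcQ'
  have hE : ¬ p ∣ (fixsub α ⊓ centralizer ({c} : Set H)).index :=
    fun hdvd => Q.not_dvd_index (hdvd.trans (index_dvd_of_le hQE))
  have hnorm : y ∈ normalizer ((fixsub α ⊓ centralizer ({c} : Set H) : Subgroup H) : Set H) := by
    rw [mem_normalizer_iff]
    intro e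
    rw [Subgroup.mem_inf, Subgroup.mem_inf, mem_fixsub, mem_fixsub, mem_centralizer_singleton_iff,
      mem_centralizer_singleton_iff]
    have hyinv : α y⁻¹ = c⁻¹ * y⁻¹ := by rw [map_inv, h1, mul_inv_rev]
    have h3' : y⁻¹ * c = c * y⁻¹ := by
      calc y⁻¹ * c = y⁻¹ * (c * y) * y⁻¹ := by group
        _ = y⁻¹ * (y * c) * y⁻¹ := by rw [h3]
        _ = c * y⁻¹ := by group
    constructor
    · rintro ⟨he1, he2⟩
      refine ⟨?_, ?_⟩
      · rw [map_mul, map_mul, h1, he1, hyinv]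
        calc y * c * e * (c⁻¹ * y⁻¹) = y * (c * e) * c⁻¹ * y⁻¹ := by group
          _ = y * (e * c) * c⁻¹ * y⁻¹ := by rw [← he2]
          _ = y * e * y⁻¹ := by group
      · calc y * e * y⁻¹ * c = y * e * (y⁻¹ * c) := by group
          _ = y * e * (c * y⁻¹) := by rw [h3']
          _ = y * (e * c) * y⁻¹ := by group
          _ = y * (c * e) * y⁻¹ := by rw [he2]
          _ = (y * c) * e * y⁻¹ := by group
          _ = (c * y) * e * y⁻¹ := by rw [h3]
          _ = c * (y * e * y⁻¹) := by group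
    · rintro ⟨he1, he2⟩
      -- `e = y⁻¹ (y e y⁻¹) y`
      have hc2 : e * c = c * e := by
        calc e * c = y⁻¹ * ((y * e * y⁻¹) * c) * y * (y⁻¹ * c⁻¹ * y * c) := by group
          _ = y⁻¹ * (c * (y * e * y⁻¹)) * y * (y⁻¹ * c⁻¹ * y * c) := by rw [he2]
          _ = y⁻¹ * (c * (y * e * y⁻¹)) * y * (y⁻¹ * c⁻¹ * (y * c)) := by group
          _ = y⁻¹ * (c * (y * e * y⁻¹)) * y * (y⁻¹ * c⁻¹ * (c * y)) := by rw [h3]
          _ = (y⁻¹ * c) * y * e := by group
          _ = (c * y⁻¹) * y * e := by rw [h3']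
          _ = c * e := by group
      refine ⟨?_, hc2⟩
      have h4 : α (y * e * y⁻¹) = y * c * α e * (c⁻¹ * y⁻¹) := by
        rw [map_mul, map_mul, h1, hyinv]
      rw [he1] at h4
      -- y e y⁻¹ = y c (α e) c⁻¹ y⁻¹
      have h5 : α e = c⁻¹ * e * c := by
        calc α e = c⁻¹ * y⁻¹ * (y * c * α e * (c⁻¹ * y⁻¹)) * y * c := by group
          _ = c⁻¹ * y⁻¹ * (y * e * y⁻¹) * y * c := by rw [← h4]
          _ = c⁻¹ * e * c := by group
      rw [h5, mul_assoc, hc2, ← mul_assoc, inv_mul_cancel, one_mul]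
  have hmem := mem_of_normalizer _ hE y hnorm jy (by rw [hjy]; exact one_mem _)
  rw [Subgroup.mem_inf, mem_fixsub] at hmem
  have h6 := hmem.1
  rw [h1] at h6
  exact mul_eq_left.mp h6

/-- iterating the commutator with `x` in a nilpotent subgroup eventually gives `1` -/
theorem iterate_comm_eq_one (P : Subgroup G) [hnil : Group.IsNilpotent ↥P] {x y : G}
    (hx : x ∈ P) (hy : y ∈ P) :
    ∃ n : ℕ, (fun z => z⁻¹ * x⁻¹ * z * x)^[n] y = 1 := by
  obtain ⟨n, hn⟩ := (Subgroup.isNilpotent_iff_lowerCentralSeries P).mp hnil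
  refine ⟨n, ?_⟩
  have key : ∀ i, (fun z => z⁻¹ * x⁻¹ * z * x)^[i] y ∈ Subgroup.lowerCentralSeries P i := by
    intro i
    induction i with
    | zero => exact hy
    | succ i ih =>
      rw [Function.iterate_succ_apply']
      have h1 : ∀ z : G, z⁻¹ * x⁻¹ * z * x = ⁅z⁻¹, x⁻¹⁆ := by
        intro z
        rw [commutatorElement_def]
        group
      change ((fun z => z⁻¹ * x⁻¹ * z * x)^[i] y)⁻¹ * x⁻¹ *
        ((fun z => z⁻¹ * x⁻¹ * z * x)^[i] y) * x ∈ ⁅Subgroup.lowerCentralSeries P i, P⁆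
      rw [h1]
      exact Subgroup.commutator_mem_commutator (inv_mem ih) (inv_mem hx)
  have h2 := key n
  rw [hn] at h2
  exact Subgroup.mem_bot.mp h2

/-- Claim A: if the `p`-subgroups of the normal subgroup `N` are abelian, then `P ∩ N` is central
in every `p`-subgroup `P` -/
theorem claimA [Finite G] {p : ℕ} [Fact p.Prime] (hH : Hyp p G) (N : Subgroup G) [hN : N.Normal]
    (habN : ∀ S : Subgroup ↥N, IsPGroup p S → ∀ a ∈ S, ∀ b ∈ S, a * b = b * a)
    (P : Subgroup G) (hP : IsPGroup p P) {x y : G} (hx : x ∈ P) (hy : y ∈ P) (hyN : y ∈ N) :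
    x * y = y * x := by
  classical
  by_contra hne
  have hψmem : ∀ z, z ∈ P → z ∈ N → z⁻¹ * x⁻¹ * z * x ∈ P ∧ z⁻¹ * x⁻¹ * z * x ∈ N := by
    intro z hzP hzN
    refine ⟨P.mul_mem (P.mul_mem (P.mul_mem (P.inv_mem hzP) (P.inv_mem hx)) hzP) hx, ?_⟩
    have h1 : x⁻¹ * z * x⁻¹⁻¹ ∈ N := hN.conj_mem z hzN x⁻¹
    rw [inv_inv] at h1
    have h2 : z⁻¹ * x⁻¹ * z * x = z⁻¹ * (x⁻¹ * z * x) := by group
    rw [h2]
    exact N.mul_mem (N.inv_mem hzN) h1
  have hiter : ∃ n, (fun z => z⁻¹ * x⁻¹ * z * x)^[n] y = 1 := by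
    have : Group.IsNilpotent ↥P := hP.isNilpotent
    exact iterate_comm_eq_one P hx hy
  have hall : ∀ i, (fun z => z⁻¹ * x⁻¹ * z * x)^[i] y ∈ P ∧
      (fun z => z⁻¹ * x⁻¹ * z * x)^[i] y ∈ N := by
    intro i
    induction i with
    | zero => exact ⟨hy, hyN⟩
    | succ i ih =>
      rw [Function.iterate_succ_apply']
      exact hψmem _ ih.1 ih.2
  have hfind := Nat.find_spec hiter
  have hmin := fun m => Nat.find_min hiter (m := m)
  have hn0 : Nat.find hiter ≠ 0 := by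
    intro h0
    rw [h0] at hfind
    simp only [Function.iterate_zero, id_eq] at hfind
    apply hne
    rw [hfind, mul_one, one_mul]
  have hn1 : Nat.find hiter ≠ 1 := by
    intro h1
    rw [h1] at hfind
    simp only [Function.iterate_one] at hfind
    apply hne
    calc x * y = x * y * (y⁻¹ * x⁻¹ * y * x) := by rw [hfind, mul_one]
      _ = y * x := by group
  obtain ⟨m, hm⟩ : ∃ m, Nat.find hiter = m + 2 := by
    rcases h : Nat.find hiter with _ | _ | m
    · exact absurd h hn0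
    · exact absurd h hn1
    · exact ⟨m, rfl⟩
  set y' := (fun z => z⁻¹ * x⁻¹ * z * x)^[m] y with hy'
  set c := y'⁻¹ * x⁻¹ * y' * x with hc
  have hc_iter : c = (fun z => z⁻¹ * x⁻¹ * z * x)^[m + 1] y := by
    rw [Function.iterate_succ_apply']
  have hc1 : c ≠ 1 := by
    rw [hc_iter]
    exact hmin (m + 1) (by omega)
  have hψc : c⁻¹ * x⁻¹ * c * x = 1 := by
    have h1 : (fun z => z⁻¹ * x⁻¹ * z * x)^[m + 2] y = 1 := by
      rw [← hm]
      exact hfind
    rw [Function.iterate_succ_apply', ← hc_iter] at h1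
    exact h1
  obtain ⟨hy'P, hy'N⟩ := hall m
  obtain ⟨hcP, hcN⟩ : c ∈ P ∧ c ∈ N := by
    rw [hc_iter]
    exact hall (m + 1)
  -- apply the key lemma in `↥N`
  have hxp : ∃ k : ℕ, orderOf x = p ^ k := orderOf_of_mem hP hx
  have hα : ¬ p ∣ (fixsub (MulAut.conjNormal x⁻¹ : MulAut ↥N)).index := by
    have heq : fixsub (MulAut.conjNormal x⁻¹ : MulAut ↥N) =
        (centralizer ({x} : Set G)).subgroupOf N := by
      ext n
      rw [mem_fixsub, mem_subgroupOf, mem_centralizer_singleton_iff]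
      constructor
      · intro h
        have h1 := congrArg Subtype.val h
        rw [MulAut.conjNormal_apply, inv_inv] at h1
        calc (n : G) * x = x * (x⁻¹ * n * x) := by group
          _ = x * n := by rw [h1]
      · intro h
        apply Subtype.ext
        rw [MulAut.conjNormal_apply, inv_inv, mul_assoc, h, ← mul_assoc, inv_mul_cancel, one_mul]
    rw [heq]
    intro hdvd
    exact hH x hxp (hdvd.trans
      (Cfsg.Agent.Helper21.ClassSize.relIndex_dvd_index_of_normal_right _ N))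
  obtain ⟨jy, hjy⟩ := pow_eq_one_of_mem hP hy'P
  obtain ⟨jc, hjc⟩ := pow_eq_one_of_mem hP hcP
  have hcomm : y' * c = c * y' := by
    have h1 := habN (P.subgroupOf N) hP.comap_subtype ⟨y', hy'N⟩ (mem_subgroupOf.mpr hy'P)
      ⟨c, hcN⟩ (mem_subgroupOf.mpr hcP)
    exact congrArg Subtype.val h1
  have hres := lemmaA habN (MulAut.conjNormal x⁻¹ : MulAut ↥N) hα ⟨y', hy'N⟩ ⟨c, hcN⟩
    ⟨jy, Subtype.ext (by simpa using hjy)⟩ ⟨jc, Subtype.ext (by simpa using hjc)⟩
    (by
      apply Subtype.ext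
      rw [MulAut.conjNormal_apply, inv_inv]
      change x⁻¹ * y' * x = y' * c
      rw [hc]; group)
    (by
      apply Subtype.ext
      rw [MulAut.conjNormal_apply, inv_inv]
      change x⁻¹ * c * x = c
      calc x⁻¹ * c * x = c * (c⁻¹ * x⁻¹ * c * x) := by group
        _ = c := by rw [hψc, mul_one])
    (Subtype.ext hcomm)
  exact hc1 (congrArg Subtype.val hres)

/-- Claim B: the Sylow `p`-subgroups are abelian as soon as those of some normal subgroup `N` and
of `G ⧸ N` are -/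
theorem sylow_comm_of_normal [Finite G] {p : ℕ} [Fact p.Prime] (hH : Hyp p G) (N : Subgroup G)
    [hN : N.Normal]
    (habN : ∀ S : Subgroup ↥N, IsPGroup p S → ∀ a ∈ S, ∀ b ∈ S, a * b = b * a)
    (habQ : ∀ S : Subgroup (G ⧸ N), IsPGroup p S → ∀ a ∈ S, ∀ b ∈ S, a * b = b * a)
    (P : Sylow p G) : ∀ x ∈ (P : Subgroup G), ∀ y ∈ (P : Subgroup G), x * y = y * x := by
  intro x hx y hy
  by_contra hne
  set c := x⁻¹ * y⁻¹ * x * y with hc
  have hcP : c ∈ (P : Subgroup G) :=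
    (P : Subgroup G).mul_mem ((P : Subgroup G).mul_mem ((P : Subgroup G).mul_mem
      ((P : Subgroup G).inv_mem hx) ((P : Subgroup G).inv_mem hy)) hx) hy
  have hcN : c ∈ N := by
    have h1 := habQ ((P : Subgroup G).map (QuotientGroup.mk' N)) (P.2.map _)
      (QuotientGroup.mk' N x) ⟨x, hx, rfl⟩ (QuotientGroup.mk' N y) ⟨y, hy, rfl⟩
    rw [← QuotientGroup.eq_one_iff, hc]
    simp only [QuotientGroup.mk_mul, QuotientGroup.mk_inv]
    change (QuotientGroup.mk' N x)⁻¹ * (QuotientGroup.mk' N y)⁻¹ * QuotientGroup.mk' N x *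
      QuotientGroup.mk' N y = 1
    rw [mul_assoc, h1]
    group
  have hcx : x * c = c * x := claimA hH N habN (P : Subgroup G) P.2 hx hcP hcN
  have hcy : y * c = c * y := claimA hH N habN (P : Subgroup G) P.2 hy hcP hcN
  have hc1 : c ≠ 1 := by
    intro h1
    apply hne
    calc x * y = y * x * (x⁻¹ * y⁻¹ * x * y) := by group
      _ = y * x := by rw [← hc, h1, mul_one]
  have f1 : y⁻¹ * x * y = x * c := by rw [hc]; group
  obtain ⟨Q, hQK, hcQ⟩ := exists_sylow_in (centralizer ({x} : Set G)) (zpowers c)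
    (hH x (orderOf_of_mem P.2 hx)) (P.2.to_le (zpowers_le.mpr hcP))
    (zpowers_le.mpr (mem_centralizer_singleton_iff.mpr hcx.symm))
  have hcQ' : c ∈ (Q : Subgroup G) := hcQ (mem_zpowers c)
  have hQC : (Q : Subgroup G) ≤ centralizer ({x} : Set G) ⊓ centralizer ({c} : Set G) := by
    intro q hq
    rw [Subgroup.mem_inf]
    refine ⟨hQK hq, ?_⟩
    rw [mem_centralizer_singleton_iff]
    exact claimA hH N habN (Q : Subgroup G) Q.2 hq hcQ' hcN
  have hCidx : ¬ p ∣ (centralizer ({x} : Set G) ⊓ centralizer ({c} : Set G)).index :=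
    fun hdvd => Q.not_dvd_index (hdvd.trans (index_dvd_of_le hQC))
  have hnorm : y ∈ normalizer
      ((centralizer ({x} : Set G) ⊓ centralizer ({c} : Set G) : Subgroup G) : Set G) := by
    rw [mem_normalizer_iff]
    intro h
    rw [Subgroup.mem_inf, Subgroup.mem_inf, mem_centralizer_singleton_iff,
      mem_centralizer_singleton_iff, mem_centralizer_singleton_iff,
      mem_centralizer_singleton_iff]
    have e1 : x = y * (x * c) * y⁻¹ := by
      rw [← f1]; group
    have e2 : c = y * c * y⁻¹ := by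
      rw [hcy]; group
    change (Commute h x ∧ Commute h c) ↔
      (Commute (y * h * y⁻¹) x ∧ Commute (y * h * y⁻¹) c)
    have e3 : Commute (y * h * y⁻¹) x ↔ Commute h (x * c) := by
      conv_lhs => rw [e1]
      exact Commute.conj_iff _
    have e4 : Commute (y * h * y⁻¹) c ↔ Commute h c := by
      conv_lhs => rw [e2]
      exact Commute.conj_iff _
    rw [e3, e4]
    constructor
    · rintro ⟨h1, h2⟩
      exact ⟨h1.mul_right h2, h2⟩
    · rintro ⟨h1, h2⟩
      refine ⟨?_, h2⟩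
      have h3 : Commute h (x * c * c⁻¹) := h1.mul_right h2.inv_right
      rwa [mul_inv_cancel_right] at h3
  obtain ⟨m, hm⟩ := pow_eq_one_of_mem P.2 hy
  have hmem := mem_of_normalizer _ hCidx y hnorm m (by rw [hm]; exact one_mem _)
  rw [Subgroup.mem_inf, mem_centralizer_singleton_iff] at hmem
  have h5 : y⁻¹ * x * y = x := by
    rw [mul_assoc, ← hmem.1, ← mul_assoc, inv_mul_cancel, one_mul]
  rw [f1] at h5
  exact hc1 (mul_eq_left.mp h5)

/-- the hypothesis passes to normal subgroups -/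
theorem hyp_subgroup [Finite G] {p : ℕ} [Fact p.Prime] (hH : Hyp p G) (N : Subgroup G)
    [hN : N.Normal] : Hyp p ↥N := by
  rintro x ⟨k, hk⟩
  have hx : ∃ k : ℕ, orderOf (x : G) = p ^ k := ⟨k, by rw [Subgroup.orderOf_coe]; exact hk⟩
  have h1 := hH (x : G) hx
  have heq : centralizer ({x} : Set ↥N) = (centralizer ({(x : G)} : Set G)).subgroupOf N := by
    ext n
    rw [mem_centralizer_singleton_iff, mem_subgroupOf, mem_centralizer_singleton_iff]
    constructor
    · intro h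
      exact congrArg Subtype.val h
    · intro h
      exact Subtype.ext h
  rw [heq]
  intro hdvd
  exact h1 (hdvd.trans (Cfsg.Agent.Helper21.ClassSize.relIndex_dvd_index_of_normal_right _ N))

/-- the hypothesis passes to quotients -/
theorem hyp_quotient [Finite G] {p : ℕ} [Fact p.Prime] (hH : Hyp p G) (N : Subgroup G)
    [hN : N.Normal] : Hyp p (G ⧸ N) := by
  have hp : p.Prime := Fact.out
  rintro xb ⟨k, hk⟩
  obtain ⟨g, rfl⟩ := QuotientGroup.mk_surjective xb
  obtain ⟨a, m', hm', hm⟩ := Nat.exists_eq_pow_mul_and_not_dvd (orderOf_pos g).ne' p hp.ne_one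
  have hcop : Nat.Coprime m' (orderOf (QuotientGroup.mk g : G ⧸ N)) := by
    rw [hk]
    exact Nat.Coprime.pow_right _ ((Nat.Prime.coprime_iff_not_dvd hp).mpr hm').symm
  obtain ⟨t, ht⟩ := exists_pow_eq_self_of_coprime hcop
  -- the `p`-element `g' = (g ^ m') ^ t`
  have hg' : ((g ^ m') ^ t) ^ (p ^ a) = 1 := by
    rw [← pow_mul, ← pow_mul]
    have h3 : m' * (t * p ^ a) = orderOf g * t := by rw [hm]; ring
    rw [h3, pow_mul, pow_orderOf_eq_one, one_pow]
  have hmk : (QuotientGroup.mk ((g ^ m') ^ t) : G ⧸ N) = QuotientGroup.mk g := by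
    rw [QuotientGroup.mk_pow, QuotientGroup.mk_pow]
    exact ht
  rw [← hmk]
  obtain ⟨j, _, hj⟩ := (Nat.dvd_prime_pow hp).mp (orderOf_dvd_of_pow_eq_one hg')
  have h1 := hH ((g ^ m') ^ t) ⟨j, hj⟩
  have hle : (centralizer ({(g ^ m') ^ t} : Set G)).map (QuotientGroup.mk' N) ≤
      centralizer ({(QuotientGroup.mk ((g ^ m') ^ t) : G ⧸ N)} : Set (G ⧸ N)) := by
    rintro _ ⟨c, hc, rfl⟩
    rw [SetLike.mem_coe, mem_centralizer_singleton_iff] at hc
    rw [mem_centralizer_singleton_iff]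
    change (QuotientGroup.mk c : G ⧸ N) * QuotientGroup.mk ((g ^ m') ^ t) =
      QuotientGroup.mk ((g ^ m') ^ t) * QuotientGroup.mk c
    rw [← QuotientGroup.mk_mul, ← QuotientGroup.mk_mul, hc]
  intro hdvd
  exact h1 ((hdvd.trans (index_dvd_of_le hle)).trans
    (Subgroup.index_map_dvd _ (QuotientGroup.mk'_surjective N)))

/-- the reduction theorem -/
theorem simple_of_minimal [Finite G] (p : ℕ) [Fact p.Prime]
    (h : ((∃ P : Sylow p G, ¬ IsMulCommutative P) ∧ ∀ x : G, (∃ k : ℕ, orderOf x = p ^ k) →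
      ¬ p ∣ (Subgroup.centralizer ({x} : Set G)).index))
    (hmin : ∀ (N : Subgroup G) [N.Normal], N ≠ ⊥ → N ≠ ⊤ →
      ¬ ((∃ P : Sylow p N, ¬ IsMulCommutative P) ∧ ∀ x : N, (∃ k : ℕ, orderOf x = p ^ k) →
        ¬ p ∣ (Subgroup.centralizer ({x} : Set N)).index) ∧
      ¬ ((∃ P : Sylow p (G ⧸ N), ¬ IsMulCommutative P) ∧ ∀ x : (G ⧸ N),
        (∃ k : ℕ, orderOf x = p ^ k) →
          ¬ p ∣ (Subgroup.centralizer ({x} : Set (G ⧸ N))).index)) :
    IsSimpleGroup G := by
  have hH : Hyp p G := h.2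
  obtain ⟨P, hP⟩ := h.1
  refine { exists_pair_ne := ?_, eq_bot_or_eq_top_of_normal := ?_ }
  · by_contra hnt
    apply hP
    rw [isMulCommutative_iff]
    intro a b
    apply Subtype.ext
    by_contra hab
    exact hnt ⟨_, _, hab⟩
  · intro N hN
    by_contra hcon
    push Not at hcon
    have := hN
    obtain ⟨h1, h2⟩ := hmin N hcon.1 hcon.2
    have hN1 : ∀ Q : Sylow p ↥N, IsMulCommutative Q := by
      intro Q
      by_contra hQ
      exact h1 ⟨⟨Q, hQ⟩, hyp_subgroup hH N⟩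
    have hN2 : ∀ Q : Sylow p (G ⧸ N), IsMulCommutative Q := by
      intro Q
      by_contra hQ
      exact h2 ⟨⟨Q, hQ⟩, hyp_quotient hH N⟩
    have habN : ∀ S : Subgroup ↥N, IsPGroup p S → ∀ a ∈ S, ∀ b ∈ S, a * b = b * a := by
      intro S hS a ha b hb
      obtain ⟨Q, hQ⟩ := hS.exists_le_sylow
      have h3 := isMulCommutative_iff.mp (hN1 Q) ⟨a, hQ ha⟩ ⟨b, hQ hb⟩
      exact congrArg Subtype.val h3
    have habQ : ∀ S : Subgroup (G ⧸ N), IsPGroup p S → ∀ a ∈ S, ∀ b ∈ S, a * b = b * a := by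
      intro S hS a ha b hb
      obtain ⟨Q, hQ⟩ := hS.exists_le_sylow
      have h3 := isMulCommutative_iff.mp (hN2 Q) ⟨a, hQ ha⟩ ⟨b, hQ hb⟩
      exact congrArg Subtype.val h3
    apply hP
    rw [isMulCommutative_iff]
    intro a b
    apply Subtype.ext
    exact sylow_comm_of_normal hH N habN habQ P a a.2 b b.2

end Cfsg.Agent.Helper21.PCentral
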