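import Mathlib

/-!
# Groups `⟨a, b⟩` with `⟨a⟩` normal of index two: order, normal form and the isomorphism theorem

`card_closure_pair`: if `b` normalises `⟨a⟩`, `b² ∈ ⟨a⟩` and `b ∉ ⟨a⟩` then `⟨a, b⟩` has order `2·o(a)` and
consists of the elements `a^i`, `a^i b`.  `pres_iso` (graph trick): two groups of order `2N` with
generators satisfying the same relations `o(a) = N`, `b a b⁻¹ = a^r`, `b² = a^t`, `b ∉ ⟨a⟩` are isomorphic.
-/

set_option autoImplicit false

namespace Cfsg.Agent.Helper21.PresIso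

variable {G : Type*} [Group G]

theorem mem_normalizer_zpowers [Finite G] (a b : G) (hconj : b * a * b⁻¹ ∈ Subgroup.zpowers a) :
    b ∈ Subgroup.normalizer ((Subgroup.zpowers a : Subgroup G) : Set G) := by
  apply Subgroup.mem_normalizer_fintype
  intro n hn
  have hn' : n ∈ Subgroup.zpowers a := hn
  obtain ⟨k, rfl⟩ := Subgroup.mem_zpowers_iff.mp hn'
  have : b * a ^ k * b⁻¹ = (b * a * b⁻¹) ^ k := by
    rw [← MulAut.conj_apply, map_zpow, MulAut.conj_apply]
  show b * a ^ k * b⁻¹ ∈ Subgroup.zpowers a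
  rw [this]
  exact Subgroup.zpow_mem _ hconj k

theorem card_closure_pair [Finite G] (a b : G) (N : ℕ) (hN : orderOf a = N)
    (hconj : b * a * b⁻¹ ∈ Subgroup.zpowers a) (hsq : b * b ∈ Subgroup.zpowers a)
    (hb : b ∉ Subgroup.zpowers a) :
    Nat.card (Subgroup.closure ({a, b} : Set G)) = 2 * N ∧
      ∀ g ∈ Subgroup.closure ({a, b} : Set G),
        g ∈ Subgroup.zpowers a ∨ g * b⁻¹ ∈ Subgroup.zpowers a := by
  obtain ⟨M, hM⟩ : ∃ M : Subgroup G, M = Subgroup.zpowers a := ⟨_, rfl⟩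
  obtain ⟨P, hP⟩ : ∃ P : Subgroup G, P = Subgroup.closure ({a, b} : Set G) := ⟨_, rfl⟩
  have haP : a ∈ P := hP ▸ Subgroup.subset_closure (by simp)
  have hbP : b ∈ P := hP ▸ Subgroup.subset_closure (by simp)
  have hMP : M ≤ P := by rw [hM, Subgroup.zpowers_le]; exact haP
  have hPN : P ≤ Subgroup.normalizer (M : Set G) := by
    rw [hP, Subgroup.closure_le]
    intro x hx
    rcases hx with rfl | hx
    · rw [hM]; exact Subgroup.le_normalizer (Subgroup.mem_zpowers x)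
    · rw [Set.mem_singleton_iff] at hx
      subst hx
      rw [hM]; exact mem_normalizer_zpowers a x hconj
  haveI hnorm : (M.subgroupOf P).Normal := Subgroup.normal_subgroupOf_of_le_normalizer hPN
  obtain ⟨b', hb'⟩ : ∃ b' : P, b' = ⟨b, hbP⟩ := ⟨_, rfl⟩
  obtain ⟨β, hβ⟩ : ∃ β : P ⧸ M.subgroupOf P, β = QuotientGroup.mk b' := ⟨_, rfl⟩
  have hall : ∀ (g : G) (hg : g ∈ P), (QuotientGroup.mk ⟨g, hg⟩ : P ⧸ M.subgroupOf P) ∈
      Subgroup.zpowers β := by
    intro g hg
    have hg' : g ∈ Subgroup.closure ({a, b} : Set G) := hP ▸ hg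
    induction hg' using Subgroup.closure_induction with
    | mem x hx =>
      rcases hx with rfl | hx
      · have : (QuotientGroup.mk ⟨x, hg⟩ : P ⧸ M.subgroupOf P) = 1 := by
          rw [QuotientGroup.eq_one_iff, Subgroup.mem_subgroupOf]
          show x ∈ M
          rw [hM]; exact Subgroup.mem_zpowers x
        rw [this]; exact Subgroup.one_mem _
      · rw [Set.mem_singleton_iff] at hx
        subst hx
        rw [hβ, hb']
        exact Subgroup.mem_zpowers _
    | one =>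
      have : (QuotientGroup.mk ⟨1, hg⟩ : P ⧸ M.subgroupOf P) = 1 := by
        rw [QuotientGroup.eq_one_iff]
        exact Subgroup.one_mem _
      rw [this]; exact Subgroup.one_mem _
    | mul x y hx hy ihx ihy =>
      have hxP : x ∈ P := hP ▸ hx
      have hyP : y ∈ P := hP ▸ hy
      have : (QuotientGroup.mk ⟨x * y, hg⟩ : P ⧸ M.subgroupOf P) =
          QuotientGroup.mk ⟨x, hxP⟩ * QuotientGroup.mk ⟨y, hyP⟩ := rfl
      rw [this]
      exact Subgroup.mul_mem _ (ihx hxP) (ihy hyP)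
    | inv x hx ihx =>
      have hxP : x ∈ P := hP ▸ hx
      have : (QuotientGroup.mk ⟨x⁻¹, hg⟩ : P ⧸ M.subgroupOf P) =
          (QuotientGroup.mk ⟨x, hxP⟩)⁻¹ := rfl
      rw [this]
      exact Subgroup.inv_mem _ (ihx hxP)
  have hβ2 : β ^ 2 = 1 := by
    rw [hβ, ← QuotientGroup.mk_pow, QuotientGroup.eq_one_iff, Subgroup.mem_subgroupOf, hb']
    show b ^ 2 ∈ M
    rw [pow_two, hM]; exact hsq
  have hβ1 : β ≠ 1 := by
    rw [hβ, Ne, QuotientGroup.eq_one_iff, Subgroup.mem_subgroupOf, hb']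
    show ¬ b ∈ M
    rw [hM]; exact hb
  have hordβ : orderOf β = 2 := orderOf_eq_prime hβ2 hβ1
  have htop : ∀ x : P ⧸ M.subgroupOf P, x ∈ Subgroup.zpowers β := by
    intro x
    obtain ⟨⟨g, hg⟩, rfl⟩ := QuotientGroup.mk_surjective x
    exact hall g hg
  have hcardQ : Nat.card (P ⧸ M.subgroupOf P) = 2 := by
    rw [← hordβ]
    exact (orderOf_eq_card_of_forall_mem_zpowers htop).symm
  have hcardM : Nat.card (M.subgroupOf P) = N := by
    rw [Nat.card_congr (Subgroup.subgroupOfEquivOfLe hMP).toEquiv, hM, Nat.card_zpowers, hN]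
  refine ⟨?_, ?_⟩
  · rw [← hP, Subgroup.card_eq_card_quotient_mul_card_subgroup (M.subgroupOf P), hcardQ, hcardM]
  · intro g hg
    have hgP : g ∈ P := hP ▸ hg
    have h1 := hall g hgP
    rw [← (isOfFinOrder_of_finite β).mem_powers_iff_mem_zpowers, Submonoid.mem_powers_iff] at h1
    obtain ⟨k, hk⟩ := h1
    rcases Nat.even_or_odd' k with ⟨j, rfl | rfl⟩
    · left
      rw [pow_mul, hβ2, one_pow] at hk
      have := hk.symm
      rw [QuotientGroup.eq_one_iff, Subgroup.mem_subgroupOf] at this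
      rw [← hM]; exact this
    · right
      rw [pow_succ, pow_mul, hβ2, one_pow, one_mul] at hk
      have h2 : (QuotientGroup.mk (⟨g, hgP⟩ * b'⁻¹) : P ⧸ M.subgroupOf P) = 1 := by
        rw [QuotientGroup.mk_mul, QuotientGroup.mk_inv, ← hβ, ← hk, mul_inv_cancel]
      rw [QuotientGroup.eq_one_iff, Subgroup.mem_subgroupOf, hb'] at h2
      rw [← hM]; exact h2

/-- Two groups of order `2N` on generators with the same metacyclic relations are isomorphic. -/
theorem pres_iso {A B : Type*} [Group A] [Group B] [Finite A] [Finite B] (N r t : ℕ)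
    (a b : A) (a' b' : B) (ha : orderOf a = N) (ha' : orderOf a' = N)
    (hc : b * a * b⁻¹ = a ^ r) (hc' : b' * a' * b'⁻¹ = a' ^ r)
    (hs : b * b = a ^ t) (hs' : b' * b' = a' ^ t)
    (hb : b ∉ Subgroup.zpowers a) (hb' : b' ∉ Subgroup.zpowers a')
    (hA : Nat.card A = 2 * N) (hB : Nat.card B = 2 * N) :
    ∃ e : A ≃* B, e a = a' ∧ e b = b' := by
  obtain ⟨c, hcdef⟩ : ∃ c : A × B, c = (a, a') := ⟨_, rfl⟩
  obtain ⟨d, hddef⟩ : ∃ d : A × B, d = (b, b') := ⟨_, rfl⟩
  have hc1 : c.1 = a := by rw [hcdef]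
  have hc2 : c.2 = a' := by rw [hcdef]
  have hd1 : d.1 = b := by rw [hddef]
  have hd2 : d.2 = b' := by rw [hddef]
  have hordc : orderOf c = N := by
    rw [hcdef, Prod.orderOf, ha, ha', Nat.lcm_self]
  have hdc : d * c * d⁻¹ = c ^ r := by
    rw [hcdef, hddef]
    ext
    · simpa using hc
    · simpa using hc'
  have hdd : d * d = c ^ t := by
    rw [hcdef, hddef]
    ext
    · simpa using hs
    · simpa using hs'
  have hdn : d ∉ Subgroup.zpowers c := by
    intro h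
    obtain ⟨k, hk⟩ := Subgroup.mem_zpowers_iff.mp h
    apply hb
    rw [Subgroup.mem_zpowers_iff]
    refine ⟨k, ?_⟩
    have := congrArg Prod.fst hk
    rw [hcdef, hddef] at this
    simpa using this
  obtain ⟨Γ, hΓ⟩ : ∃ Γ : Subgroup (A × B), Γ = Subgroup.closure ({c, d} : Set (A × B)) := ⟨_, rfl⟩
  have hcardΓ : Nat.card Γ = 2 * N := by
    rw [hΓ]
    exact (card_closure_pair c d N hordc (hdc ▸ Subgroup.pow_mem _ (Subgroup.mem_zpowers c) r)
      (hdd ▸ Subgroup.pow_mem _ (Subgroup.mem_zpowers c) t) hdn).1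
  have hcΓ : c ∈ Γ := hΓ ▸ Subgroup.subset_closure (by simp)
  have hdΓ : d ∈ Γ := hΓ ▸ Subgroup.subset_closure (by simp)
  -- the two projections
  have htopA : Subgroup.closure ({a, b} : Set A) = ⊤ := by
    apply Subgroup.eq_top_of_card_eq
    rw [hA]
    exact (card_closure_pair a b N ha (hc ▸ Subgroup.pow_mem _ (Subgroup.mem_zpowers a) r)
      (hs ▸ Subgroup.pow_mem _ (Subgroup.mem_zpowers a) t) hb).1
  have htopB : Subgroup.closure ({a', b'} : Set B) = ⊤ := by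
    apply Subgroup.eq_top_of_card_eq
    rw [hB]
    exact (card_closure_pair a' b' N ha' (hc' ▸ Subgroup.pow_mem _ (Subgroup.mem_zpowers a') r)
      (hs' ▸ Subgroup.pow_mem _ (Subgroup.mem_zpowers a') t) hb').1
  obtain ⟨π₁, hπ₁⟩ : ∃ π₁ : Γ →* A, π₁ = (MonoidHom.fst A B).comp Γ.subtype := ⟨_, rfl⟩
  obtain ⟨π₂, hπ₂⟩ : ∃ π₂ : Γ →* B, π₂ = (MonoidHom.snd A B).comp Γ.subtype := ⟨_, rfl⟩
  have hs1 : Function.Surjective π₁ := by
    rw [← MonoidHom.range_eq_top, eq_top_iff, ← htopA, Subgroup.closure_le]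
    intro x hx
    rcases hx with hx | hx
    · exact ⟨⟨c, hcΓ⟩, by rw [hπ₁, hx]; exact hc1⟩
    · rw [Set.mem_singleton_iff] at hx
      exact ⟨⟨d, hdΓ⟩, by rw [hπ₁, hx]; exact hd1⟩
  have hs2 : Function.Surjective π₂ := by
    rw [← MonoidHom.range_eq_top, eq_top_iff, ← htopB, Subgroup.closure_le]
    intro x hx
    rcases hx with hx | hx
    · exact ⟨⟨c, hcΓ⟩, by rw [hπ₂, hx]; exact hc2⟩
    · rw [Set.mem_singleton_iff] at hx
      exact ⟨⟨d, hdΓ⟩, by rw [hπ₂, hx]; exact hd2⟩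
  have hb1 : Function.Bijective π₁ :=
    hs1.bijective_of_nat_card_le (by rw [hcardΓ, hA])
  have hb2 : Function.Bijective π₂ :=
    hs2.bijective_of_nat_card_le (by rw [hcardΓ, hB])
  refine ⟨(MulEquiv.ofBijective π₁ hb1).symm.trans (MulEquiv.ofBijective π₂ hb2), ?_, ?_⟩
  · have h1 : (MulEquiv.ofBijective π₁ hb1).symm a = ⟨c, hcΓ⟩ := by
      rw [MulEquiv.symm_apply_eq]
      show a = π₁ ⟨c, hcΓ⟩
      rw [hπ₁]; exact hc1.symm
    rw [MulEquiv.trans_apply, h1]
    show π₂ ⟨c, hcΓ⟩ = a'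
    rw [hπ₂]; exact hc2
  · have h1 : (MulEquiv.ofBijective π₁ hb1).symm b = ⟨d, hdΓ⟩ := by
      rw [MulEquiv.symm_apply_eq]
      show b = π₁ ⟨d, hdΓ⟩
      rw [hπ₁]; exact hd1.symm
    rw [MulEquiv.trans_apply, h1]
    show π₂ ⟨d, hdΓ⟩ = b'
    rw [hπ₂]; exact hd2

end Cfsg.Agent.Helper21.PresIso
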