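import Mathlib
import Cfsg.Prelude.Def_HallClasses
import Cfsg.Agent.Lib.Helper19.Conj

/-!
Pronormality of overgroups of Sylow subgroups in extensions.
-/

set_option autoImplicit false

namespace Cfsg.Agent.Helper21.Pron

open Cfsg.Agent.Helper19

local notation:70 g:71 " ⋆ " H:70 => Subgroup.map (MulEquiv.toMonoidHom (MulAut.conj g)) H

section basic

variable {G : Type*} [Group G]

/-- `K` is pronormal relative to the elements of `M` -/
def PronIn (M K : Subgroup G) : Prop :=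
  ∀ m ∈ M, ∃ x ∈ K ⊔ m ⋆ K, m ⋆ K = x ⋆ K

theorem isPronormal_iff_pronIn_top (K : Subgroup G) : Cfsg.IsPronormal K ↔ PronIn ⊤ K := by
  constructor
  · intro h m _
    exact h m
  · intro h g
    exact h g (Subgroup.mem_top g)

/-- conjugation commutes with images under homomorphisms -/
theorem map_conj_comm {G₁ G₂ : Type*} [Group G₁] [Group G₂] (f : G₁ →* G₂) (g : G₁)
    (K : Subgroup G₁) : (g ⋆ K).map f = (f g) ⋆ (K.map f) := by
  rw [Subgroup.map_map, Subgroup.map_map]
  congr 1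
  ext x
  simp

theorem pron_map_of_pron {G₁ G₂ : Type*} [Group G₁] [Group G₂] (f : G₁ →* G₂)
    (hf : Function.Surjective f) (K : Subgroup G₁) (h : Cfsg.IsPronormal K) :
    Cfsg.IsPronormal (K.map f) := by
  intro gb
  obtain ⟨g, rfl⟩ := hf gb
  obtain ⟨x, hx, hxe⟩ := h g
  refine ⟨f x, ?_, ?_⟩
  · rw [← map_conj_comm, ← Subgroup.map_sup]
    exact Subgroup.mem_map_of_mem f hx
  · rw [← map_conj_comm, ← map_conj_comm, hxe]

theorem pron_of_pron_map {G₁ G₂ : Type*} [Group G₁] [Group G₂] (f : G₁ →* G₂)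
    (K : Subgroup G₁) (hker : f.ker ≤ K) (h : Cfsg.IsPronormal (K.map f)) :
    Cfsg.IsPronormal K := by
  intro g
  obtain ⟨xb, hxb, hxe⟩ := h (f g)
  rw [← map_conj_comm, ← Subgroup.map_sup] at hxb
  obtain ⟨x, hx, rfl⟩ := hxb
  refine ⟨x, hx, ?_⟩
  rw [← map_conj_comm, ← map_conj_comm, Subgroup.map_eq_map_iff] at hxe
  have hk : ∀ y : G₁, f.ker ≤ y ⋆ K := by
    intro y z hz
    rw [mem_map_conj]
    apply hker
    exact (MonoidHom.normal_ker f).conj_mem' z hz y |> fun h => by simpa [mul_assoc] using h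
  rwa [sup_of_le_left (hk g), sup_of_le_left (hk x)] at hxe

theorem pron_conj_iff (u : G) (K : Subgroup G) :
    Cfsg.IsPronormal (u ⋆ K) ↔ Cfsg.IsPronormal K := by
  constructor
  · intro h
    apply pron_of_pron_map (MulAut.conj u).toMonoidHom K _ h
    rw [(MonoidHom.ker_eq_bot_iff _).2 (MulAut.conj u).injective]
    exact bot_le
  · intro h
    exact pron_map_of_pron (MulAut.conj u).toMonoidHom (MulAut.conj u).surjective K h

/-- pronormality inside a subgroup, expressed in the ambient group -/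
theorem pron_subgroupOf {M K : Subgroup G} (hKM : K ≤ M) :
    Cfsg.IsPronormal (K.subgroupOf M) ↔ PronIn M K := by
  have key : ∀ m : ↥M, ((K.subgroupOf M) ⊔ m ⋆ (K.subgroupOf M)).map M.subtype =
      K ⊔ (m : G) ⋆ K := by
    intro m
    rw [Subgroup.map_sup, map_conj_comm, Subgroup.map_subgroupOf_eq_of_le hKM]
    rfl
  constructor
  · intro h m hm
    obtain ⟨x, hx, hxe⟩ := h ⟨m, hm⟩
    refine ⟨x, ?_, ?_⟩
    · have := Subgroup.mem_map_of_mem M.subtype hx
      rw [key] at this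
      exact this
    · have := congrArg (Subgroup.map M.subtype) hxe
      rw [map_conj_comm, map_conj_comm, Subgroup.map_subgroupOf_eq_of_le hKM] at this
      exact this
  · intro h m
    obtain ⟨x, hx, hxe⟩ := h m m.2
    rw [← key] at hx
    obtain ⟨x', hx', rfl⟩ := hx
    refine ⟨x', hx', ?_⟩
    apply Subgroup.map_injective M.subtype_injective
    rw [map_conj_comm, map_conj_comm, Subgroup.map_subgroupOf_eq_of_le hKM]
    exact hxe

end basic

section sylow

variable {G : Type*} [Group G] [Finite G] {p : ℕ} [Fact p.Prime]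

/-- Sylow conjugacy inside a subgroup, stated in the ambient group -/
theorem sylow_conj_in (L : Subgroup G) (S₁ S₂ : Sylow p G) (h1 : (S₁ : Subgroup G) ≤ L)
    (h2 : (S₂ : Subgroup G) ≤ L) : ∃ l ∈ L, l ⋆ (S₁ : Subgroup G) = (S₂ : Subgroup G) := by
  obtain ⟨l, hl⟩ := MulAction.exists_smul_eq ↥L (S₁.subtype h1) (S₂.subtype h2)
  have h := congrArg (fun Q : Sylow p ↥L => (Q : Subgroup ↥L)) hl
  simp only [Sylow.coe_subgroup_smul, Sylow.coe_subtype] at h
  have h' : l ⋆ ((S₁ : Subgroup G).subgroupOf L) = (S₂ : Subgroup G).subgroupOf L := h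
  have h3 := congrArg (Subgroup.map L.subtype) h'
  rw [map_conj_comm, Subgroup.map_subgroupOf_eq_of_le h1,
    Subgroup.map_subgroupOf_eq_of_le h2] at h3
  exact ⟨l, l.2, h3⟩

/-- a Sylow subgroup is pronormal -/
theorem sylow_pron (S : Sylow p G) : Cfsg.IsPronormal (S : Subgroup G) := by
  intro g
  have h2 : g ⋆ (S : Subgroup G) = ((g • S : Sylow p G) : Subgroup G) := rfl
  obtain ⟨l, hl, hle⟩ := sylow_conj_in ((S : Subgroup G) ⊔ g ⋆ (S : Subgroup G)) S (g • S)
    le_sup_left (by rw [← h2]; exact le_sup_right)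
  exact ⟨l, hl, by rw [h2, hle]⟩

/-- conjugacy of `p`-subgroups of full `p`-part inside a subgroup `B` -/
theorem conj_in_of_relIndex (B T T₂ : Subgroup G) (hT : IsPGroup p T) (hTB : T ≤ B)
    (hidx : ¬ p ∣ T.relIndex B) (hT₂ : IsPGroup p T₂) (hT₂B : T₂ ≤ B)
    (hcard : Nat.card T₂ = Nat.card T) : ∃ b ∈ B, b ⋆ T = T₂ := by
  let P₁ : Sylow p ↥B := (hT.comap_subtype (K := B)).toSylow hidx
  obtain ⟨Q, hQ⟩ := (hT₂.comap_subtype (K := B)).exists_le_sylow
  obtain ⟨b, hb⟩ := MulAction.exists_smul_eq ↥B P₁ Q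
  have h := congrArg (fun Q : Sylow p ↥B => (Q : Subgroup ↥B)) hb
  simp only [Sylow.coe_subgroup_smul] at h
  have h' : b ⋆ (T.subgroupOf B) = (Q : Subgroup ↥B) := h
  have h3 : T₂ ≤ (b : G) ⋆ T := by
    have h4 : (T₂.subgroupOf B).map B.subtype ≤ (b ⋆ (T.subgroupOf B)).map B.subtype := by
      rw [h']
      exact Subgroup.map_mono hQ
    rwa [map_conj_comm, Subgroup.map_subgroupOf_eq_of_le hTB,
      Subgroup.map_subgroupOf_eq_of_le hT₂B] at h4
  refine ⟨b, b.2, ?_⟩
  symm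
  apply Subgroup.eq_of_le_of_card_ge h3
  rw [card_map_conj, hcard]

theorem sylowA_props (A T : Subgroup G)
    (hT : ∃ P : Sylow p ↥A, (P : Subgroup ↥A).map A.subtype = T) :
    T ≤ A ∧ IsPGroup p T ∧ ¬ p ∣ T.relIndex A := by
  obtain ⟨P, rfl⟩ := hT
  refine ⟨Subgroup.map_subtype_le _, P.2.map _, ?_⟩
  have : ((P : Subgroup ↥A).map A.subtype).relIndex A = (P : Subgroup ↥A).index := by
    unfold Subgroup.relIndex Subgroup.subgroupOf
    rw [Subgroup.comap_map_eq_self_of_injective A.subtype_injective]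
  rw [this]
  exact P.not_dvd_index

/-- a Sylow subgroup of `G` containing a Sylow subgroup `T` of the normal subgroup `A` meets `A`
in `T` -/
theorem sylow_inf_eq (A : Subgroup G) (T : Subgroup G) (hTA : T ≤ A)
    (hidx : ¬ p ∣ T.relIndex A) (S : Sylow p G) (hTS : T ≤ (S : Subgroup G)) :
    (S : Subgroup G) ⊓ A = T := by
  have hp : p.Prime := Fact.out
  apply le_antisymm _ (le_inf hTS hTA)
  set X := (S : Subgroup G) ⊓ A with hX
  have hXp : IsPGroup p X := S.2.to_le inf_le_left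
  have hTX : T ≤ X := le_inf hTS hTA
  have hmul : T.relIndex X * X.relIndex A = T.relIndex A :=
    Subgroup.relIndex_mul_relIndex T X A hTX inf_le_right
  obtain ⟨n, hn⟩ := hXp.index (T.subgroupOf X)
  have hn' : T.relIndex X = p ^ n := hn
  have hn0 : n = 0 := by
    by_contra hne
    apply hidx
    rw [← hmul, hn']
    exact Dvd.dvd.mul_right (dvd_pow_self p hne) _
  rw [hn0, pow_zero] at hn'
  exact Subgroup.relIndex_eq_one.1 hn'

theorem sylow_le_normalizer (A : Subgroup G) [hA : A.Normal] (T : Subgroup G) (hTA : T ≤ A)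
    (hidx : ¬ p ∣ T.relIndex A) (S : Sylow p G) (hTS : T ≤ (S : Subgroup G)) :
    (S : Subgroup G) ≤ Subgroup.normalizer (T : Set G) := by
  have hE := sylow_inf_eq A T hTA hidx S hTS
  intro s hs
  rw [Subgroup.mem_normalizer_iff]
  intro h
  rw [← hE, Subgroup.mem_inf, Subgroup.mem_inf]
  constructor
  · rintro ⟨h1, h2⟩
    exact ⟨Subgroup.mul_mem _ (Subgroup.mul_mem _ hs h1) (Subgroup.inv_mem _ hs),
      hA.conj_mem h h2 s⟩
  · rintro ⟨h1, h2⟩
    refine ⟨?_, ?_⟩
    · have := Subgroup.mul_mem _ (Subgroup.mul_mem _ (Subgroup.inv_mem _ hs) h1) hs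
      simpa [mul_assoc] using this
    · have := hA.conj_mem _ h2 s⁻¹
      simpa [mul_assoc] using this

end sylow

section core

variable {G : Type*} [Group G]

theorem map_conj_normal (A : Subgroup G) [hA : A.Normal] (g : G) : g ⋆ A = A := by
  ext y
  rw [mem_map_conj]
  constructor
  · intro h
    have := hA.conj_mem _ h g
    simpa [mul_assoc] using this
  · intro h
    have := hA.conj_mem _ h g⁻¹
    simpa [mul_assoc] using this

theorem map_conj_inf (g : G) (H K : Subgroup G) : g ⋆ (H ⊓ K) = g ⋆ H ⊓ g ⋆ K :=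
  Subgroup.map_inf H K _ (MulAut.conj g).injective

variable [Finite G] {p : ℕ} [Fact p.Prime]

theorem core (A : Subgroup G) [hAn : A.Normal] (T : Subgroup G) (hTA : T ≤ A)
    (hTp : IsPGroup p T) (hidx : ¬ p ∣ T.relIndex A)
    (hA' : ∀ B : Subgroup G, T ≤ B → B ≤ A → PronIn A B)
    (hN' : ∀ H₁ : Subgroup G,
      (∃ S : Sylow p G, (S : Subgroup G) ≤ H₁ ∧ T ≤ (S : Subgroup G)) →
      H₁ ≤ Subgroup.normalizer (T : Set G) → PronIn (Subgroup.normalizer (T : Set G)) H₁)
    (H : Subgroup G) (S : Sylow p G) (hSH : (S : Subgroup G) ≤ H)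
    (hTS : T ≤ (S : Subgroup G)) (a : G) (ha : a ∈ A) :
    ∃ x ∈ H ⊔ a ⋆ H, a ⋆ H = x ⋆ H := by
  set N := Subgroup.normalizer (T : Set G) with hN
  set B := H ⊓ A with hB
  have hTH : T ≤ H := hTS.trans hSH
  have hTB : T ≤ B := le_inf hTH hTA
  have hBH : B ≤ H := inf_le_left
  have hBA : B ≤ A := inf_le_right
  -- `H` normalizes `B`
  have hnormB : ∀ h ∈ H, h ⋆ B = B := by
    intro h hh
    rw [hB, map_conj_inf, map_conj_eq_self_of_mem H h hh, map_conj_normal]
  -- step 4: pronormality of `B` in `A`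
  obtain ⟨y, hy, hye⟩ := hA' B hTB hBA a ha
  have hyA : y ∈ A := (sup_le hBA (map_conj_le_of_mem a ha hBA)) hy
  have hyL : y ∈ H ⊔ a ⋆ H := (sup_le_sup hBH (map_conj_mono a hBH)) hy
  set a₁ := y⁻¹ * a with ha₁
  have ha₁B : a₁ ⋆ B = B := by rw [ha₁, map_conj_mul, hye, map_conj_inv_map_conj]
  -- step 5: Frattini
  have hidxB : ¬ p ∣ T.relIndex B := by
    intro hd
    apply hidx
    rw [← Subgroup.relIndex_mul_relIndex T B A hTB hBA]
    exact Dvd.dvd.mul_right hd _
  obtain ⟨b, hb, hbe⟩ := conj_in_of_relIndex B T (a₁ ⋆ T) hTp hTB hidxB (hTp.map _)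
    (by rw [← ha₁B]; exact map_conj_mono a₁ hTB) (card_map_conj T a₁)
  set n := b⁻¹ * a₁ with hn
  have hnN : n ∈ N := by
    rw [hN, mem_normalizer_iff_map_conj, hn, map_conj_mul, ← hbe, map_conj_inv_map_conj]
  have hnB : n ⋆ B = B := by
    rw [hn, map_conj_mul, ha₁B]
    exact map_conj_eq_self_of_mem B b⁻¹ (B.inv_mem hb)
  -- step 6
  set H₁ := H ⊓ N with hH₁
  have hSN : (S : Subgroup G) ≤ N := sylow_le_normalizer A T hTA hidx S hTS
  obtain ⟨z, hz, hze⟩ := hN' H₁ ⟨S, le_inf hSH hSN, hTS⟩ inf_le_right n hnN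
  -- step 7: `H = B ⊔ H₁`
  have hfrat : H = B ⊔ H₁ := by
    apply le_antisymm _ (sup_le hBH inf_le_left)
    intro h hh
    obtain ⟨b', hb', hbe'⟩ := conj_in_of_relIndex B T (h ⋆ T) hTp hTB hidxB (hTp.map _)
      (by rw [← hnormB h hh]; exact map_conj_mono h hTB) (card_map_conj T h)
    have h1 : b'⁻¹ * h ∈ H₁ := by
      refine ⟨H.mul_mem (H.inv_mem (hBH hb')) hh, ?_⟩
      show b'⁻¹ * h ∈ N
      rw [hN, mem_normalizer_iff_map_conj, map_conj_mul, ← hbe', map_conj_inv_map_conj]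
    have h2 : h = b' * (b'⁻¹ * h) := by group
    rw [h2]
    exact Subgroup.mul_mem_sup hb' h1
  -- `z` normalizes `B`
  have hzB : z ⋆ B = B := by
    have hHNB : H ≤ Subgroup.normalizer (B : Set G) := by
      intro h hh
      rw [mem_normalizer_iff_map_conj]
      exact hnormB h hh
    have hnNB : n ∈ Subgroup.normalizer (B : Set G) := by
      rw [mem_normalizer_iff_map_conj]
      exact hnB
    have hle : H₁ ⊔ n ⋆ H₁ ≤ Subgroup.normalizer (B : Set G) :=
      sup_le (inf_le_left.trans hHNB) (map_conj_le_of_mem n hnNB (inf_le_left.trans hHNB))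
    exact (mem_normalizer_iff_map_conj B z).1 (hle hz)
  have hnH : n ⋆ H = z ⋆ H := by
    conv_lhs => rw [hfrat]
    conv_rhs => rw [hfrat]
    rw [Subgroup.map_sup, Subgroup.map_sup, hnB, hzB, hze]
  -- step 8
  have hL1 : b ∈ H ⊔ a ⋆ H := (le_sup_left : H ≤ H ⊔ a ⋆ H) (hBH hb)
  have haeq : a = y * b * n := by rw [hn, ha₁]; group
  have hnHL : n ⋆ H ≤ H ⊔ a ⋆ H := by
    have : n = (b⁻¹ * y⁻¹) * a := by rw [hn, ha₁]; group
    rw [this, map_conj_mul]
    exact map_conj_le_of_mem _ (Subgroup.mul_mem _ (Subgroup.inv_mem _ hL1)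
      (Subgroup.inv_mem _ hyL)) le_sup_right
  have hzL : z ∈ H ⊔ a ⋆ H :=
    (sup_le ((inf_le_left : H₁ ≤ H).trans le_sup_left)
      ((map_conj_mono n (inf_le_left : H₁ ≤ H)).trans hnHL)) hz
  refine ⟨y * b * z, Subgroup.mul_mem _ (Subgroup.mul_mem _ hyL hL1) hzL, ?_⟩
  conv_lhs => rw [haeq]
  rw [map_conj_mul (g := y * b) (h := n), hnH, ← map_conj_mul]

end core

section transfer

variable {G : Type*} [Group G] [Finite G] {p : ℕ} [Fact p.Prime]

/-- the hypothesis on `A`, moved to `G` -/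
theorem transfer_A (A : Subgroup G)
    (hA : ∀ K : Subgroup ↥A, (∃ P : Sylow p ↥A, (P : Subgroup ↥A) ≤ K) → Cfsg.IsPronormal K)
    (T : Subgroup G) (hT : ∃ P : Sylow p ↥A, (P : Subgroup ↥A).map A.subtype = T) :
    ∀ B : Subgroup G, T ≤ B → B ≤ A → PronIn A B := by
  obtain ⟨P, hP⟩ := hT
  intro B hTB hBA
  rw [← pron_subgroupOf hBA]
  apply hA
  refine ⟨P, ?_⟩
  intro x hx
  rw [Subgroup.mem_subgroupOf]
  apply hTB
  rw [← hP]
  exact Subgroup.mem_map_of_mem A.subtype hx

/-- the hypothesis on `N_G(T)/T`, moved to `G` -/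
theorem transfer_N (T : Subgroup G)
    [hTn : (T.subgroupOf (Subgroup.normalizer (T : Set G))).Normal]
    (hNT : ∀ K : Subgroup (↥(Subgroup.normalizer (T : Set G)) ⧸
        T.subgroupOf (Subgroup.normalizer (T : Set G))),
      (∃ P : Sylow p (↥(Subgroup.normalizer (T : Set G)) ⧸
        T.subgroupOf (Subgroup.normalizer (T : Set G))), (P : Subgroup _) ≤ K) →
      Cfsg.IsPronormal K) :
    ∀ H₁ : Subgroup G,
      (∃ S : Sylow p G, (S : Subgroup G) ≤ H₁ ∧ T ≤ (S : Subgroup G)) →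
      H₁ ≤ Subgroup.normalizer (T : Set G) → PronIn (Subgroup.normalizer (T : Set G)) H₁ := by
  rintro H₁ ⟨S, hSH, hTS⟩ hHN
  rw [← pron_subgroupOf hHN]
  set N := Subgroup.normalizer (T : Set G) with hN
  set f := QuotientGroup.mk' (T.subgroupOf N) with hf
  have hfs : Function.Surjective f := QuotientGroup.mk'_surjective _
  apply pron_of_pron_map f
  · rw [hf, QuotientGroup.ker_mk']
    intro x hx
    rw [Subgroup.mem_subgroupOf] at hx ⊢
    exact hSH (hTS hx)
  · apply hNT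
    refine ⟨(S.subtype (hSH.trans hHN)).mapSurjective hfs, ?_⟩
    rw [Sylow.coe_mapSurjective, Sylow.coe_subtype]
    apply Subgroup.map_mono
    intro x hx
    rw [Subgroup.mem_subgroupOf] at hx ⊢
    exact hSH hx

/-- pronormality of Sylow overgroups passes to `N_G(T)/T` -/
theorem quot_pron_of_pron (A : Subgroup G) [hAn : A.Normal] (T : Subgroup G)
    (hT : ∃ P : Sylow p ↥A, (P : Subgroup ↥A).map A.subtype = T)
    [hTn : (T.subgroupOf (Subgroup.normalizer (T : Set G))).Normal]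
    (hG : ∀ K : Subgroup G, (∃ P : Sylow p G, (P : Subgroup G) ≤ K) → Cfsg.IsPronormal K)
    (Kb : Subgroup (↥(Subgroup.normalizer (T : Set G)) ⧸
        T.subgroupOf (Subgroup.normalizer (T : Set G))))
    (hKb : ∃ P : Sylow p (↥(Subgroup.normalizer (T : Set G)) ⧸
        T.subgroupOf (Subgroup.normalizer (T : Set G))), (P : Subgroup _) ≤ Kb) :
    Cfsg.IsPronormal Kb := by
  obtain ⟨hTA, hTp, hidx⟩ := sylowA_props A T hT
  set N := Subgroup.normalizer (T : Set G) with hN
  set f := QuotientGroup.mk' (T.subgroupOf N) with hf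
  have hfs : Function.Surjective f := QuotientGroup.mk'_surjective _
  obtain ⟨Pb, hPb⟩ := hKb
  set K₁ := Kb.comap f with hK₁
  set K := K₁.map N.subtype with hK
  have hKN : K ≤ N := Subgroup.map_subtype_le _
  have hK₁' : K.subgroupOf N = K₁ := by
    unfold Subgroup.subgroupOf
    rw [hK, Subgroup.comap_map_eq_self_of_injective N.subtype_injective]
  have hKb' : K₁.map f = Kb := Subgroup.map_comap_eq_self_of_surjective hfs Kb
  -- a Sylow subgroup of `G` inside `K`
  obtain ⟨S₀, hS₀⟩ := hTp.exists_le_sylow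
  have hS₀N : (S₀ : Subgroup G) ≤ N := sylow_le_normalizer A T hTA hidx S₀ hS₀
  obtain ⟨nb, hnb⟩ := MulAction.exists_smul_eq (↥N ⧸ T.subgroupOf N)
    ((S₀.subtype hS₀N).mapSurjective hfs) Pb
  obtain ⟨n, rfl⟩ := hfs nb
  have hS : (((n : G) • S₀ : Sylow p G) : Subgroup G) ≤ K := by
    intro y hy
    have hy' : y ∈ (n : G) ⋆ (S₀ : Subgroup G) := hy
    have hyN : y ∈ N := map_conj_le_of_mem (n : G) n.2 hS₀N hy'
    have h1 : (⟨y, hyN⟩ : ↥N) ∈ K₁ := by
      rw [hK₁, Subgroup.mem_comap]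
      apply hPb
      rw [← hnb]
      have h2 : ((f n • (S₀.subtype hS₀N).mapSurjective hfs : Sylow p _) : Subgroup _) =
          (f n) ⋆ (((S₀ : Subgroup G).subgroupOf N).map f) := rfl
      rw [h2, ← map_conj_comm]
      apply Subgroup.mem_map_of_mem
      rw [mem_map_conj, Subgroup.mem_subgroupOf]
      rw [mem_map_conj] at hy'
      exact hy'
    exact ⟨⟨y, hyN⟩, h1, rfl⟩
  have hKpron : Cfsg.IsPronormal K := hG K ⟨_, hS⟩
  have h3 : PronIn N K := fun m _ => hKpron m
  have h4 : Cfsg.IsPronormal K₁ := by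
    rw [← hK₁']
    exact (pron_subgroupOf hKN).2 h3
  rw [← hKb']
  exact pron_map_of_pron f hfs K₁ h4

end transfer

section main

variable {G : Type*} [Group G] [Finite G] {p : ℕ} [Fact p.Prime]

/-- reduction to normalizers of a pronormal subgroup -/
theorem pron_of_normalizer (S H : Subgroup G) (hSH : S ≤ H) (hS : Cfsg.IsPronormal S)
    (hN : ∀ g ∈ Subgroup.normalizer (S : Set G), ∃ w ∈ H ⊔ g ⋆ H, g ⋆ H = w ⋆ H) :
    Cfsg.IsPronormal H := by
  intro g
  obtain ⟨x, hx, hxS⟩ := hS g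
  set J := H ⊔ g ⋆ H with hJ
  have hxJ : x ∈ J := (sup_le_sup hSH (map_conj_mono g hSH)) hx
  have hn : x⁻¹ * g ∈ Subgroup.normalizer (S : Set G) := by
    rw [mem_normalizer_iff_map_conj, map_conj_mul, hxS, map_conj_inv_map_conj]
  obtain ⟨w, hw, hwH⟩ := hN _ hn
  refine ⟨x * w, ?_, ?_⟩
  · apply J.mul_mem hxJ
    have hle : H ⊔ (x⁻¹ * g) ⋆ H ≤ J := by
      apply sup_le le_sup_left
      rw [map_conj_mul]
      exact map_conj_le_of_mem x⁻¹ (J.inv_mem hxJ) le_sup_right
    exact hle hw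
  · have : g = x * (x⁻¹ * g) := by group
    conv_lhs => rw [this]
    rw [map_conj_mul, hwH, ← map_conj_mul]

/-- images of normalizing elements normalize the image -/
theorem map_mem_normalizer {G₂ : Type*} [Group G₂] (f : G →* G₂) (K : Subgroup G) {g : G}
    (hg : g ∈ Subgroup.normalizer (K : Set G)) :
    f g ∈ Subgroup.normalizer ((K.map f : Subgroup G₂) : Set G₂) := by
  rw [mem_normalizer_iff_map_conj] at hg ⊢
  rw [← map_conj_comm, hg]

/-- reduce to Sylow subgroups containing `T` -/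
theorem exists_conj_sylow_over (T : Subgroup G) (hTp : IsPGroup p T) (S : Sylow p G) :
    ∃ u : G, T ≤ u ⋆ (S : Subgroup G) := by
  obtain ⟨S₀, hS₀⟩ := hTp.exists_le_sylow
  obtain ⟨u, hu⟩ := MulAction.exists_smul_eq G S S₀
  refine ⟨u, ?_⟩
  have : u ⋆ (S : Subgroup G) = ((u • S : Sylow p G) : Subgroup G) := rfl
  rw [this, hu]
  exact hS₀

theorem main_4271 (A : Subgroup G) [A.Normal]
    (hA : ∀ K : Subgroup ↥A, (∃ P : Sylow p ↥A, (P : Subgroup ↥A) ≤ K) → Cfsg.IsPronormal K)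
    (hQ : ∀ P : Sylow p (G ⧸ A),
      Subgroup.normalizer ((P : Subgroup (G ⧸ A)) : Set (G ⧸ A)) = P)
    (T : Subgroup G) (hT : ∃ P : Sylow p ↥A, (P : Subgroup ↥A).map A.subtype = T)
    [(T.subgroupOf (Subgroup.normalizer (T : Set G))).Normal] :
    (∀ K : Subgroup G, (∃ P : Sylow p G, (P : Subgroup G) ≤ K) → Cfsg.IsPronormal K) ↔
      (∀ K : Subgroup (↥(Subgroup.normalizer (T : Set G)) ⧸
          T.subgroupOf (Subgroup.normalizer (T : Set G))),
        (∃ P : Sylow p (↥(Subgroup.normalizer (T : Set G)) ⧸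
          T.subgroupOf (Subgroup.normalizer (T : Set G))), (P : Subgroup _) ≤ K) →
        Cfsg.IsPronormal K) := by
  constructor
  · intro hG Kb hKb
    exact quot_pron_of_pron A T hT hG Kb hKb
  · intro hNT
    obtain ⟨hTA, hTp, hidx⟩ := sylowA_props A T hT
    have hA' := transfer_A A hA T hT
    have hN' := transfer_N T hNT
    -- the case `T ≤ S ≤ K`
    have hmain : ∀ (K : Subgroup G) (S : Sylow p G), (S : Subgroup G) ≤ K →
        T ≤ (S : Subgroup G) → Cfsg.IsPronormal K := by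
      intro K S hSK hTS
      apply pron_of_normalizer (S : Subgroup G) K hSK (sylow_pron S)
      intro g hg
      have hfs : Function.Surjective (QuotientGroup.mk' A) := QuotientGroup.mk'_surjective A
      have h1 := map_mem_normalizer (QuotientGroup.mk' A) (S : Subgroup G) hg
      have h2 := hQ (S.mapSurjective hfs)
      rw [Sylow.coe_mapSurjective] at h2
      rw [h2] at h1
      obtain ⟨s, hs, hse⟩ := h1
      have haA : s⁻¹ * g ∈ A := by
        rw [← QuotientGroup.eq]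
        exact hse
      obtain ⟨x, hx, hxe⟩ := core A T hTA hTp hidx hA' hN' K S hSK hTS (s⁻¹ * g) haA
      have hsK : s ∈ K := hSK hs
      refine ⟨s * x, ?_, ?_⟩
      · apply Subgroup.mul_mem _ (le_sup_left (a := K) hsK)
        have hle : K ⊔ (s⁻¹ * g) ⋆ K ≤ K ⊔ g ⋆ K := by
          apply sup_le le_sup_left
          rw [map_conj_mul]
          exact map_conj_le_of_mem s⁻¹ (Subgroup.inv_mem _ (le_sup_left (a := K) hsK))
            le_sup_right
        exact hle hx
      · have : g = s * (s⁻¹ * g) := by group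
        conv_lhs => rw [this]
        rw [map_conj_mul, hxe, ← map_conj_mul]
    rintro K ⟨S, hSK⟩
    obtain ⟨u, hu⟩ := exists_conj_sylow_over T hTp S
    rw [← pron_conj_iff u K]
    have h3 : u ⋆ (S : Subgroup G) = ((u • S : Sylow p G) : Subgroup G) := rfl
    apply hmain (u ⋆ K) (u • S)
    · rw [← h3]
      exact map_conj_mono u hSK
    · rw [← h3]
      exact hu

theorem main_4270 (A : Subgroup G) [A.Normal]
    (hA : ∀ K : Subgroup ↥A, (∃ P : Sylow p ↥A, (P : Subgroup ↥A) ≤ K) → Cfsg.IsPronormal K)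
    (hQ : ∀ K : Subgroup (G ⧸ A), (∃ P : Sylow p (G ⧸ A), (P : Subgroup (G ⧸ A)) ≤ K) →
      Cfsg.IsPronormal K)
    (T : Subgroup G) (hT : ∃ P : Sylow p ↥A, (P : Subgroup ↥A).map A.subtype = T)
    [(T.subgroupOf (Subgroup.normalizer (T : Set G))).Normal] :
    (∀ K : Subgroup G, (∃ P : Sylow p G, (P : Subgroup G) ≤ K) → Cfsg.IsPronormal K) ↔
      ((∀ K : Subgroup (↥(Subgroup.normalizer (T : Set G)) ⧸
          T.subgroupOf (Subgroup.normalizer (T : Set G))),
        (∃ P : Sylow p (↥(Subgroup.normalizer (T : Set G)) ⧸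
          T.subgroupOf (Subgroup.normalizer (T : Set G))), (P : Subgroup _) ≤ K) →
        Cfsg.IsPronormal K) ∧
        ∀ K : Subgroup G, (∃ P : Sylow p G, (P : Subgroup G) ≤ K) →
          (Subgroup.normalizer (K : Set G)).map (QuotientGroup.mk' A) =
            Subgroup.normalizer ((K.map (QuotientGroup.mk' A) : Subgroup (G ⧸ A)) :
              Set (G ⧸ A))) := by
  set f := QuotientGroup.mk' A with hf
  have hfs : Function.Surjective f := QuotientGroup.mk'_surjective A
  constructor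
  · intro hG
    refine ⟨fun Kb hKb => quot_pron_of_pron A T hT hG Kb hKb, ?_⟩
    intro K hK
    have hKp := hG K hK
    apply le_antisymm
    · rintro _ ⟨g, hg, rfl⟩
      exact map_mem_normalizer f K hg
    · intro gb hgb
      obtain ⟨g, rfl⟩ := hfs gb
      rw [mem_normalizer_iff_map_conj, ← map_conj_comm] at hgb
      obtain ⟨x, hx, hxe⟩ := hKp g
      have h1 : f x ∈ K.map f := by
        have := Subgroup.mem_map_of_mem f hx
        rwa [Subgroup.map_sup, hgb, sup_idem] at this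
      obtain ⟨k, hk, hke⟩ := h1
      refine ⟨k * x⁻¹ * g, ?_, ?_⟩
      · rw [SetLike.mem_coe, mem_normalizer_iff_map_conj, mul_assoc, map_conj_mul, map_conj_mul,
          hxe, map_conj_inv_map_conj]
        exact map_conj_eq_self_of_mem K k hk
      · rw [map_mul, map_mul, map_inv, hke, mul_inv_cancel, one_mul]
  · rintro ⟨hNT, hnorm⟩
    obtain ⟨hTA, hTp, hidx⟩ := sylowA_props A T hT
    have hA' := transfer_A A hA T hT
    have hN' := transfer_N T hNT
    have hmain : ∀ (K : Subgroup G) (S : Sylow p G), (S : Subgroup G) ≤ K →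
        T ≤ (S : Subgroup G) → Cfsg.IsPronormal K := by
      intro K S hSK hTS g
      have hKb : Cfsg.IsPronormal (K.map f) := by
        apply hQ
        refine ⟨S.mapSurjective hfs, ?_⟩
        rw [Sylow.coe_mapSurjective]
        exact Subgroup.map_mono hSK
      obtain ⟨xb, hxb, hxbe⟩ := hKb (f g)
      rw [← map_conj_comm, ← Subgroup.map_sup] at hxb
      obtain ⟨x, hx, rfl⟩ := hxb
      have h1 : f (x⁻¹ * g) ∈ Subgroup.normalizer ((K.map f : Subgroup (G ⧸ A)) : Set (G ⧸ A)) := by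
        rw [mem_normalizer_iff_map_conj, map_mul, map_inv, map_conj_mul, hxbe,
          map_conj_inv_map_conj]
      rw [← hnorm K ⟨S, hSK⟩] at h1
      obtain ⟨m, hm, hme⟩ := h1
      have hm' : m ⋆ K = K := (mem_normalizer_iff_map_conj K m).1 hm
      have haA : x⁻¹ * g * m⁻¹ ∈ A := by
        rw [← QuotientGroup.eq_one_iff]
        show f (x⁻¹ * g * m⁻¹) = 1
        rw [map_mul, map_inv f m, hme, mul_inv_cancel]
      obtain ⟨w, hw, hwe⟩ := core A T hTA hTp hidx hA' hN' K S hSK hTS _ haA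
      have hgeq : g = x * (x⁻¹ * g * m⁻¹) * m := by group
      have h2 : g ⋆ K = x ⋆ ((x⁻¹ * g * m⁻¹) ⋆ K) := by
        conv_lhs => rw [hgeq]
        rw [map_conj_mul, hm', map_conj_mul]
      have hxL : x ∈ K ⊔ g ⋆ K := hx
      have h3 : (x⁻¹ * g * m⁻¹) ⋆ K ≤ K ⊔ g ⋆ K := by
        have : (x⁻¹ * g * m⁻¹) ⋆ K = x⁻¹ ⋆ (g ⋆ K) := by
          rw [h2, map_conj_inv_map_conj]
        rw [this]
        exact map_conj_le_of_mem x⁻¹ (Subgroup.inv_mem _ hxL) le_sup_right
      refine ⟨x * w, Subgroup.mul_mem _ hxL ((sup_le le_sup_left h3) hw), ?_⟩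
      rw [h2, hwe, ← map_conj_mul]
    rintro K ⟨S, hSK⟩
    obtain ⟨u, hu⟩ := exists_conj_sylow_over T hTp S
    rw [← pron_conj_iff u K]
    have h3 : u ⋆ (S : Subgroup G) = ((u • S : Sylow p G) : Subgroup G) := rfl
    apply hmain (u ⋆ K) (u • S)
    · rw [← h3]
      exact map_conj_mono u hSK
    · rw [← h3]
      exact hu

end main

end Cfsg.Agent.Helper21.Pron
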