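import Mathlib

set_option autoImplicit false
set_option linter.style.haveILetI false

/-!
# Abelian groups of odd order with a quaternion action have square order

If `I`, `J` are endomorphisms of a finite abelian group `N` of odd order with
`I² = J² = -1` and `IJ = -JI`, then `|N|` is a perfect square.
-/

namespace Cfsg.Agent.Helper21

universe u

section Layer

variable {N : Type*} [AddCommGroup N] (I J : N →+ N)

/-- The layer lemma: an `I`, `J`-invariant subgroup of exponent `r` (odd prime) has square order. -/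
theorem isSquare_card_layer (hI : ∀ x, I (I x) = -x) (hJ : ∀ x, J (J x) = -x)
    (hIJ : ∀ x, I (J x) = -J (I x)) (V : AddSubgroup N) [Finite V]
    (hVI : ∀ x ∈ V, I x ∈ V) (hVJ : ∀ x ∈ V, J x ∈ V) (r : ℕ) [Fact r.Prime] (hr2 : r ≠ 2)
    (hexp : ∀ x ∈ V, r • x = 0) : IsSquare (Nat.card V) := by
  have hr : r.Prime := Fact.out
  -- integers `a`, `b` with `a² + b² + 1 ≡ 0 (mod r)`
  obtain ⟨a', b', hab'⟩ := ZMod.sq_add_sq r (-1)
  obtain ⟨a, rfl⟩ := ZMod.intCast_surjective a'
  obtain ⟨b, rfl⟩ := ZMod.intCast_surjective b'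
  have hdvd : (r : ℤ) ∣ a ^ 2 + b ^ 2 + 1 := by
    rw [← ZMod.intCast_zmod_eq_zero_iff_dvd]
    push_cast
    rw [hab']
    ring
  obtain ⟨c, hc⟩ := hdvd
  have hzs : ∀ x ∈ V, (a ^ 2 + b ^ 2 + 1 : ℤ) • x = 0 := by
    intro x hx
    rw [hc, mul_smul, smul_comm, natCast_zsmul, hexp x hx, smul_zero]
  -- `r = 2 m - 1`
  obtain ⟨m, hm⟩ : ∃ m : ℕ, r + 1 = 2 * m := by
    rcases hr.eq_two_or_odd with h | h
    · exact absurd h hr2
    · exact ⟨(r + 1) / 2, by omega⟩
  have htwo : ∀ x ∈ V, 2 • x = 0 → x = 0 := by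
    intro x hx h2
    have h1 : (r + 1) • x = x := by rw [add_smul, hexp x hx, one_smul, zero_add]
    rw [hm, mul_comm, mul_smul, h2, smul_zero] at h1
    exact h1.symm
  have hJI : ∀ x, J (I x) = -I (J x) := fun x => by rw [hIJ, neg_neg]
  let ω : N → N := fun x => a • I x + b • J x
  have hω_def : ∀ x, ω x = a • I x + b • J x := fun x => rfl
  have hωV : ∀ x ∈ V, ω x ∈ V := fun x hx =>
    V.add_mem (V.zsmul_mem (hVI x hx) a) (V.zsmul_mem (hVJ x hx) b)
  have hω_add : ∀ x y, ω (x + y) = ω x + ω y := by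
    intro x y
    simp only [hω_def, map_add, smul_add]
    abel
  have hω_neg : ∀ x, ω (-x) = -ω x := by
    intro x
    simp only [hω_def, map_neg, smul_neg]
    abel
  have hω_nsmul : ∀ (k : ℕ) x, ω (k • x) = k • ω x := by
    intro k x
    simp only [hω_def, map_nsmul, smul_add]
    rw [smul_comm a k, smul_comm b k]
  have hωω : ∀ x ∈ V, ω (ω x) = x := by
    intro x hx
    have h1 : ω (ω x) = x - (a ^ 2 + b ^ 2 + 1 : ℤ) • x := by
      simp only [hω_def, map_add, map_zsmul, map_neg, hI, hJ, hJI]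
      module
    rw [h1, hzs x hx, sub_zero]
  let K : N → N := fun x => I (J x)
  have hK_def : ∀ x, K x = I (J x) := fun x => rfl
  have hKV : ∀ x ∈ V, K x ∈ V := fun x hx => hVI _ (hVJ x hx)
  have hK_add : ∀ x y, K (x + y) = K x + K y := by
    intro x y
    simp only [hK_def, map_add]
  have hK_neg : ∀ x, K (-x) = -K x := by
    intro x
    simp only [hK_def, map_neg]
  have hKK : ∀ x, K (K x) = -x := by
    intro x
    simp only [hK_def, hJI, hJ, hI, map_neg, neg_neg]
  have hωK : ∀ x, ω (K x) = -K (ω x) := by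
    intro x
    simp only [hω_def, hK_def, map_add, map_zsmul, map_neg, hI, hJ, hJI, neg_neg]
    module
  -- the two eigenspaces
  let Vp : AddSubgroup N :=
    { carrier := {x | x ∈ V ∧ ω x = x}
      zero_mem' := ⟨V.zero_mem, by simp [hω_def]⟩
      add_mem' := fun {x y} hx hy => ⟨V.add_mem hx.1 hy.1, by rw [hω_add, hx.2, hy.2]⟩
      neg_mem' := fun {x} hx => ⟨V.neg_mem hx.1, by rw [hω_neg, hx.2]⟩ }
  have hVp : ∀ x, x ∈ Vp ↔ x ∈ V ∧ ω x = x := fun x => Iff.rfl
  have hinj : Function.Injective (fun z : Vp × Vp =>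
      (⟨(z.1 : N) + K (z.2 : N), V.add_mem z.1.2.1 (hKV _ z.2.2.1)⟩ : V)) := by
    rintro ⟨⟨x, hx⟩, ⟨y, hy⟩⟩ ⟨⟨x', hx'⟩, ⟨y', hy'⟩⟩ h
    have h0 : x + K y = x' + K y' := congrArg Subtype.val h
    have hd : x - x' = K (y' - y) := by
      rw [sub_eq_add_neg y', hK_add, hK_neg]
      have : x - x' = (x + K y) - x' - K y := by abel
      rw [this, h0]
      abel
    have hdV : x - x' ∈ V := V.sub_mem hx.1 hx'.1
    have h1 : ω (x - x') = x - x' := by
      rw [sub_eq_add_neg, hω_add, hω_neg, hx.2, hx'.2]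
    have h2 : ω (x - x') = -(x - x') := by
      rw [hd, hωK, sub_eq_add_neg, hω_add, hω_neg, hy'.2, hy.2]
    have h3 : 2 • (x - x') = 0 := by
      have : x - x' = -(x - x') := h1.symm.trans h2
      rw [two_smul]
      nth_rewrite 1 [this]
      abel
    have h4 := htwo _ hdV h3
    have hxx : x = x' := sub_eq_zero.mp h4
    have h5 : K (y' - y) = 0 := by rw [← hd, h4]
    have h6 : y' - y = 0 := by
      have := hKK (y' - y)
      rw [h5] at this
      have hK0 : K 0 = 0 := by simp [hK_def]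
      rw [hK0] at this
      exact neg_eq_zero.mp this.symm
    have hyy : y = y' := (sub_eq_zero.mp h6).symm
    subst hxx
    subst hyy
    rfl
  have hsurj : Function.Surjective (fun z : Vp × Vp =>
      (⟨(z.1 : N) + K (z.2 : N), V.add_mem z.1.2.1 (hKV _ z.2.2.1)⟩ : V)) := by
    rintro ⟨v, hv⟩
    have hωv : ω v ∈ V := hωV v hv
    set vp : N := m • (v + ω v) with hvp
    set vm : N := m • (v - ω v) with hvm
    have hvpV : vp ∈ V := V.nsmul_mem (V.add_mem hv hωv) m
    have hvmV : vm ∈ V := V.nsmul_mem (V.sub_mem hv hωv) m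
    have hsum : vp + vm = v := by
      have h1 : vp + vm = (2 * m) • v := by
        rw [hvp, hvm, ← smul_add, mul_comm, mul_smul]
        congr 1
        abel
      rw [h1, ← hm, add_smul, hexp v hv, one_smul, zero_add]
    have hωvp : ω vp = vp := by
      rw [hvp, hω_nsmul, hω_add, hωω v hv, add_comm]
    have hωvm : ω vm = -vm := by
      rw [hvm, hω_nsmul, sub_eq_add_neg, hω_add, hω_neg, hωω v hv, ← smul_neg]
      congr 1
      abel
    have hy : -K vm ∈ Vp := by
      refine ⟨V.neg_mem (hKV vm hvmV), ?_⟩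
      rw [hω_neg, hωK, hωvm, hK_neg, neg_neg]
    refine ⟨(⟨vp, hvpV, hωvp⟩, ⟨-K vm, hy⟩), ?_⟩
    apply Subtype.ext
    show vp + K (-K vm) = v
    rw [hK_neg, hKK, neg_neg, hsum]
  have hcard : Nat.card V = Nat.card Vp * Nat.card Vp := by
    rw [← Nat.card_prod]
    exact (Nat.card_congr (Equiv.ofBijective _ ⟨hinj, hsurj⟩)).symm
  exact ⟨Nat.card Vp, hcard⟩

end Layer

theorem isSquare_card_of_quaternion_action_aux :
    ∀ (n : ℕ) (N : Type u) [AddCommGroup N] [Finite N] (I J : N →+ N),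
      (∀ x, I (I x) = -x) → (∀ x, J (J x) = -x) → (∀ x, I (J x) = -J (I x)) →
      Odd (Nat.card N) → Nat.card N = n → IsSquare n := by
  intro n
  induction n using Nat.strong_induction_on with
  | _ n ih =>
  intro N _ _ I J hI hJ hIJ hodd hn
  by_cases h1 : n = 1
  · rw [h1]; exact ⟨1, rfl⟩
  have hn1 : Nat.card N ≠ 1 := hn ▸ h1
  set r := (Nat.card N).minFac with hrdef
  have hr : r.Prime := Nat.minFac_prime hn1
  haveI : Fact r.Prime := ⟨hr⟩
  have hrd : r ∣ Nat.card N := Nat.minFac_dvd _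
  have hr2 : r ≠ 2 := by
    intro h2
    rw [h2] at hrd
    exact (Nat.not_even_iff_odd.mpr hodd) (even_iff_two_dvd.mpr hrd)
  set V : AddSubgroup N := (nsmulAddMonoidHom r : N →+ N).ker with hV
  have hVmem : ∀ x, x ∈ V ↔ r • x = 0 := fun x => by
    rw [hV, AddMonoidHom.mem_ker]; rfl
  have hVI : ∀ x ∈ V, I x ∈ V := fun x hx => by
    rw [hVmem] at hx ⊢
    rw [← map_nsmul, hx, map_zero]
  have hVJ : ∀ x ∈ V, J x ∈ V := fun x hx => by
    rw [hVmem] at hx ⊢
    rw [← map_nsmul, hx, map_zero]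
  have hsqV : IsSquare (Nat.card V) :=
    isSquare_card_layer I J hI hJ hIJ V hVI hVJ r hr2 (fun x hx => (hVmem x).mp hx)
  obtain ⟨x₀, hx₀⟩ := exists_prime_addOrderOf_dvd_card' r hrd
  have hx₀V : x₀ ∈ V := by
    rw [hVmem, ← hx₀]
    exact addOrderOf_nsmul_eq_zero x₀
  have hx₀0 : x₀ ≠ 0 := by
    intro h0
    rw [h0, addOrderOf_zero] at hx₀
    exact hr.one_lt.ne hx₀
  have hVcard : 1 < Nat.card V := by
    rw [Finite.one_lt_card_iff_nontrivial]
    exact ⟨⟨⟨x₀, hx₀V⟩, 0, fun h => hx₀0 (congrArg Subtype.val h)⟩⟩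
  have hmul : Nat.card N = Nat.card (N ⧸ V) * Nat.card V :=
    AddSubgroup.card_eq_card_quotient_mul_card_addSubgroup V
  have hQpos : 0 < Nat.card (N ⧸ V) := Nat.card_pos
  have hlt : Nat.card (N ⧸ V) < n := by
    rw [← hn, hmul]
    nlinarith
  have hQodd : Odd (Nat.card (N ⧸ V)) := by
    rw [hmul] at hodd
    exact (Nat.odd_mul.mp hodd).1
  let I' : N ⧸ V →+ N ⧸ V := QuotientAddGroup.map V V I (fun x hx => hVI x hx)
  let J' : N ⧸ V →+ N ⧸ V := QuotientAddGroup.map V V J (fun x hx => hVJ x hx)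
  have hI' : ∀ q, I' (I' q) = -q := by
    intro q
    induction q using QuotientAddGroup.induction_on with
    | H x =>
      show ((I (I x) : N) : N ⧸ V) = -(x : N ⧸ V)
      rw [hI]
      rfl
  have hJ' : ∀ q, J' (J' q) = -q := by
    intro q
    induction q using QuotientAddGroup.induction_on with
    | H x =>
      show ((J (J x) : N) : N ⧸ V) = -(x : N ⧸ V)
      rw [hJ]
      rfl
  have hIJ' : ∀ q, I' (J' q) = -J' (I' q) := by
    intro q
    induction q using QuotientAddGroup.induction_on with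
    | H x =>
      show ((I (J x) : N) : N ⧸ V) = -((J (I x) : N) : N ⧸ V)
      rw [hIJ]
      rfl
  have hsqQ : IsSquare (Nat.card (N ⧸ V)) := ih _ hlt (N ⧸ V) I' J' hI' hJ' hIJ' hQodd rfl
  rw [← hn, hmul]
  exact hsqQ.mul hsqV

/-- A finite abelian group of odd order admitting endomorphisms `I`, `J` with `I² = J² = -1` and
`IJ = -JI` has square order. -/
theorem isSquare_card_of_quaternion_action {N : Type u} [AddCommGroup N] [Finite N] (I J : N →+ N)
    (hI : ∀ x, I (I x) = -x) (hJ : ∀ x, J (J x) = -x) (hIJ : ∀ x, I (J x) = -J (I x))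
    (hodd : Odd (Nat.card N)) : IsSquare (Nat.card N) :=
  isSquare_card_of_quaternion_action_aux _ N I J hI hJ hIJ hodd rfl

end Cfsg.Agent.Helper21
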