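import Mathlib
import Cfsg.Prelude.Def_FusionSystem
import Cfsg.Agent.Lib.Helper25.FusionRealized

/-!
# The fusion system pulled back along an embedding, and a "no cyclic chain" criterion

For an injective `ι : S →* G` the system `realSys ι` over `S` of the maps which, read through `ι`, are
conjugations by elements of `G`.  It is realized by `ι`, hence saturated when `ι(S)` is a Sylow subgroup of
the finite group `G`.  `no_chain`: if no subgroup `U₀ ⊔ ⟨x⟩` of `ι(S)` with `U₀ ≤ Z`, not inside `Z`, is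
closed under `G`-fusion in `ι(S)`, then `realSys ι` has no chain of strongly closed subgroups with cyclic
steps.
-/

set_option autoImplicit false

namespace Cfsg.Agent.Helper21.RealSys

open Cfsg Cfsg.FusionSystem Cfsg.Agent.Helper25

variable {Ω : Type*} [Group Ω] {S : Subgroup Ω} {G : Type*} [Group G]

/-- The fusion system over `S` of the maps that, read through `ι`, are conjugations in `G`. -/
def realSys (ι : S →* G) (hι : Function.Injective ι) : FusionSystem S where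
  Hom P := {φ | P ≤ S ∧ (∀ x : P, φ x ∈ S) ∧
    ∃ n : G, ∀ (x : P) (h1 : (x : Ω) ∈ S) (h2 : φ x ∈ S), ι ⟨φ x, h2⟩ = n * ι ⟨x, h1⟩ * n⁻¹}
  le_of_mem h := ⟨h.1, h.2.1⟩
  injective_of_mem := by
    rintro P φ ⟨hP, hφ, n, hn⟩ a b hab
    have ha := hn a (hP a.2) (hφ a)
    have hb := hn b (hP b.2) (hφ b)
    have e : (⟨φ a, hφ a⟩ : S) = ⟨φ b, hφ b⟩ := Subtype.ext hab
    rw [e, hb] at ha
    have h3 : ι ⟨a, hP a.2⟩ = ι ⟨b, hP b.2⟩ :=
      (mul_left_cancel (mul_right_cancel ha)).symm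
    have h4 := hι h3
    exact Subtype.ext (Subtype.mk.inj h4)
  conj_mem := by
    intro P g hP hg
    refine ⟨hP, fun x => ?_, ι ⟨g, hg⟩, fun x h1 h2 => ?_⟩
    · show g * (x : Ω) * g⁻¹ ∈ S
      exact Subgroup.mul_mem _ (Subgroup.mul_mem _ hg (hP x.2)) (Subgroup.inv_mem _ hg)
    · rw [← map_inv, ← map_mul, ← map_mul]
      congr 1
  comp_mem := by
    rintro P Q φ ψ ⟨hP, hφ, n, hnx⟩ ⟨hQ, hψ, m, hmx⟩ h
    refine ⟨hP, fun x => hψ _, m * n, fun x h1 h2 => ?_⟩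
    have hφS : φ x ∈ S := hφ x
    have e1 := hmx (φ.codRestrict Q h x) hφS h2
    have e2 := hnx x h1 hφS
    have e3 : ι ⟨ψ (φ.codRestrict Q h x), h2⟩ = m * ι ⟨φ x, hφS⟩ * m⁻¹ := e1
    show ι ⟨ψ (φ.codRestrict Q h x), h2⟩ = _
    rw [e3, e2]
    group
  inv_mem := by
    rintro P φ ⟨hP, hφ, n, hnx⟩
    have hinj : Function.Injective φ := by
      intro a b hab
      have ha := hnx a (hP a.2) (hφ a)
      have hb := hnx b (hP b.2) (hφ b)
      have e : (⟨φ a, hφ a⟩ : S) = ⟨φ b, hφ b⟩ := Subtype.ext hab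
      rw [e, hb] at ha
      have h3 : ι ⟨a, hP a.2⟩ = ι ⟨b, hP b.2⟩ :=
        (mul_left_cancel (mul_right_cancel ha)).symm
      exact Subtype.ext (Subtype.mk.inj (hι h3))
    obtain ⟨ψ, hψdef⟩ : ∃ ψ : φ.range →* Ω,
        ψ = P.subtype.comp (MonoidHom.ofInjective hinj).symm.toMonoidHom := ⟨_, rfl⟩
    have hψφ : ∀ x : P, ψ ⟨φ x, ⟨x, rfl⟩⟩ = (x : Ω) := by
      intro x
      rw [hψdef]
      show (((MonoidHom.ofInjective hinj).symm ⟨φ x, ⟨x, rfl⟩⟩ : P) : Ω) = x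
      congr 1
      rw [MulEquiv.symm_apply_eq]
      rfl
    refine ⟨ψ, ⟨?_, ?_, n⁻¹, ?_⟩, hψφ⟩
    · rintro _ ⟨x, rfl⟩
      exact hφ x
    · rintro ⟨_, x, rfl⟩
      rw [hψφ]
      exact hP x.2
    · rintro ⟨_, x, rfl⟩ h1 h2
      have e := hnx x (hP x.2) h1
      have e' : (⟨ψ ⟨φ x, ⟨x, rfl⟩⟩, h2⟩ : S) = ⟨x, hP x.2⟩ := Subtype.ext (hψφ x)
      rw [e', e]
      group

theorem mem_realSys {ι : S →* G} {hι : Function.Injective ι} {P : Subgroup Ω} {φ : P →* Ω} :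
    φ ∈ (realSys ι hι).Hom P ↔ P ≤ S ∧ (∀ x : P, φ x ∈ S) ∧
    ∃ n : G, ∀ (x : P) (h1 : (x : Ω) ∈ S) (h2 : φ x ∈ S), ι ⟨φ x, h2⟩ = n * ι ⟨x, h1⟩ * n⁻¹ :=
  Iff.rfl

theorem realSys_isRealizedBy (ι : S →* G) (hι : Function.Injective ι) :
    (realSys ι hι).IsRealizedBy ι := by
  refine ⟨hι, fun P hP φ hφ => ?_⟩
  rw [mem_realSys]
  constructor
  · rintro ⟨-, -, n, hn⟩
    exact ⟨n, fun x => hn x (hP x.2) (hφ x)⟩
  · rintro ⟨g, hg⟩
    exact ⟨hP, hφ, g, fun x h1 h2 => hg x⟩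

theorem realSys_isSaturated [Finite G] {p : ℕ} [Fact p.Prime] (ι : S →* G)
    (hι : Function.Injective ι) (T : Sylow p G) (hT : (T : Subgroup G) = ι.range) :
    (realSys ι hι).IsSaturated p :=
  isSaturated_of_realized _ ι (realSys_isRealizedBy ι hι) T hT

theorem subgroupOf_zpowers {x : Ω} (hx : x ∈ S) :
    (Subgroup.zpowers x).subgroupOf S = Subgroup.zpowers (⟨x, hx⟩ : S) := by
  ext y
  rw [Subgroup.mem_subgroupOf, Subgroup.mem_zpowers_iff, Subgroup.mem_zpowers_iff]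
  constructor
  · rintro ⟨k, hk⟩
    exact ⟨k, Subtype.ext (by rw [Subgroup.coe_zpow]; exact hk)⟩
  · rintro ⟨k, hk⟩
    refine ⟨k, ?_⟩
    have := congrArg Subtype.val hk
    rwa [Subgroup.coe_zpow] at this

/-- **No chain criterion.** -/
theorem no_chain [Finite G] {p : ℕ} [Fact p.Prime] (ι : S →* G)
    (hι : Function.Injective ι) (T : Sylow p G) (hT : (T : Subgroup G) = ι.range)
    (Z : Subgroup G) (hZ : ¬ ι.range ≤ Z)
    (hcore : ∀ U₀ : Subgroup G, U₀ ≤ Z → U₀ ≤ ι.range → ∀ x ∈ ι.range,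
      ¬ (U₀ ⊔ Subgroup.zpowers x ≤ Z) →
      (∀ u ∈ U₀ ⊔ Subgroup.zpowers x, ∀ g : G, g * u * g⁻¹ ∈ ι.range →
        g * u * g⁻¹ ∈ U₀ ⊔ Subgroup.zpowers x) → False) :
    ∃ F : FusionSystem S, F.IsSaturated p ∧
      ¬ ∃ (m : ℕ) (c : Fin (m + 1) → Subgroup Ω), c 0 = ⊥ ∧ c (Fin.last m) = S ∧
        (∀ i : Fin (m + 1), F.StronglyClosed (c i)) ∧
        ∀ i : Fin m, c i.castSucc ≤ c i.succ ∧
          ∃ x ∈ S, c i.succ = c i.castSucc ⊔ Subgroup.zpowers x := by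
  refine ⟨realSys ι hι, realSys_isSaturated ι hι T hT, ?_⟩
  rintro ⟨m, c, h0, hm, hsc, hstep⟩
  obtain ⟨U, hU⟩ : ∃ U : Fin (m + 1) → Subgroup G, U = fun i => ((c i).subgroupOf S).map ι :=
    ⟨_, rfl⟩
  have hUr : ∀ i, U i ≤ ι.range := by
    intro i
    rw [hU]
    rintro _ ⟨y, -, rfl⟩
    exact ⟨y, rfl⟩
  have key : ∀ i : Fin (m + 1), U i ≤ Z := by
    intro i
    induction i using Fin.induction with
    | zero =>
      rw [hU]
      show ((c 0).subgroupOf S).map ι ≤ Z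
      rw [h0, Subgroup.bot_subgroupOf, Subgroup.map_bot]
      exact bot_le
    | succ i ih =>
      by_contra hnot
      obtain ⟨hle, x, hxS, hx⟩ := hstep i
      have hcS : c i.castSucc ≤ S := (hsc i.castSucc).1
      have hUs : U i.succ = U i.castSucc ⊔ Subgroup.zpowers (ι ⟨x, hxS⟩) := by
        rw [hU]
        show ((c i.succ).subgroupOf S).map ι =
          ((c i.castSucc).subgroupOf S).map ι ⊔ Subgroup.zpowers (ι ⟨x, hxS⟩)
        rw [hx, Subgroup.subgroupOf_sup hcS (by rw [Subgroup.zpowers_le]; exact hxS),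
          Subgroup.map_sup, subgroupOf_zpowers hxS, MonoidHom.map_zpowers]
      apply hcore (U i.castSucc) ih (hUr _) (ι ⟨x, hxS⟩) ⟨_, rfl⟩
      · rw [← hUs]; exact hnot
      · rw [← hUs]
        intro u hu g hg
        rw [hU] at hu
        obtain ⟨s, hs, rfl⟩ := hu
        have hsc' : (s : Ω) ∈ c i.succ := hs
        obtain ⟨R, hR⟩ : ∃ R : Subgroup Ω, R = Subgroup.zpowers (s : Ω) := ⟨_, rfl⟩
        have hRc : R ≤ c i.succ := by rw [hR, Subgroup.zpowers_le]; exact hsc'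
        have hRS : R ≤ S := hRc.trans (hsc i.succ).1
        obtain ⟨ψ, hψ⟩ : ∃ ψ : R →* G,
            ψ = (MulAut.conj g).toMonoidHom.comp (ι.comp (Subgroup.inclusion hRS)) := ⟨_, rfl⟩
        have hψa : ∀ r : R, ψ r = g * ι ⟨r, hRS r.2⟩ * g⁻¹ := by
          intro r; rw [hψ]; rfl
        have hψr : ∀ r : R, ψ r ∈ ι.range := by
          intro r
          have hr : (r : Ω) ∈ Subgroup.zpowers (s : Ω) := hR ▸ r.2
          obtain ⟨k, hk⟩ := Subgroup.mem_zpowers_iff.mp hr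
          have h1 : (⟨r, hRS r.2⟩ : S) = s ^ k := Subtype.ext (by rw [Subgroup.coe_zpow]; exact hk.symm)
          rw [hψa, h1, map_zpow]
          have : g * ι s ^ k * g⁻¹ = (g * ι s * g⁻¹) ^ k := by
            rw [← MulAut.conj_apply, map_zpow, MulAut.conj_apply]
          rw [this]
          exact Subgroup.zpow_mem _ hg k
        obtain ⟨φ, hφ⟩ : ∃ φ : R →* Ω, φ = (realInv ι hι).comp (ψ.codRestrict ι.range hψr) :=
          ⟨_, rfl⟩
        have hφS : ∀ r : R, φ r ∈ S := by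
          intro r; rw [hφ]; exact realInv_mem ι hι _
        have hφι : ∀ (r : R) (h2 : φ r ∈ S), ι ⟨φ r, h2⟩ = ψ r := by
          intro r h2
          have h3 := map_realInv ι hι (ψ.codRestrict ι.range hψr r)
          have h4 : (⟨φ r, h2⟩ : S) = ⟨realInv ι hι (ψ.codRestrict ι.range hψr r),
              realInv_mem ι hι _⟩ := Subtype.ext (show φ r = _ by rw [hφ]; rfl)
          rw [h4, h3]
          rfl
        have hφmem : φ ∈ (realSys ι hι).Hom R := by
          rw [mem_realSys]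
          refine ⟨hRS, hφS, g, fun r h1 h2 => ?_⟩
          rw [hφι r h2, hψa]
        have hsR : (s : Ω) ∈ R := hR ▸ Subgroup.mem_zpowers _
        have hcl := (hsc i.succ).2 R hRc φ hφmem ⟨s, hsR⟩
        have hfin : g * ι s * g⁻¹ ∈ ((c i.succ).subgroupOf S).map ι := by
          refine ⟨⟨φ ⟨s, hsR⟩, hφS _⟩, hcl, ?_⟩
          rw [hφι, hψa]
        rw [hU]
        exact hfin
  have hlast : U (Fin.last m) = ι.range := by
    rw [hU]
    show ((c (Fin.last m)).subgroupOf S).map ι = ι.range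
    rw [hm, Subgroup.subgroupOf_self, MonoidHom.range_eq_map]
  exact hZ (hlast ▸ key (Fin.last m))

end Cfsg.Agent.Helper21.RealSys
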