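import Mathlib
import Cfsg.Prelude.Def_PLocal
import Cfsg.Agent.Lib.Helper21.PGroupFrattini

set_option autoImplicit false

namespace Cfsg.Agent.Helper21

open Subgroup Cfsg
open scoped commutatorElement

universe u

section basic

variable {G : Type*} [Group G]

theorem powerClosure_mono (p n : ℕ) {H K : Subgroup G} (h : H ≤ K) :
    powerClosure p n H ≤ powerClosure p n K := by
  unfold powerClosure
  apply Subgroup.closure_mono
  rintro y ⟨x, hx, rfl⟩
  exact ⟨x, h hx, rfl⟩

theorem powerClosure_le_self (p n : ℕ) (H : Subgroup G) : powerClosure p n H ≤ H := by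
  unfold powerClosure
  rw [closure_le]
  rintro y ⟨x, hx, rfl⟩
  exact H.pow_mem hx _

theorem powerClosure_eq_bot (p n : ℕ) (H : Subgroup G) (h : ∀ x ∈ H, x ^ p ^ n = 1) :
    powerClosure p n H = ⊥ := by
  unfold powerClosure
  rw [eq_bot_iff, closure_le]
  rintro y ⟨x, hx, rfl⟩
  rw [h x hx]
  exact (⊥ : Subgroup G).one_mem

theorem map_powerClosure {G' : Type*} [Group G'] (f : G →* G') (p n : ℕ) (H : Subgroup G) :
    (powerClosure p n H).map f = powerClosure p n (H.map f) := by
  unfold powerClosure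
  rw [MonoidHom.map_closure]
  congr 1
  ext y
  constructor
  · rintro ⟨_, ⟨x, hx, rfl⟩, rfl⟩
    exact ⟨f x, mem_map_of_mem f hx, by rw [map_pow]⟩
  · rintro ⟨_, ⟨x, hx, rfl⟩, rfl⟩
    exact ⟨x ^ p ^ n, ⟨x, hx, rfl⟩, by rw [map_pow]⟩

/-- Subgroups of regular `p`-groups are regular. -/
theorem isRegularPGroup_subgroup {p : ℕ} (hG : IsRegularPGroup p G) (H : Subgroup G) :
    IsRegularPGroup p H := by
  refine ⟨hG.1.to_subgroup H, ?_⟩
  intro a b n
  obtain ⟨c, hc, hcab⟩ := hG.2 (a : G) (b : G) n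
  set K : Subgroup H := closure ({a, b} : Set H) with hK
  have hKmap : K.map H.subtype = closure ({(a : G), (b : G)} : Set G) := by
    rw [hK, MonoidHom.map_closure, Set.image_pair]
    rfl
  have hmap : (powerClosure p n ⁅K, K⁆).map H.subtype =
      powerClosure p n ⁅closure ({(a : G), (b : G)} : Set G),
        closure ({(a : G), (b : G)} : Set G)⁆ := by
    rw [map_powerClosure, map_commutator, hKmap]
  rw [← hmap] at hc
  obtain ⟨c', hc', rfl⟩ := hc
  refine ⟨c', hc', ?_⟩
  apply Subtype.ext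
  simpa using hcab

end basic

section key

variable {G : Type*} [Group G]

/-- If `G = ⟨x, y⟩` and the elements of `G'` of `q`-th power `1` are closed under multiplication,
and `[x, y]^q = 1`, then `G'` has exponent dividing `q`. -/
theorem exponent_commutator_of_gen (x y : G) (hgen : closure ({x, y} : Set G) = ⊤) (q : ℕ)
    (hgood : ∀ a b : G, a ∈ commutator G → b ∈ commutator G → a ^ q = 1 → b ^ q = 1 →
      (a * b) ^ q = 1)
    (hxy : (x⁻¹ * y⁻¹ * x * y) ^ q = 1) : ∀ z ∈ commutator G, z ^ q = 1 := by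
  let Ω : Subgroup G :=
    { carrier := {z | z ∈ commutator G ∧ z ^ q = 1}
      one_mem' := ⟨one_mem _, one_pow _⟩
      mul_mem' := by
        rintro a b ⟨ha, ha1⟩ ⟨hb, hb1⟩
        exact ⟨mul_mem ha hb, hgood a b ha hb ha1 hb1⟩
      inv_mem' := by
        rintro a ⟨ha, ha1⟩
        exact ⟨inv_mem ha, by rw [inv_pow, ha1, inv_one]⟩ }
  have hΩn : Ω.Normal := by
    constructor
    rintro a ⟨ha, ha1⟩ g
    refine ⟨(inferInstance : (commutator G).Normal).conj_mem a ha g, ?_⟩
    rw [conj_pow, ha1, mul_one, mul_inv_cancel]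
  have hc₀ : x⁻¹ * y⁻¹ * x * y ∈ Ω := by
    refine ⟨?_, hxy⟩
    have : x⁻¹ * y⁻¹ * x * y = ⁅x⁻¹, y⁻¹⁆ := by
      rw [commutatorElement_def, inv_inv, inv_inv]
    rw [this, _root_.commutator_def]
    exact commutator_mem_commutator (mem_top _) (mem_top _)
  -- x and y commute modulo Ω
  have hcomm_xy : (QuotientGroup.mk' Ω x) * (QuotientGroup.mk' Ω y) =
      (QuotientGroup.mk' Ω y) * (QuotientGroup.mk' Ω x) := by
    have h1 : QuotientGroup.mk' Ω (x⁻¹ * y⁻¹ * x * y) = 1 :=
      (QuotientGroup.eq_one_iff _).mpr hc₀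
    rw [map_mul, map_mul, map_mul, map_inv, map_inv] at h1
    have h2 : (QuotientGroup.mk' Ω x) * (QuotientGroup.mk' Ω y) =
        (QuotientGroup.mk' Ω y) * (QuotientGroup.mk' Ω x) *
          ((QuotientGroup.mk' Ω x)⁻¹ * (QuotientGroup.mk' Ω y)⁻¹ * (QuotientGroup.mk' Ω x) *
            (QuotientGroup.mk' Ω y)) := by group
    rw [h2, h1, mul_one]
  -- the quotient is commutative
  have hgen' : closure ({QuotientGroup.mk' Ω x, QuotientGroup.mk' Ω y} : Set (G ⧸ Ω)) = ⊤ := by
    have := congrArg (Subgroup.map (QuotientGroup.mk' Ω)) hgen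
    rw [MonoidHom.map_closure, Set.image_pair, ← MonoidHom.range_eq_map,
      MonoidHom.range_eq_top.mpr (QuotientGroup.mk'_surjective Ω)] at this
    exact this
  have hcenter : ∀ g : G ⧸ Ω, g ∈ center (G ⧸ Ω) := by
    have hx : QuotientGroup.mk' Ω x ∈ center (G ⧸ Ω) := by
      rw [← centralizer_univ, ← coe_top, ← hgen', centralizer_closure, mem_centralizer_iff]
      intro h hh
      rcases hh with rfl | rfl
      · rfl
      · exact hcomm_xy.symm
    have hy : QuotientGroup.mk' Ω y ∈ center (G ⧸ Ω) := by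
      rw [← centralizer_univ, ← coe_top, ← hgen', centralizer_closure, mem_centralizer_iff]
      intro h hh
      rcases hh with rfl | rfl
      · exact hcomm_xy
      · rfl
    intro g
    have : g ∈ closure ({QuotientGroup.mk' Ω x, QuotientGroup.mk' Ω y} : Set (G ⧸ Ω)) := by
      rw [hgen']; trivial
    exact (closure_le _).mpr (by
      intro h hh
      rcases hh with rfl | rfl
      · exact hx
      · exact hy) this
  have hle : commutator G ≤ Ω := by
    rw [_root_.commutator_def, commutator_le]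
    intro g₁ _ g₂ _
    rw [← QuotientGroup.eq_one_iff, ← QuotientGroup.mk'_apply, map_commutatorElement,
      commutatorElement_eq_one_iff_mul_comm]
    exact (mem_center_iff.mp (hcenter _) _).symm
  intro z hz
  exact (hle hz).2

/-- In a noncommutative finite `p`-group, `⟨x⟩ G'` is a proper subgroup. -/
theorem zpowers_sup_commutator_ne_top [Finite G] {p : ℕ} [Fact p.Prime] (hG : IsPGroup p G) (x : G)
    (hnc : ¬ ∀ a b : G, a * b = b * a) : zpowers x ⊔ commutator G ≠ ⊤ := by
  intro htop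
  apply hnc
  have hle : commutator G ≤ frattini G := by
    rw [_root_.commutator_def, commutator_le]
    intro g₁ _ g₂ _
    rw [commutatorElement_def]
    exact commutator_mem_frattini_of_isPGroup hG g₁ g₂
  have h1 : zpowers x ⊔ frattini G = ⊤ := by
    rw [eq_top_iff, ← htop]
    exact sup_le_sup_left hle _
  have h2 : zpowers x = ⊤ := frattini_nongenerating h1
  intro a b
  have ha : a ∈ zpowers x := by rw [h2]; trivial
  have hb : b ∈ zpowers x := by rw [h2]; trivial
  obtain ⟨i, rfl⟩ := mem_zpowers_iff.mp ha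
  obtain ⟨j, rfl⟩ := mem_zpowers_iff.mp hb
  rw [← zpow_add, ← zpow_add, add_comm]

end key

section main

variable {p : ℕ} [Fact p.Prime]

theorem closure_pair_coe_eq_top {G : Type*} [Group G] (u b : G) :
    closure ({⟨u, subset_closure (by simp)⟩, ⟨b, subset_closure (by simp)⟩} :
      Set (closure ({u, b} : Set G))) = ⊤ := by
  apply map_injective (closure ({u, b} : Set G)).subtype_injective
  rw [MonoidHom.map_closure, Set.image_pair, ← MonoidHom.range_eq_map, range_subtype]
  rfl

/-- If `G'` has exponent dividing `p^k` in a regular `p`-group then `x ↦ x^(p^k)` is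
multiplicative. -/
theorem mul_pow_of_exponent_commutator {G : Type*} [Group G] (hG : IsRegularPGroup p G) (k : ℕ)
    (hexp : ∀ z ∈ commutator G, z ^ p ^ k = 1) (u v : G) :
    (u * v) ^ p ^ k = u ^ p ^ k * v ^ p ^ k := by
  obtain ⟨c, hc, hcuv⟩ := hG.2 u v k
  have hle : powerClosure p k ⁅closure ({u, v} : Set G), closure ({u, v} : Set G)⁆ = ⊥ := by
    apply powerClosure_eq_bot
    intro x hx
    apply hexp
    rw [_root_.commutator_def]
    exact commutator_mono le_top le_top hx
  rw [hle, mem_bot] at hc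
  rw [hcuv, hc, mul_one]

/-- `u^q = 1 ⇒ [u, b]^q = 1`, given closure of `q`-torsion under products in proper subgroups. -/
theorem core_comm_pow {G : Type*} [Group G] [Finite G] (hG : IsPGroup p G) (k : ℕ)
    (hsub : ∀ M : Subgroup G, M ≠ ⊤ → ∀ a ∈ M, ∀ b ∈ M, a ^ p ^ k = 1 → b ^ p ^ k = 1 →
      (a * b) ^ p ^ k = 1)
    (u b : G) (hu : u ^ p ^ k = 1) : (u⁻¹ * b⁻¹ * u * b) ^ p ^ k = 1 := by
  by_cases hcomm : ∀ a b : G, a * b = b * a
  · have : u⁻¹ * b⁻¹ * u * b = 1 := by
      rw [hcomm u⁻¹ b⁻¹, mul_assoc b⁻¹, inv_mul_cancel, mul_one, inv_mul_cancel]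
    rw [this, one_pow]
  · have hM := zpowers_sup_commutator_ne_top hG u hcomm
    have h1 : u⁻¹ ∈ zpowers u ⊔ commutator G := mem_sup_left (inv_mem (mem_zpowers u))
    have h2 : b⁻¹ * u * b ∈ zpowers u ⊔ commutator G := by
      have : b⁻¹ * u * b = u * (u⁻¹ * b⁻¹ * u * b) := by group
      rw [this]
      apply mul_mem (mem_sup_left (mem_zpowers u)) (mem_sup_right _)
      have : u⁻¹ * b⁻¹ * u * b = ⁅u⁻¹, b⁻¹⁆ := by
        rw [commutatorElement_def, inv_inv, inv_inv]
      rw [this, _root_.commutator_def]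
      exact commutator_mem_commutator (mem_top _) (mem_top _)
    have h3 : (b⁻¹ * u * b) ^ p ^ k = 1 := by
      have : b⁻¹ * u * b = b⁻¹ * u * b⁻¹⁻¹ := by rw [inv_inv]
      rw [this, conj_pow, hu, mul_one, inv_inv, inv_mul_cancel]
    have h4 : (u⁻¹) ^ p ^ k = 1 := by rw [inv_pow, hu, inv_one]
    have := hsub _ hM _ h1 _ h2 h4 h3
    rwa [← mul_assoc, ← mul_assoc] at this

/-- `G = ⟨u, b⟩`, `[u, b]^q = 1 ⇒ G'` has exponent dividing `q`. -/
theorem core_exponent_commutator {G : Type*} [Group G] [Finite G] (hG : IsPGroup p G) (k : ℕ)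
    (hsub : ∀ M : Subgroup G, M ≠ ⊤ → ∀ a ∈ M, ∀ b ∈ M, a ^ p ^ k = 1 → b ^ p ^ k = 1 →
      (a * b) ^ p ^ k = 1)
    (u b : G) (hgen : closure ({u, b} : Set G) = ⊤) (hc : (u⁻¹ * b⁻¹ * u * b) ^ p ^ k = 1) :
    ∀ z ∈ commutator G, z ^ p ^ k = 1 := by
  rcases subsingleton_or_nontrivial G with hs | hnt
  · intro z _
    rw [Subsingleton.elim z 1, one_pow]
  · have hnil := hG.isNilpotent
    have hlt : commutator G < ⊤ := Group.IsSolvable.commutator_lt_top_of_nontrivial G
    exact exponent_commutator_of_gen u b hgen (p ^ k)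
      (fun a b ha hb => hsub _ hlt.ne a ha b hb) hc

theorem good_aux (n : ℕ) : ∀ (G : Type u) [Group G] [Finite G], Nat.card G = n →
    IsRegularPGroup p G → ∀ (k : ℕ) (x y : G), x ^ p ^ k = 1 → y ^ p ^ k = 1 →
    (x * y) ^ p ^ k = 1 := by
  induction n using Nat.strong_induction_on with
  | _ n ih =>
  intro G _ _ hcard hG k x y hx hy
  have hsub : ∀ k : ℕ, ∀ M : Subgroup G, M ≠ ⊤ → ∀ a ∈ M, ∀ b ∈ M, a ^ p ^ k = 1 →
      b ^ p ^ k = 1 → (a * b) ^ p ^ k = 1 := by
    intro k M hM a ha b hb ha1 hb1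
    have hlt : Nat.card M < n := by
      rw [← hcard]
      apply lt_of_le_of_ne (card_le_card_group M)
      intro h
      exact hM (eq_top_of_card_eq M h)
    have := ih _ hlt M rfl (isRegularPGroup_subgroup hG M) k ⟨a, ha⟩ ⟨b, hb⟩
      (Subtype.ext (by simpa using ha1)) (Subtype.ext (by simpa using hb1))
    simpa using congrArg Subtype.val this
  by_cases hH : closure ({x, y} : Set G) = ⊤
  · have hc := core_comm_pow hG.1 k (hsub k) x y hx
    have hexp := core_exponent_commutator hG.1 k (hsub k) x y hH hc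
    rw [mul_pow_of_exponent_commutator hG k hexp, hx, hy, one_mul]
  · exact hsub k _ hH x (subset_closure (by simp)) y (subset_closure (by simp)) hx hy

/-- In a regular `p`-group, the elements with `x^(p^k) = 1` are closed under multiplication. -/
theorem mul_pow_eq_one {G : Type u} [Group G] [Finite G] (hG : IsRegularPGroup p G) (k : ℕ)
    (x y : G) (hx : x ^ p ^ k = 1) (hy : y ^ p ^ k = 1) : (x * y) ^ p ^ k = 1 :=
  good_aux _ G rfl hG k x y hx hy

/-- In a regular `p`-group, `u^q = 1 ⇒ [u, b]^q = 1`. -/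
theorem comm_pow_eq_one {G : Type u} [Group G] [Finite G] (hG : IsRegularPGroup p G) (k : ℕ)
    (u b : G) (hu : u ^ p ^ k = 1) : (u⁻¹ * b⁻¹ * u * b) ^ p ^ k = 1 :=
  core_comm_pow hG.1 k (fun _ _ a _ b _ ha hb => mul_pow_eq_one hG k a b ha hb) u b hu

/-- In a regular `p`-group generated by `u, b` with `[u, b]^q = 1`, `G'` has exponent dividing
`q`. -/
theorem exponent_commutator {G : Type u} [Group G] [Finite G] (hG : IsRegularPGroup p G) (k : ℕ)
    (u b : G) (hgen : closure ({u, b} : Set G) = ⊤) (hc : (u⁻¹ * b⁻¹ * u * b) ^ p ^ k = 1) :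
    ∀ z ∈ commutator G, z ^ p ^ k = 1 :=
  core_exponent_commutator hG.1 k (fun _ _ a _ b _ ha hb => mul_pow_eq_one hG k a b ha hb)
    u b hgen hc

/-- In a regular `p`-group, `[u, b]^q = 1 ⇒ (u b)^q = u^q b^q`. -/
theorem mul_pow_of_comm_pow {G : Type u} [Group G] [Finite G] (hG : IsRegularPGroup p G) (k : ℕ)
    (u b : G) (hc : (u⁻¹ * b⁻¹ * u * b) ^ p ^ k = 1) :
    (u * b) ^ p ^ k = u ^ p ^ k * b ^ p ^ k := by
  set H := closure ({u, b} : Set G) with hH
  have hHreg := isRegularPGroup_subgroup hG H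
  let u' : H := ⟨u, subset_closure (by simp)⟩
  let b' : H := ⟨b, subset_closure (by simp)⟩
  have hgen : closure ({u', b'} : Set H) = ⊤ := closure_pair_coe_eq_top u b
  have hc' : (u'⁻¹ * b'⁻¹ * u' * b') ^ p ^ k = 1 := Subtype.ext (by simpa using hc)
  have hexp := exponent_commutator hHreg k u' b' hgen hc'
  have := mul_pow_of_exponent_commutator hHreg k hexp u' b'
  simpa using congrArg Subtype.val this

theorem pow_eq_aux (n : ℕ) : ∀ (G : Type u) [Group G] [Finite G], Nat.card G = n →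
    IsRegularPGroup p G → ∀ (k : ℕ) (a b : G), a ^ p ^ k = b ^ p ^ k →
    (a * b⁻¹) ^ p ^ k = 1 := by
  induction n using Nat.strong_induction_on with
  | _ n ih =>
  intro G _ _ hcard hG k a b hab
  have hsub : ∀ M : Subgroup G, M ≠ ⊤ → ∀ a ∈ M, ∀ b ∈ M, a ^ p ^ k = b ^ p ^ k →
      (a * b⁻¹) ^ p ^ k = 1 := by
    intro M hM a ha b hb hab
    have hlt : Nat.card M < n := by
      rw [← hcard]
      apply lt_of_le_of_ne (card_le_card_group M)
      intro h
      exact hM (eq_top_of_card_eq M h)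
    have := ih _ hlt M rfl (isRegularPGroup_subgroup hG M) k ⟨a, ha⟩ ⟨b, hb⟩
      (Subtype.ext (by simpa using hab))
    simpa using congrArg Subtype.val this
  by_cases hH : closure ({a, b} : Set G) = ⊤
  · by_cases hcomm : ∀ a b : G, a * b = b * a
    · rw [(show Commute a b⁻¹ from hcomm a b⁻¹).mul_pow, inv_pow, hab, mul_inv_cancel]
    · have hM := zpowers_sup_commutator_ne_top hG.1 a hcomm
      have h1 : a ∈ zpowers a ⊔ commutator G := mem_sup_left (mem_zpowers a)
      have h2 : b⁻¹ * a * b ∈ zpowers a ⊔ commutator G := by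
        have : b⁻¹ * a * b = a * (a⁻¹ * b⁻¹ * a * b) := by group
        rw [this]
        apply mul_mem (mem_sup_left (mem_zpowers a)) (mem_sup_right _)
        have : a⁻¹ * b⁻¹ * a * b = ⁅a⁻¹, b⁻¹⁆ := by
          rw [commutatorElement_def, inv_inv, inv_inv]
        rw [this, _root_.commutator_def]
        exact commutator_mem_commutator (mem_top _) (mem_top _)
      have h3 : (b⁻¹ * a * b) ^ p ^ k = a ^ p ^ k := by
        have : b⁻¹ * a * b = b⁻¹ * a * b⁻¹⁻¹ := by rw [inv_inv]
        rw [this, conj_pow, inv_inv, hab, mul_assoc, ← pow_succ, pow_succ', inv_mul_cancel_left]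
      have h4 := hsub _ hM _ h2 _ h1 h3
      have h5 : (a⁻¹ * b⁻¹ * a * b) ^ p ^ k = 1 := by
        have : a⁻¹ * b⁻¹ * a * b = a⁻¹ * (b⁻¹ * a * b * a⁻¹) * a⁻¹⁻¹ := by group
        rw [this, conj_pow, h4, mul_one, mul_inv_cancel]
      have hexp := exponent_commutator hG k a b hH h5
      rw [mul_pow_of_exponent_commutator hG k hexp, inv_pow, hab, mul_inv_cancel]
  · exact hsub _ hH a (subset_closure (by simp)) b (subset_closure (by simp)) hab

/-- In a regular `p`-group: `a^q = b^q ↔ (a b⁻¹)^q = 1`. -/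
theorem pow_eq_pow_iff {G : Type u} [Group G] [Finite G] (hG : IsRegularPGroup p G) (a b : G)
    (k : ℕ) : a ^ p ^ k = b ^ p ^ k ↔ (a * b⁻¹) ^ p ^ k = 1 := by
  constructor
  · exact pow_eq_aux _ G rfl hG k a b
  · intro h
    have hc := comm_pow_eq_one hG k (a * b⁻¹) b h
    have := mul_pow_of_comm_pow hG k (a * b⁻¹) b hc
    rw [inv_mul_cancel_right, h, one_mul] at this
    exact this

end main

end Cfsg.Agent.Helper21
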