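import Mathlib
import Cfsg.Prelude.Def_OddOrderLocal
import Cfsg.Agent.Lib.Helper7.BrOrd1
import Cfsg.Agent.Lib.Helper21.V4Count

/-!
# S4018: reduction to the Klein-four residual case

`main`: under the hypotheses of S4018 and simplicity, all the inputs of the residual lemma
(`hR`, proved by character theory: S0948 + S4479) are produced; the involution count
`V4C.v4_count_lt` gives `|G| < 16 w^3`.
-/

set_option autoImplicit false

namespace Cfsg.Agent.Helper21.S4018A

open Cfsg.Agent.Helper21.V4C
open scoped Pointwise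

variable {G : Type*} [Group G]

/-- In a subgroup `H` of order `2 |Q|` containing the odd-order subgroup `Q` and an involution `y`
centralizing `Q`, the only involution is `y`. -/
theorem invol_unique [Finite G] (Q H : Subgroup G) (y : G) (w : ℕ)
    (hw : Nat.card Q = w) (hodd : Odd w) (hy : orderOf y = 2)
    (hQH : Q ≤ H) (hyH : y ∈ H)
    (hyQ : ∀ x ∈ Q, x * y = y * x) (hH : Nat.card H = 2 * w)
    (t : G) (htH : t ∈ H) (ht : orderOf t = 2) : t = y := by
  classical
  let _ : Fintype G := Fintype.ofFinite G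
  have hy2 : y * y = 1 := mul_self_of_orderOf hy
  have hy1 : y ≠ 1 := ne_one_of_orderOf hy
  set N : Finset G := Finset.univ.filter (fun t : G => t ∈ H) with hN
  set Pf : Finset G := Finset.univ.filter (fun t : G => t ∈ Q) with hPf
  set Qf : Finset G := Pf.image (fun x => y * x) with hQf
  have hNcard : N.card = 2 * w := by
    rw [← hH, Nat.card_eq_fintype_card, Fintype.card_subtype]
  have hPcard : Pf.card = w := by
    rw [← hw, Nat.card_eq_fintype_card, Fintype.card_subtype]
  have hQcard : Qf.card = w := by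
    rw [hQf, Finset.card_image_of_injective _ (mul_right_injective y), hPcard]
  have hyP' : y ∉ Q := by
    intro h
    exact hy1 (eq_one_of_sq Q w hw hodd h (by rw [pow_two, hy2]))
  have hdisj : Disjoint Pf Qf := by
    rw [Finset.disjoint_left]
    intro t htP htQ
    rw [hQf, Finset.mem_image] at htQ
    obtain ⟨x, hx, rfl⟩ := htQ
    rw [hPf, Finset.mem_filter] at htP hx
    apply hyP'
    have : y = (y * x) * x⁻¹ := by group
    rw [this]
    exact Q.mul_mem htP.2 (Q.inv_mem hx.2)
  have hsub : Pf ∪ Qf ⊆ N := by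
    intro t ht
    rw [Finset.mem_union] at ht
    rw [hN, Finset.mem_filter]
    refine ⟨Finset.mem_univ _, ?_⟩
    rcases ht with ht | ht
    · rw [hPf, Finset.mem_filter] at ht
      exact hQH ht.2
    · rw [hQf, Finset.mem_image] at ht
      obtain ⟨x, hx, rfl⟩ := ht
      rw [hPf, Finset.mem_filter] at hx
      exact H.mul_mem hyH (hQH hx.2)
  have hUcard : (Pf ∪ Qf).card = 2 * w := by
    rw [Finset.card_union_of_disjoint hdisj, hPcard, hQcard]
    ring
  have heq : Pf ∪ Qf = N := Finset.eq_of_subset_of_card_le hsub (by rw [hNcard, hUcard])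
  have htN : t ∈ Pf ∪ Qf := by
    rw [heq, hN, Finset.mem_filter]
    exact ⟨Finset.mem_univ _, htH⟩
  rw [Finset.mem_union] at htN
  rcases htN with htP | htQ
  · exfalso
    rw [hPf, Finset.mem_filter] at htP
    exact ne_one_of_orderOf ht
      (eq_one_of_sq Q w hw hodd htP.2 (by rw [pow_two, mul_self_of_orderOf ht]))
  · rw [hQf, Finset.mem_image] at htQ
    obtain ⟨x, hx, rfl⟩ := htQ
    rw [hPf, Finset.mem_filter] at hx
    have hxx : x ^ 2 = 1 := by
      have h1 : (y * x) * (y * x) = 1 := mul_self_of_orderOf ht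
      have h2 : (y * x) * (y * x) = (y * y) * (x * x) := by
        rw [mul_assoc, ← mul_assoc x y x, hyQ x hx.2]
        group
      rw [h2, hy2, one_mul] at h1
      rw [pow_two, h1]
    rw [eq_one_of_sq Q w hw hodd hx.2 hxx, mul_one]

theorem klein_sq (S' : Subgroup G) (hK : IsKleinFour S') {e : G} (he : e ∈ S') : e ^ 2 = 1 := by
  have h := Monoid.pow_exponent_eq_one (⟨e, he⟩ : S')
  rw [hK.exponent_two] at h
  have := congrArg Subtype.val h
  simpa using this

theorem isPGroup_zpowers_of_pow_eq_one {p : ℕ} [Fact p.Prime] {x : G} {n : ℕ}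
    (h : x ^ (p ^ n) = 1) : IsPGroup p (Subgroup.zpowers x) := by
  have hd : orderOf x ∣ p ^ n := orderOf_dvd_of_pow_eq_one h
  obtain ⟨m, -, hm⟩ := (Nat.dvd_prime_pow (Fact.out : p.Prime)).mp hd
  exact IsPGroup.of_card (n := m) (by rw [Nat.card_zpowers, hm])

theorem main [Finite G] (P : Sylow 3 G) (hab : IsMulCommutative P)
    (hN : Nat.card (Subgroup.normalizer ((P : Subgroup G) : Set G)) = 4 * Nat.card P)
    (hC : Nat.card (Subgroup.centralizer (P : Set G)) = 2 * Nat.card P)
    (hTI : Cfsg.IsTISubset (Subgroup.centralizer (P : Set G) : Set G))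
    (heven : ∀ H : Subgroup G, H ≠ ⊤ → 2 ∣ Nat.card H → Nat.card H ∣ 4 * Nat.card P)
    (hR : ∀ (S : Sylow 2 G) (t : G) (w : ℕ), commutator G = ⊤ → IsKleinFour (S : Subgroup G) →
        (∀ s t : G, orderOf s = 2 → orderOf t = 2 → IsConj s t) → t ∈ (S : Subgroup G) →
        orderOf t = 2 → Nat.card (Subgroup.centralizer ({t} : Set G)) = 4 * w →
        Nat.card (Subgroup.centralizer ((S : Subgroup G) : Set G)) = 4 →
        Nat.card G < 16 * w ^ 3 → False) :
    ¬ IsSimpleGroup G := by
  intro hsimple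
  haveI : Fact (Nat.Prime 3) := ⟨Nat.prime_three⟩
  haveI : Fact (Nat.Prime 2) := ⟨Nat.prime_two⟩
  haveI := hsimple
  haveI : Nontrivial G := IsSimpleGroup.toNontrivial
  set Q : Subgroup G := (P : Subgroup G) with hQ
  set w : ℕ := Nat.card Q with hw
  have hN' : Nat.card (Subgroup.normalizer (Q : Set G)) = 4 * w := hN
  have hC' : Nat.card (Subgroup.centralizer (Q : Set G)) = 2 * w := hC
  have hTI' : Cfsg.IsTISubset ((Subgroup.centralizer (Q : Set G) : Subgroup G) : Set G) := hTI
  have heven' : ∀ H : Subgroup G, H ≠ ⊤ → 2 ∣ Nat.card H → Nat.card H ∣ 4 * w := heven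
  obtain ⟨a, ha⟩ := P.2.exists_card_eq
  have hwa : w = 3 ^ a := ha
  have hodd : Odd w := by
    rw [hwa]
    exact Odd.pow (by decide)
  have hwpos : 0 < w := Nat.card_pos
  -- `Q` is abelian
  have hQab : ∀ x ∈ Q, ∀ z ∈ Q, x * z = z * x := by
    intro x hx z hz
    have := hab.is_comm.comm (⟨x, hx⟩ : P) ⟨z, hz⟩
    exact congrArg Subtype.val this
  have hQC : Q ≤ Subgroup.centralizer (Q : Set G) := by
    intro x hx
    rw [Subgroup.mem_centralizer_iff]
    intro z hz
    exact hQab z hz x hx
  -- the centre is trivial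
  have hCtop : Subgroup.centralizer (Q : Set G) ≠ ⊤ := by
    intro h
    have h1 : Nat.card G = 2 * w := by
      rw [← hC', h, Subgroup.card_top]
    have h2 : Nat.card (Subgroup.normalizer (Q : Set G)) ∣ Nat.card G :=
      Subgroup.card_subgroup_dvd_card _
    rw [hN', h1] at h2
    have := Nat.le_of_dvd (by omega) h2
    omega
  have hcenter : Subgroup.center G = ⊥ := by
    rcases (inferInstance : (Subgroup.center G).Normal).eq_bot_or_eq_top with h | h
    · exact h
    · exfalso
      apply hCtop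
      rw [eq_top_iff, ← h]
      exact Subgroup.center_le_centralizer _
  -- the involution `y`
  obtain ⟨y0, hy0⟩ := exists_prime_orderOf_dvd_card' (G := Subgroup.centralizer (Q : Set G)) 2
    (by rw [hC']; exact dvd_mul_right 2 w)
  set y : G := (y0 : G) with hydef
  have hy : orderOf y = 2 := by
    rw [hydef, Subgroup.orderOf_coe]
    exact hy0
  have hyC : y ∈ Subgroup.centralizer (Q : Set G) := y0.2
  have hyQ : ∀ x ∈ Q, x * y = y * x := fun x hx => (Subgroup.mem_centralizer_iff.mp hyC) x hx
  have hy1 : y ≠ 1 := ne_one_of_orderOf hy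
  have huniq : ∀ t ∈ Subgroup.centralizer (Q : Set G), orderOf t = 2 → t = y :=
    fun t ht h2 => invol_unique Q _ y w rfl hodd hy hQC hyC hyQ hC' t ht h2
  -- `N(P) ≤ C(y)`
  have hNle : Subgroup.normalizer (Q : Set G) ≤ Subgroup.centralizer ({y} : Set G) := by
    intro n hn
    rw [Subgroup.mem_centralizer_singleton_iff]
    have hmem : n * y * n⁻¹ ∈ Subgroup.centralizer (Q : Set G) := by
      rw [Subgroup.mem_centralizer_iff]
      intro x hx
      have hx' : n⁻¹ * x * n ∈ Q := by
        rw [Subgroup.mem_normalizer_iff.mp hn (n⁻¹ * x * n)]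
        have e : n * (n⁻¹ * x * n) * n⁻¹ = x := by group
        rw [e]
        exact hx
      have hcomm := hyQ _ hx'
      calc x * (n * y * n⁻¹) = n * ((n⁻¹ * x * n) * y) * n⁻¹ := by group
        _ = n * (y * (n⁻¹ * x * n)) * n⁻¹ := by rw [hcomm]
        _ = n * y * n⁻¹ * x := by group
    have h2 : orderOf (n * y * n⁻¹) = 2 := orderOf_conj_two n hy
    have h3 := huniq _ hmem h2
    calc n * y = (n * y * n⁻¹) * n := by group
      _ = y * n := by rw [h3]
  have hCyne : Subgroup.centralizer ({y} : Set G) ≠ ⊤ := by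
    intro h
    have : y ∈ Subgroup.center G := by
      rw [Subgroup.mem_center_iff]
      intro g
      have hg : g ∈ Subgroup.centralizer ({y} : Set G) := by
        rw [h]
        trivial
      exact Subgroup.mem_centralizer_singleton_iff.mp hg
    rw [hcenter, Subgroup.mem_bot] at this
    exact hy1 this
  have hCy2 : 2 ∣ Nat.card (Subgroup.centralizer ({y} : Set G)) := by
    have h1 : y ∈ Subgroup.centralizer ({y} : Set G) :=
      Subgroup.mem_centralizer_singleton_iff.mpr rfl
    have h2 := Subgroup.orderOf_dvd_natCard _ h1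
    rwa [hy] at h2
  have hCydvd := heven' _ hCyne hCy2
  have hCy : Nat.card (Subgroup.centralizer ({y} : Set G)) = 4 * w :=
    Nat.dvd_antisymm hCydvd (hN' ▸ Subgroup.card_dvd_of_le hNle)
  have hNeq : Subgroup.normalizer (Q : Set G) = Subgroup.centralizer ({y} : Set G) :=
    Subgroup.eq_of_le_of_card_ge hNle (by rw [hCy, hN'])
  -- a Sylow 2-subgroup containing `y`
  have hpy : IsPGroup 2 (Subgroup.zpowers y) :=
    IsPGroup.of_card (n := 1) (by rw [Nat.card_zpowers, hy]; rfl)
  obtain ⟨S, hS⟩ := hpy.exists_le_sylow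
  have hyS : y ∈ (S : Subgroup G) := hS (Subgroup.mem_zpowers y)
  have hno2 : ¬ IsPGroup 2 G := by
    intro hpG
    have := hpG.center_nontrivial
    rw [Subgroup.nontrivial_iff_ne_bot] at this
    exact this hcenter
  have hSne : (S : Subgroup G) ≠ ⊤ := by
    intro h
    apply hno2
    obtain ⟨k, hk⟩ := S.2.exists_card_eq
    have h1 := congrArg (fun H : Subgroup G => Nat.card H) h
    simp only [Subgroup.card_top] at h1
    exact IsPGroup.of_card (n := k) (by rw [← h1]; exact hk)
  have hS2 : 2 ∣ Nat.card (S : Subgroup G) := by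
    have h2 := Subgroup.orderOf_dvd_natCard _ hyS
    rwa [hy] at h2
  have hSdvd : Nat.card (S : Subgroup G) ∣ 4 * w := heven' _ hSne hS2
  have hS4 : Nat.card (S : Subgroup G) ∣ 4 := by
    obtain ⟨k, hk⟩ := S.2.exists_card_eq
    have hk' : Nat.card (S : Subgroup G) = 2 ^ k := hk
    rw [hk'] at hSdvd ⊢
    have hcop : Nat.Coprime (2 ^ k) w := by
      rw [hwa]
      exact Nat.Coprime.pow _ _ (by decide)
    exact hcop.dvd_of_dvd_mul_right hSdvd
  have h4G : 2 ^ 2 ∣ Nat.card G := by
    have h1 : Nat.card (Subgroup.normalizer (Q : Set G)) ∣ Nat.card G :=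
      Subgroup.card_subgroup_dvd_card _
    rw [hN'] at h1
    exact Dvd.dvd.trans ⟨w, by ring⟩ h1
  have h4S : 2 ^ 2 ∣ Nat.card (S : Subgroup G) := S.pow_dvd_card_of_pow_dvd_card h4G
  have hScard : Nat.card (S : Subgroup G) = 4 := Nat.dvd_antisymm hS4 h4S
  set g₀ : ℕ := (S : Subgroup G).index with hg₀def
  have hG4 : Nat.card G = 4 * g₀ := by
    rw [← hScard]
    exact (Subgroup.card_mul_index _).symm
  have hg₀ : Odd g₀ := by
    rw [← Nat.not_even_iff_odd, even_iff_two_dvd]
    exact S.not_dvd_index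
  have hnc : ¬ ∃ M : Subgroup G, M.Normal ∧ Nat.card M = g₀ := by
    rintro ⟨M, hMn, hMc⟩
    rcases hMn.eq_bot_or_eq_top with h | h
    · rw [h, Subgroup.card_bot] at hMc
      apply hno2
      exact IsPGroup.of_card (n := 2) (by rw [hG4, ← hMc]; norm_num)
    · rw [h, Subgroup.card_top, hG4] at hMc
      obtain ⟨k, hk⟩ := hg₀
      omega
  have hKall : ∀ S' : Sylow 2 G, IsKleinFour (S' : Subgroup G) :=
    fun S' => (Cfsg.Agent.Helper7.klein_of_no_complement g₀ hg₀ hG4 hnc S').1
  obtain ⟨hK, hone⟩ := Cfsg.Agent.Helper7.klein_of_no_complement g₀ hg₀ hG4 hnc S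
  -- a second involution `r` of `S`
  have hr : ∃ r ∈ (S : Subgroup G), r ≠ 1 ∧ r ≠ y := by
    by_contra hcon
    push Not at hcon
    have hle : (S : Subgroup G) ≤ Subgroup.zpowers y := by
      intro r hr
      by_cases h1 : r = 1
      · rw [h1]
        exact Subgroup.one_mem _
      · rw [hcon r hr h1]
        exact Subgroup.mem_zpowers y
    have h1 := Subgroup.card_le_of_le hle
    rw [hScard, Nat.card_zpowers, hy] at h1
    omega
  obtain ⟨r, hrS, hr1, hry⟩ := hr
  have hr2 : orderOf r = 2 := orderOf_eq_prime (klein_sq _ hK hrS) hr1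
  obtain ⟨g, hgr⟩ := isConj_iff.mp (hone y r hy hr2)
  have hgnot : g ∉ Subgroup.centralizer ({y} : Set G) := by
    intro h
    rw [Subgroup.mem_centralizer_singleton_iff] at h
    apply hry
    rw [← hgr, h]
    group
  -- the TI property
  have hTIy : ∀ g : G, (∃ x ∈ Q, x ≠ 1 ∧ g * x * g⁻¹ ∈ Q) →
      g ∈ Subgroup.centralizer ({y} : Set G) := by
    rintro g ⟨x, hx, hx1, hgx⟩
    by_contra hg
    apply hx1
    have hgN : g ∉ Subgroup.normalizer
        ((Subgroup.centralizer (Q : Set G) : Subgroup G) : Set G) := by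
      intro hgn
      apply hg
      rw [Subgroup.mem_centralizer_singleton_iff]
      have hmem : g * y * g⁻¹ ∈ Subgroup.centralizer (Q : Set G) :=
        (Subgroup.mem_normalizer_iff.mp hgn y).mp hyC
      have h3 := huniq _ hmem (orderOf_conj_two g hy)
      calc g * y = (g * y * g⁻¹) * g := by group
        _ = y * g := by rw [h3]
    exact hTI' g hgN x (hQC hx) (hQC hgx)
  -- 3-elements of `C(y)` lie in `Q`
  have hmemQ : ∀ x : G, x ∈ Subgroup.centralizer ({y} : Set G) →
      IsPGroup 3 (Subgroup.zpowers x) → x ∈ Q := by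
    intro x hx hp
    have h1 : Subgroup.zpowers x ⊓ Subgroup.normalizer (Q : Set G) = Subgroup.zpowers x ⊓ Q :=
      hp.inf_normalizer_sylow P
    have h2 : x ∈ Subgroup.zpowers x ⊓ Subgroup.normalizer (Q : Set G) :=
      ⟨Subgroup.mem_zpowers x, by rw [hNeq]; exact hx⟩
    rw [h1] at h2
    exact h2.2
  have hkey : ∀ x : G, x ∈ Subgroup.centralizer ({y} : Set G) → x * r = r * x →
      IsPGroup 3 (Subgroup.zpowers x) → x = 1 := by
    intro x hx hxr hp
    by_contra hx1
    have hxQ := hmemQ x hx hp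
    have hx'c : g⁻¹ * x * g ∈ Subgroup.centralizer ({y} : Set G) := by
      rw [Subgroup.mem_centralizer_singleton_iff]
      rw [← hgr] at hxr
      calc g⁻¹ * x * g * y = g⁻¹ * (x * (g * y * g⁻¹)) * g := by group
        _ = g⁻¹ * ((g * y * g⁻¹) * x) * g := by rw [hxr]
        _ = y * (g⁻¹ * x * g) := by group
    have hp' : IsPGroup 3 (Subgroup.zpowers (g⁻¹ * x * g)) := by
      obtain ⟨k, hk⟩ := hp.exists_card_eq
      rw [Nat.card_zpowers] at hk
      apply IsPGroup.of_card (n := k)
      rw [Nat.card_zpowers]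
      have h3 := (MulAut.conj g⁻¹).orderOf_eq x
      rw [MulAut.conj_apply, inv_inv] at h3
      rw [h3, hk]
    have hx'Q := hmemQ _ hx'c hp'
    have hx'1 : g⁻¹ * x * g ≠ 1 := by
      intro h
      apply hx1
      have e : x = g * (g⁻¹ * x * g) * g⁻¹ := by group
      rw [e, h]
      group
    have h4 := hTIy g ⟨g⁻¹ * x * g, hx'Q, hx'1, by
      have e : g * (g⁻¹ * x * g) * g⁻¹ = x := by group
      rw [e]
      exact hxQ⟩
    exact hgnot h4
  -- `|C_G(S)| = 4`
  set A : Subgroup G := Subgroup.centralizer ((S : Subgroup G) : Set G) with hA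
  have hAle : A ≤ Subgroup.centralizer ({y} : Set G) :=
    Subgroup.centralizer_le (Set.singleton_subset_iff.mpr hyS)
  have hSA : (S : Subgroup G) ≤ A := by
    intro x hx
    rw [hA, Subgroup.mem_centralizer_iff]
    intro z hz
    have h1 := mul_comm_of_exponent_two hK.exponent_two (⟨z, hz⟩ : (S : Subgroup G)) ⟨x, hx⟩
    exact congrArg Subtype.val h1
  have hA3 : ¬ 3 ∣ Nat.card A := by
    intro h3
    obtain ⟨x0, hx0⟩ := exists_prime_orderOf_dvd_card' (G := A) 3 h3
    have hx3 : orderOf (x0 : G) = 3 := by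
      rw [Subgroup.orderOf_coe]
      exact hx0
    have hxA : (x0 : G) ∈ A := x0.2
    have hxy := hAle hxA
    have hxr : (x0 : G) * r = r * (x0 : G) := ((Subgroup.mem_centralizer_iff.mp hxA) r hrS).symm
    have hp : IsPGroup 3 (Subgroup.zpowers (x0 : G)) :=
      IsPGroup.of_card (n := 1) (by rw [Nat.card_zpowers, hx3]; rfl)
    have h5 := hkey _ hxy hxr hp
    rw [h5, orderOf_one] at hx3
    omega
  have hAcard : Nat.card A = 4 := by
    have h1 : Nat.card A ∣ 4 * w := hCy ▸ Subgroup.card_dvd_of_le hAle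
    have h2 : 4 ∣ Nat.card A := hScard ▸ Subgroup.card_dvd_of_le hSA
    have hcop : Nat.Coprime (Nat.card A) w := by
      rw [hwa]
      exact Nat.Coprime.pow_right a ((Nat.Prime.coprime_iff_not_dvd Nat.prime_three).mpr hA3).symm
    exact Nat.dvd_antisymm (hcop.dvd_of_dvd_mul_right h1) h2
  -- conjugacy of involutions
  have hconj : ∀ t : G, orderOf t = 2 → ∃ g : G, g * y * g⁻¹ = t :=
    fun t ht => isConj_iff.mp (hone y t hy ht)
  -- squares of products of involutions are 3-elements
  have hsq : ∀ s : G, orderOf s = 2 → ∃ g : G, g * (y * s) ^ 2 * g⁻¹ ∈ Q := by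
    intro s hs
    have hy2 : y * y = 1 := mul_self_of_orderOf hy
    have hs2 : s * s = 1 := mul_self_of_orderOf hs
    have hyinv : y⁻¹ = y := inv_eq_of_mul_eq_one_right hy2
    have hsinv : s⁻¹ = s := inv_eq_of_mul_eq_one_right hs2
    have hyz : y * (y * s) * y⁻¹ = (y * s)⁻¹ := by
      rw [mul_inv_rev, hyinv, hsinv, ← mul_assoc, hy2, one_mul]
    generalize y * s = z at hyz ⊢
    set Z := Subgroup.zpowers z with hZ
    have hfwd : ∀ h, h ∈ Z → y * h * y⁻¹ ∈ Z := by
      intro h hh
      obtain ⟨k, rfl⟩ := Subgroup.mem_zpowers_iff.mp hh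
      have e : y * z ^ k * y⁻¹ = (z⁻¹) ^ k := by
        rw [← hyz, conj_zpow]
      rw [e]
      exact Z.zpow_mem (Z.inv_mem (Subgroup.mem_zpowers z)) k
    have hyN : y ∈ Subgroup.normalizer (Z : Set G) := by
      rw [Subgroup.mem_normalizer_iff]
      intro h
      constructor
      · exact hfwd h
      · intro hh
        have h1 := hfwd _ hh
        have e : y * (y * h * y⁻¹) * y⁻¹ = h := by
          rw [hyinv]
          calc y * (y * h * y) * y = (y * y) * h * (y * y) := by group
            _ = h := by rw [hy2, one_mul, mul_one]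
        rwa [e] at h1
    by_cases hNtop : Subgroup.normalizer (Z : Set G) = ⊤
    · have hZn : Z.Normal := Subgroup.normalizer_eq_top_iff.mp hNtop
      rcases hZn.eq_bot_or_eq_top with h | h
      · have hz1 : z = 1 := Subgroup.zpowers_eq_bot.mp h
        refine ⟨1, ?_⟩
        rw [hz1]
        simp only [one_pow, mul_one, inv_one]
        exact Q.one_mem
      · exfalso
        apply hy1
        have hyc : y ∈ Subgroup.center G := by
          rw [Subgroup.mem_center_iff]
          intro g'
          have h1 : g' ∈ Z := by rw [h]; trivial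
          have h2 : y ∈ Z := by rw [h]; trivial
          obtain ⟨k, rfl⟩ := Subgroup.mem_zpowers_iff.mp h1
          obtain ⟨l, hl⟩ := Subgroup.mem_zpowers_iff.mp h2
          rw [← hl]
          exact (Commute.zpow_zpow_self z k l).eq
        rw [hcenter, Subgroup.mem_bot] at hyc
        exact hyc
    · have h2 : 2 ∣ Nat.card (Subgroup.normalizer (Z : Set G)) := by
        have h3 := Subgroup.orderOf_dvd_natCard _ hyN
        rwa [hy] at h3
      have h3 : Nat.card (Subgroup.normalizer (Z : Set G)) ∣ 4 * w := heven' _ hNtop h2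
      have hzN : z ∈ Subgroup.normalizer (Z : Set G) :=
        Subgroup.le_normalizer (Subgroup.mem_zpowers z)
      have h4 : orderOf z ∣ 4 * w := (Subgroup.orderOf_dvd_natCard _ hzN).trans h3
      have h5 : z ^ (4 * w) = 1 := orderOf_dvd_iff_pow_eq_one.mp h4
      -- `e = z ^ w` is a 2-element, hence of order at most 2
      have he4 : (z ^ w) ^ (2 ^ 2) = 1 := by
        rw [← pow_mul, mul_comm]
        exact h5
      have hpe : IsPGroup 2 (Subgroup.zpowers (z ^ w)) := isPGroup_zpowers_of_pow_eq_one he4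
      obtain ⟨S', hS'⟩ := hpe.exists_le_sylow
      have he2 : (z ^ w) ^ 2 = 1 := klein_sq _ (hKall S') (hS' (Subgroup.mem_zpowers _))
      have hu : (z ^ 2) ^ (3 ^ a) = 1 := by
        rw [← hwa, ← pow_mul, mul_comm, pow_mul]
        exact he2
      have hpu : IsPGroup 3 (Subgroup.zpowers (z ^ 2)) := isPGroup_zpowers_of_pow_eq_one hu
      obtain ⟨Q', hQ'⟩ := hpu.exists_le_sylow
      obtain ⟨g', hg'⟩ := MulAction.exists_smul_eq G Q' P
      refine ⟨g', ?_⟩
      have h6 : MulAut.conj g' • (z ^ 2) ∈ MulAut.conj g' • (Q' : Subgroup G) :=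
        Subgroup.smul_mem_pointwise_smul _ _ _ (hQ' (Subgroup.mem_zpowers _))
      rw [← Sylow.pointwise_smul_def, ← Sylow.smul_def, hg'] at h6
      rw [MulAut.smul_def, MulAut.conj_apply] at h6
      exact h6
  have hlt := v4_count_lt Q y w rfl hodd hy hyQ hCy hTIy hconj hsq
  have hperf : commutator G = ⊤ := by
    rcases (inferInstance : (commutator G).Normal).eq_bot_or_eq_top with h | h
    · exfalso
      rw [commutator_eq_bot_iff_center_eq_top, hcenter] at h
      exact bot_ne_top h
    · exact h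
  exact hR S y w hperf hK hone hyS hy hCy hAcard hlt

end Cfsg.Agent.Helper21.S4018A
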