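import Mathlib
import Cfsg.Prelude.Def_Classical
import Cfsg.Agent.Lib.Helper15.S74Defs
import Cfsg.Agent.Lib.Helper21.S74ODefs
import Cfsg.Agent.Lib.Helper13.OrthEmbed
import Cfsg.Agent.Lib.Helper17.OmegaAll
import Cfsg.Agent.Lib.Helper2.OrthPOmega

/-!
# S2474 T3 piece S74O-ORDPROD (helper21): order of a product map
-/

set_option autoImplicit false

namespace Cfsg.Agent.Helper15.S74

open QuadraticMap

universe u v w

section pieces

variable {F : Type u} [Field F]

theorem s74o_ordprod_eq_one_iff {V : Type v} {W : Type w} [AddCommGroup V] [Module F V]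
    [AddCommGroup W] [Module F W] (B : Module.End F V) (B' : Module.End F W) :
    B.prodMap B' = 1 ↔ B = 1 ∧ B' = 1 := by
  constructor
  · intro h
    constructor
    · apply LinearMap.ext
      intro x
      have := LinearMap.congr_fun h (x, 0)
      exact congrArg Prod.fst this
    · apply LinearMap.ext
      intro y
      have := LinearMap.congr_fun h (0, y)
      exact congrArg Prod.snd this
  · rintro ⟨rfl, rfl⟩
    apply LinearMap.ext
    rintro ⟨x, y⟩
    rfl

theorem orderOf_prodMap {V : Type v} {W : Type w} [AddCommGroup V] [Module F V] [AddCommGroup W]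
    [Module F W] (A : Module.End F V) (A' : Module.End F W) :
    orderOf (A.prodMap A') = Nat.lcm (orderOf A) (orderOf A') := by
  have key : ∀ k : ℕ, orderOf (A.prodMap A') ∣ k ↔ Nat.lcm (orderOf A) (orderOf A') ∣ k := by
    intro k
    rw [orderOf_dvd_iff_pow_eq_one, Cfsg.Agent.Helper13.SympSS.prodMap_pow,
      s74o_ordprod_eq_one_iff, Nat.lcm_dvd_iff, orderOf_dvd_iff_pow_eq_one,
      orderOf_dvd_iff_pow_eq_one]
  exact Nat.dvd_antisymm ((key _).mpr dvd_rfl) ((key _).mp dvd_rfl)

end pieces

end Cfsg.Agent.Helper15.S74
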