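import Mathlib
import Cfsg.Prelude.Def_Classical
import Cfsg.Agent.Lib.Helper15.S74Defs
import Cfsg.Agent.Lib.Helper21.S74ODefs
import Cfsg.Agent.Lib.Helper13.OrthEmbed
import Cfsg.Agent.Lib.Helper17.OmegaAll
import Cfsg.Agent.Lib.Helper2.OrthPOmega

/-!
# S2474 T3 piece S74O-SIM (helper21): a nondegenerate form in odd dimension is similar to
`quadFormOdd`
-/

set_option autoImplicit false

namespace Cfsg.Agent.Helper15.S74

open QuadraticMap

universe u v w

section pieces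

variable {F : Type u} [Field F]

open Cfsg.Agent.Helper13 Cfsg.Agent.Helper2.Orth in
theorem exists_similitude_odd [Fintype F] (h2 : (2 : F) ≠ 0) (n : ℕ)
    (Q : QuadraticForm F (Fin (2 * n + 1) → F)) (hQ : (polarBilin Q).Nondegenerate) :
    ∃ (c : F) (e : (Fin (2 * n + 1) → F) ≃ₗ[F] (Unit ⊕ (Fin n ⊕ Fin n) → F)), c ≠ 0 ∧
      ∀ x, c * Cfsg.quadFormOdd n F (e x) = Q x := by
  classical
  set S : QuadraticForm F (Unit ⊕ (Fin n ⊕ Fin n) → F) := matQ (oddMat n F) with hS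
  have hSnd : (polarBilin S).Nondegenerate := nondeg_odd (F := F) n h2
  set b1 := Pi.basisFun F (Fin (2 * n + 1)) with hb1
  set b2 := Pi.basisFun F (Unit ⊕ (Fin n ⊕ Fin n)) with hb2
  set G1 : Matrix (Fin (2 * n + 1)) (Fin (2 * n + 1)) F :=
    Matrix.of fun i j => polar Q (b1 i) (b1 j) with hG1
  set G2 : Matrix (Unit ⊕ (Fin n ⊕ Fin n)) (Unit ⊕ (Fin n ⊕ Fin n)) F :=
    Matrix.of fun i j => polar S (b2 i) (b2 j) with hG2
  have hD1 : G1.det ≠ 0 := gram_det_ne_zero Q b1 hQ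
  have hD2 : G2.det ≠ 0 := gram_det_ne_zero S b2 hSnd
  set c : F := G1.det * G2.det with hcdef
  have hc : c ≠ 0 := mul_ne_zero hD1 hD2
  set Q2 : QuadraticForm F (Unit ⊕ (Fin n ⊕ Fin n) → F) := c • S with hQ2
  have hQ2a : ∀ x, Q2 x = c * S x := fun x => rfl
  have hpol2 : ∀ x y, polar Q2 x y = c * polar S x y := by
    intro x y
    unfold polar
    rw [hQ2a, hQ2a, hQ2a]
    ring
  have hQ2nd : (polarBilin Q2).Nondegenerate := by
    apply nondeg_of_polar
    intro x hx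
    apply hSnd.1
    intro y
    have := hx y
    rw [hpol2] at this
    exact (mul_eq_zero.mp this).resolve_left hc
  have hG2' : (Matrix.of fun i j => polar Q2 (b2 i) (b2 j)) = c • G2 := by
    ext i j
    simp only [Matrix.of_apply, Matrix.smul_apply, hG2, smul_eq_mul]
    exact hpol2 _ _
  have hcard2 : Fintype.card (Unit ⊕ (Fin n ⊕ Fin n)) = 2 * n + 1 := by
    simp only [Fintype.card_sum, Fintype.card_fin, Fintype.card_unit]
    omega
  have hcard : Fintype.card (Fin (2 * n + 1)) = Fintype.card (Unit ⊕ (Fin n ⊕ Fin n)) := by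
    rw [hcard2, Fintype.card_fin]
  have hsq : IsSquare (G1.det * (Matrix.of fun i j => polar Q2 (b2 i) (b2 j)).det) := by
    rw [hG2', Matrix.det_smul, hcard2]
    refine ⟨c ^ (n + 1), ?_⟩
    calc G1.det * (c ^ (2 * n + 1) * G2.det) = c ^ (2 * n + 1) * (G1.det * G2.det) := by ring
      _ = c ^ (2 * n + 1) * c := by rw [← hcdef]
      _ = c ^ (n + 1) * c ^ (n + 1) := by ring
  obtain ⟨g, hg⟩ := equiv_of_disc_idx h2 Q Q2 hQ hQ2nd b1 b2 hcard hsq
  refine ⟨c, g, hc, ?_⟩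
  intro x
  rw [quadFormOdd_eq n]
  have := hg x
  rw [hQ2a] at this
  exact this

end pieces

end Cfsg.Agent.Helper15.S74
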