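import Mathlib
import Cfsg.Prelude.Def_Classical
import Cfsg.Agent.Lib.Helper15.S74Defs
import Cfsg.Agent.Lib.Helper21.S74ODefs
import Cfsg.Agent.Lib.Helper13.OrthEmbed
import Cfsg.Agent.Lib.Helper17.OmegaAll
import Cfsg.Agent.Lib.Helper2.OrthPOmega

/-!
# S2474 T3 piece S74O-TRANS (helper21): transport of an abstract model to `Fin d → F`
-/

set_option autoImplicit false

namespace Cfsg.Agent.Helper15.S74

open QuadraticMap

universe u v w

section pieces

variable {F : Type u} [Field F]

theorem omodel_of_space {V : Type v} [AddCommGroup V] [Module F V] [FiniteDimensional F V]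
    (Q : QuadraticForm F V) (A : Module.End F V) (d M : ℕ) (hfin : Module.finrank F V = d)
    (hQ : (polarBilin Q).Nondegenerate) (hA : ∀ x, Q (A x) = Q x) (hM : 0 < M)
    (hord : orderOf A = M) : OModel F d M := by
  set b : Module.Basis (Fin d) F V := (Module.finBasis F V).reindex (finCongr hfin) with hb
  set e : V ≃ₗ[F] (Fin d → F) := b.equivFun with he
  set Q' : QuadraticForm F (Fin d → F) := Q.comp (e.symm : (Fin d → F) →ₗ[F] V) with hQ'
  have hQ'a : ∀ x, Q' x = Q (e.symm x) := fun x => rfl
  have hpol : ∀ x y, polar Q' x y = polar Q (e.symm x) (e.symm y) := by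
    intro x y
    unfold polar
    rw [hQ'a, hQ'a, hQ'a, map_add]
  refine ⟨Q', e.conj A, ?_, ?_, hM, ?_⟩
  · apply Cfsg.Agent.Helper13.nondeg_of_polar
    intro x hx
    have h1 : e.symm x = 0 := by
      apply hQ.1
      intro y
      have := hx (e y)
      rw [hpol, e.symm_apply_apply] at this
      exact this
    have := congrArg e h1
    rwa [e.apply_symm_apply, map_zero] at this
  · intro x
    rw [hQ'a, hQ'a, LinearEquiv.conj_apply_apply, e.symm_apply_apply, hA]
  · have h3 : e.conj A = e.conjRingEquiv A := rfl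
    rw [h3, ← hord]
    exact MulEquiv.orderOf_eq e.conjRingEquiv.toMulEquiv A

end pieces

end Cfsg.Agent.Helper15.S74
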