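import Mathlib
import Cfsg.Prelude.Def_Classical
import Cfsg.Agent.Lib.Helper15.S74Defs
import Cfsg.Agent.Lib.Helper21.S74ODefs
import Cfsg.Agent.Lib.Helper13.OrthEmbed
import Cfsg.Agent.Lib.Helper17.OmegaAll
import Cfsg.Agent.Lib.Helper2.OrthPOmega
import Cfsg.Agent.Lib.Helper21.S74OTRANS
import Cfsg.Agent.Lib.Helper21.S74OORDPROD
import Cfsg.Agent.Lib.Helper21.S74OSIM
import Cfsg.Agent.Lib.Helper3.S74OPAD
import Cfsg.Agent.Lib.Helper3.S74OROT4
import Cfsg.Agent.Lib.Helper3.S74OUNI3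
import Cfsg.Agent.Lib.Helper3.S74OCYC
import Cfsg.Agent.Lib.Helper3.S74OFROB
import Cfsg.Agent.Lib.Helper3.S74OPLUSFORM
import Cfsg.Agent.Lib.Helper13.S74OMINUSFORM
import Cfsg.Agent.Lib.Helper25.S74OCENTER
import Cfsg.Agent.Lib.Helper9.S74OCONJ

/-!
# S2474, part T3 (helper21): `ex_POmega` - `Phi` implies that `r * s` is an element order of
`PΩ_{2n+1}(q)`.  Assembly of the pieces S74O-*; see `plans/S2474_T3_plan.md`.
-/

set_option autoImplicit false
set_option linter.style.haveILetI false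

namespace Cfsg.Agent.Helper15.S74

open QuadraticMap

universe u v w

section asm

variable {F : Type u} [Field F]

theorem omodel_prod {d₁ d₂ M₁ M₂ : ℕ} (h₁ : OModel F d₁ M₁) (h₂ : OModel F d₂ M₂) :
    OModel F (d₁ + d₂) (Nat.lcm M₁ M₂) := by
  obtain ⟨Q₁, A₁, hQ₁, hA₁, hM₁, ho₁⟩ := h₁
  obtain ⟨Q₂, A₂, hQ₂, hA₂, hM₂, ho₂⟩ := h₂
  refine omodel_of_space (QuadraticMap.prod Q₁ Q₂) (A₁.prodMap A₂) (d₁ + d₂) _ ?_
    (Cfsg.Agent.Helper13.OrthSS.nondeg_prod Q₁ Q₂ hQ₁ hQ₂) ?_ (Nat.lcm_pos hM₁ hM₂) ?_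
  · rw [Module.finrank_prod, Module.finrank_fin_fun, Module.finrank_fin_fun]
  · rintro ⟨x, y⟩
    show QuadraticMap.prod Q₁ Q₂ (A₁ x, A₂ y) = _
    rw [QuadraticMap.prod_apply, QuadraticMap.prod_apply, hA₁, hA₂]
  · rw [orderOf_prodMap, ho₁, ho₂]

theorem omodel_cast {d d' M M' : ℕ} (h : OModel F d M) (hd : d = d') (hM : M = M') :
    OModel F d' M' := by
  subst hd; subst hM; exact h

theorem s74o_one_lt_pow [Fintype F] (d : ℕ) (hd : 1 ≤ d) : 1 < Fintype.card F ^ d :=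
  Nat.one_lt_pow (by omega) Fintype.one_lt_card

theorem omodel_plus [Fintype F] (p : ℕ) [Fact p.Prime] [CharP F p] (d M : ℕ) (hd : 1 ≤ d)
    (hM : M ∣ Fintype.card F ^ d - 1) : OModel F (2 * d) M := by
  haveI : NeZero d := ⟨by omega⟩
  let K := FiniteField.Extension F p d
  letI : Fintype K := Fintype.ofFinite K
  have hdim : Module.finrank F K = d := FiniteField.finrank_extension F p d
  have hK : Fintype.card K = Fintype.card F ^ d := by
    rw [Fintype.card_eq_nat_card, FiniteField.natCard_extension F p d, Nat.card_eq_fintype_card]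
  have h1 := s74o_one_lt_pow (F := F) d hd
  have hMpos : 0 < M := Nat.pos_of_dvd_of_pos hM (by omega)
  obtain ⟨γ, hγ0, hγ⟩ := exists_orderOf_eq_of_dvd (K := K) M (by rw [hK]; exact hM)
  obtain ⟨Q, A, hQ, hA, hord⟩ := exists_plus_form (F := F) γ hγ0
  refine omodel_of_space Q A (2 * d) M ?_ hQ hA hMpos (by rw [hord, hγ])
  rw [Module.finrank_prod, hdim]; ring

theorem s74o_sq_sub_one (a : ℕ) (ha : 1 ≤ a) : a ^ 2 - 1 = (a - 1) * (a + 1) := by
  obtain ⟨b, rfl⟩ : ∃ b, a = b + 1 := ⟨a - 1, by omega⟩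
  have : (b + 1) ^ 2 = b * (b + 1 + 1) + 1 := by ring
  rw [this]
  simp

theorem s74o_pow_two_mul_sub_one (q d : ℕ) (hq : 1 ≤ q) :
    q ^ (2 * d) - 1 = (q ^ d - 1) * (q ^ d + 1) := by
  rw [mul_comm 2 d, pow_mul]
  exact s74o_sq_sub_one _ (Nat.one_le_pow _ _ hq)

theorem omodel_minus [Fintype F] (p : ℕ) [Fact p.Prime] [CharP F p] (h2 : (2 : F) ≠ 0) (d M : ℕ)
    (hd : 1 ≤ d) (hM : M ∣ Fintype.card F ^ d + 1) : OModel F (2 * d) M := by
  haveI : NeZero (2 * d) := ⟨by omega⟩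
  let K := FiniteField.Extension F p (2 * d)
  letI : Fintype K := Fintype.ofFinite K
  have hdim : Module.finrank F K = 2 * d := FiniteField.finrank_extension F p (2 * d)
  have hK : Fintype.card K = Fintype.card F ^ (2 * d) := by
    rw [Fintype.card_eq_nat_card, FiniteField.natCard_extension F p (2 * d),
      Nat.card_eq_fintype_card]
  have hq1 : 1 ≤ Fintype.card F := Fintype.card_pos
  have hMpos : 0 < M := Nat.pos_of_dvd_of_pos hM (by omega)
  obtain ⟨l, hl0, hl⟩ := exists_orderOf_eq_of_dvd (K := K) M (by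
    rw [hK, s74o_pow_two_mul_sub_one _ _ hq1]
    exact Dvd.dvd.mul_left hM _)
  obtain ⟨σ, hσ1, hσ2⟩ := exists_frob_half (F := F) p d
  have hlσ : l * σ l = 1 := by
    rw [hσ1, ← pow_succ']
    apply orderOf_dvd_iff_pow_eq_one.mp
    rw [hl]
    exact hM
  obtain ⟨Q, A, hQ, hA, hord⟩ := exists_minus_form (F := F) h2 σ hσ2 l hlσ
  exact omodel_of_space Q A (2 * d) M hdim hQ hA hMpos (by rw [hord, hl])

theorem omodel_tblock [Fintype F] (p : ℕ) [Fact p.Prime] [CharP F p] (h2 : (2 : F) ≠ 0)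
    (t d : ℕ) (ht : t.Prime) (hd : 1 ≤ d) (hdvd : t ∣ Fintype.card F ^ (2 * d) - 1) :
    OModel F (2 * d) t := by
  rw [s74o_pow_two_mul_sub_one _ _ Fintype.card_pos] at hdvd
  rcases (Nat.Prime.dvd_mul ht).mp hdvd with h | h
  · exact omodel_plus p d t hd h
  · exact omodel_minus p h2 d t hd h

theorem s74o_sq_mem {ι : Type} [Fintype ι] [DecidableEq ι] [Fintype F]
    (Qm : QuadraticForm F (ι → F)) (hQ : (polarBilin Qm).Nondegenerate)
    (hex : Fintype.card F ≠ 2 ∨ Fintype.card ι ≠ 4) (S : (ι → F) → F) (hS : S = ⇑Qm)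
    (h : ↥(Cfsg.isometryGroup F S)) : h * h ∈ Cfsg.Omega F S := by
  subst hS
  exact Cfsg.Agent.Helper17.Spinor.sq_mem_Omega Qm hQ hex h

theorem range_of_omodel [Fintype F] (h2 : (2 : F) ≠ 0) (n : ℕ) (hn : 2 ≤ n) (M : ℕ)
    (h : OModel F (2 * n + 1) M) :
    M / Nat.gcd M 2 ∈ Set.range (orderOf : Cfsg.POmega F (Cfsg.quadFormOdd n F) → ℕ) := by
  classical
  obtain ⟨Q, A, hQ, hA, hM, hord⟩ := h
  obtain ⟨c, e, hc, he⟩ := exists_similitude_odd h2 n Q hQ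
  obtain ⟨h, hh⟩ :=
    exists_isometry_of_similitude (Cfsg.quadFormOdd n F) Q A hA M hM hord c hc e he
  have hex : Fintype.card F ≠ 2 ∨ Fintype.card (Unit ⊕ (Fin n ⊕ Fin n)) ≠ 4 := by
    right
    simp only [Fintype.card_sum, Fintype.card_fin, Fintype.card_unit]
    omega
  have hmem : h * h ∈ Cfsg.Omega F (Cfsg.quadFormOdd n F) :=
    s74o_sq_mem _ (Cfsg.Agent.Helper2.Orth.nondeg_odd (F := F) n h2) hex _
      (Cfsg.Agent.Helper2.Orth.quadFormOdd_eq n) h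
  refine ⟨QuotientGroup.mk ⟨h * h, hmem⟩, ?_⟩
  rw [orderOf_mk_POmega_odd h2 n hn, Subgroup.orderOf_mk, ← pow_two, orderOf_pow' h two_ne_zero,
    hh]

end asm

section cases

variable {F : Type u} [Field F] [Fintype F] (p : ℕ) [Fact p.Prime] [CharP F p]

theorem s74o_two_ne_zero (hp2 : p ≠ 2) : (2 : F) ≠ 0 := by
  intro h
  have h' : ((2 : ℕ) : F) = 0 := by exact_mod_cast h
  rw [CharP.cast_eq_zero_iff F p] at h'
  have hp : p.Prime := Fact.out
  exact hp2 ((Nat.prime_dvd_prime_iff_eq hp Nat.prime_two).mp h')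

theorem s74o_coprime_four (t : ℕ) (ht : t.Prime) (ht2 : t ≠ 2) : Nat.Coprime 4 t := by
  have h : Nat.Coprime 2 t := (Nat.coprime_primes Nat.prime_two ht).mpr (Ne.symm ht2)
  have h' : Nat.Coprime (2 ^ 2) t := Nat.Coprime.pow_left 2 h
  norm_num at h'
  exact h'

theorem omodel_caseD (hp2 : p ≠ 2) (n : ℕ) (hn : 3 ≤ n) : OModel F (2 * n + 1) (4 * p) := by
  have h2 := s74o_two_ne_zero (F := F) p hp2
  have hp : p.Prime := Fact.out
  have h1 := omodel_prod (omodel_prod (omodel_rot4 h2) (omodel_uni3 (F := F) p hp2))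
    (omodel_pad h2 (2 * n + 1 - 5))
  refine omodel_cast h1 (by omega) ?_
  rw [Nat.lcm_one_right, (s74o_coprime_four p hp hp2).lcm_eq_mul]

theorem omodel_caseB (hp2 : p ≠ 2) (n : ℕ) (t : ℕ) (ht : t.Prime) (htp : t ≠ p)
    (hsm : Small (Fintype.card F) t (n - 1)) : OModel F (2 * n + 1) (t * p) := by
  have h2 := s74o_two_ne_zero (F := F) p hp2
  have hp : p.Prime := Fact.out
  obtain ⟨d, hd1, hdn, hdvd⟩ := hsm
  have h1 := omodel_prod (omodel_prod (omodel_tblock p h2 t d ht hd1 hdvd)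
    (omodel_uni3 (F := F) p hp2)) (omodel_pad h2 (2 * n + 1 - 2 * d - 3))
  refine omodel_cast h1 (by omega) ?_
  rw [Nat.lcm_one_right, ((Nat.coprime_primes ht hp).mpr htp).lcm_eq_mul]

theorem omodel_caseC (hp2 : p ≠ 2) (n : ℕ) (hn : 1 ≤ n) (t : ℕ) (ht : t.Prime) (ht2 : t ≠ 2)
    (hC : PhiC (Fintype.card F) n t) : OModel F (2 * n + 1) (4 * t) := by
  have h2 := s74o_two_ne_zero (F := F) p hp2
  have hcop : Nat.Coprime 4 t := s74o_coprime_four t ht ht2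
  rcases hC with ⟨d, hd1, hdn, hdvd⟩ | ⟨h1, h4⟩ | ⟨h1, h4⟩
  · have h3 := omodel_prod (omodel_prod (omodel_tblock p h2 t d ht hd1 hdvd) (omodel_rot4 h2))
      (omodel_pad h2 (2 * n + 1 - 2 * d - 2))
    refine omodel_cast h3 (by omega) ?_
    rw [Nat.lcm_one_right, hcop.symm.lcm_eq_mul, mul_comm]
  · have hdvd : 4 * t ∣ Fintype.card F ^ n - 1 := hcop.mul_dvd_of_dvd_of_dvd h4 h1
    have h3 := omodel_prod (omodel_plus p n (4 * t) hn hdvd) (omodel_pad h2 1)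
    exact omodel_cast h3 rfl (Nat.lcm_one_right _)
  · have hdvd : 4 * t ∣ Fintype.card F ^ n + 1 := hcop.mul_dvd_of_dvd_of_dvd h4 h1
    have h3 := omodel_prod (omodel_minus p h2 n (4 * t) hn hdvd) (omodel_pad h2 1)
    exact omodel_cast h3 rfl (Nat.lcm_one_right _)

theorem omodel_caseA (hp2 : p ≠ 2) (n : ℕ) (r s : ℕ) (hr : r.Prime) (hs : s.Prime)
    (hrs : r ≠ s) (hA : PhiA (Fintype.card F) n r s) : OModel F (2 * n + 1) (r * s) := by
  have h2 := s74o_two_ne_zero (F := F) p hp2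
  rcases hA with ⟨a, b, ha, hb, hab, hra, hsb⟩ | ⟨d, hd1, hdn, h | h⟩
  · have h1 := omodel_prod (omodel_prod (omodel_tblock p h2 r a hr ha hra)
      (omodel_tblock p h2 s b hs hb hsb)) (omodel_pad h2 (2 * n + 1 - 2 * a - 2 * b))
    refine omodel_cast h1 (by omega) ?_
    rw [Nat.lcm_one_right, ((Nat.coprime_primes hr hs).mpr hrs).lcm_eq_mul]
  · have h1 := omodel_prod (omodel_plus p d (r * s) hd1 h) (omodel_pad h2 (2 * n + 1 - 2 * d))
    exact omodel_cast h1 (by omega) (Nat.lcm_one_right _)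
  · have h1 := omodel_prod (omodel_minus p h2 d (r * s) hd1 h)
      (omodel_pad h2 (2 * n + 1 - 2 * d))
    exact omodel_cast h1 (by omega) (Nat.lcm_one_right _)

theorem s74o_div_gcd_odd (M : ℕ) (h : Odd M) : M / Nat.gcd M 2 = M := by
  have h1 : Nat.gcd M 2 = 1 := Nat.Coprime.gcd_eq_one (Nat.coprime_two_right.mpr h)
  rw [h1, Nat.div_one]

theorem s74o_div_gcd_four (m : ℕ) : (4 * m) / Nat.gcd (4 * m) 2 = 2 * m := by
  have h1 : Nat.gcd (4 * m) 2 = 2 := Nat.gcd_eq_right ⟨2 * m, by ring⟩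
  rw [h1]
  omega

theorem ex_POmega_aux (hp2 : p ≠ 2) (n : ℕ) (hn : 3 ≤ n) (r s : ℕ) (hr : r.Prime) (hs : s.Prime)
    (hrs : r ≠ s)
    (h : (r = p ∧ (s = 2 ∨ Small (Fintype.card F) s (n - 1))) ∨
      (r = 2 ∧ PhiC (Fintype.card F) n s) ∨
      (r ≠ 2 ∧ s ≠ 2 ∧ PhiA (Fintype.card F) n r s)) :
    r * s ∈ Set.range (orderOf : Cfsg.POmega F (Cfsg.quadFormOdd n F) → ℕ) := by
  have h2 := s74o_two_ne_zero (F := F) p hp2
  have hp : p.Prime := Fact.out
  rcases h with ⟨hrp, hsm⟩ | ⟨hr2, hC⟩ | ⟨hr2, hs2, hA⟩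
  · by_cases hs2 : s = 2
    · have h3 := range_of_omodel h2 n (by omega) (4 * p) (omodel_caseD (F := F) p hp2 n hn)
      rw [s74o_div_gcd_four] at h3
      rw [hrp, hs2, mul_comm]
      exact h3
    · have hsm' : Small (Fintype.card F) s (n - 1) := hsm.resolve_left hs2
      have hsp : s ≠ p := fun h => hrs (hrp.trans h.symm)
      have h3 := range_of_omodel h2 n (by omega) (s * p)
        (omodel_caseB (F := F) p hp2 n s hs hsp hsm')
      rw [s74o_div_gcd_odd _ ((hs.odd_of_ne_two hs2).mul (hp.odd_of_ne_two hp2))] at h3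
      rw [hrp, mul_comm]
      exact h3
  · have hs2 : s ≠ 2 := fun h => hrs (hr2.trans h.symm)
    have h3 := range_of_omodel h2 n (by omega) (4 * s)
      (omodel_caseC (F := F) p hp2 n (by omega) s hs hs2 hC)
    rw [s74o_div_gcd_four] at h3
    rw [hr2]
    exact h3
  · have h3 := range_of_omodel h2 n (by omega) (r * s)
      (omodel_caseA (F := F) p hp2 n r s hr hs hrs hA)
    rw [s74o_div_gcd_odd _ ((hr.odd_of_ne_two hr2).mul (hs.odd_of_ne_two hs2))] at h3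
    exact h3

end cases

/-- T3 (helper21): existence in `PΩ_{2n+1}(q)` -/
theorem ex_POmega {F : Type u} [Field F] [Fintype F] (p : ℕ) [Fact p.Prime] [CharP F p]
    (hp2 : p ≠ 2) (n : ℕ) (hn : 3 ≤ n) (r s : ℕ) (hr : r.Prime) (hs : s.Prime) (hrs : r ≠ s)
    (h : Phi (Fintype.card F) p n r s) :
    r * s ∈ Set.range (orderOf : Cfsg.POmega F (Cfsg.quadFormOdd n F) → ℕ) := by
  rcases h with h | h | ⟨_, _, h3, h4⟩ | ⟨_, _, h3, h4⟩ | ⟨_, _, h3, h4, h5⟩
  · exact ex_POmega_aux p hp2 n hn r s hr hs hrs (Or.inl h)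
  · rw [mul_comm]
    exact ex_POmega_aux p hp2 n hn s r hs hr (Ne.symm hrs) (Or.inl h)
  · exact ex_POmega_aux p hp2 n hn r s hr hs hrs (Or.inr (Or.inl ⟨h3, h4⟩))
  · rw [mul_comm]
    exact ex_POmega_aux p hp2 n hn s r hs hr (Ne.symm hrs) (Or.inr (Or.inl ⟨h3, h4⟩))
  · exact ex_POmega_aux p hp2 n hn r s hr hs hrs (Or.inr (Or.inr ⟨h3, h4, h5⟩))

end Cfsg.Agent.Helper15.S74
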