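import Mathlib
import Cfsg.Agent.Lib.Helper21.PresIso

/-!
# Abstract semidihedral Sylow datum

`SDData G k`: a finite group `G` with elements `a` (order `2^(k+3)`), `b` (involution) with
`b a b⁻¹ = a^(2^(k+2) - 1)`, `S = ⟨a, b⟩` a Sylow `2`-subgroup, `z₀ = a^(2^(k+2))` central, a normal subgroup
`G₁` with `a ∉ G₁`, `a², ab ∈ G₁`, and all elements of square `z₀` conjugate under `G₁`.
Consequences: an abelian subgroup of `S` not inside `⟨z₀⟩` is never closed under fusion.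
-/

set_option autoImplicit false

namespace Cfsg.Agent.Helper21.SDAbs

open Cfsg.Agent.Helper21.PresIso

structure SDData (G : Type*) [Group G] (k : ℕ) where
  a : G
  b : G
  G₁ : Subgroup G
  normal : G₁.Normal
  ord_a : orderOf a = 2 ^ (k + 3)
  sq_b : b * b = 1
  conj : b * a * b⁻¹ = a ^ (2 ^ (k + 2) - 1)
  b_not : b ∉ Subgroup.zpowers a
  central : a ^ (2 ^ (k + 2)) ∈ Subgroup.center G
  a_not : a ∉ G₁
  aa_mem : a * a ∈ G₁
  ab_mem : a * b ∈ G₁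
  fuse : ∀ x y : G, x * x = a ^ (2 ^ (k + 2)) → y * y = a ^ (2 ^ (k + 2)) →
    ∃ h ∈ G₁, h * x * h⁻¹ = y
  sylow : ∃ P : Sylow 2 G, (P : Subgroup G) = Subgroup.closure {a, b}

namespace SDData

variable {G : Type*} [Group G] {k : ℕ} (D : SDData G k)

/-- `K = 2^k` -/
def K (_ : SDData G k) : ℕ := 2 ^ k

theorem K_pos : 0 < D.K := Nat.pos_of_ne_zero (pow_ne_zero _ (by norm_num))

theorem ord_a' : orderOf D.a = 8 * D.K := by
  rw [D.ord_a, K, pow_add]; ring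

theorem pow_M : (2 : ℕ) ^ (k + 2) = 4 * D.K := by
  rw [K, pow_add]; ring

theorem conj' : D.b * D.a * D.b⁻¹ = D.a ^ (4 * D.K - 1) := by
  rw [D.conj, D.pow_M]

/-- the central involution -/
def z₀ : G := D.a ^ (4 * D.K)

/-- the element of order four of `⟨a⟩` -/
def ι : G := D.a ^ (2 * D.K)

/-- the Sylow subgroup -/
def S : Subgroup G := Subgroup.closure {D.a, D.b}

theorem a_pow_eq_one : D.a ^ (8 * D.K) = 1 := by
  rw [← D.ord_a']; exact pow_orderOf_eq_one _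

theorem z₀_central : D.z₀ ∈ Subgroup.center G := by
  have := D.central
  rwa [D.pow_M] at this

theorem z₀_comm (g : G) : g * D.z₀ = D.z₀ * g :=
  Subgroup.mem_center_iff.mp D.z₀_central g

theorem z₀_sq : D.z₀ * D.z₀ = 1 := by
  rw [z₀, ← pow_add, ← D.a_pow_eq_one]; congr 1; ring

theorem z₀_ne_one : D.z₀ ≠ 1 := by
  rw [z₀]
  apply pow_ne_one_of_lt_orderOf
  · have := D.K_pos; omega
  · rw [D.ord_a']; have := D.K_pos; omega

theorem ι_sq : D.ι * D.ι = D.z₀ := by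
  rw [ι, z₀, ← pow_add]; congr 1; ring

theorem ι_pow_four : D.ι ^ 4 = 1 := by
  rw [ι, ← pow_mul, ← D.a_pow_eq_one]; congr 1; ring

theorem ι_inv_ne : D.ι⁻¹ ≠ D.ι := by
  intro h
  apply D.z₀_ne_one
  rw [← D.ι_sq]
  nth_rewrite 1 [← h]
  exact inv_mul_cancel _

theorem a_mem_S : D.a ∈ D.S := Subgroup.subset_closure (by simp)

theorem b_mem_S : D.b ∈ D.S := Subgroup.subset_closure (by simp)

theorem b_inv : D.b⁻¹ = D.b := inv_eq_of_mul_eq_one_left D.sq_b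

theorem conj_pow (i : ℕ) : D.b * D.a ^ i * D.b⁻¹ = D.a ^ ((4 * D.K - 1) * i) := by
  rw [pow_mul, ← D.conj', _root_.conj_pow]

theorem b_mul_pow (i : ℕ) : D.b * D.a ^ i = D.a ^ ((4 * D.K - 1) * i) * D.b := by
  rw [← D.conj_pow, inv_mul_cancel_right]

theorem conj_ι : D.b * D.ι * D.b⁻¹ = D.ι⁻¹ := by
  rw [ι, D.conj_pow, eq_inv_iff_mul_eq_one, ← pow_add]
  have hK := D.K_pos
  have : (4 * D.K - 1) * (2 * D.K) + 2 * D.K = 8 * D.K * D.K := by
    obtain ⟨j, hj⟩ : ∃ j, 4 * D.K - 1 = j ∧ j + 1 = 4 * D.K := ⟨4 * D.K - 1, rfl, by omega⟩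
    rw [hj.1]
    have : (j + 1) * (2 * D.K) = 8 * D.K * D.K := by rw [hj.2]; ring
    linarith [this]
  rw [this, pow_mul, D.a_pow_eq_one, one_pow]

theorem conj_ι' (i : ℕ) : (D.a ^ i * D.b) * D.ι * (D.a ^ i * D.b)⁻¹ = D.ι⁻¹ := by
  have h1 : (D.a ^ i * D.b) * D.ι * (D.a ^ i * D.b)⁻¹ =
      D.a ^ i * (D.b * D.ι * D.b⁻¹) * (D.a ^ i)⁻¹ := by group
  rw [h1, D.conj_ι, ι]
  have hc : Commute (D.a ^ i) ((D.a ^ (2 * D.K))⁻¹) :=
    ((Commute.refl D.a).pow_pow i (2 * D.K)).inv_right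
  rw [hc.eq, mul_inv_cancel_right]

theorem sq_pow_mul_b (i : ℕ) : (D.a ^ i * D.b) * (D.a ^ i * D.b) = D.z₀ ^ i := by
  have h1 : (D.a ^ i * D.b) * (D.a ^ i * D.b) = D.a ^ i * (D.b * D.a ^ i) * D.b := by group
  rw [h1, D.b_mul_pow, ← mul_assoc, mul_assoc, D.sq_b, mul_one, ← pow_add, z₀, ← pow_mul]
  congr 1
  have hK := D.K_pos
  obtain ⟨j, hj⟩ : ∃ j, 4 * D.K - 1 = j ∧ j + 1 = 4 * D.K := ⟨4 * D.K - 1, rfl, by omega⟩
  rw [hj.1]
  have : (j + 1) * i = 4 * D.K * i := by rw [hj.2]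
  linarith [this]

theorem sq_ab : (D.a * D.b) * (D.a * D.b) = D.z₀ := by
  have := D.sq_pow_mul_b 1
  rwa [pow_one, pow_one] at this

theorem card_S [Finite G] : Nat.card D.S = 2 * (8 * D.K) := by
  have := (card_closure_pair D.a D.b (8 * D.K) D.ord_a'
    (D.conj' ▸ Subgroup.pow_mem _ (Subgroup.mem_zpowers _) _)
    (D.sq_b ▸ Subgroup.one_mem _) D.b_not).1
  exact this

theorem normal_form [Finite G] {g : G} (hg : g ∈ D.S) :
    (∃ i : ℕ, g = D.a ^ i) ∨ ∃ i : ℕ, g = D.a ^ i * D.b := by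
  have := (card_closure_pair D.a D.b (8 * D.K) D.ord_a'
    (D.conj' ▸ Subgroup.pow_mem _ (Subgroup.mem_zpowers _) _)
    (D.sq_b ▸ Subgroup.one_mem _) D.b_not).2 g hg
  rcases this with h | h
  · left
    rw [← (isOfFinOrder_of_finite D.a).mem_powers_iff_mem_zpowers, Submonoid.mem_powers_iff] at h
    obtain ⟨i, hi⟩ := h
    exact ⟨i, hi.symm⟩
  · right
    rw [← (isOfFinOrder_of_finite D.a).mem_powers_iff_mem_zpowers, Submonoid.mem_powers_iff] at h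
    obtain ⟨i, hi⟩ := h
    exact ⟨i, by rw [hi, inv_mul_cancel_right]⟩

/-- `Z = ⟨z₀⟩` -/
def Z : Subgroup G := Subgroup.zpowers D.z₀

theorem Z_le_center : D.Z ≤ Subgroup.center G := by
  rw [Z, Subgroup.zpowers_le]; exact D.z₀_central

theorem mem_Z_iff {g : G} : g ∈ D.Z ↔ g = 1 ∨ g = D.z₀ := by
  constructor
  · intro h
    rw [Z, Subgroup.mem_zpowers_iff] at h
    obtain ⟨n, rfl⟩ := h
    rcases Int.even_or_odd' n with ⟨j, rfl | rfl⟩
    · left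
      rw [zpow_mul, zpow_two, D.z₀_sq, one_zpow]
    · right
      rw [zpow_add, zpow_mul, zpow_two, D.z₀_sq, one_zpow, one_mul, zpow_one]
  · rintro (rfl | rfl)
    · exact Subgroup.one_mem _
    · exact Subgroup.mem_zpowers _

theorem ι_not_mem_Z : D.ι ∉ D.Z := by
  rw [mem_Z_iff]
  rintro (h | h)
  · apply D.z₀_ne_one; rw [← D.ι_sq, h, one_mul]
  · apply D.z₀_ne_one
    have := D.ι_sq
    rw [h, D.z₀_sq] at this
    exact this.symm

/-- a power of `a` outside `Z` has `ι` among its powers -/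
theorem ι_mem_of_pow_not_mem_Z (T : Subgroup G) (i : ℕ) (hT : D.a ^ i ∈ T) (hZ : D.a ^ i ∉ D.Z) :
    D.ι ∈ T := by
  have hi0 : i ≠ 0 := by
    rintro rfl
    apply hZ
    rw [pow_zero]; exact Subgroup.one_mem _
  obtain ⟨e, j, hjodd, hij⟩ := Nat.exists_eq_two_pow_mul_odd hi0
  have he : e ≤ k + 1 := by
    by_contra hcon
    push Not at hcon
    apply hZ
    obtain ⟨d, hd⟩ := Nat.exists_eq_add_of_le (show k + 2 ≤ e by omega)
    have : D.a ^ i = D.z₀ ^ (2 ^ d * j) := by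
      rw [z₀, ← pow_mul, hij, hd, K]
      congr 1
      rw [pow_add, pow_add]; ring
    rw [this]
    exact Subgroup.pow_mem _ (Subgroup.mem_zpowers _) _
  obtain ⟨d, hd⟩ := Nat.exists_eq_add_of_le he
  obtain ⟨l, hl⟩ := hjodd
  have h1 : (D.a ^ i) ^ (2 ^ d * j) = D.ι := by
    rw [← pow_mul, hij]
    have h2 : 2 ^ e * j * (2 ^ d * j) = 2 * D.K * (4 * (l * l + l) + 1) := by
      have : 2 * D.K = 2 ^ e * 2 ^ d := by
        rw [K, ← pow_add, ← hd, pow_succ]; ring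
      rw [this, hl]; ring
    rw [h2, pow_mul, ← ι, pow_add, pow_mul, D.ι_pow_four, one_pow, one_mul, pow_one]
  rw [← h1]
  exact Subgroup.pow_mem _ hT _

/-- **Core (semidihedral).** -/
theorem core_sd [Finite G] (T : Subgroup G) (hTS : T ≤ D.S)
    (hab : ∀ x ∈ T, ∀ y ∈ T, x * y = y * x) (hnZ : ¬ T ≤ D.Z)
    (hfc : ∀ t ∈ T, ∀ g : G, g * t * g⁻¹ ∈ D.S → g * t * g⁻¹ ∈ T) : False := by
  have hK := D.K_pos
  -- no element `a^i b` lies in `T`
  have hA : ∀ i : ℕ, D.a ^ i * D.b ∉ T := by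
    intro i ht
    obtain ⟨t, htdef⟩ : ∃ t, t = D.a ^ i * D.b := ⟨_, rfl⟩
    rw [← htdef] at ht
    have htS : t ∈ D.S := hTS ht
    have h1 : D.a * t * D.a⁻¹ ∈ T :=
      hfc t ht D.a (D.S.mul_mem (D.S.mul_mem D.a_mem_S htS) (D.S.inv_mem D.a_mem_S))
    have hu : D.a * t * D.a⁻¹ * t⁻¹ ∈ T := T.mul_mem h1 (T.inv_mem ht)
    -- `u = a^(4K+2)`
    have hucalc : D.a * t * D.a⁻¹ * t⁻¹ = D.a ^ (4 * D.K + 2) := by
      have e1 : D.a * t * D.a⁻¹ * t⁻¹ =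
          D.a ^ (i + 1) * (D.b * D.a * D.b⁻¹)⁻¹ * (D.a ^ i)⁻¹ := by
        rw [htdef, pow_succ]; group
      rw [e1, D.conj', mul_inv_eq_iff_eq_mul, mul_inv_eq_iff_eq_mul, ← pow_add, ← pow_add]
      have : 4 * D.K + 2 + i + (4 * D.K - 1) = (i + 1) + 8 * D.K := by omega
      rw [this, pow_add (D.a) (i + 1) (8 * D.K), D.a_pow_eq_one, mul_one]
    rw [hucalc] at hu
    -- `t u t⁻¹ = u⁻¹`
    have hcomm := hab t ht _ hu
    have hconj : t * D.a ^ (4 * D.K + 2) * t⁻¹ = (D.a ^ (4 * D.K + 2))⁻¹ := by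
      have e1 : t * D.a ^ (4 * D.K + 2) * t⁻¹ =
          D.a ^ i * (D.b * D.a ^ (4 * D.K + 2) * D.b⁻¹) * (D.a ^ i)⁻¹ := by
        rw [htdef]; group
      rw [e1, D.conj_pow, ((Commute.refl D.a).pow_pow i _).eq, mul_inv_cancel_right,
        eq_inv_iff_mul_eq_one, ← pow_add]
      have : (4 * D.K - 1) * (4 * D.K + 2) + (4 * D.K + 2) = 8 * D.K * (2 * D.K + 1) := by
        obtain ⟨j, hj⟩ : ∃ j, 4 * D.K - 1 = j ∧ j + 1 = 4 * D.K := ⟨4 * D.K - 1, rfl, by omega⟩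
        rw [hj.1]
        have : (j + 1) * (4 * D.K + 2) = 8 * D.K * (2 * D.K + 1) := by rw [hj.2]; ring
        linarith [this]
      rw [this, pow_mul, D.a_pow_eq_one, one_pow]
    have hinv : (D.a ^ (4 * D.K + 2))⁻¹ = D.a ^ (4 * D.K + 2) := by
      rw [← hconj, hcomm, mul_inv_cancel_right]
    have h4 : D.a ^ 4 = 1 := by
      have h5 : D.a ^ (4 * D.K + 2) * D.a ^ (4 * D.K + 2) = 1 := by
        nth_rewrite 1 [← hinv]; exact inv_mul_cancel _
      rw [← pow_add] at h5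
      have : 4 * D.K + 2 + (4 * D.K + 2) = 8 * D.K + 4 := by ring
      rw [this, pow_add, D.a_pow_eq_one, one_mul] at h5
      exact h5
    have := orderOf_dvd_of_pow_eq_one h4
    rw [D.ord_a'] at this
    have := Nat.le_of_dvd (by norm_num) this
    omega
  obtain ⟨t, htT, htZ⟩ := SetLike.not_le_iff_exists.mp hnZ
  rcases D.normal_form (hTS htT) with ⟨i, rfl⟩ | ⟨i, rfl⟩
  · have hι := D.ι_mem_of_pow_not_mem_Z T i htT htZ
    obtain ⟨h, -, hh⟩ := D.fuse D.ι (D.a * D.b) (by rw [D.ι_sq, z₀, D.pow_M])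
      (by rw [D.sq_ab, z₀, D.pow_M])
    have h2 : D.a * D.b ∈ T := by
      rw [← hh]
      apply hfc _ hι
      rw [hh]
      exact D.S.mul_mem D.a_mem_S D.b_mem_S
    have := hA 1
    rw [pow_one] at this
    exact this h2
  · exact hA i htT

end SDData

end Cfsg.Agent.Helper21.SDAbs
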