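import Mathlib
import Cfsg.Agent.Lib.Helper21.SDAbs1
import Cfsg.Agent.Lib.Helper21.RealSys

/-!
# Semidihedral and dihedral `2`-groups carry saturated fusion systems without cyclic chains
-/

set_option autoImplicit false

namespace Cfsg.Agent.Helper21.SDAbs

open Cfsg Cfsg.FusionSystem Cfsg.Agent.Helper21.PresIso Cfsg.Agent.Helper21.RealSys

/-- the "no chain" statement -/
def NoChain {Ω : Type*} [Group Ω] {S' : Subgroup Ω} (F : FusionSystem S') : Prop :=
  ¬ ∃ (m : ℕ) (c : Fin (m + 1) → Subgroup Ω), c 0 = ⊥ ∧ c (Fin.last m) = S' ∧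
    (∀ i : Fin (m + 1), F.StronglyClosed (c i)) ∧
    ∀ i : Fin m, c i.castSucc ≤ c i.succ ∧
      ∃ x ∈ S', c i.succ = c i.castSucc ⊔ Subgroup.zpowers x

theorem abelian_sup {G : Type*} [Group G] (U₀ : Subgroup G) (hU : U₀ ≤ Subgroup.center G) (x : G) :
    ∀ u ∈ U₀ ⊔ Subgroup.zpowers x, ∀ v ∈ U₀ ⊔ Subgroup.zpowers x, u * v = v * u := by
  have h1 : U₀ ⊔ Subgroup.zpowers x ≤ Subgroup.centralizer ({x} : Set G) := by
    apply sup_le
    · intro u hu
      rw [Subgroup.mem_centralizer_iff]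
      intro y hy
      rw [Set.mem_singleton_iff] at hy
      subst hy
      exact (Subgroup.mem_center_iff.mp (hU hu) y)
    · rw [Subgroup.zpowers_le, Subgroup.mem_centralizer_iff]
      intro y hy
      rw [Set.mem_singleton_iff] at hy
      rw [hy]
  have h2 : U₀ ⊔ Subgroup.zpowers x ≤
      Subgroup.centralizer ((U₀ ⊔ Subgroup.zpowers x : Subgroup G) : Set G) := by
    apply sup_le
    · intro u hu
      rw [Subgroup.mem_centralizer_iff]
      intro y _
      exact (Subgroup.mem_center_iff.mp (hU hu) y)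
    · rw [Subgroup.zpowers_le, Subgroup.mem_centralizer_iff]
      intro y hy
      have := h1 hy
      rw [Subgroup.mem_centralizer_iff] at this
      exact (this x (Set.mem_singleton x)).symm
  intro u hu v hv
  have := h2 hu
  rw [Subgroup.mem_centralizer_iff] at this
  exact (this v hv).symm

namespace SDData

variable {G : Type*} [Group G] {k : ℕ} (D : SDData G k)

theorem a_not_mem_Z : D.a ∉ D.Z := by
  intro h
  have h2 : D.a ^ 2 = 1 := by
    rcases D.mem_Z_iff.mp h with h | h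
    · rw [h, one_pow]
    · rw [pow_two]
      have h2 : D.a * D.a = D.z₀ * D.z₀ := congrArg₂ (· * ·) h h
      rw [h2]
      exact D.z₀_sq
  have := orderOf_dvd_of_pow_eq_one h2
  rw [D.ord_a'] at this
  have := Nat.le_of_dvd (by norm_num) this
  have := D.K_pos
  omega

theorem Z_le_zpowers : D.Z ≤ Subgroup.zpowers D.a := by
  rw [Z, Subgroup.zpowers_le, z₀]
  exact Subgroup.pow_mem _ (Subgroup.mem_zpowers _) _

theorem Z_le_S : D.Z ≤ D.S := D.Z_le_zpowers.trans (by
  rw [Subgroup.zpowers_le]; exact D.a_mem_S)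

/-- **Semidihedral groups.** -/
theorem out_sd [Finite G] (D : SDData G k) {Ω : Type*} [Group Ω] {S' : Subgroup Ω} [Finite S']
    (x y : S') (hx : orderOf x = 2 ^ (k + 3)) (hy : orderOf y = 2)
    (hxy : y * x * y⁻¹ = x ^ (2 ^ (k + 2) - 1)) (hcard : Nat.card S' = 2 ^ (k + 4)) :
    ∃ F : FusionSystem S', F.IsSaturated 2 ∧ NoChain F := by
  haveI : Fact (Nat.Prime 2) := ⟨Nat.prime_two⟩
  have hK := D.K_pos
  have hx' : orderOf x = 8 * D.K := by rw [hx, K, pow_add]; ring
  have hxy' : y * x * y⁻¹ = x ^ (4 * D.K - 1) := by rw [hxy, D.pow_M]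
  have hyy : y * y = 1 := by rw [← pow_two, ← hy]; exact pow_orderOf_eq_one y
  have hynot : y ∉ Subgroup.zpowers x := by
    intro h
    obtain ⟨j, hj⟩ := Subgroup.mem_zpowers_iff.mp h
    have hc : y * x = x * y := by
      rw [← hj]
      exact ((Commute.refl x).zpow_left j).eq
    have h1 : x ^ (4 * D.K - 1) = x := by
      rw [← hxy', hc, mul_inv_cancel_right]
    have h2 : x ^ (4 * D.K - 2) = 1 := by
      have : x ^ (4 * D.K - 1) = x ^ (4 * D.K - 2) * x := by
        rw [← pow_succ]; congr 1; omega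
      rw [this] at h1
      exact mul_eq_right.mp h1
    have := orderOf_dvd_of_pow_eq_one h2
    rw [hx'] at this
    have := Nat.le_of_dvd (by omega) this
    omega
  obtain ⟨e, -, -⟩ := pres_iso (8 * D.K) (4 * D.K - 1) 0 x y
    (⟨D.a, D.a_mem_S⟩ : D.S) (⟨D.b, D.b_mem_S⟩ : D.S) hx'
    (by rw [← Subgroup.orderOf_coe]; exact D.ord_a') hxy'
    (Subtype.ext (by
      simp only [Subgroup.coe_mul, Subgroup.coe_inv, Subgroup.coe_pow]; exact D.conj'))
    (by rw [pow_zero]; exact hyy)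
    (Subtype.ext (by simp only [Subgroup.coe_mul, pow_zero, Subgroup.coe_one]; exact D.sq_b))
    hynot
    (by
      intro h
      apply D.b_not
      obtain ⟨j, hj⟩ := Subgroup.mem_zpowers_iff.mp h
      rw [Subgroup.mem_zpowers_iff]
      refine ⟨j, ?_⟩
      have := congrArg Subtype.val hj
      rwa [Subgroup.coe_zpow] at this)
    (by rw [hcard, K, pow_add]; ring) D.card_S
  obtain ⟨ι, hιdef⟩ : ∃ ι : S' →* G, ι = D.S.subtype.comp e.toMonoidHom := ⟨_, rfl⟩
  have hι : Function.Injective ι := by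
    rw [hιdef]
    exact (Subgroup.subtype_injective _).comp e.injective
  have hrange : ι.range = D.S := by
    rw [hιdef, MonoidHom.range_comp]
    have : (e.toMonoidHom).range = ⊤ := MonoidHom.range_eq_top.mpr e.surjective
    rw [this, ← MonoidHom.range_eq_map, Subgroup.range_subtype]
  obtain ⟨P, hP⟩ := D.sylow
  have hPr : (P : Subgroup G) = ι.range := by rw [hP, hrange]; rfl
  apply no_chain ι hι P hPr D.Z
  · rw [hrange]
    intro h
    exact D.a_not_mem_Z (h D.a_mem_S)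
  · intro U₀ hU₀Z hU₀r x hx hnZ hfc
    rw [hrange] at hU₀r hx hfc
    apply D.core_sd (U₀ ⊔ Subgroup.zpowers x)
    · exact sup_le hU₀r (by rw [Subgroup.zpowers_le]; exact hx)
    · exact abelian_sup U₀ (hU₀Z.trans D.Z_le_center) x
    · exact hnZ
    · exact hfc

theorem Z_normal : D.Z.Normal := by
  constructor
  intro n hn g
  have := Subgroup.mem_center_iff.mp (D.Z_le_center hn) g
  rw [this, mul_inv_cancel_right]
  exact hn

/-- **Dihedral groups.** -/
theorem out_d [Finite G] (D : SDData G k) {Ω : Type*} [Group Ω] {S' : Subgroup Ω} [Finite S']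
    (e₀ : S' ≃* DihedralGroup (2 ^ (k + 2))) :
    ∃ F : FusionSystem S', F.IsSaturated 2 ∧ NoChain F := by
  haveI : Fact (Nat.Prime 2) := ⟨Nat.prime_two⟩
  have hK := D.K_pos
  haveI := D.Z_normal
  obtain ⟨π, hπ⟩ : ∃ π : G →* G ⧸ D.Z, π = QuotientGroup.mk' D.Z := ⟨_, rfl⟩
  have hπs : Function.Surjective π := hπ ▸ QuotientGroup.mk'_surjective _
  have hπ1 : ∀ g : G, π g = 1 ↔ g ∈ D.Z := by
    intro g; rw [hπ]; exact QuotientGroup.eq_one_iff g
  obtain ⟨α, hα⟩ : ∃ α, α = π D.a := ⟨_, rfl⟩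
  obtain ⟨β, hβ⟩ : ∃ β, β = π D.b := ⟨_, rfl⟩
  have hordα : orderOf α = 2 ^ (k + 1 + 1) := by
    apply orderOf_eq_prime_pow
    · rw [hα, ← map_pow, hπ1]
      have : (2 : ℕ) ^ (k + 1) = 2 * D.K := by rw [K, pow_succ]; ring
      rw [this]
      exact D.ι_not_mem_Z
    · rw [hα, ← map_pow, hπ1]
      have : (2 : ℕ) ^ (k + 1 + 1) = 4 * D.K := by rw [K, pow_succ, pow_succ]; ring
      rw [this]
      exact Subgroup.mem_zpowers _
  have hordα' : orderOf α = 2 ^ (k + 2) := hordα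
  have hββ : β * β = 1 := by rw [hβ, ← map_mul, D.sq_b, map_one]
  have hconj : β * α * β⁻¹ = α ^ (2 ^ (k + 2) - 1) := by
    rw [hα, hβ, ← map_inv, ← map_mul, ← map_mul, D.conj, map_pow]
  have hβnot : β ∉ Subgroup.zpowers α := by
    intro h
    obtain ⟨j, hj⟩ := Subgroup.mem_zpowers_iff.mp h
    rw [hα, hβ, ← map_zpow] at hj
    have h1 : π ((D.a ^ j)⁻¹ * D.b) = 1 := by rw [map_mul, map_inv, hj, inv_mul_cancel]
    rw [hπ1] at h1
    have h2 := D.Z_le_zpowers h1
    apply D.b_not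
    have h3 : D.b = D.a ^ j * ((D.a ^ j)⁻¹ * D.b) := by group
    rw [h3]
    exact Subgroup.mul_mem _ (Subgroup.zpow_mem _ (Subgroup.mem_zpowers _) j) h2
  obtain ⟨Sb, hSb⟩ : ∃ Sb : Subgroup (G ⧸ D.Z), Sb = Subgroup.closure {α, β} := ⟨_, rfl⟩
  have hSbmap : Sb = D.S.map π := by
    rw [hSb, S, MonoidHom.map_closure, Set.image_pair, hα, hβ]
  have hαS : α ∈ Sb := hSb ▸ Subgroup.subset_closure (by simp)
  have hβS : β ∈ Sb := hSb ▸ Subgroup.subset_closure (by simp)
  have hcardSb : Nat.card Sb = 2 * 2 ^ (k + 2) := by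
    rw [hSb]
    exact (card_closure_pair α β _ hordα' (hconj ▸ Subgroup.pow_mem _ (Subgroup.mem_zpowers _) _)
      (hββ ▸ Subgroup.one_mem _) hβnot).1
  -- the dihedral side
  have hn1 : 1 ≤ 2 ^ (k + 2) := Nat.one_le_two_pow
  have hDconj : (DihedralGroup.sr 0 : DihedralGroup (2 ^ (k + 2))) * DihedralGroup.r 1 *
      (DihedralGroup.sr 0)⁻¹ = (DihedralGroup.r 1) ^ (2 ^ (k + 2) - 1) := by
    rw [DihedralGroup.inv_sr, DihedralGroup.sr_mul_r, DihedralGroup.sr_mul_sr,
      DihedralGroup.r_one_pow, Nat.cast_sub hn1, ZMod.natCast_self]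
    simp
  have hDnot : (DihedralGroup.sr 0 : DihedralGroup (2 ^ (k + 2))) ∉
      Subgroup.zpowers (DihedralGroup.r 1) := by
    intro h
    obtain ⟨j, hj⟩ := Subgroup.mem_zpowers_iff.mp h
    rw [DihedralGroup.r_one_zpow] at hj
    cases hj
  obtain ⟨e, -, -⟩ := pres_iso (2 ^ (k + 2)) (2 ^ (k + 2) - 1) 0
    (DihedralGroup.r 1 : DihedralGroup (2 ^ (k + 2))) (DihedralGroup.sr 0)
    (⟨α, hαS⟩ : Sb) (⟨β, hβS⟩ : Sb) DihedralGroup.orderOf_r_one
    (by rw [← Subgroup.orderOf_coe]; exact hordα') hDconj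
    (Subtype.ext (by
      simp only [Subgroup.coe_mul, Subgroup.coe_inv, Subgroup.coe_pow]; exact hconj))
    (by rw [pow_zero]; exact DihedralGroup.sr_mul_self 0)
    (Subtype.ext (by simp only [Subgroup.coe_mul, pow_zero, Subgroup.coe_one]; exact hββ))
    hDnot
    (by
      intro h
      apply hβnot
      obtain ⟨j, hj⟩ := Subgroup.mem_zpowers_iff.mp h
      rw [Subgroup.mem_zpowers_iff]
      refine ⟨j, ?_⟩
      have := congrArg Subtype.val hj
      rwa [Subgroup.coe_zpow] at this)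
    DihedralGroup.nat_card hcardSb
  obtain ⟨ι, hιdef⟩ : ∃ ι : S' →* G ⧸ D.Z, ι = Sb.subtype.comp (e₀.trans e).toMonoidHom :=
    ⟨_, rfl⟩
  have hι : Function.Injective ι := by
    rw [hιdef]
    exact (Subgroup.subtype_injective _).comp (e₀.trans e).injective
  have hrange : ι.range = Sb := by
    rw [hιdef, MonoidHom.range_comp]
    have : ((e₀.trans e).toMonoidHom).range = ⊤ :=
      MonoidHom.range_eq_top.mpr (e₀.trans e).surjective
    rw [this, ← MonoidHom.range_eq_map, Subgroup.range_subtype]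
  obtain ⟨P, hP⟩ := D.sylow
  have hPr : ((P.mapSurjective hπs : Sylow 2 (G ⧸ D.Z)) : Subgroup (G ⧸ D.Z)) = ι.range := by
    rw [hrange, hSbmap]
    show (P : Subgroup G).map π = D.S.map π
    rw [hP]; rfl
  apply no_chain ι hι (P.mapSurjective hπs) hPr ⊥
  · rw [hrange]
    intro h
    have := h hαS
    rw [Subgroup.mem_bot] at this
    rw [this, orderOf_one] at hordα'
    have : 2 ≤ 2 ^ (k + 2) := by
      calc 2 = 2 ^ 1 := by norm_num
        _ ≤ 2 ^ (k + 2) := Nat.pow_le_pow_right (by norm_num) (by omega)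
    omega
  · intro U₀ hU₀Z _ ξ hξ hnZ hfc
    rw [hrange, hSbmap] at hξ hfc
    have hU₀ : U₀ = ⊥ := le_bot_iff.mp hU₀Z
    rw [hU₀, bot_sup_eq] at hnZ hfc
    obtain ⟨x, hxS, rfl⟩ := hξ
    have hxZ : x ∉ D.Z := by
      intro h
      apply hnZ
      rw [(hπ1 x).mpr h, Subgroup.zpowers_one_eq_bot]
    apply D.core_sd ((Subgroup.zpowers (π x)).comap π ⊓ D.S)
    · exact inf_le_right
    · have hle : (Subgroup.zpowers (π x)).comap π ⊓ D.S ≤ D.Z ⊔ Subgroup.zpowers x := by
        rintro t ⟨ht, -⟩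
        have ht' : π t ∈ Subgroup.zpowers (π x) := ht
        rw [Subgroup.mem_zpowers_iff] at ht'
        obtain ⟨j, hj⟩ := ht'
        rw [← map_zpow] at hj
        have h1 : π ((x ^ j)⁻¹ * t) = 1 := by rw [map_mul, map_inv, hj, inv_mul_cancel]
        rw [hπ1] at h1
        have h3 : t = ((x ^ j)⁻¹ * t) * x ^ j := by
          have := Subgroup.mem_center_iff.mp (D.Z_le_center h1) (x ^ j)
          rw [← this]; group
        rw [h3]
        exact Subgroup.mul_mem _ (Subgroup.mem_sup_left h1)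
          (Subgroup.mem_sup_right (Subgroup.zpow_mem _ (Subgroup.mem_zpowers _) j))
      intro u hu v hv
      exact abelian_sup D.Z D.Z_le_center x u (hle hu) v (hle hv)
    · intro h
      exact hxZ (h ⟨Subgroup.mem_comap.mpr (Subgroup.mem_zpowers _), hxS⟩)
    · rintro t ⟨ht, htS⟩ g hg
      refine ⟨?_, hg⟩
      show π (g * t * g⁻¹) ∈ Subgroup.zpowers (π x)
      rw [map_mul, map_mul, map_inv]
      apply hfc _ (show π t ∈ Subgroup.zpowers (π x) from ht)
      rw [← map_inv, ← map_mul, ← map_mul]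
      exact ⟨_, hg, rfl⟩

end SDData

end Cfsg.Agent.Helper21.SDAbs
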