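import Mathlib
import Cfsg.Agent.Lib.Helper21.SDAbs2

/-!
# Generalized quaternion `2`-groups carry saturated fusion systems without cyclic chains
-/

set_option autoImplicit false

namespace Cfsg.Agent.Helper21.SDAbs

open Cfsg Cfsg.FusionSystem Cfsg.Agent.Helper21.PresIso Cfsg.Agent.Helper21.RealSys

namespace SDData

variable {G : Type*} [Group G] {k : ℕ} (D : SDData G k)

/-- the quaternion subgroup -/
def S₁ : Subgroup G := Subgroup.closure {D.a * D.a, D.a * D.b}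

theorem ord_aa : orderOf (D.a * D.a) = 4 * D.K := by
  have hK := D.K_pos
  rw [← pow_two, orderOf_pow' _ (by norm_num), D.ord_a']
  have : Nat.gcd (8 * D.K) 2 = 2 := by
    apply Nat.gcd_eq_right
    exact ⟨4 * D.K, by ring⟩
  rw [this]
  omega

theorem aa_pow (i : ℕ) : (D.a * D.a) ^ i = D.a ^ (2 * i) := by
  rw [← pow_two, ← pow_mul]

theorem conj_aa : (D.a * D.b) * (D.a * D.a) * (D.a * D.b)⁻¹ = (D.a * D.a) ^ (4 * D.K - 1) := by
  have h1 : (D.a * D.b) * (D.a * D.a) * (D.a * D.b)⁻¹ =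
      D.a * (D.b * D.a ^ 2 * D.b⁻¹) * D.a⁻¹ := by rw [pow_two]; group
  rw [h1, D.conj_pow, D.aa_pow, ← pow_succ', pow_succ, mul_inv_cancel_right, mul_comm]

theorem sq_ab' : (D.a * D.b) * (D.a * D.b) = (D.a * D.a) ^ (2 * D.K) := by
  rw [D.sq_ab, D.aa_pow, z₀]; congr 1; ring

theorem ab_not : D.a * D.b ∉ Subgroup.zpowers (D.a * D.a) := by
  intro h
  have hle : Subgroup.zpowers (D.a * D.a) ≤ Subgroup.zpowers D.a := by
    rw [Subgroup.zpowers_le]
    exact Subgroup.mul_mem _ (Subgroup.mem_zpowers _) (Subgroup.mem_zpowers _)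
  have h2 := hle h
  apply D.b_not
  have : D.b = D.a⁻¹ * (D.a * D.b) := by group
  rw [this]
  exact Subgroup.mul_mem _ (Subgroup.inv_mem _ (Subgroup.mem_zpowers _)) h2

theorem card_S₁ [Finite G] : Nat.card D.S₁ = 2 * (4 * D.K) :=
  (card_closure_pair (D.a * D.a) (D.a * D.b) (4 * D.K) D.ord_aa
    (D.conj_aa ▸ Subgroup.pow_mem _ (Subgroup.mem_zpowers _) _)
    (D.sq_ab' ▸ Subgroup.pow_mem _ (Subgroup.mem_zpowers _) _) D.ab_not).1

theorem normal_form₁ [Finite G] {g : G} (hg : g ∈ D.S₁) :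
    (∃ i : ℕ, g = D.a ^ (2 * i)) ∨ ∃ i : ℕ, g = D.a ^ (2 * i + 1) * D.b := by
  have := (card_closure_pair (D.a * D.a) (D.a * D.b) (4 * D.K) D.ord_aa
    (D.conj_aa ▸ Subgroup.pow_mem _ (Subgroup.mem_zpowers _) _)
    (D.sq_ab' ▸ Subgroup.pow_mem _ (Subgroup.mem_zpowers _) _) D.ab_not).2 g hg
  rcases this with h | h
  · left
    rw [← (isOfFinOrder_of_finite _).mem_powers_iff_mem_zpowers, Submonoid.mem_powers_iff] at h
    obtain ⟨i, hi⟩ := h
    exact ⟨i, by rw [← hi, D.aa_pow]⟩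
  · right
    rw [← (isOfFinOrder_of_finite _).mem_powers_iff_mem_zpowers, Submonoid.mem_powers_iff] at h
    obtain ⟨i, hi⟩ := h
    refine ⟨i, ?_⟩
    have : g = (D.a * D.a) ^ i * (D.a * D.b) := by rw [hi, inv_mul_cancel_right]
    rw [this, D.aa_pow, pow_succ, mul_assoc]

theorem S₁_le_S : D.S₁ ≤ D.S := by
  rw [S₁, Subgroup.closure_le]
  intro x hx
  rcases hx with rfl | hx
  · exact D.S.mul_mem D.a_mem_S D.a_mem_S
  · rw [Set.mem_singleton_iff] at hx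
    rw [hx]
    exact D.S.mul_mem D.a_mem_S D.b_mem_S

theorem S₁_le_G₁ : D.S₁ ≤ D.G₁ := by
  rw [S₁, Subgroup.closure_le]
  intro x hx
  rcases hx with rfl | hx
  · exact D.aa_mem
  · rw [Set.mem_singleton_iff] at hx
    rw [hx]
    exact D.ab_mem

theorem ab_mem_S₁ : D.a * D.b ∈ D.S₁ := Subgroup.subset_closure (by simp)

theorem ι_mem_S₁ : D.ι ∈ D.S₁ := by
  have : D.ι = (D.a * D.a) ^ D.K := by rw [D.aa_pow, ι]
  rw [this]
  exact Subgroup.pow_mem _ (Subgroup.subset_closure (by simp)) _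

/-- **Core (quaternion).** -/
theorem core_q [Finite G] (T : Subgroup G) (hTS : T ≤ D.S₁)
    (hab : ∀ x ∈ T, ∀ y ∈ T, x * y = y * x) (hnZ : ¬ T ≤ D.Z)
    (hfc : ∀ t ∈ T, ∀ g ∈ D.G₁, g * t * g⁻¹ ∈ D.S₁ → g * t * g⁻¹ ∈ T) : False := by
  obtain ⟨t, htT, htZ⟩ := SetLike.not_le_iff_exists.mp hnZ
  have hzz : D.ι * D.ι = D.a ^ (2 ^ (k + 2)) := by rw [D.ι_sq, z₀, D.pow_M]
  rcases D.normal_form₁ (hTS htT) with ⟨i, rfl⟩ | ⟨i, rfl⟩
  · have hι := D.ι_mem_of_pow_not_mem_Z T _ htT htZ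
    obtain ⟨h, hh1, hh⟩ := D.fuse D.ι (D.a * D.b) hzz (by rw [D.sq_ab, z₀, D.pow_M])
    have h2 : D.a * D.b ∈ T := by
      rw [← hh]
      apply hfc _ hι h hh1
      rw [hh]
      exact D.ab_mem_S₁
    have h3 := D.conj_ι' 1
    rw [pow_one, hab _ h2 _ hι, mul_inv_cancel_right] at h3
    exact D.ι_inv_ne h3.symm
  · obtain ⟨t, htdef⟩ : ∃ t, t = D.a ^ (2 * i + 1) * D.b := ⟨_, rfl⟩
    rw [← htdef] at htT
    have htt : t * t = D.a ^ (2 ^ (k + 2)) := by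
      rw [htdef, D.sq_pow_mul_b, pow_succ, pow_mul, pow_two, D.z₀_sq, one_pow, one_mul, z₀,
        D.pow_M]
    obtain ⟨h, hh1, hh⟩ := D.fuse t D.ι htt hzz
    have hι : D.ι ∈ T := by
      rw [← hh]
      apply hfc _ htT h hh1
      rw [hh]
      exact D.ι_mem_S₁
    have h3 := D.conj_ι' (2 * i + 1)
    rw [← htdef, hab _ htT _ hι, mul_inv_cancel_right] at h3
    exact D.ι_inv_ne h3.symm

theorem card_inf_le [Finite G] : Nat.card (D.S ⊓ D.G₁ : Subgroup G) ≤ 8 * D.K := by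
  have hdvd : Nat.card (D.S ⊓ D.G₁ : Subgroup G) ∣ Nat.card D.S :=
    Subgroup.card_dvd_of_le inf_le_left
  have hS : Nat.card D.S = 2 ^ (k + 4) := by
    rw [D.card_S, K, pow_add]; ring
  rw [hS] at hdvd
  obtain ⟨j, hj, hcard⟩ := (Nat.dvd_prime_pow Nat.prime_two).mp hdvd
  have hne : j ≠ k + 4 := by
    rintro rfl
    have : (D.S ⊓ D.G₁ : Subgroup G) = D.S :=
      Subgroup.eq_of_le_of_card_ge inf_le_left (by rw [hcard, hS])
    apply D.a_not
    have h2 : D.a ∈ (D.S ⊓ D.G₁ : Subgroup G) := by rw [this]; exact D.a_mem_S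
    exact h2.2
  have hj' : j ≤ k + 3 := by omega
  rw [hcard]
  calc 2 ^ j ≤ 2 ^ (k + 3) := Nat.pow_le_pow_right (by norm_num) hj'
    _ = 8 * D.K := by rw [K, pow_add]; ring

end SDData

end Cfsg.Agent.Helper21.SDAbs
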