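import Mathlib
import Cfsg.Agent.Lib.Helper21.SDAbs3

/-!
# Generalized quaternion `2`-groups: the fusion system of `G₁` on `S ∩ G₁`
-/

set_option autoImplicit false

namespace Cfsg.Agent.Helper21.SDAbs

open Cfsg Cfsg.FusionSystem Cfsg.Agent.Helper21.PresIso Cfsg.Agent.Helper21.RealSys
open scoped Pointwise

theorem quat_zpow_a {n : ℕ} (j : ℤ) :
    ∃ i : ZMod (2 * n), (QuaternionGroup.a 1 : QuaternionGroup n) ^ j = QuaternionGroup.a i := by
  have hinv : ∀ i : ZMod (2 * n), (QuaternionGroup.a i : QuaternionGroup n)⁻¹ =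
      QuaternionGroup.a (-i) := by
    intro i
    apply inv_eq_of_mul_eq_one_right
    rw [QuaternionGroup.a_mul_a, add_neg_cancel, QuaternionGroup.a_zero]
  cases j with
  | ofNat m => exact ⟨m, by rw [Int.ofNat_eq_natCast, zpow_natCast, QuaternionGroup.a_one_pow]⟩
  | negSucc m => exact ⟨-((m + 1 : ℕ) : ZMod (2 * n)), by
      rw [zpow_negSucc, QuaternionGroup.a_one_pow, hinv]⟩

namespace SDData

variable {G : Type*} [Group G] {k : ℕ}

/-- **Generalized quaternion groups.** -/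
theorem out_q [Finite G] (D : SDData G k) {Ω : Type*} [Group Ω] {S' : Subgroup Ω} [Finite S']
    (e₀ : S' ≃* QuaternionGroup (2 ^ (k + 1))) :
    ∃ F : FusionSystem S', F.IsSaturated 2 ∧ NoChain F := by
  haveI : Fact (Nat.Prime 2) := ⟨Nat.prime_two⟩
  have hK := D.K_pos
  haveI := D.normal
  have hn2 : 2 * 2 ^ (k + 1) = 4 * D.K := by rw [K, pow_succ]; ring
  obtain ⟨a₁, ha₁⟩ : ∃ a₁ : D.G₁, a₁ = ⟨D.a * D.a, D.aa_mem⟩ := ⟨_, rfl⟩
  obtain ⟨b₁, hb₁⟩ : ∃ b₁ : D.G₁, b₁ = ⟨D.a * D.b, D.ab_mem⟩ := ⟨_, rfl⟩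
  have hca : (a₁ : G) = D.a * D.a := by rw [ha₁]
  have hcb : (b₁ : G) = D.a * D.b := by rw [hb₁]
  have horda : orderOf a₁ = 2 * 2 ^ (k + 1) := by
    rw [← Subgroup.orderOf_coe, hca, D.ord_aa, hn2]
  have hconj₁ : b₁ * a₁ * b₁⁻¹ = a₁ ^ (2 * 2 ^ (k + 1) - 1) := by
    apply Subtype.ext
    simp only [Subgroup.coe_mul, Subgroup.coe_inv, Subgroup.coe_pow]
    rw [hca, hcb, D.conj_aa, hn2]
  have hsq₁ : b₁ * b₁ = a₁ ^ (2 ^ (k + 1)) := by
    apply Subtype.ext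
    simp only [Subgroup.coe_mul, Subgroup.coe_pow]
    rw [hca, hcb, D.sq_ab']
    congr 1
    rw [K, pow_succ]; ring
  have hnot₁ : b₁ ∉ Subgroup.zpowers a₁ := by
    intro h
    apply D.ab_not
    obtain ⟨j, hj⟩ := Subgroup.mem_zpowers_iff.mp h
    rw [Subgroup.mem_zpowers_iff]
    refine ⟨j, ?_⟩
    have := congrArg Subtype.val hj
    rw [Subgroup.coe_zpow, hca, hcb] at this
    exact this
  obtain ⟨Sq, hSq⟩ : ∃ Sq : Subgroup D.G₁, Sq = Subgroup.closure {a₁, b₁} := ⟨_, rfl⟩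
  have haS : a₁ ∈ Sq := hSq ▸ Subgroup.subset_closure (by simp)
  have hbS : b₁ ∈ Sq := hSq ▸ Subgroup.subset_closure (by simp)
  have hSqmap : Sq.map D.G₁.subtype = D.S₁ := by
    rw [hSq, MonoidHom.map_closure, Set.image_pair, S₁]
    show Subgroup.closure {(a₁ : G), (b₁ : G)} = _
    rw [hca, hcb]
  have hcardSq : Nat.card Sq = 2 * (2 * 2 ^ (k + 1)) := by
    rw [hSq]
    exact (card_closure_pair a₁ b₁ _ horda (hconj₁ ▸ Subgroup.pow_mem _ (Subgroup.mem_zpowers _) _)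
      (hsq₁ ▸ Subgroup.pow_mem _ (Subgroup.mem_zpowers _) _) hnot₁).1
  -- the quaternion side
  haveI : NeZero (2 ^ (k + 1)) := ⟨pow_ne_zero _ (by norm_num)⟩
  obtain ⟨n, hn⟩ : ∃ n : ℕ, n = 2 ^ (k + 1) := ⟨_, rfl⟩
  have hn0 : n ≠ 0 := by rw [hn]; exact pow_ne_zero _ (by norm_num)
  haveI : NeZero n := ⟨hn0⟩
  have h2n : ((n : ZMod (2 * n)) + n) = 0 := by
    have : ((2 * n : ℕ) : ZMod (2 * n)) = 0 := ZMod.natCast_self _
    rw [← this]; push_cast; ring
  have hxinv : (QuaternionGroup.xa 0 : QuaternionGroup n)⁻¹ = QuaternionGroup.xa n := by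
    apply inv_eq_of_mul_eq_one_right
    rw [QuaternionGroup.xa_mul_xa, sub_zero, h2n, QuaternionGroup.a_zero]
  have hQconj : (QuaternionGroup.xa 0 : QuaternionGroup n) * QuaternionGroup.a 1 *
      (QuaternionGroup.xa 0)⁻¹ = (QuaternionGroup.a 1) ^ (2 * n - 1) := by
    rw [hxinv, QuaternionGroup.xa_mul_a, QuaternionGroup.xa_mul_xa, QuaternionGroup.a_one_pow,
      Nat.cast_sub (by omega), ZMod.natCast_self, h2n]
    simp
  have hQsq : (QuaternionGroup.xa 0 : QuaternionGroup n) * QuaternionGroup.xa 0 =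
      (QuaternionGroup.a 1) ^ n := by
    rw [QuaternionGroup.xa_mul_xa, QuaternionGroup.a_one_pow]
    simp
  have hQnot : (QuaternionGroup.xa 0 : QuaternionGroup n) ∉
      Subgroup.zpowers (QuaternionGroup.a 1) := by
    intro h
    obtain ⟨j, hj⟩ := Subgroup.mem_zpowers_iff.mp h
    obtain ⟨i, hi⟩ := quat_zpow_a (n := n) j
    rw [hi] at hj
    cases hj
  have hQcard : Nat.card (QuaternionGroup n) = 2 * (2 * n) := by
    rw [Nat.card_eq_fintype_card, QuaternionGroup.card]; ring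
  subst hn
  obtain ⟨e, -, -⟩ := pres_iso (2 * 2 ^ (k + 1)) (2 * 2 ^ (k + 1) - 1) (2 ^ (k + 1))
    (QuaternionGroup.a 1 : QuaternionGroup (2 ^ (k + 1))) (QuaternionGroup.xa 0)
    (⟨a₁, haS⟩ : Sq) (⟨b₁, hbS⟩ : Sq) QuaternionGroup.orderOf_a_one
    (by rw [← Subgroup.orderOf_coe]; exact horda) hQconj
    (Subtype.ext (by
      simp only [Subgroup.coe_mul, Subgroup.coe_inv, Subgroup.coe_pow]; exact hconj₁))
    hQsq
    (Subtype.ext (by simp only [Subgroup.coe_mul, Subgroup.coe_pow]; exact hsq₁))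
    hQnot
    (by
      intro h
      apply hnot₁
      obtain ⟨j, hj⟩ := Subgroup.mem_zpowers_iff.mp h
      rw [Subgroup.mem_zpowers_iff]
      refine ⟨j, ?_⟩
      have := congrArg Subtype.val hj
      rwa [Subgroup.coe_zpow] at this)
    hQcard hcardSq
  obtain ⟨ι, hιdef⟩ : ∃ ι : S' →* D.G₁, ι = Sq.subtype.comp (e₀.trans e).toMonoidHom :=
    ⟨_, rfl⟩
  have hι : Function.Injective ι := by
    rw [hιdef]
    exact (Subgroup.subtype_injective _).comp (e₀.trans e).injective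
  have hrange : ι.range = Sq := by
    rw [hιdef, MonoidHom.range_comp]
    have : ((e₀.trans e).toMonoidHom).range = ⊤ :=
      MonoidHom.range_eq_top.mpr (e₀.trans e).surjective
    rw [this, ← MonoidHom.range_eq_map, Subgroup.range_subtype]
  -- `Sq` is a Sylow subgroup of `G₁`
  have hSqp : IsPGroup 2 Sq := by
    apply IsPGroup.of_card (n := k + 3)
    rw [hcardSq, pow_succ, pow_succ]; ring
  obtain ⟨P₁, hP₁⟩ := hSqp.exists_le_sylow
  have hP₁card : Nat.card (P₁ : Subgroup D.G₁) ≤ 8 * D.K := by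
    obtain ⟨Q, hQ⟩ : ∃ Q : Subgroup G, Q = (P₁ : Subgroup D.G₁).map D.G₁.subtype := ⟨_, rfl⟩
    have hQp : IsPGroup 2 Q := by rw [hQ]; exact P₁.isPGroup'.map _
    have hQG : Q ≤ D.G₁ := by rw [hQ]; exact Subgroup.map_subtype_le _
    obtain ⟨P', hP'⟩ := hQp.exists_le_sylow
    obtain ⟨P, hP⟩ := D.sylow
    obtain ⟨g, hg⟩ := MulAction.exists_smul_eq G P P'
    have hle : Q ≤ (D.S ⊓ D.G₁ : Subgroup G).map (MulAut.conj g).toMonoidHom := by
      intro q hq
      have h1 : q ∈ (P' : Subgroup G) := hP' hq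
      rw [← hg] at h1
      have h2 : q ∈ MulAut.conj g • (P : Subgroup G) := h1
      rw [Subgroup.mem_pointwise_smul_iff_inv_smul_mem] at h2
      have h3 : g⁻¹ * q * g ∈ (P : Subgroup G) := by
        simpa [MulAut.smul_def] using h2
      refine ⟨g⁻¹ * q * g, ⟨?_, ?_⟩, ?_⟩
      · rw [hP] at h3; exact h3
      · have := D.normal.conj_mem q (hQG hq) g⁻¹
        rwa [inv_inv] at this
      · simp [mul_assoc]
    have h4 : Nat.card Q ≤ Nat.card (D.S ⊓ D.G₁ : Subgroup G) := by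
      calc Nat.card Q ≤ Nat.card ((D.S ⊓ D.G₁ : Subgroup G).map (MulAut.conj g).toMonoidHom) :=
            Subgroup.card_le_of_le hle
        _ = Nat.card (D.S ⊓ D.G₁ : Subgroup G) :=
            Subgroup.card_map_of_injective (MulAut.conj g).injective
    have h5 : Nat.card Q = Nat.card (P₁ : Subgroup D.G₁) := by
      rw [hQ]; exact Subgroup.card_map_of_injective (Subgroup.subtype_injective _)
    rw [← h5]
    exact h4.trans D.card_inf_le
  have hP₁eq : (P₁ : Subgroup D.G₁) = Sq := by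
    symm
    apply Subgroup.eq_of_le_of_card_ge hP₁
    rw [hcardSq]
    calc Nat.card (P₁ : Subgroup D.G₁) ≤ 8 * D.K := hP₁card
      _ = 2 * (2 * 2 ^ (k + 1)) := by rw [hn2]; ring
  have hPr : (P₁ : Subgroup D.G₁) = ι.range := by rw [hP₁eq, hrange]
  -- the central involution inside `G₁`
  have hz₀G : D.z₀ ∈ D.G₁ := by
    have : D.z₀ = (D.a * D.a) ^ (2 * D.K) := by rw [D.aa_pow, z₀]; congr 1; ring
    rw [this]
    exact Subgroup.pow_mem _ D.aa_mem _
  obtain ⟨ZΓ, hZΓ⟩ : ∃ ZΓ : Subgroup D.G₁, ZΓ = Subgroup.zpowers ⟨D.z₀, hz₀G⟩ := ⟨_, rfl⟩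
  have hZΓmap : ZΓ.map D.G₁.subtype = D.Z := by
    rw [hZΓ, MonoidHom.map_zpowers, Z]; rfl
  have hZΓc : ZΓ ≤ Subgroup.center D.G₁ := by
    rw [hZΓ, Subgroup.zpowers_le, Subgroup.mem_center_iff]
    intro g
    exact Subtype.ext (D.z₀_comm g)
  have hmapinj : ∀ A B : Subgroup D.G₁, A.map D.G₁.subtype ≤ B.map D.G₁.subtype → A ≤ B := by
    intro A B h
    exact (Subgroup.map_le_map_iff_of_injective (Subgroup.subtype_injective _)).mp h
  apply no_chain ι hι P₁ hPr ZΓ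
  · rw [hrange]
    intro h
    have h1 : D.a * D.a ∈ D.Z := by
      rw [← hZΓmap]
      exact ⟨a₁, h haS, hca⟩
    have h4 : D.a ^ 4 = 1 := by
      have e4 : D.a ^ 4 = (D.a * D.a) * (D.a * D.a) := by
        rw [show (4 : ℕ) = 2 + 2 from rfl, pow_add, pow_two]
      rcases D.mem_Z_iff.mp h1 with h | h
      · rw [e4, h, one_mul]
      · rw [e4, h, D.z₀_sq]
    have := orderOf_dvd_of_pow_eq_one h4
    rw [D.ord_a'] at this
    have := Nat.le_of_dvd (by norm_num) this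
    omega
  · intro U₀ hU₀Z hU₀r x hx hnZ hfc
    rw [hrange] at hU₀r hx hfc
    apply D.core_q ((U₀ ⊔ Subgroup.zpowers x).map D.G₁.subtype)
    · rw [← hSqmap]
      exact Subgroup.map_mono (sup_le hU₀r (by rw [Subgroup.zpowers_le]; exact hx))
    · rintro _ ⟨u, hu, rfl⟩ _ ⟨v, hv, rfl⟩
      have := abelian_sup U₀ (hU₀Z.trans hZΓc) x u hu v hv
      exact congrArg Subtype.val this
    · intro h
      apply hnZ
      apply hmapinj
      rw [hZΓmap]
      exact h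
    · rintro _ ⟨t, ht, rfl⟩ g hg hgt
      have h1 : (⟨g, hg⟩ : D.G₁) * t * (⟨g, hg⟩ : D.G₁)⁻¹ ∈ Sq := by
        rw [← hSqmap] at hgt
        obtain ⟨s, hs, hse⟩ := hgt
        have : s = (⟨g, hg⟩ : D.G₁) * t * (⟨g, hg⟩ : D.G₁)⁻¹ := Subtype.ext hse
        rw [← this]; exact hs
      exact ⟨_, hfc t ht ⟨g, hg⟩ h1, rfl⟩

end SDData

end Cfsg.Agent.Helper21.SDAbs
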