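import Mathlib

/-!
# Conjugacy of the square roots of `-1` in `GL₂(F)` when `-1` is not a square
-/

set_option autoImplicit false

namespace Cfsg.Agent.Helper21.SDModel

variable {F V : Type*} [Field F] [AddCommGroup V] [Module F V]

theorem linearIndependent_pair_of_sq (hns : ∀ c : F, c * c ≠ -1) (x : V ≃ₗ[F] V)
    (hx : ∀ v, x (x v) = -v) (v : V) (hv : v ≠ 0) : LinearIndependent F ![v, x v] := by
  rw [LinearIndependent.pair_iff]
  intro s t hst
  have h2 : s • x v - t • v = 0 := by
    have := congrArg x hst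
    rw [map_add, map_smul, map_smul, hx, map_zero, smul_neg] at this
    rw [← this]; abel
  have h3 : (s * s + t * t) • v = 0 := by
    have : (s * s + t * t) • v = s • (s • v + t • x v) - t • (s • x v - t • v) := by
      rw [smul_add, smul_sub, smul_smul, smul_smul, smul_smul, smul_smul, add_smul,
        mul_comm t s]
      abel
    rw [this, hst, h2, smul_zero, smul_zero, sub_zero]
  have h4 : s * s + t * t = 0 := by
    rcases smul_eq_zero.mp h3 with h | h
    · exact h
    · exact absurd h hv
  have ht : t = 0 := by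
    by_contra ht
    apply hns (s / t)
    field_simp
    linear_combination h4
  subst ht
  simp only [mul_zero, add_zero, mul_self_eq_zero] at h4
  exact ⟨h4, rfl⟩

theorem exists_conj_of_sq_neg_one (hfin : Module.finrank F V = 2) (hns : ∀ c : F, c * c ≠ -1)
    (x y : V ≃ₗ[F] V) (hx : ∀ v, x (x v) = -v) (hy : ∀ v, y (y v) = -v) :
    ∃ h : V ≃ₗ[F] V, h * x * h⁻¹ = y := by
  haveI : Nontrivial V := Module.nontrivial_of_finrank_pos (R := F) (by rw [hfin]; norm_num)
  obtain ⟨v, hv⟩ := exists_ne (0 : V)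
  have lix := linearIndependent_pair_of_sq hns x hx v hv
  have liy := linearIndependent_pair_of_sq hns y hy v hv
  have hcard : Fintype.card (Fin 2) = Module.finrank F V := by rw [hfin]; rfl
  obtain ⟨bx, hbx⟩ : ∃ bx : Module.Basis (Fin 2) F V, ⇑bx = ![v, x v] :=
    ⟨basisOfLinearIndependentOfCardEqFinrank lix hcard,
      coe_basisOfLinearIndependentOfCardEqFinrank lix hcard⟩
  obtain ⟨by', hby⟩ : ∃ by' : Module.Basis (Fin 2) F V, ⇑by' = ![v, y v] :=
    ⟨basisOfLinearIndependentOfCardEqFinrank liy hcard,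
      coe_basisOfLinearIndependentOfCardEqFinrank liy hcard⟩
  obtain ⟨h, hh⟩ : ∃ h : V ≃ₗ[F] V, h = bx.equiv by' (Equiv.refl _) := ⟨_, rfl⟩
  have hh0 : h v = v := by
    have := bx.equiv_apply (b' := by') 0 (Equiv.refl _)
    rw [hbx, hby] at this
    rw [hh]; simpa using this
  have hh1 : h (x v) = y v := by
    have := bx.equiv_apply (b' := by') 1 (Equiv.refl _)
    rw [hbx, hby] at this
    rw [hh]; simpa using this
  refine ⟨h, ?_⟩
  rw [mul_inv_eq_iff_eq_mul]
  apply LinearEquiv.toLinearMap_injective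
  apply bx.ext
  intro i
  fin_cases i
  · show h (x (bx 0)) = y (h (bx 0))
    rw [hbx]
    show h (x v) = y (h v)
    rw [hh0, hh1]
  · show h (x (bx 1)) = y (h (bx 1))
    rw [hbx]
    show h (x (x v)) = y (h (x v))
    rw [hx, map_neg, hh0, hh1, hy]

end Cfsg.Agent.Helper21.SDModel
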