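import Mathlib

/-!
# The concrete model: `ΓL₁(q²) ≤ GL₂(q)`

For a prime `q`, `F = ZMod q`, `K = GaloisField q 2`, the group `G = GL_F(K)` of `F`-linear automorphisms of
`K`, the multiplications `mulL w` (`w ∈ Kˣ`) and the Frobenius `frobL`.
-/

set_option autoImplicit false

namespace Cfsg.Agent.Helper21.SDModel

variable (q : ℕ) [hq : Fact q.Prime]

/-- the field with `q²` elements -/
abbrev KK : Type := GaloisField q 2

/-- the ambient group `GL_F(K)` -/
abbrev GG : Type := KK q ≃ₗ[ZMod q] KK q

instance : Finite (GG q) :=
  Finite.of_injective (fun e : GG q => (e : KK q → KK q)) DFunLike.coe_injective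

theorem card_KK : Nat.card (KK q) = q ^ 2 := GaloisField.card q 2 (by norm_num)

theorem finrank_KK : Module.finrank (ZMod q) (KK q) = 2 := GaloisField.finrank q (by norm_num)

/-- multiplication by a unit, as an element of `GL_F(K)` -/
noncomputable def mulL : (KK q)ˣ →* GG q where
  toFun w :=
    { toFun := fun x => (w : KK q) * x
      map_add' := fun x y => mul_add _ x y
      map_smul' := fun c x => by
        simp only [RingHom.id_apply]
        exact mul_smul_comm c _ x
      invFun := fun x => ((w⁻¹ : (KK q)ˣ) : KK q) * x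
      left_inv := fun x => by simp
      right_inv := fun x => by simp }
  map_one' := by
    ext x
    show ((1 : (KK q)ˣ) : KK q) * x = x
    simp
  map_mul' w w' := by
    ext x
    show ((w * w' : (KK q)ˣ) : KK q) * x = (w : KK q) * ((w' : KK q) * x)
    rw [Units.val_mul, mul_assoc]

theorem mulL_apply (w : (KK q)ˣ) (x : KK q) : mulL q w x = (w : KK q) * x := rfl

theorem mulL_injective : Function.Injective (mulL q) := by
  intro w w' h
  have := congrArg (fun g : GG q => g 1) h
  simp only [mulL_apply, mul_one] at this
  exact Units.ext this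

theorem pow_card_sq (x : KK q) : x ^ (q ^ 2) = x := by
  haveI := Fintype.ofFinite (KK q)
  have h := FiniteField.pow_card x
  rwa [← Nat.card_eq_fintype_card, card_KK] at h

/-- the Frobenius `x ↦ x^q`, as an element of `GL_F(K)` -/
noncomputable def frobL : GG q :=
  LinearEquiv.ofBijective
    { toFun := fun x => x ^ q
      map_add' := fun x y => add_pow_char x y q
      map_smul' := fun c x => by
        simp only [RingHom.id_apply]
        rw [Algebra.smul_def, Algebra.smul_def, mul_pow, ← map_pow, ZMod.pow_card] }
    (by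
      have hinj : Function.Injective (fun x : KK q => x ^ q) := frobenius_inj (KK q) q
      exact ⟨hinj, Finite.surjective_of_injective hinj⟩)

theorem frobL_apply (x : KK q) : frobL q x = x ^ q := rfl

theorem frobL_sq : frobL q * frobL q = 1 := by
  ext x
  show (x ^ q) ^ q = x
  rw [← pow_mul, ← pow_two, pow_card_sq]

theorem frobL_inv : (frobL q)⁻¹ = frobL q := inv_eq_of_mul_eq_one_left (frobL_sq q)

theorem frob_conj (w : (KK q)ˣ) : frobL q * mulL q w * (frobL q)⁻¹ = mulL q (w ^ q) := by
  rw [frobL_inv]
  ext x
  show ((w : KK q) * x ^ q) ^ q = ((w ^ q : (KK q)ˣ) : KK q) * x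
  rw [mul_pow, ← pow_mul, ← pow_two, pow_card_sq, Units.val_pow_eq_pow_val]

theorem mulL_negOne_central : mulL q (-1) ∈ Subgroup.center (GG q) := by
  rw [Subgroup.mem_center_iff]
  intro g
  ext x
  show g ((((-1 : (KK q)ˣ)) : KK q) * x) = (((-1 : (KK q)ˣ)) : KK q) * g x
  simp

end Cfsg.Agent.Helper21.SDModel
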