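import Mathlib
import Cfsg.Agent.Lib.Helper21.SDModel1

/-!
# The model: order of `GL_F(K)` and determinants of multiplications
-/

set_option autoImplicit false

namespace Cfsg.Agent.Helper21.SDModel

variable (q : ℕ) [hq : Fact q.Prime]

theorem card_GG : Nat.card (GG q) = (q ^ 2 - 1) * (q ^ 2 - q) := by
  classical
  obtain ⟨b₀⟩ : Nonempty (Module.Basis (Fin 2) (ZMod q) (KK q)) :=
    ⟨Module.finBasisOfFinrankEq (ZMod q) (KK q) (finrank_KK q)⟩
  have e1 : GG q ≃ LinearMap.GeneralLinearGroup (ZMod q) (KK q) :=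
    (LinearMap.GeneralLinearGroup.generalLinearEquiv (ZMod q) (KK q)).symm.toEquiv
  have e2 : LinearMap.GeneralLinearGroup (ZMod q) (KK q) ≃ GL (Fin 2) (ZMod q) :=
    (Units.mapEquiv (algEquivMatrix b₀).toMulEquiv).toEquiv
  rw [Nat.card_congr (e1.trans e2), Matrix.card_GL_field, Fin.prod_univ_two, ZMod.card]
  simp

theorem det_mulL (w : (KK q)ˣ) :
    LinearEquiv.det (mulL q w) = Units.map (Algebra.norm (ZMod q) : KK q →* ZMod q) w := by
  apply Units.ext
  rw [LinearEquiv.coe_det, Units.coe_map]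
  show LinearMap.det _ = Algebra.norm (ZMod q) (w : KK q)
  rw [Algebra.norm_apply]
  congr 1

theorem algebraMap_norm (x : KK q) :
    algebraMap (ZMod q) (KK q) (Algebra.norm (ZMod q) x) = x ^ (q + 1) := by
  have h := FiniteField.algebraMap_norm_eq_pow (K := ZMod q) (K' := KK q) (x := x)
  rw [h, card_KK, Nat.card_eq_fintype_card, ZMod.card]
  congr 1
  have hq2 := hq.out.two_le
  have : q ^ 2 - 1 = (q - 1) * (q + 1) := by
    obtain ⟨r, rfl⟩ : ∃ r, q = r + 1 := ⟨q - 1, by omega⟩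
    have : (r + 1) ^ 2 - 1 = r * (r + 1 + 1) := by
      apply Nat.sub_eq_of_eq_add; ring
    rw [this]; simp
  rw [this]
  exact Nat.mul_div_cancel_left _ (by omega)

end Cfsg.Agent.Helper21.SDModel
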