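import Mathlib
import Cfsg.Agent.Lib.Helper21.SDModel2
import Cfsg.Agent.Lib.Helper21.SDModel3
import Cfsg.Agent.Lib.Helper21.SDAbs1

/-!
# The model satisfies `SDData`
-/

set_option autoImplicit false

namespace Cfsg.Agent.Helper21.SDModel

open Cfsg.Agent.Helper21.SDAbs Cfsg.Agent.Helper21.PresIso

section arith

variable (q : ℕ) [hq : Fact q.Prime] (k c : ℕ) (hqk : q + 1 = 2 ^ (k + 2) * (2 * c + 1))

include hqk

theorem q_mod_four : q % 4 = 3 := by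
  have h1 : (2 : ℕ) ^ (k + 2) = 4 * 2 ^ k := by rw [pow_add]; ring
  rw [h1, mul_assoc] at hqk
  have : 0 < 2 ^ k * (2 * c + 1) := Nat.mul_pos (Nat.pos_of_ne_zero (pow_ne_zero _ (by norm_num)))
    (by omega)
  omega

theorem no_sqrt (r : ZMod q) : r * r ≠ -1 := by
  intro h
  have := (ZMod.exists_sq_eq_neg_one_iff (p := q)).mp ⟨r, h.symm⟩
  exact this (q_mod_four q k c hqk)

theorem exists_u : ∃ u : ℕ, q = 2 * u + 1 ∧ q ^ 2 - 1 = 2 ^ (k + 3) * ((2 * c + 1) * u) ∧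
    Odd u := by
  have h4 := q_mod_four q k c hqk
  refine ⟨q / 2, by omega, ?_, ?_⟩
  · obtain ⟨u, hu⟩ : ∃ u, q = 2 * u + 1 := ⟨q / 2, by omega⟩
    have hu2 : q / 2 = u := by omega
    rw [hu2]
    apply Nat.sub_eq_of_eq_add
    have h2 : 2 ^ (k + 3) * ((2 * c + 1) * u) = 2 * u * (2 ^ (k + 2) * (2 * c + 1)) := by
      rw [pow_succ]; ring
    rw [h2, ← hqk, hu]; ring
  · rw [Nat.odd_iff]; omega

theorem q_modEq : q ≡ 2 ^ (k + 2) - 1 [MOD 2 ^ (k + 3)] := by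
  have hpos : 0 < 2 ^ (k + 2) := Nat.pos_of_ne_zero (pow_ne_zero _ (by norm_num))
  have h1 : q = 2 ^ (k + 2) - 1 + 2 ^ (k + 3) * c := by
    have : 2 ^ (k + 3) * c = 2 ^ (k + 2) * (2 * c) := by rw [pow_succ]; ring
    rw [this]
    have h2 : 2 ^ (k + 2) * (2 * c + 1) = 2 ^ (k + 2) * (2 * c) + 2 ^ (k + 2) := by ring
    omega
  unfold Nat.ModEq
  nth_rewrite 1 [h1]
  rw [Nat.add_mul_mod_self_left]

theorem exists_z : ∃ z : (KK q)ˣ, orderOf z = 2 ^ (k + 3) := by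
  obtain ⟨u, -, hu, -⟩ := exists_u q k c hqk
  obtain ⟨g, hg⟩ := IsCyclic.exists_ofOrder_eq_natCard (α := (KK q)ˣ)
  rw [Nat.card_units, card_KK] at hg
  have hq2 := hq.out.two_le
  have hpos : q ^ 2 - 1 ≠ 0 := by
    have : 4 ≤ q ^ 2 := by nlinarith
    omega
  have hdvd : 2 ^ (k + 3) ∣ q ^ 2 - 1 := ⟨_, hu⟩
  refine ⟨g ^ ((q ^ 2 - 1) / 2 ^ (k + 3)), ?_⟩
  have hd : (q ^ 2 - 1) / 2 ^ (k + 3) ∣ orderOf g := by
    rw [hg]; exact Nat.div_dvd_of_dvd hdvd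
  have hd0 : (q ^ 2 - 1) / 2 ^ (k + 3) ≠ 0 := by
    intro h
    rw [Nat.div_eq_zero_iff] at h
    rcases h with h | h
    · exact absurd h (pow_ne_zero _ (by norm_num))
    · exact absurd (Nat.le_of_dvd (Nat.pos_of_ne_zero hpos) hdvd) (by omega)
  rw [orderOf_pow_of_dvd hd0 hd, hg]
  exact Nat.div_div_self hdvd hpos

end arith

section zfacts

variable (q : ℕ) [hq : Fact q.Prime] (k c : ℕ) (hqk : q + 1 = 2 ^ (k + 2) * (2 * c + 1))
  (z : (KK q)ˣ) (hz : orderOf z = 2 ^ (k + 3))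

include hz

theorem z_pow_M : z ^ (2 ^ (k + 2)) = -1 := by
  have h1 : z ^ (2 ^ (k + 2)) * z ^ (2 ^ (k + 2)) = 1 := by
    rw [← pow_add, ← two_mul, ← pow_succ', ← hz]
    exact pow_orderOf_eq_one z
  have h2 : z ^ (2 ^ (k + 2)) ≠ 1 := by
    apply pow_ne_one_of_lt_orderOf (pow_ne_zero _ (by norm_num))
    rw [hz]
    exact Nat.pow_lt_pow_right (by norm_num) (by omega)
  have h3 := congrArg Units.val h1
  rw [Units.val_mul, Units.val_one, mul_self_eq_one_iff] at h3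
  rcases h3 with h3 | h3
  · exact absurd (Units.ext h3) h2
  · exact Units.ext (by rw [h3]; simp)

include hqk

theorem z_pow_q : z ^ q = z ^ (2 ^ (k + 2) - 1) := by
  rw [pow_eq_pow_iff_modEq, hz]
  exact q_modEq q k c hqk

theorem z_pow_q1 : z ^ (q + 1) = -1 := by
  rw [hqk, pow_mul, z_pow_M q k z hz]
  exact Odd.neg_one_pow ⟨c, rfl⟩

theorem norm_z : Algebra.norm (ZMod q) (z : KK q) = -1 := by
  apply (algebraMap (ZMod q) (KK q)).injective
  rw [algebraMap_norm, ← Units.val_pow_eq_pow_val, z_pow_q1 q k c hqk z hz]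
  simp

theorem norm_iota : Algebra.norm (ZMod q) ((z ^ (2 ^ (k + 1)) : (KK q)ˣ) : KK q) = 1 := by
  apply (algebraMap (ZMod q) (KK q)).injective
  rw [algebraMap_norm, ← Units.val_pow_eq_pow_val, ← pow_mul, hqk, map_one]
  have : 2 ^ (k + 1) * (2 ^ (k + 2) * (2 * c + 1)) = 2 ^ (k + 3) * (2 ^ k * (2 * c + 1)) := by
    rw [pow_succ, pow_succ, pow_succ, pow_succ, pow_succ]; ring
  rw [this, pow_mul, ← hz, pow_orderOf_eq_one, one_pow]
  rfl

theorem one_ne_neg_one : (1 : ZMod q) ≠ -1 := by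
  intro h
  have h2 : (2 : ZMod q) = 0 := by
    have : (1 : ZMod q) + 1 = 0 := by nth_rewrite 1 [h]; exact neg_add_cancel 1
    rw [← this]; norm_num
  have h3 : ((2 : ℕ) : ZMod q) = 0 := by exact_mod_cast h2
  rw [ZMod.natCast_eq_zero_iff] at h3
  have := q_mod_four q k c hqk
  have := Nat.le_of_dvd (by norm_num) h3
  omega

end zfacts

end Cfsg.Agent.Helper21.SDModel
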