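import Mathlib
import Cfsg.Agent.Lib.Helper21.SDModel4

/-!
# Existence of `SDData` for every `k`
-/

set_option autoImplicit false

namespace Cfsg.Agent.Helper21.SDModel

open Cfsg.Agent.Helper21.SDAbs Cfsg.Agent.Helper21.PresIso

section

variable (q : ℕ) [hq : Fact q.Prime] (k c : ℕ) (hqk : q + 1 = 2 ^ (k + 2) * (2 * c + 1))
  (z : (KK q)ˣ) (hz : orderOf z = 2 ^ (k + 3))

include hqk hz

theorem frob_not_mem : frobL q ∉ Subgroup.zpowers (mulL q z) := by
  intro h
  obtain ⟨j, hj⟩ := Subgroup.mem_zpowers_iff.mp h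
  rw [← map_zpow] at hj
  have h1 := congrArg (fun g : GG q => g 1) hj
  simp only [mulL_apply, frobL_apply, mul_one, one_pow] at h1
  have h2 : z ^ j = 1 := Units.ext h1
  rw [h2, map_one] at hj
  have h3 : ((z : KK q)) ^ q = z := by
    have := congrArg (fun g : GG q => g (z : KK q)) hj
    simp only [frobL_apply] at this
    exact this.symm
  have h4 : z ^ q = z ^ 1 := by
    apply Units.ext
    rw [Units.val_pow_eq_pow_val, h3, pow_one]
  rw [pow_eq_pow_iff_modEq, hz] at h4
  have h5 := (q_modEq q k c hqk).symm.trans h4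
  unfold Nat.ModEq at h5
  have hlt : 2 ^ (k + 2) < 2 ^ (k + 3) := Nat.pow_lt_pow_right (by norm_num) (by omega)
  have h4le : 4 ≤ 2 ^ (k + 2) := by
    calc 4 = 2 ^ 2 := by norm_num
      _ ≤ 2 ^ (k + 2) := Nat.pow_le_pow_right (by norm_num) (by omega)
  rw [Nat.mod_eq_of_lt (by omega), Nat.mod_eq_of_lt (by omega)] at h5
  omega

theorem sq_ab_model :
    (mulL q z * frobL q) * (mulL q z * frobL q) = mulL q (-1) := by
  have h1 : (mulL q z * frobL q) * (mulL q z * frobL q) =
      mulL q z * (frobL q * mulL q z * (frobL q)⁻¹) * (frobL q * frobL q) := by group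
  rw [h1, frob_conj, frobL_sq, mul_one, ← map_mul, ← pow_succ', z_pow_q1 q k c hqk z hz]

omit hqk in
theorem sq_iota_model :
    mulL q (z ^ (2 ^ (k + 1))) * mulL q (z ^ (2 ^ (k + 1))) = mulL q (-1) := by
  rw [← map_mul, ← pow_add, ← two_mul, ← pow_succ', z_pow_M q k z hz]

omit hqk hz in
theorem apply_neg (x : GG q) (hx : x * x = mulL q (-1)) (v : KK q) : x (x v) = -v := by
  have := congrArg (fun g : GG q => g v) hx
  simp only [mulL_apply] at this
  rw [show (x * x) v = x (x v) from rfl] at this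
  rw [this]; simp

omit hz in
theorem conj_GG (x y : GG q) (hx : x * x = mulL q (-1)) (hy : y * y = mulL q (-1)) :
    ∃ h : GG q, h * x * h⁻¹ = y :=
  exists_conj_of_sq_neg_one (finrank_KK q) (no_sqrt q k c hqk) x y (apply_neg q x hx)
    (apply_neg q y hy)

theorem det_iota : LinearEquiv.det (mulL q (z ^ (2 ^ (k + 1)))) = 1 := by
  rw [det_mulL]
  apply Units.ext
  rw [Units.coe_map]
  exact norm_iota q k c hqk z hz

theorem det_ab : LinearEquiv.det (mulL q z * frobL q) = 1 := by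
  obtain ⟨h, hh⟩ := conj_GG q k c hqk _ _ (sq_iota_model q k z hz) (sq_ab_model q k c hqk z hz)
  rw [← hh, map_mul, map_mul, map_inv, mul_comm, inv_mul_cancel_left]
  exact det_iota q k c hqk z hz

theorem det_a : LinearEquiv.det (mulL q z) = -1 := by
  rw [det_mulL]
  apply Units.ext
  rw [Units.coe_map]
  show Algebra.norm (ZMod q) (z : KK q) = _
  rw [norm_z q k c hqk z hz]
  simp

theorem fuse_model (x y : GG q) (hx : x * x = mulL q (-1)) (hy : y * y = mulL q (-1)) :
    ∃ h ∈ (LinearEquiv.det : GG q →* (ZMod q)ˣ).ker, h * x * h⁻¹ = y := by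
  obtain ⟨h₁, hh₁⟩ := conj_GG q k c hqk _ x (sq_iota_model q k z hz) hx
  obtain ⟨h₂, hh₂⟩ := conj_GG q k c hqk _ y (sq_iota_model q k z hz) hy
  obtain ⟨w, hw⟩ := FiniteField.unitsMap_norm_surjective (ZMod q) (KK q)
    (LinearEquiv.det h₁ * (LinearEquiv.det h₂)⁻¹)
  refine ⟨h₂ * mulL q w * h₁⁻¹, ?_, ?_⟩
  · rw [MonoidHom.mem_ker, map_mul, map_mul, map_inv, det_mulL, hw]
    rw [mul_comm (LinearEquiv.det h₁), mul_inv_cancel_left, mul_inv_cancel]
  · have hcomm : mulL q w * mulL q (z ^ (2 ^ (k + 1))) = mulL q (z ^ (2 ^ (k + 1))) * mulL q w := by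
      rw [← map_mul, ← map_mul, mul_comm]
    rw [← hh₁, ← hh₂]
    have : h₂ * mulL q w * h₁⁻¹ * (h₁ * mulL q (z ^ 2 ^ (k + 1)) * h₁⁻¹) * (h₂ * mulL q w * h₁⁻¹)⁻¹ =
        h₂ * (mulL q w * mulL q (z ^ 2 ^ (k + 1)) * (mulL q w)⁻¹) * h₂⁻¹ := by group
    rw [this, hcomm, mul_inv_cancel_right]

theorem sylow_model : ∃ P : Sylow 2 (GG q),
    (P : Subgroup (GG q)) = Subgroup.closure {mulL q z, frobL q} := by
  haveI : Fact (Nat.Prime 2) := ⟨Nat.prime_two⟩
  have horda : orderOf (mulL q z) = 2 ^ (k + 3) := by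
    rw [orderOf_injective (mulL q) (mulL_injective q) z, hz]
  have hcard : Nat.card (Subgroup.closure ({mulL q z, frobL q} : Set (GG q))) =
      2 * 2 ^ (k + 3) :=
    (card_closure_pair (mulL q z) (frobL q) _ horda
      (by rw [frob_conj, map_pow]; exact Subgroup.pow_mem _ (Subgroup.mem_zpowers _) _)
      (by rw [frobL_sq]; exact Subgroup.one_mem _)
      (frob_not_mem q k c hqk z hz)).1
  have hp : IsPGroup 2 (Subgroup.closure ({mulL q z, frobL q} : Set (GG q))) := by
    apply IsPGroup.of_card (n := k + 4)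
    rw [hcard, pow_succ 2 (k + 3)]; ring
  obtain ⟨u, hu1, hu2, huodd⟩ := exists_u q k c hqk
  have hindex : ¬ 2 ∣ (Subgroup.closure ({mulL q z, frobL q} : Set (GG q))).index := by
    have h1 := Subgroup.index_mul_card (Subgroup.closure ({mulL q z, frobL q} : Set (GG q)))
    rw [hcard, card_GG, hu2] at h1
    have h2 : q ^ 2 - q = (2 * u + 1) * (2 * u) := by
      apply Nat.sub_eq_of_eq_add
      rw [hu1]; ring
    rw [h2] at h1
    have h3 : 2 ^ (k + 3) * ((2 * c + 1) * u) * ((2 * u + 1) * (2 * u)) =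
        ((2 * c + 1) * u * (2 * u + 1) * u) * (2 * 2 ^ (k + 3)) := by ring
    rw [h3] at h1
    have h4 := Nat.eq_of_mul_eq_mul_right (by positivity) h1
    rw [h4]
    have hodd : Odd ((2 * c + 1) * u * (2 * u + 1) * u) :=
      ((Odd.mul ⟨c, rfl⟩ huodd).mul ⟨u, rfl⟩).mul huodd
    rw [← Nat.not_even_iff_odd, even_iff_two_dvd] at hodd
    exact hodd
  exact ⟨hp.toSylow hindex, hp.toSylow_coe hindex⟩

end

theorem exists_sdData (k : ℕ) :
    ∃ (G : Type) (_ : Group G) (_ : Finite G), Nonempty (SDData G k) := by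
  have hcop : (2 ^ (k + 2) - 1).Coprime (2 ^ (k + 3)) := by
    apply Nat.Coprime.pow_right
    rw [Nat.coprime_two_right, Nat.odd_iff]
    have : 2 ^ (k + 2) = 2 * 2 ^ (k + 1) := by rw [pow_succ]; ring
    have hpos : 0 < 2 ^ (k + 1) := Nat.pos_of_ne_zero (pow_ne_zero _ (by norm_num))
    omega
  obtain ⟨q, -, hqp, hqmod⟩ := Nat.forall_exists_prime_gt_and_modEq 0
    (q := 2 ^ (k + 3)) (pow_ne_zero _ (by norm_num)) hcop
  haveI : Fact q.Prime := ⟨hqp⟩
  have hlt : 2 ^ (k + 2) < 2 ^ (k + 3) := Nat.pow_lt_pow_right (by norm_num) (by omega)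
  have hpos : 0 < 2 ^ (k + 2) := Nat.pos_of_ne_zero (pow_ne_zero _ (by norm_num))
  obtain ⟨c, hqk⟩ : ∃ c, q + 1 = 2 ^ (k + 2) * (2 * c + 1) := by
    refine ⟨q / 2 ^ (k + 3), ?_⟩
    unfold Nat.ModEq at hqmod
    rw [Nat.mod_eq_of_lt (show 2 ^ (k + 2) - 1 < 2 ^ (k + 3) by omega)] at hqmod
    have h1 := Nat.div_add_mod q (2 ^ (k + 3))
    rw [hqmod] at h1
    have h2 : 2 ^ (k + 3) * (q / 2 ^ (k + 3)) = 2 ^ (k + 2) * (2 * (q / 2 ^ (k + 3))) := by
      rw [pow_succ 2 (k + 2)]; ring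
    have h3 : 2 ^ (k + 2) * (2 * (q / 2 ^ (k + 3)) + 1) =
        2 ^ (k + 2) * (2 * (q / 2 ^ (k + 3))) + 2 ^ (k + 2) := by ring
    omega
  obtain ⟨z, hz⟩ := exists_z q k c hqk
  refine ⟨GG q, inferInstance, inferInstance, ⟨?_⟩⟩
  exact
    { a := mulL q z
      b := frobL q
      G₁ := (LinearEquiv.det : GG q →* (ZMod q)ˣ).ker
      normal := MonoidHom.normal_ker _
      ord_a := by rw [orderOf_injective (mulL q) (mulL_injective q) z, hz]
      sq_b := frobL_sq q
      conj := by rw [frob_conj, z_pow_q q k c hqk z hz, map_pow]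
      b_not := frob_not_mem q k c hqk z hz
      central := by
        rw [← map_pow, z_pow_M q k z hz]
        exact mulL_negOne_central q
      a_not := by
        rw [MonoidHom.mem_ker, det_a q k c hqk z hz]
        intro h
        have := congrArg Units.val h
        simp only [Units.val_neg, Units.val_one] at this
        exact one_ne_neg_one q k c hqk z hz this.symm
      aa_mem := by
        rw [MonoidHom.mem_ker, map_mul, det_a q k c hqk z hz]
        simp
      ab_mem := by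
        rw [MonoidHom.mem_ker]
        exact det_ab q k c hqk z hz
      fuse := by
        intro x y hx hy
        rw [← map_pow, z_pow_M q k z hz] at hx hy
        exact fuse_model q k c hqk z hz x y hx hy
      sylow := sylow_model q k c hqk z hz }

end Cfsg.Agent.Helper21.SDModel
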