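import Mathlib
import Cfsg.Prelude.Def_CaseTheorems
import Cfsg.Agent.Lib.Helper21.SDAbs4
import Cfsg.Agent.Lib.Helper21.SDModel5
import Cfsg.Agent.Lib.Helper1.AbFusion4

set_option autoImplicit false

/-! Saturated fusion systems without a supersoluble chain on the "bad" metacyclic groups:
homocyclic of rank two, dihedral, quasidihedral, generalized quaternion. -/

namespace Cfsg.Agent.Helper21.SDFinal

open Cfsg Cfsg.Agent.Helper21.SDAbs

variable {Ω : Type*} [Group Ω] {S' : Subgroup Ω}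

theorem noChain_of_quasiDihedral [Finite S'] (h : IsQuasiDihedral ↥S') :
    ∃ F : FusionSystem S', F.IsSaturated 2 ∧ NoChain F := by
  obtain ⟨n, hn, hcard, x, y, hx, hy, hxy⟩ := h
  obtain ⟨k, rfl⟩ : ∃ k, n = k + 3 := ⟨n - 3, by omega⟩
  obtain ⟨G, _, _, ⟨D⟩⟩ := SDModel.exists_sdData k
  have h1 : k + 3 - 1 = k + 2 := by omega
  rw [h1] at hxy
  exact D.out_sd x y hx hy hxy hcard

/-- the Klein four group as a product -/
def kleinEquiv : DihedralGroup 2 ≃* Multiplicative (ZMod 2) × Multiplicative (ZMod 2) where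
  toFun g := match g with
    | DihedralGroup.r i => (Multiplicative.ofAdd i, Multiplicative.ofAdd 0)
    | DihedralGroup.sr i => (Multiplicative.ofAdd i, Multiplicative.ofAdd 1)
  invFun z := if Multiplicative.toAdd z.2 = 0 then DihedralGroup.r (Multiplicative.toAdd z.1)
    else DihedralGroup.sr (Multiplicative.toAdd z.1)
  left_inv := by decide
  right_inv := by decide
  map_mul' := by decide

theorem noChain_of_homocyclic [Finite S'] {p n : ℕ} [Fact p.Prime] (hn : 0 < n)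
    (e : ↥S' ≃* Multiplicative (ZMod (p ^ n)) × Multiplicative (ZMod (p ^ n))) :
    ∃ F : FusionSystem S', F.IsSaturated p ∧ NoChain F := by
  have hab : ∀ a ∈ S', ∀ b ∈ S', a * b = b * a := by
    intro a ha b hb
    have h1 : (⟨a, ha⟩ : S') * ⟨b, hb⟩ = ⟨b, hb⟩ * ⟨a, ha⟩ := by
      apply e.injective
      rw [map_mul, map_mul, mul_comm]
    exact congrArg Subtype.val h1
  exact Cfsg.Agent.Helper1.AbFus.exists_saturated_no_chain' hn (H := PUnit.{1}) hab
    (e.trans (MulEquiv.prodUnique).symm)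

theorem noChain_of_dihedral [Finite S'] (hS : IsPGroup 2 ↥S') (n : ℕ) (hn : 2 ≤ n)
    (e : ↥S' ≃* DihedralGroup n) :
    ∃ F : FusionSystem S', F.IsSaturated 2 ∧ NoChain F := by
  haveI : Fact (Nat.Prime 2) := ⟨Nat.prime_two⟩
  haveI : NeZero n := ⟨by omega⟩
  obtain ⟨j, hj⟩ := IsPGroup.iff_card.mp hS
  have hcard : Nat.card ↥S' = 2 * n := by
    rw [Nat.card_congr e.toEquiv, DihedralGroup.nat_card]
  have hdvd : n ∣ 2 ^ j := by
    rw [← hj, hcard]; exact dvd_mul_left n 2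
  obtain ⟨i, -, rfl⟩ := (Nat.dvd_prime_pow Nat.prime_two).mp hdvd
  have hi : 1 ≤ i := by
    by_contra hcon
    have : i = 0 := by omega
    rw [this] at hn
    norm_num at hn
  rcases Nat.lt_or_ge i 2 with hi2 | hi2
  · have hi1 : i = 1 := by omega
    subst hi1
    have e1 : ↥S' ≃* Multiplicative (ZMod (2 ^ 1)) × Multiplicative (ZMod (2 ^ 1)) :=
      e.trans kleinEquiv
    exact noChain_of_homocyclic (p := 2) (n := 1) Nat.one_pos e1
  · obtain ⟨k, rfl⟩ : ∃ k, i = k + 2 := ⟨i - 2, by omega⟩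
    obtain ⟨G, _, _, ⟨D⟩⟩ := SDModel.exists_sdData k
    exact D.out_d e

theorem noChain_of_quaternion [Finite S'] (hS : IsPGroup 2 ↥S') (n : ℕ) (hn : 2 ≤ n)
    (e : ↥S' ≃* QuaternionGroup n) :
    ∃ F : FusionSystem S', F.IsSaturated 2 ∧ NoChain F := by
  haveI : Fact (Nat.Prime 2) := ⟨Nat.prime_two⟩
  haveI : NeZero n := ⟨by omega⟩
  obtain ⟨j, hj⟩ := IsPGroup.iff_card.mp hS
  have hcard : Nat.card ↥S' = 4 * n := by
    rw [Nat.card_congr e.toEquiv, Nat.card_eq_fintype_card, QuaternionGroup.card]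
  have hdvd : n ∣ 2 ^ j := by
    rw [← hj, hcard]; exact dvd_mul_left n 4
  obtain ⟨i, -, rfl⟩ := (Nat.dvd_prime_pow Nat.prime_two).mp hdvd
  have hi : 1 ≤ i := by
    by_contra hcon
    have : i = 0 := by omega
    rw [this] at hn
    norm_num at hn
  obtain ⟨k, rfl⟩ : ∃ k, i = k + 1 := ⟨i - 1, by omega⟩
  obtain ⟨G, _, _, ⟨D⟩⟩ := SDModel.exists_sdData k
  exact D.out_q e

/-- all bad cases at once -/
theorem noChain_of_bad [Finite S'] {p : ℕ} [Fact p.Prime] (hS : IsPGroup p ↥S')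
    (hbad : (∃ n : ℕ, 0 < n ∧ Nonempty (↥S' ≃* Multiplicative (ZMod (p ^ n)) ×
      Multiplicative (ZMod (p ^ n)))) ∨ (p = 2 ∧ ((∃ n : ℕ, 2 ≤ n ∧
      Nonempty (↥S' ≃* DihedralGroup n)) ∨ Cfsg.IsQuasiDihedral ↥S' ∨
      (∃ n : ℕ, 2 ≤ n ∧ Nonempty (↥S' ≃* QuaternionGroup n))))) :
    ∃ F : FusionSystem S', F.IsSaturated p ∧ NoChain F := by
  rcases hbad with ⟨n, hn, ⟨e⟩⟩ | ⟨rfl, h | h | h⟩
  · exact noChain_of_homocyclic hn e
  · obtain ⟨n, hn, ⟨e⟩⟩ := h
    exact noChain_of_dihedral hS n hn e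
  · exact noChain_of_quasiDihedral h
  · obtain ⟨n, hn, ⟨e⟩⟩ := h
    exact noChain_of_quaternion hS n hn e

end Cfsg.Agent.Helper21.SDFinal
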