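import Mathlib
import Cfsg.Prelude.Def_Local
import Cfsg.Prelude.Def_SolvableStructure
import Cfsg.Agent.Lib.Helper22.SchPLDefs
import Cfsg.Agent.Lib.Helper4.SL2FreeApps
import Cfsg.Agent.Lib.Helper14.Basic

/-!
# S4394 piece P5 (helper21): for `p ≥ 5` the Sylow subgroup is normal (quadratic action,
`SL₂(p)`-freeness of `p`-solvable groups)
-/

set_option autoImplicit false
open Pointwise

namespace Cfsg.Agent.Helper22.SchPL

open Cfsg
open scoped commutatorElement

variable {G : Type*} [Group G] [Finite G] {p : ℕ} [Fact p.Prime]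

/-- Piece P5. -/
theorem normal_of_five_le (hp5 : 5 ≤ p) (hG : IsPSolvable p G) (hO : pPrimeCore p G = ⊥)
    (Q : Sylow p G) (Z : Subgroup G) (h : SESub p (Q : Subgroup G) Z) :
    (Q : Subgroup G).Normal := by
  have hp2 : p ≠ 2 := by omega
  haveI hFn : (pCore p G).Normal := Subgroup.sSup_normal _ (fun K hK => hK.1)
  have hFp : IsPGroup p (pCore p G) := Cfsg.Agent.Helper14.pCore_isPGroup p G
  have hFQ : pCore p G ≤ Q := Cfsg.Agent.Helper14.pCore_le_sylow Q
  have hcen : Subgroup.centralizer (pCore p G : Set G) ≤ pCore p G :=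
    Cfsg.Agent.Helper23.PSolv.centralizer_pCore_le hG hO
  have hfree := Cfsg.Agent.Helper4.SLF.sl2free_of_isPSolvable hp5 hG
  -- quadratic action
  have hquad : ∀ a ∈ (Q : Subgroup G),
      ⁅⁅pCore p G, Subgroup.zpowers a⁆, Subgroup.zpowers a⁆ = ⊥ := by
    intro a ha
    rw [eq_bot_iff]
    have h1 : ⁅pCore p G, Subgroup.zpowers a⁆ ≤ Z := by
      rw [Subgroup.commutator_le]
      intro x hx y hy
      have hyQ : y ∈ (Q : Subgroup G) := (Subgroup.zpowers_le.2 ha) hy
      exact h.comm_mem x (hFQ hx) y hyQ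
    have h2 : ⁅Z, Subgroup.zpowers a⁆ ≤ ⊥ := by
      rw [Subgroup.commutator_le]
      intro z hz y hy
      have hyQ : y ∈ (Q : Subgroup G) := (Subgroup.zpowers_le.2 ha) hy
      rw [Subgroup.mem_bot, commutatorElement_def, h.central z hz y hyQ]
      group
    exact le_trans (Subgroup.commutator_mono h1 le_rfl) h2
  -- the preimage of `O_p(G / C_G(F))`
  have hQW : (Q : Subgroup G) ≤
      (pCore p (G ⧸ Subgroup.centralizer (pCore p G : Set G))).comap
        (QuotientGroup.mk' (Subgroup.centralizer (pCore p G : Set G))) := by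
    intro a ha
    exact Cfsg.Agent.Helper4.SLF.mem_pCore_of_sl2free hp2 hfree (pCore p G) hFp a (hquad a ha)
  haveI hn2 : (pCore p (G ⧸ Subgroup.centralizer (pCore p G : Set G))).Normal :=
    Subgroup.sSup_normal _ (fun K hK => hK.1)
  have hWn : ((pCore p (G ⧸ Subgroup.centralizer (pCore p G : Set G))).comap
        (QuotientGroup.mk' (Subgroup.centralizer (pCore p G : Set G)))).Normal :=
    Subgroup.Normal.comap hn2 _
  have hWp : IsPGroup p ((pCore p (G ⧸ Subgroup.centralizer (pCore p G : Set G))).comap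
        (QuotientGroup.mk' (Subgroup.centralizer (pCore p G : Set G)))) := by
    apply IsPGroup.comap_of_ker_isPGroup (Cfsg.Agent.Helper14.pCore_isPGroup p _)
    rw [QuotientGroup.ker_mk']
    exact hFp.to_le hcen
  have hWF := Cfsg.Agent.Helper14.le_pCore hWn hWp
  have hQF : (Q : Subgroup G) = pCore p G := le_antisymm (hQW.trans hWF) hFQ
  rw [hQF]
  exact hFn

end Cfsg.Agent.Helper22.SchPL
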