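import Mathlib

namespace Cfsg.Agent.Helper21.SchurMeta

open Finset

/-- cofactor decomposition of the parameters of a metacyclic presentation -/
theorem cofactors (m n r l : ℕ) (hm : 0 < m) (hr : 0 < r) (hrn : r ^ n ≡ 1 [MOD m]) :
    ∃ d m' ρ s'' : ℕ, d = Nat.gcd m (r - 1) ∧ 0 < d ∧ 0 < m' ∧ m = d * m' ∧ r = 1 + d * ρ ∧
      Nat.Coprime m' ρ ∧ (∑ i ∈ range n, r ^ i) = m' * s'' ∧
      Nat.gcd m (r - 1) * Nat.gcd m (∑ i ∈ range n, r ^ i) / m = Nat.gcd d s'' ∧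
      m * l / Nat.gcd m (r - 1) = m' * l ∧ m / Nat.gcd m (r - 1) = m' := by
  set d := Nat.gcd m (r - 1) with hd
  have hdpos : 0 < d := Nat.gcd_pos_of_pos_left _ hm
  obtain ⟨m', hm'⟩ : d ∣ m := Nat.gcd_dvd_left _ _
  obtain ⟨ρ, hρ⟩ : d ∣ r - 1 := Nat.gcd_dvd_right _ _
  have hm'pos : 0 < m' := by
    rcases Nat.eq_zero_or_pos m' with h | h
    · rw [h, mul_zero] at hm'; omega
    · exact h
  have hcop : Nat.Coprime m' ρ := by
    have h := Nat.coprime_div_gcd_div_gcd (m := m) (n := r - 1) hdpos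
    have e1 : m / d = m' := by rw [hm']; exact Nat.mul_div_cancel_left _ hdpos
    have e2 : (r - 1) / d = ρ := by rw [hρ]; exact Nat.mul_div_cancel_left _ hdpos
    rw [← hd] at h
    rwa [e1, e2] at h
  set s := ∑ i ∈ range n, r ^ i with hs
  have hgeo : s * (r - 1) + 1 = r ^ n := by
    have := geom_sum_mul_add (r - 1) n
    have e : r - 1 + 1 = r := Nat.sub_add_cancel hr
    rwa [e] at this
  have hdvd : m ∣ s * (r - 1) := by
    have h1 : s * (r - 1) + 1 ≡ 0 + 1 [MOD m] := by rw [hgeo, zero_add]; exact hrn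
    have h2 := Nat.ModEq.add_right_cancel' 1 h1
    exact (Nat.modEq_zero_iff_dvd).mp h2
  have hm's : m' ∣ s := by
    rw [hm', hρ] at hdvd
    have h3 : d * m' ∣ d * (s * ρ) := by
      have : s * (d * ρ) = d * (s * ρ) := by ring
      rwa [this] at hdvd
    have h4 : m' ∣ s * ρ := (Nat.mul_dvd_mul_iff_left hdpos).mp h3
    exact hcop.dvd_of_dvd_mul_right h4
  obtain ⟨s'', hs''⟩ := hm's
  refine ⟨d, m', ρ, s'', rfl, hdpos, hm'pos, hm', by omega, hcop, hs'', ?_, ?_, ?_⟩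
  · rw [hs'']
    have h5 : Nat.gcd m (m' * s'') = m' * Nat.gcd d s'' := by
      rw [hm', mul_comm d m', Nat.gcd_mul_left]
    rw [h5, hm']
    have : d * (m' * Nat.gcd d s'') = d * m' * Nat.gcd d s'' := by ring
    rw [this]
    exact Nat.mul_div_cancel_left _ (Nat.mul_pos hdpos hm'pos)
  · rw [hm']
    have : d * m' * l = d * (m' * l) := by ring
    rw [this]
    exact Nat.mul_div_cancel_left _ hdpos
  · rw [hm']; exact Nat.mul_div_cancel_left _ hdpos

/-- integer Bezout coefficients -/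
theorem bezout (m' ρ : ℕ) (h : Nat.Coprime m' ρ) : ∃ x e : ℤ, x * ρ + e * m' = 1 := by
  have h1 := Int.gcd_eq_gcd_ab (ρ : ℤ) (m' : ℤ)
  have h2 : Int.gcd (ρ : ℤ) (m' : ℤ) = 1 := by
    rw [Int.gcd_natCast_natCast]; exact Nat.Coprime.symm h
  rw [h2] at h1
  refine ⟨Int.gcdA ρ m', Int.gcdB ρ m', ?_⟩
  have : ((1 : ℕ) : ℤ) = 1 := rfl
  rw [this] at h1
  linarith

/-- geometric sums: `s_{j+1} = s_j + r^j` and `(r-1) s_j + 1 = r^j` -/
theorem geo (r : ℕ) (hr : 0 < r) (j : ℕ) :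
    (∑ i ∈ range j, r ^ i) * (r - 1) + 1 = r ^ j := by
  have := geom_sum_mul_add (r - 1) j
  have e : r - 1 + 1 = r := Nat.sub_add_cancel hr
  rwa [e] at this

end Cfsg.Agent.Helper21.SchurMeta
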