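import Mathlib

namespace Cfsg.Agent.Helper21.SchurMeta

/-! computations in an abelian group with `α ^ (d m') = κ ^ h` and `h ρ + e m' = 1` -/

section calcs

variable {A : Type*} [CommGroup A] (α κ : A) (d m' ρ s'' l : ℕ) (h e : ℤ)

lemma calc_a (hbez : h * ρ + e * m' = 1) (hα : α ^ (d * m') = κ ^ h) (hκd : κ ^ d = 1) :
    (α ^ (1 + d * ρ) * κ ^ e) ^ (d * m') = κ ^ h := by
  have h1 : (α ^ (1 + d * ρ)) ^ (d * m') = κ ^ (h * ((1 + d * ρ : ℕ) : ℤ)) := by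
    rw [← pow_mul, mul_comm, pow_mul, hα, zpow_mul, zpow_natCast]
  have h2 : (κ ^ e) ^ (d * m') = κ ^ (e * ((d * m' : ℕ) : ℤ)) := by
    rw [zpow_mul, zpow_natCast]
  rw [mul_pow, h1, h2, ← zpow_add]
  have h3 : h * ((1 + d * ρ : ℕ) : ℤ) + e * ((d * m' : ℕ) : ℤ) = h + (d : ℤ) := by
    push_cast
    linear_combination (d : ℤ) * hbez
  rw [h3, zpow_add, zpow_natCast, hκd, mul_one]

lemma calc_e (hbez : h * ρ + e * m' = 1) (hα : α ^ (d * m') = κ ^ h) :
    (α ^ (d * ρ) * κ ^ e) ^ m' = κ := by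
  have h1 : (α ^ (d * ρ)) ^ m' = κ ^ (h * (ρ : ℤ)) := by
    rw [← pow_mul]
    have : d * ρ * m' = d * m' * ρ := by ring
    rw [this, pow_mul, hα, zpow_mul, zpow_natCast]
  have h2 : (κ ^ e) ^ m' = κ ^ (e * (m' : ℤ)) := by
    rw [zpow_mul, zpow_natCast]
  rw [mul_pow, h1, h2, ← zpow_add, hbez, zpow_one]

lemma calc_d (hbez : h * ρ + e * m' = 1) (hα : α ^ (d * m') = κ ^ h) (hκl : κ ^ l = 1) :
    (α ^ (1 + d * ρ) * κ ^ e) ^ (m' * l) = α ^ (m' * l) := by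
  have h1 : (α ^ (1 + d * ρ)) ^ (m' * l) = α ^ (m' * l) * κ ^ (h * ((ρ * l : ℕ) : ℤ)) := by
    rw [← pow_mul]
    have : (1 + d * ρ) * (m' * l) = m' * l + d * m' * (ρ * l) := by ring
    rw [this, pow_add, pow_mul (α) (d * m'), hα, zpow_mul, zpow_natCast]
  have h2 : (κ ^ e) ^ (m' * l) = κ ^ (e * ((m' * l : ℕ) : ℤ)) := by
    rw [zpow_mul, zpow_natCast]
  rw [mul_pow, h1, h2, mul_assoc, ← zpow_add]
  have h3 : h * ((ρ * l : ℕ) : ℤ) + e * ((m' * l : ℕ) : ℤ) = (l : ℤ) := by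
    push_cast
    linear_combination (l : ℤ) * hbez
  rw [h3, zpow_natCast, hκl, mul_one]

lemma calc_c (hbez : h * ρ + e * m' = 1) (hα : α ^ (d * m') = κ ^ h) (hκs : κ ^ s'' = 1)
    (S R : ℕ) (hS : S = m' * s'') (hgeo : S * (d * ρ) + 1 = R) :
    α ^ R * κ ^ (e * (S : ℤ)) = α := by
  have h1 : α ^ R = α * κ ^ (h * ((ρ * s'' : ℕ) : ℤ)) := by
    rw [← hgeo, hS]
    have : m' * s'' * (d * ρ) + 1 = d * m' * (ρ * s'') + 1 := by ring
    rw [this, pow_succ, pow_mul, hα, zpow_mul, zpow_natCast, mul_comm]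
  rw [h1, mul_assoc, ← zpow_add]
  have h3 : h * ((ρ * s'' : ℕ) : ℤ) + e * (S : ℤ) = (s'' : ℤ) := by
    rw [hS]
    push_cast
    linear_combination (s'' : ℤ) * hbez
  rw [h3, zpow_natCast, hκs, mul_one]

end calcs

/-- iterates of an endomorphism with `θ α = α ^ r * κ ^ e`, `θ κ = κ` -/
lemma iter_formula {A : Type*} [CommGroup A] (θ : A →* A) (α κ : A) (r : ℕ) (e : ℤ)
    (hθα : θ α = α ^ r * κ ^ e) (hθκ : θ κ = κ) (j : ℕ) :
    θ^[j] α = α ^ (r ^ j) * κ ^ (e * ((∑ i ∈ Finset.range j, r ^ i : ℕ) : ℤ)) := by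
  induction j with
  | zero => simp
  | succ j ih =>
    rw [Function.iterate_succ_apply', ih, map_mul, map_pow, map_zpow, hθα, hθκ, mul_pow,
      ← pow_mul, mul_assoc, ← zpow_natCast (κ ^ e), ← zpow_mul, ← zpow_add, Finset.sum_range_succ]
    congr 2
    · rw [pow_succ, mul_comm]
    · push_cast; ring

/-- an endomorphism of finite order is an automorphism -/
def autOfIter {A : Type*} [Group A] (θ : A →* A) (n : ℕ) (h : ∀ x, θ^[n + 1] x = x) :
    MulAut A where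
  toFun := θ
  invFun := θ^[n]
  left_inv x := by rw [← Function.iterate_succ_apply]; exact h x
  right_inv x := by
    have := h x
    rwa [Function.iterate_succ_apply'] at this
  map_mul' := θ.map_mul

lemma mulAut_pow_apply {A : Type*} [Group A] (φ : MulAut A) (j : ℕ) (x : A) :
    (φ ^ j) x = φ^[j] x := by
  induction j with
  | zero => simp
  | succ j ih => rw [pow_succ', MulAut.mul_apply, ih, Function.iterate_succ_apply']

end Cfsg.Agent.Helper21.SchurMeta
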