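import Mathlib
import Cfsg.Prelude.Def_KGroupFacts
import Cfsg.Agent.Lib.Helper21.CycExt
import Cfsg.Agent.Lib.Helper21.SchurMetaArith
import Cfsg.Agent.Lib.Helper21.SchurMetaCalc

namespace Cfsg.Agent.Helper21.SchurMeta

open Finset
open scoped commutatorElement

/-- two homs agreeing on a generating set are equal -/
lemma hom_eq_of_closure {Y X : Type*} [Group Y] [Group X] (S : Set Y)
    (hS : Subgroup.closure S = ⊤) (F F' : Y →* X) (h : ∀ y ∈ S, F y = F' y) : F = F' := by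
  have h1 : Subgroup.closure S ≤ MonoidHom.eqLocus F F' := by
    rw [Subgroup.closure_le]; exact h
  refine MonoidHom.ext fun y => ?_
  exact h1 (by rw [hS]; trivial)

/-- a central subgroup is normal -/
lemma normal_of_le_center {Y : Type*} [Group Y] (Z : Subgroup Y) (hZ : Z ≤ Subgroup.center Y) :
    Z.Normal := by
  constructor
  intro h hh g
  have hc := hZ hh
  rw [Subgroup.mem_center_iff] at hc
  rw [hc g, mul_inv_cancel_right]
  exact hh

/-- iterates of an endomorphism, as a hom -/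
def iterHom {Y : Type*} [Group Y] (θ : Y →* Y) (n : ℕ) : Y →* Y where
  toFun := θ^[n]
  map_one' := iterate_map_one θ n
  map_mul' := iterate_map_mul θ n

theorem exists_stem_core (d m' ρ s'' n l : ℕ) (hd : 0 < d) (hm' : 0 < m') (hn : 0 < n)
    (hcop : Nat.Coprime m' ρ) (hs : (∑ i ∈ range n, (1 + d * ρ) ^ i) = m' * s'')
    {G : Type} [Group G] (a b : G)
    (ha : a ^ (d * m') = 1) (hb : b ^ n = a ^ (m' * l)) (hab : b * a * b⁻¹ = a ^ (1 + d * ρ))
    (hgen : Subgroup.closure ({a, b} : Set G) = ⊤)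
    (hpres : ∀ (X : Type) [Group X] (x y : X), x ^ (d * m') = 1 → y ^ n = x ^ (m' * l) →
      y * x * y⁻¹ = x ^ (1 + d * ρ) → ∃ F : G →* X, F a = x ∧ F b = y) :
    ∃ (Γ : Type) (_ : Group Γ) (_ : Finite Γ) (σ : Γ →* G), Cfsg.IsStemExtension σ ∧
      Nonempty (σ.ker ≃* Multiplicative (ZMod (Nat.gcd l (Nat.gcd d s'')))) := by
  set N0 := Nat.gcd l (Nat.gcd d s'') with hN0
  have hN0pos : 0 < N0 := Nat.gcd_pos_of_pos_right _ (Nat.gcd_pos_of_pos_left _ hd)
  have hN0l : N0 ∣ l := Nat.gcd_dvd_left _ _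
  have hN0d : N0 ∣ d := (Nat.gcd_dvd_right _ _).trans (Nat.gcd_dvd_left _ _)
  have hN0s : N0 ∣ s'' := (Nat.gcd_dvd_right _ _).trans (Nat.gcd_dvd_right _ _)
  haveI : NeZero N0 := ⟨hN0pos.ne'⟩
  obtain ⟨h, e, hbez⟩ := bezout m' ρ hcop
  -- the kernel
  let κ0 : Multiplicative (ZMod N0) := Multiplicative.ofAdd 1
  have hκ0 : orderOf κ0 = N0 := by
    rw [orderOf_ofAdd_eq_addOrderOf, ZMod.addOrderOf_one]
  have hK0 : ∀ x : Multiplicative (ZMod N0), ∃ j : ℕ, x = κ0 ^ j := by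
    intro x
    refine ⟨(Multiplicative.toAdd x).val, ?_⟩
    rw [← ofAdd_nsmul]
    simp
  have hmpos : 0 < d * m' := Nat.mul_pos hd hm'
  -- the abelian group `N = ⟨α, κ⟩`
  obtain ⟨N, instN, finN, ιN, αN, hιN, hαN, hgenN, hliftN⟩ :=
    CycExt.exists_ext_comm (N := Multiplicative (ZMod N0)) (d * m') hmpos (κ0 ^ h)
  set κN : N := ιN κ0 with hκN
  have hκN_ord : orderOf κN = N0 := by rw [hκN, orderOf_injective ιN hιN, hκ0]
  have hκN_pow : ∀ k : ℕ, N0 ∣ k → κN ^ k = 1 := by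
    intro k hk
    rw [← hκN_ord] at hk
    exact orderOf_dvd_iff_pow_eq_one.mp hk
  have hαN' : αN ^ (d * m') = κN ^ h := by rw [hαN, map_zpow]
  have hιN_pow : ∀ x, ∃ j : ℕ, ιN x = κN ^ j := by
    intro x
    obtain ⟨j, rfl⟩ := hK0 x
    exact ⟨j, by rw [map_pow]⟩
  -- hom extensionality on `N`
  have hextN : ∀ {X : Type} [Group X] (F F' : N →* X), F κN = F' κN → F αN = F' αN →
      F = F' := by
    intro X _ F F' h1 h2
    apply hom_eq_of_closure _ hgenN
    rintro y (⟨x, rfl⟩ | hy)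
    · obtain ⟨j, hj⟩ := hιN_pow x
      rw [hj, map_pow, map_pow, h1]
    · rw [Set.mem_singleton_iff] at hy
      rw [hy, h2]
  -- the endomorphism `θ` of `N`
  obtain ⟨θ, hθι, hθα⟩ := hliftN N ιN (αN ^ (1 + d * ρ) * κN ^ e) (fun x => mul_comm _ _)
    (by rw [calc_a αN κN d m' ρ h e hbez hαN' (hκN_pow d hN0d), map_zpow])
  have hθκ : θ κN = κN := hθι κ0
  have hr1 : 0 < 1 + d * ρ := by omega
  have hgeo : (∑ i ∈ range n, (1 + d * ρ) ^ i) * (d * ρ) + 1 = (1 + d * ρ) ^ n := by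
    have := geo (1 + d * ρ) hr1 n
    rwa [Nat.add_sub_cancel_left] at this
  have hθn : ∀ x, θ^[n] x = x := by
    have h1 : iterHom θ n = MonoidHom.id N := by
      apply hextN
      · show (θ : N → N)^[n] κN = κN
        exact Function.iterate_fixed hθκ n
      · show (θ : N → N)^[n] αN = αN
        rw [iter_formula θ αN κN (1 + d * ρ) e hθα hθκ n]
        exact calc_c αN κN d m' ρ s'' h e hbez hαN' (hκN_pow s'' hN0s) _ _ hs hgeo
    intro x
    exact DFunLike.congr_fun h1 x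
  have hθu : θ (αN ^ (m' * l)) = αN ^ (m' * l) := by
    rw [map_pow, hθα]
    exact calc_d αN κN d m' ρ l h e hbez hαN' (hκN_pow l hN0l)
  obtain ⟨n', rfl⟩ : ∃ n', n = n' + 1 := ⟨n - 1, by omega⟩
  let θA : MulAut N := autOfIter θ n' hθn
  have hθA_apply : ∀ x, θA x = θ x := fun x => rfl
  have hθA : θA ^ (n' + 1) = 1 := by
    ext x
    rw [mulAut_pow_apply, MulAut.one_apply]
    exact hθn x
  have hθAu : θA (αN ^ (m' * l)) = αN ^ (m' * l) := hθu
  -- the group `Γ`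
  obtain ⟨Γ, instΓ, finΓ, ιΓ, βΓ, hιΓ, hconjΓ, hβΓ, hgenΓ, hliftΓ⟩ :=
    CycExt.exists_ext θA (n' + 1) hn hθA (αN ^ (m' * l)) hθAu
  -- the map `N → G`
  obtain ⟨fN, hfNι, hfNα⟩ := hliftN G (1 : Multiplicative (ZMod N0) →* G) a
    (fun x => by simp) (by rw [ha]; simp)
  have hfNκ : fN κN = 1 := by rw [hκN, hfNι]; rfl
  -- the map `σ : Γ → G`
  have hσ1 : ∀ x, b * fN x * b⁻¹ = fN (θA x) := by
    have h1 : (MulAut.conj b).toMonoidHom.comp fN = fN.comp θ := by
      apply hextN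
      · simp only [MonoidHom.comp_apply, MulEquiv.coe_toMonoidHom, MulAut.conj_apply, hfNκ, hθκ]
        simp
      · simp only [MonoidHom.comp_apply, MulEquiv.coe_toMonoidHom, MulAut.conj_apply, hfNα, hθα,
          map_mul, map_pow, map_zpow, hfNκ, hab]
        simp
    intro x
    have := DFunLike.congr_fun h1 x
    rw [hθA_apply]
    simpa using this
  obtain ⟨σ, hσι, hσβ⟩ := hliftΓ G fN b hσ1 (by rw [hb, map_pow, hfNα])
  set κΓ : Γ := ιΓ κN with hκΓ
  set αΓ : Γ := ιΓ αN with hαΓ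
  have hσα : σ αΓ = a := by rw [hαΓ, hσι, hfNα]
  have hσκ : σ κΓ = 1 := by rw [hκΓ, hσι, hfNκ]
  have hsurj : Function.Surjective σ := by
    rw [← MonoidHom.range_eq_top, eq_top_iff, ← hgen, Subgroup.closure_le]
    intro x hx
    rcases hx with rfl | hx
    · exact ⟨αΓ, hσα⟩
    · rw [Set.mem_singleton_iff] at hx
      rw [hx]
      exact ⟨βΓ, hσβ⟩
  have hextΓ : ∀ {X : Type} [Group X] (F F' : Γ →* X), F κΓ = F' κΓ → F αΓ = F' αΓ →
      F βΓ = F' βΓ → F = F' := by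
    intro X _ F F' h1 h2 h3
    apply hom_eq_of_closure _ hgenΓ
    rintro y (⟨x, rfl⟩ | hy)
    · have : F.comp ιΓ = F'.comp ιΓ := hextN _ _ h1 h2
      exact DFunLike.congr_fun this x
    · rw [Set.mem_singleton_iff] at hy
      rw [hy, h3]
  have hβκ : βΓ * κΓ = κΓ * βΓ := by
    have h1 := hconjΓ κN
    rw [hθA_apply, hθκ] at h1
    calc βΓ * κΓ = (βΓ * ιΓ κN * βΓ⁻¹) * βΓ := by rw [hκΓ]; group
      _ = κΓ * βΓ := by rw [h1]
  have hκc : κΓ ∈ Subgroup.center Γ := by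
    have h1 : Subgroup.closure (Set.range ιΓ ∪ {βΓ}) ≤ Subgroup.centralizer {κΓ} := by
      rw [Subgroup.closure_le]
      rintro y (⟨x, rfl⟩ | hy)
      · rw [SetLike.mem_coe, Subgroup.mem_centralizer_iff]
        intro z hz
        rw [Set.mem_singleton_iff] at hz
        rw [hz, hκΓ, ← map_mul, ← map_mul, mul_comm]
      · rw [Set.mem_singleton_iff] at hy
        rw [hy, SetLike.mem_coe, Subgroup.mem_centralizer_iff]
        intro z hz
        rw [Set.mem_singleton_iff] at hz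
        rw [hz]
        exact hβκ.symm
    rw [Subgroup.mem_center_iff]
    intro g
    have hg : g ∈ Subgroup.centralizer {κΓ} := h1 (by rw [hgenΓ]; trivial)
    rw [Subgroup.mem_centralizer_iff] at hg
    exact (hg κΓ rfl).symm
  have hκcomm : κΓ ∈ commutator Γ := by
    have h1 : ⁅βΓ, αΓ⁆ = ιΓ (αN ^ (d * ρ) * κN ^ e) := by
      rw [commutatorElement_def, hαΓ, hconjΓ, hθA_apply, hθα, ← map_inv, ← map_mul]
      congr 1
      rw [pow_add, pow_one, mul_comm αN, mul_assoc, mul_assoc, mul_comm αN, mul_assoc,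
        inv_mul_cancel, mul_one]
    have h2 : ⁅βΓ, αΓ⁆ ^ m' = κΓ := by
      rw [h1, ← map_pow, calc_e αN κN d m' ρ h e hbez hαN']
    rw [← h2, commutator_def]
    exact Subgroup.pow_mem _
      (Subgroup.commutator_mem_commutator (Subgroup.mem_top _) (Subgroup.mem_top _)) _
  have hZc : Subgroup.zpowers κΓ ≤ Subgroup.center Γ := by
    rw [Subgroup.zpowers_le]; exact hκc
  have hker : σ.ker = Subgroup.zpowers κΓ := by
    apply le_antisymm
    · have hnorm : (Subgroup.zpowers κΓ).Normal := normal_of_le_center _ hZc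
      have hqκ : (QuotientGroup.mk' (Subgroup.zpowers κΓ)) κΓ = 1 :=
        (QuotientGroup.eq_one_iff _).mpr (Subgroup.mem_zpowers _)
      have hr1 : (QuotientGroup.mk' (Subgroup.zpowers κΓ) αΓ) ^ (d * m') = 1 := by
        rw [← map_pow, hαΓ, ← map_pow, hαN', map_zpow, ← hκΓ, map_zpow, hqκ, one_zpow]
      have hr2 : (QuotientGroup.mk' (Subgroup.zpowers κΓ) βΓ) ^ (n' + 1) =
          (QuotientGroup.mk' (Subgroup.zpowers κΓ) αΓ) ^ (m' * l) := by
        rw [← map_pow, ← map_pow, hβΓ, hαΓ, map_pow]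
      have hr3 : (QuotientGroup.mk' (Subgroup.zpowers κΓ) βΓ) *
          (QuotientGroup.mk' (Subgroup.zpowers κΓ) αΓ) *
          (QuotientGroup.mk' (Subgroup.zpowers κΓ) βΓ)⁻¹ =
          (QuotientGroup.mk' (Subgroup.zpowers κΓ) αΓ) ^ (1 + d * ρ) := by
        rw [← map_inv, ← map_mul, ← map_mul, hαΓ, hconjΓ, hθA_apply, hθα, map_mul, map_pow,
          map_zpow, ← hκΓ, ← hαΓ, map_mul, map_pow, map_zpow, hqκ, one_zpow, mul_one]
      obtain ⟨τ, hτa, hτb⟩ := hpres (Γ ⧸ Subgroup.zpowers κΓ) _ _ hr1 hr2 hr3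
      have hcomp : τ.comp σ = QuotientGroup.mk' (Subgroup.zpowers κΓ) := by
        apply hextΓ
        · rw [MonoidHom.comp_apply, hσκ, map_one, hqκ]
        · rw [MonoidHom.comp_apply, hσα, hτa]
        · rw [MonoidHom.comp_apply, hσβ, hτb]
      intro g hg
      rw [MonoidHom.mem_ker] at hg
      have h1 : (QuotientGroup.mk' (Subgroup.zpowers κΓ)) g = 1 := by
        rw [← hcomp, MonoidHom.comp_apply, hg, map_one]
      exact (QuotientGroup.eq_one_iff _).mp h1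
    · rw [Subgroup.zpowers_le, MonoidHom.mem_ker]
      exact hσκ
  have hord : orderOf κΓ = N0 := by rw [hκΓ, orderOf_injective ιΓ hιΓ, hκN_ord]
  refine ⟨Γ, instΓ, finΓ, σ, ⟨hsurj, ?_, ?_⟩, ?_⟩
  · rw [hker]; exact hZc
  · rw [hker, Subgroup.zpowers_le]; exact hκcomm
  · rw [hker]
    have hcard : Nat.card (Subgroup.zpowers κΓ) = N0 := by rw [Nat.card_zpowers, hord]
    have hgenZ : ∀ x : Subgroup.zpowers κΓ,
        x ∈ Subgroup.zpowers (⟨κΓ, Subgroup.mem_zpowers κΓ⟩ : Subgroup.zpowers κΓ) := by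
      rintro ⟨x, hx⟩
      obtain ⟨k, rfl⟩ := Subgroup.mem_zpowers_iff.mp hx
      exact ⟨k, by ext; simp⟩
    exact ⟨(zmodMulEquivOfGenerator hgenZ hcard).symm⟩

end Cfsg.Agent.Helper21.SchurMeta
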