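import Mathlib
import Cfsg.Prelude.Def_KGroupFacts
import Cfsg.Agent.Lib.Helper21.CycExt
import Cfsg.Agent.Lib.Helper21.SchurMetaArith
import Cfsg.Agent.Lib.Helper21.SchurMetaCalc
import Cfsg.Agent.Lib.Helper21.SchurMetaExist
import Cfsg.Agent.Lib.Helper5.SchurMetaU

namespace Cfsg.Agent.Helper21.SchurMeta

open Finset

/-- the generator `a` has order exactly `m` -/
theorem order_a {G : Type} [Group G] (a b : G) (m n r t : ℕ) (hm : 0 < m) (hn : 0 < n)
    (hrn : r ^ n ≡ 1 [MOD m]) (htr : t * r ≡ t [MOD m]) (ha : a ^ m = 1)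
    (hpres : ∀ (X : Type) [Group X] (x y : X), x ^ m = 1 → y ^ n = x ^ t →
      y * x * y⁻¹ = x ^ r → ∃ F : G →* X, F a = x ∧ F b = y) : orderOf a = m := by
  haveI : NeZero m := ⟨hm.ne'⟩
  let a0 : Multiplicative (ZMod m) := Multiplicative.ofAdd 1
  have ha0 : orderOf a0 = m := by
    rw [orderOf_ofAdd_eq_addOrderOf, ZMod.addOrderOf_one]
  have hK : ∀ x : Multiplicative (ZMod m), x ^ m = 1 := by
    intro x
    have := pow_card_eq_one' (G := Multiplicative (ZMod m)) (x := x)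
    rwa [Nat.card_eq_fintype_card, Fintype.card_multiplicative, ZMod.card] at this
  have hKmod : ∀ (x : Multiplicative (ZMod m)) (i j : ℕ), i ≡ j [MOD m] → x ^ i = x ^ j := by
    intro x i j hij
    rw [pow_eq_pow_iff_modEq]
    exact hij.of_dvd (orderOf_dvd_of_pow_eq_one (hK x))
  let θp : Multiplicative (ZMod m) →* Multiplicative (ZMod m) := powMonoidHom r
  have hθp : ∀ (j : ℕ) (x : Multiplicative (ZMod m)), θp^[j] x = x ^ (r ^ j) := by
    intro j
    induction j with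
    | zero => intro x; simp
    | succ j ih =>
      intro x
      rw [Function.iterate_succ_apply', ih, powMonoidHom_apply, ← pow_mul, pow_succ]
  obtain ⟨n', rfl⟩ : ∃ n', n = n' + 1 := ⟨n - 1, by omega⟩
  have hiter : ∀ x, θp^[n' + 1] x = x := by
    intro x
    rw [hθp]
    conv_rhs => rw [← pow_one x]
    exact hKmod x _ _ hrn
  let θ0 : MulAut (Multiplicative (ZMod m)) := autOfIter θp n' hiter
  have hθ0_apply : ∀ x, θ0 x = x ^ r := fun x => rfl
  have hθ0 : θ0 ^ (n' + 1) = 1 := by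
    ext x
    rw [mulAut_pow_apply, MulAut.one_apply]
    exact hiter x
  have hu : θ0 (a0 ^ t) = a0 ^ t := by
    rw [hθ0_apply, ← pow_mul]
    exact hKmod a0 _ _ htr
  obtain ⟨E, instE, finE, ι, β, hι, hconj, hβ, -, -⟩ :=
    CycExt.exists_ext θ0 (n' + 1) hn hθ0 (a0 ^ t) hu
  obtain ⟨F, hFa, -⟩ := hpres E (ι a0) β (by rw [← map_pow, hK, map_one])
    (by rw [hβ, map_pow]) (by rw [hconj, hθ0_apply, map_pow])
  apply Nat.dvd_antisymm (orderOf_dvd_of_pow_eq_one ha)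
  have h1 : orderOf (F a) ∣ orderOf a := orderOf_map_dvd F a
  rwa [hFa, orderOf_injective ι hι, ha0] at h1

/-- a cyclic group killed by `N0` is a quotient of `ZMod N0` -/
lemma exists_surj_of_cyclic {K : Type*} [Group K] (z : K) (N0 : ℕ) (hz : z ^ N0 = 1)
    (hgen : ∀ k : K, k ∈ Subgroup.zpowers z) :
    ∃ π : Multiplicative (ZMod N0) →* K, Function.Surjective π := by
  let f : ℤ →+ Additive K := zmultiplesHom (Additive K) (Additive.ofMul z)
  have hf : f (N0 : ℤ) = 0 := by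
    show (N0 : ℤ) • Additive.ofMul z = 0
    rw [natCast_zsmul, ← ofMul_pow, hz]
    rfl
  let π₀ : ZMod N0 →+ Additive K := ZMod.lift N0 ⟨f, hf⟩
  refine ⟨AddMonoidHom.toMultiplicativeLeft π₀, ?_⟩
  intro k
  obtain ⟨j, hj⟩ := Subgroup.mem_zpowers_iff.mp (hgen k)
  refine ⟨Multiplicative.ofAdd ((j : ℤ) : ZMod N0), ?_⟩
  show Additive.toMul (π₀ ((j : ℤ) : ZMod N0)) = k
  rw [ZMod.lift_coe]
  show Additive.toMul (j • Additive.ofMul z) = k
  rw [← ofMul_zpow, toMul_ofMul, hj]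

theorem main (m n r l : ℕ) (hm : 0 < m) (hn : 0 < n) (hr : 0 < r) (hrn : r ^ n ≡ 1 [MOD m])
    {G : Type} [Group G] (a b : G) (ha : a ^ m = 1)
    (hb : b ^ n = a ^ (m * l / Nat.gcd m (r - 1))) (hab : b * a * b⁻¹ = a ^ r)
    (hgen : Subgroup.closure ({a, b} : Set G) = ⊤)
    (hpres : ∀ (X : Type) [Group X] (x y : X), x ^ m = 1 →
      y ^ n = x ^ (m * l / Nat.gcd m (r - 1)) →
      y * x * y⁻¹ = x ^ r → ∃ F : G →* X, F a = x ∧ F b = y) :
    Cfsg.HasCyclicSchurMultiplier G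
      (Nat.gcd l (Nat.gcd m (r - 1) * Nat.gcd m (∑ i ∈ Finset.range n, r ^ i) / m)) := by
  obtain ⟨d, m', ρ, s'', hd, hdpos, hm'pos, hmeq, hreq, hcop, hs, hq, ht, hmd⟩ :=
    cofactors m n r l hm hr hrn
  rw [hq]
  rw [ht] at hb hpres
  have htr : m' * l * r ≡ m' * l [MOD m] := by
    have h1 : m' * l * r = m' * l + (l * ρ) * m := by
      rw [hreq, hmeq]; ring
    rw [h1]
    exact Nat.add_mul_modulus_modEq_iff.mpr (Nat.ModEq.refl _)
  have hord := order_a a b m n r (m' * l) hm hn hrn htr ha hpres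
  constructor
  · exact exists_stem_core d m' ρ s'' n l hdpos hm'pos hn hcop (by rw [← hreq]; exact hs) a b
      (by rw [← hmeq]; exact ha) hb (by rw [← hreq]; exact hab) hgen
      (by rw [← hmeq, ← hreq]; exact hpres)
  · intro Γ _ _ σ hσ
    obtain ⟨hsurj, hcen, hcomm⟩ := hσ
    obtain ⟨c, hker, hcm, hcs, hct⟩ := Helper5.SchurMetaU.stem_upper σ hsurj hcen hcomm m n r
      (m' * l) hm hn hr a b hgen hord hb hab
    rw [hmd] at hker
    have hzl : (c ^ m') ^ l = 1 := by rw [← pow_mul]; exact hct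
    have hzd : (c ^ m') ^ d = 1 := by rw [← pow_mul, mul_comm, ← hmeq]; exact hcm
    have hzs : (c ^ m') ^ s'' = 1 := by rw [← pow_mul, ← hs]; exact hcs
    have hzN : (c ^ m') ^ (Nat.gcd l (Nat.gcd d s'')) = 1 := by
      rw [← orderOf_dvd_iff_pow_eq_one]
      exact Nat.dvd_gcd (orderOf_dvd_of_pow_eq_one hzl)
        (Nat.dvd_gcd (orderOf_dvd_of_pow_eq_one hzd) (orderOf_dvd_of_pow_eq_one hzs))
    have hzmem : c ^ m' ∈ σ.ker := by rw [hker]; exact Subgroup.mem_zpowers _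
    apply exists_surj_of_cyclic (⟨c ^ m', hzmem⟩ : σ.ker)
    · ext; simpa using hzN
    · rintro ⟨k, hk⟩
      have hk' := hk
      rw [hker] at hk'
      obtain ⟨j, hj⟩ := Subgroup.mem_zpowers_iff.mp hk'
      exact ⟨j, by ext; simpa using hj⟩

end Cfsg.Agent.Helper21.SchurMeta
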