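import Mathlib
import Cfsg.Prelude
import Cfsg.Agent.Lib.Helper13.SdBN1
import Cfsg.Agent.Lib.Helper13.SdAbs

/-!
# S2548 piece CARDB (helper21; duplicate of Helper13.SdCard, names prefixed h21_ to avoid clashes): `|B_Q| = |T| |U_Q|` and `T` is a `p'`-group
-/

set_option autoImplicit false
set_option linter.unusedSectionVars false

namespace Cfsg.Agent.Helper13.SdP

open Matrix Cfsg.Agent.Helper13.SuBN Cfsg.Agent.Helper13.SdBN Cfsg.Agent.Helper13.BNAbs

variable {n : ℕ} {F : Type*} [Field F]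

theorem h21_card_borQ [Finite F] :
    Nat.card (borQ n F) = Nat.card (tor n (RingHom.id F)) * Nat.card (unipQ n F) := by
  rw [← Nat.card_prod]
  symm
  apply Nat.card_congr
  refine Equiv.ofBijective
    (fun x : (tor n (RingHom.id F)) × (unipQ n F) => (⟨x.1.1 * x.2.1,
      (borQ n F).mul_mem ⟨tor_le_bor x.1.2, tor_le_soq x.1.2⟩
        ⟨unip_le_bor x.2.2.1, x.2.2.2⟩⟩ : borQ n F)) ⟨?_, ?_⟩
  · rintro ⟨⟨t, ht⟩, ⟨u, hu⟩⟩ ⟨⟨t', ht'⟩, ⟨u', hu'⟩⟩ e
    have e1 : t * u = t' * u' := congrArg Subtype.val e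
    have e2 : t'⁻¹ * t = u' * u⁻¹ := by
      rw [inv_mul_eq_iff_eq_mul, ← mul_assoc, ← e1, mul_inv_cancel_right]
    have h1 : t'⁻¹ * t ∈ tor n (RingHom.id F) ⊓ unip n (RingHom.id F) :=
      ⟨(tor n _).mul_mem ((tor n _).inv_mem ht') ht, by
        rw [e2]; exact (unip n _).mul_mem hu'.1 ((unip n _).inv_mem hu.1)⟩
    rw [Cfsg.Agent.Helper13.SuP.tor_inf_unip, Subgroup.mem_bot] at h1
    have h2 : t = t' := by
      rw [inv_mul_eq_one] at h1
      exact h1.symm
    subst h2
    have h3 : u = u' := mul_left_cancel e1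
    subst h3
    rfl
  · rintro ⟨b, hb⟩
    have hbb : b ∈ bor n (RingHom.id F) := hb.1
    have hd := Cfsg.Agent.Helper13.SuP.dpart_mem_tor b hbb
    refine ⟨(⟨Cfsg.Agent.Helper13.SuP.dpart b hbb, hd⟩,
      ⟨(Cfsg.Agent.Helper13.SuP.dpart b hbb)⁻¹ * b,
        Cfsg.Agent.Helper13.SuP.inv_dpart_mul_mem_unip b hbb,
        (soq n F).mul_mem ((soq n F).inv_mem (tor_le_soq hd)) hb.2⟩), ?_⟩
    apply Subtype.ext
    show Cfsg.Agent.Helper13.SuP.dpart b hbb * ((Cfsg.Agent.Helper13.SuP.dpart b hbb)⁻¹ * b) = b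
    rw [mul_inv_cancel_left]

theorem cardB_mt_pow (g : WSU n (RingHom.id F)) (k : ℕ) : mt (g ^ k) = mt g ^ k := by
  induction k with
  | zero => rw [pow_zero, pow_zero, mt_one]
  | succ k ih => rw [pow_succ, pow_succ, mt_mul, ih]

theorem h21_not_dvd_card_tor [Fintype F] (p : ℕ) [Fact p.Prime] [CharP F p] :
    ¬ p ∣ Nat.card (tor n (RingHom.id F)) := by
  classical
  intro hdvd
  have hpp : p.Prime := Fact.out
  obtain ⟨x, hx⟩ := exists_prime_orderOf_dvd_card' p hdvd
  -- every element of the torus has order dividing `q - 1`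
  have hpow : (x : WSU n (RingHom.id F)) ^ (Fintype.card F - 1) = 1 := by
    apply mt_injective
    rw [cardB_mt_pow, mt_one]
    have hdiag : mt (x : WSU n (RingHom.id F)) =
        Matrix.diagonal fun a => mt (x : WSU n (RingHom.id F)) a a := by
      ext a c
      by_cases h : a = c
      · subst h; rw [Matrix.diagonal_apply_eq]
      · rw [Matrix.diagonal_apply_ne _ h]
        exact (mem_tor_iff' _).1 x.2 a c h
    rw [hdiag, Matrix.diagonal_pow]
    have hone : (fun a => mt (x : WSU n (RingHom.id F)) a a) ^ (Fintype.card F - 1) = 1 := by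
      funext a
      rw [Pi.pow_apply, Pi.one_apply]
      apply FiniteField.pow_card_sub_one_eq_one
      intro h0
      have := Cfsg.Agent.Helper13.SuP.diag_mul_map_rev (tor_le_bor x.2) a
      rw [h0, zero_mul] at this
      exact zero_ne_one this
    rw [hone]
    exact Matrix.diagonal_one
  have h1 : orderOf (x : WSU n (RingHom.id F)) ∣ Fintype.card F - 1 :=
    orderOf_dvd_of_pow_eq_one hpow
  rw [Subgroup.orderOf_coe, hx] at h1
  obtain ⟨f, -, hf⟩ := FiniteField.card F p
  have h2 : p ∣ Fintype.card F := by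
    rw [hf]
    exact dvd_pow_self p f.ne_zero
  have hpos : 0 < Fintype.card F := Fintype.card_pos
  have h3 : p ∣ 1 := by
    have := (Nat.dvd_sub h2 h1)
    have e : Fintype.card F - (Fintype.card F - 1) = 1 := by omega
    rwa [e] at this
  exact hpp.one_lt.ne' (Nat.dvd_one.1 h3)

end Cfsg.Agent.Helper13.SdP
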