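import Mathlib
import Cfsg.Agent.Lib.Helper1.Critical
import Cfsg.Agent.Lib.Helper22.ClassTwo

set_option autoImplicit false

/-!
Piece A1 of S6002 (for helper23): a group of order 32 and exponent 4 whose centre has order 2 and all
of whose characteristic abelian subgroups are cyclic has class at most 2.
-/

namespace Cfsg.Agent.Helper21.Sp4A1

open scoped commutatorElement

theorem two_mul_card_le {G : Type*} [Group G] [Finite G] {A B : Subgroup G} (h : A ≤ B)
    (hne : A ≠ B) : 2 * Nat.card A ≤ Nat.card B := by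
  obtain ⟨c, hc⟩ := Subgroup.card_dvd_of_le h
  have hA : 0 < Nat.card A := Nat.card_pos
  have hB : 0 < Nat.card B := Nat.card_pos
  have hc1 : c ≠ 1 := by
    rintro rfl
    apply hne
    exact Subgroup.eq_of_le_of_card_ge h (by omega)
  have hc0 : c ≠ 0 := by
    rintro rfl
    omega
  have : 2 ≤ c := by omega
  nlinarith

theorem class_two_of_card32 {G : Type*} [Group G] [Finite G] (hG : IsPGroup 2 G)
    (hchar : ∀ A : Subgroup G, A.Characteristic → IsMulCommutative A → IsCyclic A)
    (hexp : Monoid.exponent G = 4) (hcard : Nat.card G = 32)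
    (hZ : Nat.card (Subgroup.center G) = 2) : commutator G ≤ Subgroup.center G := by
  classical
  haveI : Fact (Nat.Prime 2) := ⟨Nat.prime_two⟩
  obtain ⟨H, hHchar, hfr, hHG, hCH⟩ := Cfsg.Agent.Helper1.exists_critical (p := 2) hG
  haveI := hHchar
  set Z := Subgroup.center G with hZdef
  set K := Subgroup.centralizer (H : Set G) with hKdef
  have hKchar : K.Characteristic := inferInstance
  have hKH : K ≤ H := hCH
  have hKcomm : IsMulCommutative K := by
    refine ⟨⟨fun a b => Subtype.ext ?_⟩⟩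
    have ha : (a : G) ∈ Subgroup.centralizer (H : Set G) := a.2
    rw [Subgroup.mem_centralizer_iff] at ha
    exact (ha _ (hKH b.2)).symm
  haveI hKcyc : IsCyclic K := hchar K hKchar hKcomm
  have hpow4 : ∀ g : G, g ^ 4 = 1 := fun g => by
    have := Monoid.pow_exponent_eq_one g
    rwa [hexp] at this
  have hZK : Z ≤ K := Subgroup.center_le_centralizer _
  have hZcen : ∀ c ∈ Z, ∀ g : G, g * c = c * g := fun c hc g =>
    (Subgroup.mem_center_iff.mp hc g)
  -- the nontrivial central element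
  obtain ⟨z, hz1, hzuniq⟩ := (Nat.card_eq_two_iff' (1 : Z)).mp hZ
  have hz2 : (z : G) ^ 2 = 1 := by
    have := pow_card_eq_one' (G := Z) (x := z)
    rw [hZ] at this
    exact_mod_cast congrArg Subtype.val this
  have hzne : (z : G) ≠ 1 := fun h => hz1 (Subtype.ext h)
  have hZelts : ∀ c ∈ Z, c = 1 ∨ c = (z : G) := by
    intro c hc
    by_cases h : c = 1
    · exact Or.inl h
    · right
      have := hzuniq ⟨c, hc⟩ (fun h' => h (congrArg Subtype.val h'))
      exact congrArg Subtype.val this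
  -- L1 : involutions of K are central
  have hL1 : ∀ x ∈ K, x ^ 2 = 1 → x ∈ Z := by
    intro x hxK hx2
    by_contra hxZ
    haveI : Fintype K := Fintype.ofFinite K
    have hle := IsCyclic.card_pow_eq_one_le (α := K) (n := 2) (by norm_num)
    have hmem : ∀ a : K, (a : G) ^ 2 = 1 →
        a ∈ (Finset.univ.filter fun a : K => a ^ 2 = 1) := by
      intro a ha
      rw [Finset.mem_filter]
      exact ⟨Finset.mem_univ _, Subtype.ext (by simpa using ha)⟩
    have hlt : 2 < (Finset.univ.filter fun a : K => a ^ 2 = 1).card := by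
      rw [Finset.two_lt_card_iff]
      let zK : K := ⟨(z : G), hZK z.2⟩
      let xK : K := ⟨x, hxK⟩
      refine ⟨(1 : K), zK, xK, hmem 1 (by simp), hmem zK hz2, hmem xK hx2, ?_, ?_, ?_⟩
      · intro h
        apply hzne
        have h0 : ((1 : K) : G) = (zK : G) := congrArg Subtype.val h
        exact h0.symm
      · intro h
        apply hxZ
        have h0 : ((1 : K) : G) = (xK : G) := congrArg Subtype.val h
        have h' : x = 1 := h0.symm
        rw [h']; exact Z.one_mem
      · intro h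
        apply hxZ
        have : (z : G) = x := congrArg Subtype.val h
        rw [← this]; exact z.2
    omega
  -- (i) squares of elements of H are central
  have hHp : IsPGroup 2 H := hG.to_subgroup H
  have hsq : ∀ h ∈ H, h ^ 2 ∈ Z := by
    intro h hh
    apply hL1
    · apply hfr
      refine ⟨(⟨h, hh⟩ : H) ^ 2, Cfsg.Agent.Helper22.pow_prime_mem_frattini hHp ⟨h, hh⟩, rfl⟩
    · rw [← pow_mul]; exact hpow4 h
  -- (ii) [H, G] ≤ Z
  have hHGZ : ∀ h ∈ H, ∀ g : G, ⁅h, g⁆ ∈ Z := by
    intro h hh g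
    have hcK : ⁅h, g⁆ ∈ K :=
      (hHG (Subgroup.commutator_mem_commutator hh (Subgroup.mem_top g))).2
    apply hL1 _ hcK
    set c := ⁅h, g⁆ with hc
    -- h⁻¹ * c = g * h⁻¹ * g⁻¹
    have e1 : h⁻¹ * c = g * h⁻¹ * g⁻¹ := by rw [hc, commutatorElement_def]; group
    have hch : h * c = c * h := by
      have hcK' : c ∈ Subgroup.centralizer (H : Set G) := hcK
      rw [Subgroup.mem_centralizer_iff] at hcK'
      exact hcK' h hh
    have hch' : h⁻¹ * c = c * h⁻¹ := by
      calc h⁻¹ * c = h⁻¹ * (c * h) * h⁻¹ := by group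
        _ = h⁻¹ * (h * c) * h⁻¹ := by rw [hch]
        _ = c * h⁻¹ := by group
    have hsqc : (h ^ 2)⁻¹ ∈ Z := Z.inv_mem (hsq h hh)
    have e2 : (h⁻¹ * c) ^ 2 = (h ^ 2)⁻¹ * c ^ 2 := by
      rw [pow_two, pow_two, pow_two]
      calc h⁻¹ * c * (h⁻¹ * c) = h⁻¹ * (c * h⁻¹) * c := by group
        _ = h⁻¹ * (h⁻¹ * c) * c := by rw [hch']
        _ = (h * h)⁻¹ * (c * c) := by group
    have e3 : (g * h⁻¹ * g⁻¹) ^ 2 = (h ^ 2)⁻¹ := by
      have : (g * h⁻¹ * g⁻¹) ^ 2 = g * (h ^ 2)⁻¹ * g⁻¹ := by
        rw [pow_two, pow_two]; group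
      rw [this, hZcen _ hsqc g]
      group
    rw [e1, e3] at e2
    have : c ^ 2 = 1 := by
      have h5 : (h ^ 2)⁻¹ * 1 = (h ^ 2)⁻¹ * c ^ 2 := by rw [mul_one]; exact e2
      exact (mul_left_cancel h5).symm
    exact this
  -- (iii) G' ≤ K
  have hHGle : ⁅H, (⊤ : Subgroup G)⁆ ≤ Z := by
    rw [Subgroup.commutator_le]
    intro x hx y _
    exact hHGZ x hx y
  have h1 : ⁅⁅H, (⊤ : Subgroup G)⁆, (⊤ : Subgroup G)⁆ = ⊥ := by
    rw [Subgroup.commutator_eq_bot_iff_le_centralizer, Subgroup.coe_top, Subgroup.centralizer_univ]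
    exact hHGle
  have h2 : ⁅⁅(⊤ : Subgroup G), H⁆, (⊤ : Subgroup G)⁆ = ⊥ := by
    rw [Subgroup.commutator_comm ⊤ H]
    exact h1
  have h3 : ⁅⁅(⊤ : Subgroup G), (⊤ : Subgroup G)⁆, H⁆ = ⊥ :=
    Subgroup.commutator_commutator_eq_bot_of_rotate h2 h1
  rw [Subgroup.commutator_eq_bot_iff_le_centralizer] at h3
  have hGK : commutator G ≤ K := h3
  -- |K| ∈ {2, 4}
  have hKexp : Monoid.exponent K ∣ 4 := by
    apply Monoid.exponent_dvd_of_forall_pow_eq_one
    intro k
    apply Subtype.ext
    simpa using hpow4 (k : G)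
  have hKcard : Nat.card K ∣ 4 := by
    rw [← IsCyclic.exponent_eq_card]
    exact hKexp
  have hKge : 2 ≤ Nat.card K := by
    rw [← hZ]; exact Subgroup.card_le_of_le hZK
  have hKle : Nat.card K ≤ 4 := Nat.le_of_dvd (by norm_num) hKcard
  by_cases hK2 : Nat.card K = 2
  · have : Z = K := Subgroup.eq_of_le_of_card_ge hZK (by rw [hZ, hK2])
    rw [this]; exact hGK
  have hK4 : Nat.card K = 4 := by
    have : Nat.card K ≠ 3 := by
      intro h3'; rw [h3'] at hKcard; omega
    omega
  -- the case |K| = 4 is contradictory unless G' ≤ Z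
  by_contra hcon
  have hcon' : ¬ ⁅(⊤ : Subgroup G), (⊤ : Subgroup G)⁆ ≤ Z := hcon
  rw [Subgroup.commutator_le] at hcon'
  push Not at hcon'
  obtain ⟨x, -, y, -, hxy⟩ := hcon'
  set k := ⁅x, y⁆ with hk
  have hkK : k ∈ K := hGK (Subgroup.commutator_mem_commutator (Subgroup.mem_top x) (Subgroup.mem_top y))
  have hkH : k ∈ H := hKH hkK
  have hkZ : k ∉ Z := hxy
  haveI hZn : Z.Normal := (inferInstance : (Subgroup.center G).Normal)
  have hxH : x ∉ H := fun h => hkZ (hHGZ x h y)
  have hkinv : ⁅y, x⁆⁻¹ = k := commutatorElement_inv y x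
  have hyx : ⁅y, x⁆ ∉ Z := by
    intro h
    apply hkZ
    rw [← hkinv]
    exact Z.inv_mem h
  have hyH : y ∉ H := fun h => hyx (hHGZ y h x)
  have hxyH : x * y ∉ H := by
    intro h
    apply hkZ
    have e : ⁅x * y, y⁆ = k := by rw [hk, commutatorElement_def, commutatorElement_def]; group
    rw [← e]
    exact hHGZ _ h y
  -- the subgroups A a = {g | ⁅a, g⁆ ∈ Z}
  let A : G → Subgroup G := fun a =>
    { carrier := {g | ⁅a, g⁆ ∈ Z}
      one_mem' := by
        show ⁅a, (1 : G)⁆ ∈ Z
        rw [commutatorElement_one_right]; exact Z.one_mem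
      mul_mem' := by
        intro g g' hg hg'
        show ⁅a, g * g'⁆ ∈ Z
        have e : ⁅a, g * g'⁆ = ⁅a, g⁆ * (g * ⁅a, g'⁆ * g⁻¹) := by
          simp only [commutatorElement_def]; group
        rw [e]
        exact Z.mul_mem hg (hZn.conj_mem _ hg' g)
      inv_mem' := by
        intro g hg
        show ⁅a, g⁻¹⁆ ∈ Z
        have e : ⁅a, g⁻¹⁆ = g⁻¹ * ⁅a, g⁆⁻¹ * g⁻¹⁻¹ := by
          simp only [commutatorElement_def]; group
        rw [e]
        exact hZn.conj_mem _ (Z.inv_mem hg) g⁻¹ }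
  have hAmem : ∀ a g : G, g ∈ A a ↔ ⁅a, g⁆ ∈ Z := fun a g => Iff.rfl
  have hHA : ∀ a : G, H ≤ A a := by
    intro a h hh
    rw [hAmem, ← commutatorElement_inv]
    exact Z.inv_mem (hHGZ h hh a)
  have hxAx : x ∈ A x := by
    rw [hAmem, commutatorElement_self]; exact Z.one_mem
  have hyAx : y ∉ A x := fun h => hkZ ((hAmem x y).mp h)
  have hxAy : x ∉ A y := fun h => hyx ((hAmem y x).mp h)
  have hAxtop : A x ≠ ⊤ := fun h => hyAx (h ▸ Subgroup.mem_top y)
  have hMne : A x ⊓ A y ≠ A x := by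
    intro h
    apply hxAy
    have : x ∈ A x ⊓ A y := by rw [h]; exact hxAx
    exact this.2
  have hc1 : 2 * Nat.card (A x) ≤ 32 := by
    have := two_mul_card_le (le_top : A x ≤ ⊤) hAxtop
    rwa [Subgroup.card_top, hcard] at this
  have hc2 : 2 * Nat.card (A x ⊓ A y : Subgroup G) ≤ Nat.card (A x) :=
    two_mul_card_le inf_le_left hMne
  have hHM : H ≤ A x ⊓ A y := le_inf (hHA x) (hHA y)
  have hHcard : Nat.card H ≤ 8 := by
    have := Subgroup.card_le_of_le hHM
    omega
  -- elements of K commute with elements of H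
  have hKHcomm : ∀ c ∈ K, ∀ h ∈ H, h * c = c * h := by
    intro c hc h hh
    have hc' : c ∈ Subgroup.centralizer (H : Set G) := hc
    rw [Subgroup.mem_centralizer_iff] at hc'
    exact hc' h hh
  by_cases hHK : K = H
  · -- H = K is cyclic of order 4 generated by k
    have hk2 : ¬ k ^ 2 ^ 1 = 1 := by
      intro h
      apply hkZ
      apply hL1 k hkK
      simpa using h
    have hk4 : k ^ 2 ^ (1 + 1) = 1 := by
      have := hpow4 k
      simpa using this
    have hord : orderOf k = 2 ^ (1 + 1) := orderOf_eq_prime_pow hk2 hk4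
    have hzk : Subgroup.zpowers k = K := by
      apply Subgroup.eq_of_le_of_card_ge
      · rw [Subgroup.zpowers_le]; exact hkK
      · rw [Nat.card_zpowers, hord, hK4]; norm_num
    -- anything commuting with k lies in H
    have hcentk : ∀ g : G, k * g = g * k → g ∈ H := by
      intro g hg
      apply hKH
      show g ∈ Subgroup.centralizer (H : Set G)
      rw [Subgroup.mem_centralizer_iff]
      intro a ha
      rw [← hHK, ← hzk] at ha
      obtain ⟨n, rfl⟩ := Subgroup.mem_zpowers_iff.mp ha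
      have hc : Commute k g := hg
      exact (hc.zpow_left n).eq
    have hf : ∀ g : G, ⁅k, g⁆ = 1 ∨ ⁅k, g⁆ = (z : G) := fun g => hZelts _ (hHGZ k hkH g)
    have hf1 : ∀ g : G, ⁅k, g⁆ = 1 → g ∈ H := by
      intro g hg
      apply hcentk
      rw [commutatorElement_def] at hg
      have : k * g = (k * g * k⁻¹ * g⁻¹) * (g * k) := by group
      rw [this, hg, one_mul]
    rcases hf x with hx1 | hxz
    · exact hxH (hf1 x hx1)
    rcases hf y with hy1 | hyz
    · exact hyH (hf1 y hy1)
    apply hxyH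
    apply hf1
    have e : ⁅k, x * y⁆ = ⁅k, x⁆ * (x * ⁅k, y⁆ * x⁻¹) := by
      simp only [commutatorElement_def]; group
    rw [e, hxz, hyz]
    have hzc := hZcen (z : G) z.2 x
    have : x * (z : G) * x⁻¹ = z := by rw [hzc]; group
    rw [this, ← pow_two, hz2]
  · -- K < H : pick h ∈ H outside K
    have hlt : K < H := lt_of_le_of_ne hKH hHK
    obtain ⟨h, hhH, hhK⟩ := SetLike.exists_of_lt hlt
    set D := H ⊓ Subgroup.centralizer ({h} : Set G) with hD
    have hKD : K ≤ D := by
      intro c hc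
      refine Subgroup.mem_inf.mpr ⟨hKH hc, ?_⟩
      rw [Subgroup.mem_centralizer_iff]
      intro a ha
      rw [Set.mem_singleton_iff] at ha
      rw [ha]
      exact hKHcomm c hc h hhH
    have hhD : h ∈ D := by
      refine Subgroup.mem_inf.mpr ⟨hhH, ?_⟩
      rw [Subgroup.mem_centralizer_iff]
      intro a ha
      rw [Set.mem_singleton_iff] at ha
      rw [ha]
    have hKDne : K ≠ D := fun e => hhK (e ▸ hhD)
    have hc3 : 2 * Nat.card K ≤ Nat.card D := two_mul_card_le hKD hKDne
    have hDle : D ≤ H := inf_le_left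
    have hDH : D = H := by
      apply Subgroup.eq_of_le_of_card_ge hDle
      omega
    apply hhK
    show h ∈ Subgroup.centralizer (H : Set G)
    rw [Subgroup.mem_centralizer_iff]
    intro a ha
    have haD : a ∈ D := by rw [hDH]; exact ha
    have := (Subgroup.mem_inf.mp haD).2
    rw [Subgroup.mem_centralizer_iff] at this
    exact (this h (Set.mem_singleton h)).symm

end Cfsg.Agent.Helper21.Sp4A1
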