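import Mathlib
import Cfsg.Prelude
import Cfsg.Agent.Lib.Helper13.StBN1
import Cfsg.Agent.Lib.Helper13.StTr0
import Cfsg.Agent.Lib.Helper13.SdAbs
import Cfsg.Agent.Lib.Helper20.SdIndex
import Cfsg.Agent.Lib.Helper23.SdDeg22
import Cfsg.Agent.Lib.Helper25.SdOmegaLe

/-!
# S2549, piece M1 (helper21): `Ω⁻_4(q) ≤ j(⟨B, N⟩)` for the twisted group `gT 4 φ`

For `x ∈ gT 4 φ` there is `h ∈ ⟨borT, monT⟩` such that the first column of `h x` is a multiple of `e₀`
(`m1_step1`); such an element is in `borT` or (characteristic two only) becomes so after multiplying by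
the reflection `reflQ` (`m1_step2`).  So in odd characteristic `gT = ⟨B, N⟩`, in characteristic two the
index is at most two.
-/

set_option autoImplicit false

namespace Cfsg.Agent.Helper13.StP

open Matrix Cfsg.Agent.Helper13.SuBN Cfsg.Agent.Helper13.SdBN Cfsg.Agent.Helper13.StBN
  Cfsg.Agent.Helper13.BNAbs Cfsg.Agent.Helper13.SdP

section m1
variable {K : Type*} [Field K]

theorem m1_rev0 : Fin.rev (0 : Fin 4) = 3 := by decide
theorem m1_rev1 : Fin.rev (1 : Fin 4) = 2 := by decide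
theorem m1_rev2 : Fin.rev (2 : Fin 4) = 1 := by decide
theorem m1_rev3 : Fin.rev (3 : Fin 4) = 0 := by decide
theorem m1_tau0 : tauP 4 0 = 0 := by decide
theorem m1_tau1 : tauP 4 1 = 2 := by decide
theorem m1_tau2 : tauP 4 2 = 1 := by decide
theorem m1_tau3 : tauP 4 3 = 3 := by decide

theorem m1_qf (v : Fin 4 → K) : qf v = v 0 * v 3 + v 1 * v 2 := by
  unfold qf
  exact Fin.sum_univ_two _

theorem m1_bl (x y : Fin 4 → K) : bl x y = x 0 * y 3 + x 1 * y 2 + x 2 * y 1 + x 3 * y 0 := by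
  unfold bl
  rw [Fin.sum_univ_four, m1_rev0, m1_rev1, m1_rev2, m1_rev3]

theorem m1_gram (g : WSU 4 (RingHom.id K)) (p q : Fin 4) :
    mt g 0 p * mt g 3 q + mt g 1 p * mt g 2 q + mt g 2 p * mt g 1 q + mt g 3 p * mt g 0 q =
      if q = Fin.rev p then 1 else 0 := by
  have h := bl_mulVec g (ev p) (ev q)
  rw [m1_bl, bl_ev_left, ev_apply] at h
  simp only [mulVec_ev] at h
  rw [h]
  by_cases e : q = Fin.rev p
  · rw [if_pos e, if_pos e.symm]
  · rw [if_neg e, if_neg (fun e' => e e'.symm)]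

theorem m1_qcol {g : WSU 4 (RingHom.id K)} (hg : g ∈ soq 4 K) (j : Fin 4) :
    mt g 0 j * mt g 3 j + mt g 1 j * mt g 2 j = 0 := by
  have h := hg (ev j)
  rw [qf_ev, m1_qf] at h
  simp only [mulVec_ev] at h
  exact h

theorem m1_det4 (M : Matrix (Fin 4) (Fin 4) K) (h10 : M 1 0 = 0) (h20 : M 2 0 = 0)
    (h30 : M 3 0 = 0) (h31 : M 3 1 = 0) (h32 : M 3 2 = 0) :
    M.det = M 0 0 * M 3 3 * (M 1 1 * M 2 2 - M 1 2 * M 2 1) := by
  rw [Matrix.det_succ_column_zero, Fin.sum_univ_four, h10, h20, h30, Matrix.det_fin_three]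
  simp only [Matrix.submatrix_apply, Fin.succAbove_zero]
  have e1 : Fin.succ (0 : Fin 3) = (1 : Fin 4) := rfl
  have e2 : Fin.succ (1 : Fin 3) = (2 : Fin 4) := rfl
  have e3 : Fin.succ (2 : Fin 3) = (3 : Fin 4) := rfl
  rw [e1, e2, e3, h31, h32]
  simp
  ring

/-- step 2: an element of `gT` whose first column is a multiple of `e₀` -/
theorem m1_step2 (φ : K →+* K) {y : WSU 4 (RingHom.id K)} (hy : y ∈ gT 4 φ)
    (h10 : mt y 1 0 = 0) (h20 : mt y 2 0 = 0) (h30 : mt y 3 0 = 0) :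
    (mt y 2 1 = 0 → y ∈ borT 4 φ) ∧ (mt y 2 1 ≠ 0 → (2 : K) = 0 ∧ mt y 2 2 = 0) := by
  have g3 := m1_gram y 0 3
  have g1 := m1_gram y 0 1
  have g2 := m1_gram y 0 2
  rw [h10, h20, h30, zero_mul, zero_mul, zero_mul, add_zero, add_zero, add_zero, m1_rev0] at g1 g2 g3
  rw [if_pos rfl] at g3
  rw [if_neg (by decide)] at g1 g2
  have h00 : mt y 0 0 ≠ 0 := by
    intro h
    rw [h, zero_mul] at g3
    exact zero_ne_one g3
  have h31 : mt y 3 1 = 0 := (mul_eq_zero.1 g1).resolve_left h00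
  have h32 : mt y 3 2 = 0 := (mul_eq_zero.1 g2).resolve_left h00
  constructor
  · intro h21
    have hb : y ∈ bor 4 (RingHom.id K) := by
      rw [mem_bor_iff]
      intro a b hab
      fin_cases a <;> fin_cases b <;>
        first
          | exact h10 | exact h20 | exact h30 | exact h21 | exact h31 | exact h32
          | (exfalso; revert hab; decide)
    exact ⟨⟨hb, hy.1⟩, hy.2⟩
  · intro h21
    have q1 := m1_qcol hy.1 1
    have q2 := m1_qcol hy.1 2
    rw [h31, mul_zero, zero_add] at q1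
    rw [h32, mul_zero, zero_add] at q2
    have h11 : mt y 1 1 = 0 := (mul_eq_zero.1 q1).resolve_right h21
    have g12 := m1_gram y 1 2
    rw [h31, h32, h11, mul_zero, zero_mul, zero_mul, zero_add, zero_add, add_zero, m1_rev1,
      if_pos rfl] at g12
    have h12 : mt y 1 2 ≠ 0 := by
      intro h
      rw [h, mul_zero] at g12
      exact zero_ne_one g12
    have h22 : mt y 2 2 = 0 := (mul_eq_zero.1 q2).resolve_left h12
    refine ⟨?_, h22⟩
    have hdet := mt_det y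
    rw [m1_det4 (mt y) h10 h20 h30 h31 h32, g3, h11, h22, zero_mul, zero_sub, one_mul,
      mul_comm, g12] at hdet
    linear_combination -hdet

theorem m1_colcalc (u s : K) (v : Fin 4 → K) :
    (TmM (RingHom.id K) 0 1 u *ᵥ (TmM (RingHom.id K) 0 (Fin.rev 1) s *ᵥ v)) 1 = v 1 - s * v 3 ∧
    (TmM (RingHom.id K) 0 1 u *ᵥ (TmM (RingHom.id K) 0 (Fin.rev 1) s *ᵥ v)) 2 = v 2 - u * v 3 ∧
    (TmM (RingHom.id K) 0 1 u *ᵥ (TmM (RingHom.id K) 0 (Fin.rev 1) s *ᵥ v)) 3 = v 3 := by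
  rw [TmM_mulVec, TmM_mulVec]
  have e0 : Fin.rev (0 : Fin 4) = 3 := by decide
  have e1 : Fin.rev (1 : Fin 4) = 2 := by decide
  have e2 : Fin.rev (2 : Fin 4) = 1 := by decide
  simp only [Pi.add_apply, Pi.sub_apply, Pi.smul_apply, ev_apply, smul_eq_mul, RingHom.id_apply,
    e0, e1, e2]
  refine ⟨?_, ?_, ?_⟩
  · simp
  · simp
  · simp

theorem m1_e3 : (piS (0 : Fin 4) 1 * piS (0 : Fin 4) (Fin.rev 1) : Equiv.Perm (Fin 4)) 3 = 0 := by
  decide

theorem m1_sign : Equiv.Perm.sign (piS (0 : Fin 4) 1 * piS (0 : Fin 4) (Fin.rev 1)) = 1 := by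
  unfold piS
  rw [map_mul, map_mul, map_mul, Equiv.Perm.sign_swap (by decide), Equiv.Perm.sign_swap (by decide),
    Equiv.Perm.sign_swap (by decide), Equiv.Perm.sign_swap (by decide)]
  decide

/-- step 1: moving the first column to a multiple of `e₀` -/
theorem m1_step1 {φ : K →+* K} (hφφ : ∀ x, φ (φ x) = x) {x : WSU 4 (RingHom.id K)}
    (hx : x ∈ gT 4 φ) :
    ∃ h ∈ borT 4 φ ⊔ monT 4 φ, mt (h * x) 1 0 = 0 ∧ mt (h * x) 2 0 = 0 ∧ mt (h * x) 3 0 = 0 := by
  have hn : 4 % 2 = 0 := by norm_num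
  have t1 : φ (mt x 2 0) = mt x 1 0 := by
    have := twG_apply hx.2 1 0
    rwa [m1_tau1, m1_tau0] at this
  have t2 : φ (mt x 1 0) = mt x 2 0 := by
    have := twG_apply hx.2 2 0
    rwa [m1_tau2, m1_tau0] at this
  have t3 : φ (mt x 3 0) = mt x 3 0 := by
    have := twG_apply hx.2 3 0
    rwa [m1_tau3, m1_tau0] at this
  have q0 := m1_qcol hx.1 0
  by_cases h3 : mt x 3 0 = 0
  · refine ⟨1, Subgroup.one_mem _, ?_⟩
    rw [one_mul]
    rw [h3, mul_zero, zero_add] at q0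
    have h1 : mt x 1 0 = 0 := by
      rcases mul_eq_zero.1 q0 with h | h
      · exact h
      · rw [← t1, h, map_zero]
    exact ⟨h1, by rw [← t2, h1, map_zero], h3⟩
  · have hac : (0 : Fin 4) ≠ 1 := by decide
    have hac' : (0 : Fin 4) ≠ Fin.rev 1 := by decide
    have ha : (0 : Fin 4) ≠ Fin.rev 0 := by decide
    have hc : (1 : Fin 4) ≠ Fin.rev 1 := by decide
    have hc' : Fin.rev (1 : Fin 4) ≠ Fin.rev (Fin.rev 1) := by decide
    have hτa : tauP 4 (0 : Fin 4) = 0 := m1_tau0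
    have hτc : tauP 4 (1 : Fin 4) = Fin.rev 1 := by decide
    obtain ⟨u, hu⟩ : ∃ u : K, u = mt x 2 0 / mt x 3 0 := ⟨_, rfl⟩
    obtain ⟨x1, hx1def⟩ : ∃ x1 : WSU 4 (RingHom.id K), x1 = xG φ 0 1 u := ⟨_, rfl⟩
    have hx1G : x1 ∈ gT 4 φ := by
      rw [hx1def]
      exact ⟨xG_mem_soq hac hac' ha hc hn φ u, xG_mem_twG hac hac' ha hc hn hφφ hτa hτc u⟩
    have hx1b : x1 ∈ bor 4 (RingHom.id K) := by
      rw [hx1def]
      unfold xG
      exact (bor 4 (RingHom.id K)).mul_mem (Tm_mem_bor hid hac ha hc (by decide) u)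
        (Tm_mem_bor hid hac' ha hc' (by decide) (φ u))
    have hx1B : x1 ∈ borT 4 φ := ⟨⟨hx1b, hx1G.1⟩, hx1G.2⟩
    obtain ⟨y1, hy1def⟩ : ∃ y1 : WSU 4 (RingHom.id K), y1 = x1 * x := ⟨_, rfl⟩
    have hy1G : y1 ∈ gT 4 φ := by
      rw [hy1def]
      exact (gT 4 φ).mul_mem hx1G hx
    have hmtx1 : mt x1 = TmM (RingHom.id K) 0 1 u * TmM (RingHom.id K) 0 (Fin.rev 1) (φ u) := by
      rw [hx1def]
      unfold xG
      rw [mt_mul, Tm_coe hid hac ha hc, Tm_coe hid hac' ha hc']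
    have hcol : ∀ i, mt y1 i 0 = (TmM (RingHom.id K) 0 1 u *ᵥ
        (TmM (RingHom.id K) 0 (Fin.rev 1) (φ u) *ᵥ (mt x *ᵥ (ev 0 : Fin 4 → K)))) i := by
      intro i
      rw [hy1def, mul_apply_col, hmtx1, ← Matrix.mulVec_mulVec]
    have cc := m1_colcalc u (φ u) (mt x *ᵥ (ev 0 : Fin 4 → K))
    simp only [mulVec_ev] at cc
    have c1 : mt y1 1 0 = mt x 1 0 - φ u * mt x 3 0 := by
      rw [hcol]
      exact cc.1
    have c2 : mt y1 2 0 = mt x 2 0 - u * mt x 3 0 := by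
      rw [hcol]
      exact cc.2.1
    have c3 : mt y1 3 0 = mt x 3 0 := by
      rw [hcol]
      exact cc.2.2
    have c2z : mt y1 2 0 = 0 := by
      rw [c2, hu, div_mul_cancel₀ _ h3, sub_self]
    have c1z : mt y1 1 0 = 0 := by
      rw [c1, hu, map_div₀, t1, t3, div_mul_cancel₀ _ h3, sub_self]
    have c0z : mt y1 0 0 = 0 := by
      have q := m1_qcol hy1G.1 0
      rw [c1z, zero_mul, add_zero, c3] at q
      exact (mul_eq_zero.1 q).resolve_right h3
    obtain ⟨w, hwdef⟩ : ∃ w : WSU 4 (RingHom.id K), w = wG φ 0 1 1 := ⟨_, rfl⟩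
    have hwmon : IsMon (mt w) (piS (0 : Fin 4) 1 * piS 0 (Fin.rev 1)) := by
      rw [hwdef]
      exact wG_isMon hac hac' ha hc φ one_ne_zero
    have hwM : w ∈ monT 4 φ := by
      have hs : w ∈ soq 4 K := by
        rw [hwdef]
        exact wG_mem_soq hac hac' ha hc hn φ 1
      have ht : w ∈ twG 4 φ := by
        rw [hwdef]
        exact wG_mem_twG hac hac' ha hc hn hφφ hτa hτc 1
      exact ⟨⟨hs, _, hwmon, m1_sign⟩, ht⟩
    refine ⟨w * x1, Subgroup.mul_mem _ (Subgroup.mem_sup_right hwM) (Subgroup.mem_sup_left hx1B), ?_⟩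
    have e := m1_e3
    have hfin : ∀ i : Fin 4, i ≠ 0 → mt (w * x1 * x) i 0 = 0 := by
      intro i hi
      rw [mul_assoc, ← hy1def, mt_mul, Matrix.mul_apply, Fin.sum_univ_four, c0z, c1z, c2z, mul_zero,
        mul_zero, mul_zero, zero_add, zero_add, zero_add, hwmon i 3 (by rw [e]; exact hi), zero_mul]
    exact ⟨hfin 1 (by decide), hfin 2 (by decide), hfin 3 (by decide)⟩


/-! ### the reflection in characteristic two -/

theorem m1_idx_eq : idxSwap 4 (by norm_num) = tauP 4 := by decide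

theorem m1_refl_mem [CharP K 2] (φ : K →+* K) :
    reflQ 4 K (by norm_num) (by norm_num) ∈ gT 4 φ := by
  have ht : reflQ 4 K (by norm_num) (by norm_num) ∈ twG 4 φ := by
    rw [mem_twG_iff (by norm_num)]
    ext a b
    rw [sig_apply]
    show φ (reflMat 4 K _ (tauP 4 a) (tauP 4 b)) = reflMat 4 K _ a b
    rw [reflMat, reflMat, m1_idx_eq]
    by_cases h : a = tauP 4 b
    · rw [if_pos h, if_pos (by rw [h]), map_one]
    · rw [if_neg h, if_neg (fun e => h ((tauP 4).injective e)), map_zero]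
  exact ⟨reflQ_mem _ _, ht⟩

theorem m1_mul_refl [CharP K 2] (y : WSU 4 (RingHom.id K)) (a b : Fin 4) :
    mt (y * reflQ 4 K (by norm_num) (by norm_num)) a b = mt y a (tauP 4 b) := by
  rw [mt_mul, Matrix.mul_apply, Finset.sum_eq_single (tauP 4 b)]
  · have : mt (reflQ 4 K (by norm_num) (by norm_num)) (tauP 4 b) b = 1 := by
      show reflMat 4 K _ (tauP 4 b) b = 1
      rw [reflMat, m1_idx_eq, if_pos rfl]
    rw [this, mul_one]
  · intro c _ hc
    have : mt (reflQ 4 K (by norm_num) (by norm_num)) c b = 0 := by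
      show reflMat 4 K _ c b = 0
      rw [reflMat, m1_idx_eq, if_neg hc]
    rw [this, mul_zero]
  · intro h
    exact absurd (Finset.mem_univ _) h

theorem m1_sup_le (φ : K →+* K) : borT 4 φ ⊔ monT 4 φ ≤ gT 4 φ :=
  sup_le (borT_le_gT 4 φ) (monT_le_gT 4 φ)

/-- odd characteristic: everything is in `⟨B, N⟩` -/
theorem m1_core_odd {φ : K →+* K} (hφφ : ∀ x, φ (φ x) = x) (h2 : (2 : K) ≠ 0)
    {x : WSU 4 (RingHom.id K)} (hx : x ∈ gT 4 φ) : x ∈ borT 4 φ ⊔ monT 4 φ := by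
  obtain ⟨h, hh, c1, c2, c3⟩ := m1_step1 hφφ hx
  have hy : h * x ∈ gT 4 φ := (gT 4 φ).mul_mem (m1_sup_le φ hh) hx
  obtain ⟨s1, s2⟩ := m1_step2 φ hy c1 c2 c3
  by_cases h21 : mt (h * x) 2 1 = 0
  · have hb := s1 h21
    have e : x = h⁻¹ * (h * x) := by group
    rw [e]
    exact Subgroup.mul_mem _ (Subgroup.inv_mem _ hh) (Subgroup.mem_sup_left hb)
  · exact absurd (s2 h21).1 h2

/-- characteristic two: everything is in `⟨B, N⟩` up to the reflection -/
theorem m1_core_two [CharP K 2] {φ : K →+* K} (hφφ : ∀ x, φ (φ x) = x)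
    {x : WSU 4 (RingHom.id K)} (hx : x ∈ gT 4 φ) :
    x ∈ borT 4 φ ⊔ monT 4 φ ∨ x * reflQ 4 K (by norm_num) (by norm_num) ∈ borT 4 φ ⊔ monT 4 φ := by
  obtain ⟨h, hh, c1, c2, c3⟩ := m1_step1 hφφ hx
  have hy : h * x ∈ gT 4 φ := (gT 4 φ).mul_mem (m1_sup_le φ hh) hx
  obtain ⟨s1, s2⟩ := m1_step2 φ hy c1 c2 c3
  by_cases h21 : mt (h * x) 2 1 = 0
  · left
    have hb := s1 h21
    have e : x = h⁻¹ * (h * x) := by group
    rw [e]
    exact Subgroup.mul_mem _ (Subgroup.inv_mem _ hh) (Subgroup.mem_sup_left hb)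
  · right
    have h22 := (s2 h21).2
    have hyr : h * x * reflQ 4 K (by norm_num) (by norm_num) ∈ gT 4 φ :=
      (gT 4 φ).mul_mem hy (m1_refl_mem φ)
    have d1 : mt (h * x * reflQ 4 K (by norm_num) (by norm_num)) 1 0 = 0 := by
      rw [m1_mul_refl, m1_tau0, c1]
    have d2 : mt (h * x * reflQ 4 K (by norm_num) (by norm_num)) 2 0 = 0 := by
      rw [m1_mul_refl, m1_tau0, c2]
    have d3 : mt (h * x * reflQ 4 K (by norm_num) (by norm_num)) 3 0 = 0 := by
      rw [m1_mul_refl, m1_tau0, c3]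
    have d21 : mt (h * x * reflQ 4 K (by norm_num) (by norm_num)) 2 1 = 0 := by
      rw [m1_mul_refl, m1_tau1, h22]
    have hb := (m1_step2 φ hyr d1 d2 d3).1 d21
    have e : x * reflQ 4 K (by norm_num) (by norm_num) =
        h⁻¹ * (h * x * reflQ 4 K (by norm_num) (by norm_num)) := by group
    rw [e]
    exact Subgroup.mul_mem _ (Subgroup.inv_mem _ hh) (Subgroup.mem_sup_left hb)

/-- characteristic two: `⟨B, N⟩` has index at most two, so contains the commutator subgroup -/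
theorem m1_commutator_le_two [CharP K 2] {φ : K →+* K} (hφφ : ∀ x, φ (φ x) = x) :
    commutator ↥(gT 4 φ) ≤ (borT 4 φ ⊔ monT 4 φ).subgroupOf (gT 4 φ) := by
  by_cases hr : reflQ 4 K (by norm_num) (by norm_num) ∈ borT 4 φ ⊔ monT 4 φ
  · intro x _
    rw [Subgroup.mem_subgroupOf]
    rcases m1_core_two hφφ x.2 with h | h
    · exact h
    · have e : (x : WSU 4 (RingHom.id K)) = (x : WSU 4 (RingHom.id K)) *
          reflQ 4 K (by norm_num) (by norm_num) * (reflQ 4 K (by norm_num) (by norm_num))⁻¹ := by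
        group
      rw [e]
      exact Subgroup.mul_mem _ h (Subgroup.inv_mem _ hr)
  · apply sd_commutator_le_of_index_two
    rw [Subgroup.index_eq_two_iff]
    refine ⟨⟨reflQ 4 K (by norm_num) (by norm_num), m1_refl_mem φ⟩, ?_⟩
    intro x
    rw [Subgroup.mem_subgroupOf, Subgroup.mem_subgroupOf]
    show Xor ((x : WSU 4 (RingHom.id K)) * reflQ 4 K (by norm_num) (by norm_num) ∈ _)
      ((x : WSU 4 (RingHom.id K)) ∈ _)
    rcases m1_core_two hφφ x.2 with h | h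
    · right
      refine ⟨h, ?_⟩
      intro h'
      apply hr
      have e : reflQ 4 K (by norm_num) (by norm_num) = (x : WSU 4 (RingHom.id K))⁻¹ *
          ((x : WSU 4 (RingHom.id K)) * reflQ 4 K (by norm_num) (by norm_num)) := by group
      rw [e]
      exact Subgroup.mul_mem _ (Subgroup.inv_mem _ h) h'
    · left
      refine ⟨h, ?_⟩
      intro h'
      apply hr
      have e : reflQ 4 K (by norm_num) (by norm_num) = (x : WSU 4 (RingHom.id K))⁻¹ *
          ((x : WSU 4 (RingHom.id K)) * reflQ 4 K (by norm_num) (by norm_num)) := by group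
      rw [e]
      exact Subgroup.mul_mem _ (Subgroup.inv_mem _ h') h

end m1

/-- PIECE M1 of S2549 -/
theorem Omega_le_map_minus_one {F K : Type*} [Field F] [Fintype F] [Field K] (a b : F)
    (hab : ∀ z₁ z₂ : F, z₁ ^ 2 + a * z₁ * z₂ + b * z₂ ^ 2 = 0 → z₁ = 0 ∧ z₂ = 0)
    (ι : F →+* K) (φ : K →+* K) (ω : K) (hφφ : ∀ x, φ (φ x) = x) (hfix : ∀ x, φ x = x ↔ x ∈ ι.range)
    (hω1 : ω + φ ω = - ι a) (hω2 : ω * φ ω = ι b) (hω3 : φ ω ≠ ω)
    (j : ↥(gT (2 * 1 + 2) φ) →* Cfsg.isometryGroup F (Cfsg.quadFormMinus 1 F a b))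
    (hinj : Function.Injective j)
    (hj : ∀ (x : ↥(gT (2 * 1 + 2) φ)) (v : (Fin 1 ⊕ Fin 1) ⊕ Fin 2 → F),
        Lm 1 ι ω (φ ω) ((((j x : Cfsg.isometryGroup F (Cfsg.quadFormMinus 1 F a b)) :
          GL ((Fin 1 ⊕ Fin 1) ⊕ Fin 2) F) : Matrix ((Fin 1 ⊕ Fin 1) ⊕ Fin 2) ((Fin 1 ⊕ Fin 1) ⊕ Fin 2) F) *ᵥ v) =
        mt (x : WSU (2 * 1 + 2) (RingHom.id K)) *ᵥ Lm 1 ι ω (φ ω) v)
    (hdet : ∀ g : Cfsg.isometryGroup F (Cfsg.quadFormMinus 1 F a b),
        ((g : GL ((Fin 1 ⊕ Fin 1) ⊕ Fin 2) F) :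
          Matrix ((Fin 1 ⊕ Fin 1) ⊕ Fin 2) ((Fin 1 ⊕ Fin 1) ⊕ Fin 2) F).det = 1 → g ∈ j.range)
    (hsurj : (2 : F) = 0 → ∀ g : Cfsg.isometryGroup F (Cfsg.quadFormMinus 1 F a b), g ∈ j.range) :
    commutator (Cfsg.isometryGroup F (Cfsg.quadFormMinus 1 F a b)) ≤
      ((borT (2 * 1 + 2) φ ⊔ monT (2 * 1 + 2) φ).subgroupOf (gT (2 * 1 + 2) φ)).map j := by
  show commutator (Cfsg.isometryGroup F (Cfsg.quadFormMinus 1 F a b)) ≤
      ((borT 4 φ ⊔ monT 4 φ).subgroupOf (gT 4 φ)).map j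
  by_cases h2 : (2 : F) = 0
  · have h2K : (2 : K) = 0 := by
      have := congrArg ι h2
      rwa [map_ofNat, map_zero] at this
    have : CharP K 2 := CharTwo.of_one_ne_zero_of_two_eq_zero one_ne_zero h2K
    have hs : Function.Surjective j := fun g => MonoidHom.mem_range.1 (hsurj h2 g)
    have e : commutator (Cfsg.isometryGroup F (Cfsg.quadFormMinus 1 F a b)) =
        (commutator ↥(gT 4 φ)).map j := by
      rw [commutator_def, commutator_def, Subgroup.map_commutator,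
        Subgroup.map_top_of_surjective j hs]
    rw [e]
    exact Subgroup.map_mono (m1_commutator_le_two hφφ)
  · have h2K : (2 : K) ≠ 0 := by
      intro h
      apply h2
      apply ι.injective
      rw [map_ofNat, map_zero, h]
    intro g hg
    have hd := ol_det_eq_one _ g hg
    obtain ⟨x, hx⟩ := MonoidHom.mem_range.1 (hdet g hd)
    rw [Subgroup.mem_map]
    refine ⟨x, ?_, hx⟩
    rw [Subgroup.mem_subgroupOf]
    exact m1_core_odd hφφ h2K x.2

end Cfsg.Agent.Helper13.StP
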