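import Mathlib
import Cfsg.Prelude.Def_LieTypeChar
import Cfsg.Agent.Lib.Helper14.SylAbDefs
import Cfsg.Agent.S2326
import Cfsg.Agent.Lib.Lead.ChevBN4

/-!
# S4625 piece CHEV: the exceptional Chevalley groups in characteristic 2 are `Good`

The subgroup `U` generated by the positive root elements is a Sylow 2-subgroup (S2326), and it is generated by the
involutions `x_r(t)` (`x_r(t)² = x_r(2t) = 1`).
-/

set_option autoImplicit false
set_option linter.unusedSectionVars false
set_option linter.unusedVariables false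

namespace Cfsg.Agent.Helper14.SylAb

open Cfsg
open scoped commutatorElement

/-- the generators of `U` inside the Chevalley group -/
def sylabchev_S (F : Type*) [Field F] (D : Lie.ChevalleyDatum) : Set ↥(D.group F) :=
  {s | ∃ (r : ℕ) (t : F), D.IsPosRoot r ∧ ((s : GL D.Idx F) : Matrix D.Idx D.Idx F) = D.x F r t}

theorem sylabchev_invol (F : Type*) [Field F] [CharP F 2] (D : Lie.ChevalleyDatum)
    (hX : Cfsg.Agent.Lead.Chev.XAdd D F) (s : ↥(D.group F)) (hs : s ∈ sylabchev_S F D) : s ^ 2 = 1 := by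
  obtain ⟨r, t, hr, e⟩ := hs
  apply Subtype.ext
  apply Units.ext
  rw [pow_two, Subgroup.coe_mul, Units.val_mul, e]
  have h1 : D.x F r t * D.x F r t = D.x F r (t + t) := hX.add r hr.1 t t
  rw [h1, CharTwo.add_self_eq_zero, hX.zero r hr.1]
  rfl

theorem sylabchev_mem_closure (F : Type*) [Field F] (D : Lie.ChevalleyDatum)
    (hle : D.posUnipotent F ≤ D.group F) (g : GL D.Idx F) (hg : g ∈ D.posUnipotent F) :
    ∃ hg' : g ∈ D.group F, (⟨g, hg'⟩ : ↥(D.group F)) ∈ Subgroup.closure (sylabchev_S F D) := by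
  unfold Lie.ChevalleyDatum.posUnipotent at hg
  induction hg using Subgroup.closure_induction with
  | mem x hx =>
    have hx' : x ∈ D.group F := hle (Subgroup.subset_closure hx)
    obtain ⟨r, t, hr, e⟩ := hx
    exact ⟨hx', Subgroup.subset_closure ⟨r, t, hr, e⟩⟩
  | one => exact ⟨one_mem _, one_mem _⟩
  | mul x y _ _ hx hy =>
    obtain ⟨hx', hx''⟩ := hx
    obtain ⟨hy', hy''⟩ := hy
    exact ⟨mul_mem hx' hy', mul_mem hx'' hy''⟩
  | inv x _ hx =>
    obtain ⟨hx', hx''⟩ := hx
    exact ⟨inv_mem hx', inv_mem hx''⟩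

/-- PIECE CHEV -/
theorem good_Chev (F : Type*) [Field F] [Fintype F] [CharP F 2] (D : Lie.ChevalleyDatum)
    (hD : D ∈ [Lie.chevG2, Lie.chevF4, Lie.chevE6, Lie.chevE7, Lie.chevE8]) : Good (D.group F) := by
  classical
  have hD' : D ∈ [Lie.chevG2, Lie.chevB2, Lie.chevD4, Lie.chevF4, Lie.chevE6, Lie.chevE7, Lie.chevE8] := by
    simp only [List.mem_cons, List.mem_nil_iff, or_false] at hD ⊢
    tauto
  have hF : Cfsg.Agent.Lead.Chev.ChevFacts D F := Cfsg.Agent.Lead.Chev.chevFacts_of_mem D hD'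
  have : Fact (Nat.Prime 2) := ⟨Nat.prime_two⟩
  obtain ⟨P, hP⟩ := Cfsg.Agent.S2326.result (F := F) 2 D hD'
  set U : Subgroup ↥(D.group F) := (D.posUnipotent F).subgroupOf (D.group F) with hU
  have : Finite ↥(D.group F) := inferInstance
  refine ⟨U, ?_, ?_, ?_⟩
  · rw [← hP]; exact P.isPGroup'
  · rw [← hP]; exact P.not_dvd_index
  · intro x hx
    have hxU : (x : GL D.Idx F) ∈ D.posUnipotent F := Subgroup.mem_subgroupOf.1 hx
    obtain ⟨hx', hx''⟩ := sylabchev_mem_closure F D hF.posUnipotent_le_group x.1 hxU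
    have hx3 : x ∈ Subgroup.closure (sylabchev_S F D) := hx''
    have hSU : Subgroup.closure (sylabchev_S F D) ≤ U := by
      rw [Subgroup.closure_le]
      rintro s ⟨r, t, hr, e⟩
      exact Subgroup.mem_subgroupOf.2 (Subgroup.subset_closure ⟨r, t, hr, e⟩)
    have h1 := sq_mem_commutator_closure (sylabchev_S F D)
      (fun s hs => by rw [sylabchev_invol F D hF.xadd s hs]; exact Subgroup.one_mem _) x hx3
    exact Subgroup.commutator_mono hSU hSU h1

end Cfsg.Agent.Helper14.SylAb
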