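import Mathlib
import Cfsg.Prelude.Def_LieTypeChar
import Cfsg.Agent.Lib.Helper14.SylAbDefs
import Cfsg.Agent.Lib.Lead.TwE6Order
import Cfsg.Agent.Lib.Helper28.SqTwInst
import Cfsg.Agent.Lib.Lead.TwFrob

/-!
# S4625 piece TWE6: `²E₆(q)`, `q` even, is `Good`

`U¹ = U ∩ ²E₆(q)` has order `q^36` and odd index (order formula of `²E₆(q)`), and it is generated by its involutions
(helper28's `SqTwInst`: induction along the reduced chain of the longest element).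
-/

set_option autoImplicit false
set_option linter.unusedSectionVars false
set_option linter.unusedSimpArgs false
set_option linter.unusedVariables false

namespace Cfsg.Agent.Helper14.SylAb

open Cfsg Cfsg.Lie Cfsg.Agent.Lead.Chev Cfsg.Agent.Lead.Tw
open scoped commutatorElement

/-- transport of a closure of involutions to the subtype -/
theorem sylabtwe6_mem_closure {G : Type*} [Group G] (H U : Subgroup G) (hUH : U ≤ H) (g : G)
    (hg : g ∈ Subgroup.closure {s : G | s ∈ U ∧ s * s = 1}) :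
    ∃ hg' : g ∈ H, (⟨g, hg'⟩ : ↥H) ∈ Subgroup.closure {s : ↥H | (s : G) ∈ U ∧ s ^ 2 = 1} := by
  induction hg using Subgroup.closure_induction with
  | mem x hx =>
    obtain ⟨hx1, hx2⟩ := hx
    refine ⟨hUH hx1, Subgroup.subset_closure ⟨hx1, ?_⟩⟩
    apply Subtype.ext
    rw [pow_two]
    exact hx2
  | one => exact ⟨one_mem _, one_mem _⟩
  | mul x y _ _ hx hy =>
    obtain ⟨hx', hx''⟩ := hx
    obtain ⟨hy', hy''⟩ := hy
    exact ⟨mul_mem hx' hy', mul_mem hx'' hy''⟩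
  | inv x _ hx =>
    obtain ⟨hx', hx''⟩ := hx
    exact ⟨inv_mem hx', inv_mem hx''⟩

/-- the arithmetic: the cofactor of `q^36` in the order formula is odd -/
theorem sylabtwe6_arith (a N : ℕ) (ha : 1 ≤ a)
    (h : Nat.gcd 3 (2 ^ a + 1) * N = (2 ^ a) ^ 36 * ((2 ^ a) ^ 2 - 1) * ((2 ^ a) ^ 5 + 1) * ((2 ^ a) ^ 6 - 1) *
      ((2 ^ a) ^ 8 - 1) * ((2 ^ a) ^ 9 + 1) * ((2 ^ a) ^ 12 - 1)) :
    ∃ m : ℕ, N = 2 ^ (a * 36) * m ∧ ¬ 2 ∣ m := by
  obtain ⟨q, hq⟩ : ∃ q, q = 2 ^ a := ⟨_, rfl⟩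
  rw [← hq] at h
  have hqe : 2 ∣ q := by rw [hq]; exact dvd_pow_self 2 (by omega)
  have hq0 : 0 < q := by rw [hq]; positivity
  have hq1 : ∀ k, 1 ≤ q ^ k := fun k => Nat.one_le_pow _ _ hq0
  have hodd1 : ∀ k, 1 ≤ k → ¬ 2 ∣ q ^ k - 1 := by
    intro k hk hd
    have h2 : 2 ∣ q ^ k := dvd_trans hqe (dvd_pow_self q (by omega))
    have := hq1 k
    omega
  have hodd2 : ∀ k, 1 ≤ k → ¬ 2 ∣ q ^ k + 1 := by
    intro k hk hd
    have h2 : 2 ∣ q ^ k := dvd_trans hqe (dvd_pow_self q (by omega))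
    omega
  obtain ⟨M, hM⟩ : ∃ M, M = (q ^ 2 - 1) * (q ^ 5 + 1) * (q ^ 6 - 1) * (q ^ 8 - 1) * (q ^ 9 + 1) * (q ^ 12 - 1) :=
    ⟨_, rfl⟩
  have hMo : ¬ 2 ∣ M := by
    rw [hM]
    intro hd
    rcases (Nat.Prime.dvd_mul Nat.prime_two).1 hd with hd | hd
    · rcases (Nat.Prime.dvd_mul Nat.prime_two).1 hd with hd | hd
      · rcases (Nat.Prime.dvd_mul Nat.prime_two).1 hd with hd | hd
        · rcases (Nat.Prime.dvd_mul Nat.prime_two).1 hd with hd | hd
          · rcases (Nat.Prime.dvd_mul Nat.prime_two).1 hd with hd | hd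
            · exact hodd1 2 (by norm_num) hd
            · exact hodd2 5 (by norm_num) hd
          · exact hodd1 6 (by norm_num) hd
        · exact hodd1 8 (by norm_num) hd
      · exact hodd2 9 (by norm_num) hd
    · exact hodd1 12 (by norm_num) hd
  have h' : Nat.gcd 3 (q + 1) * N = q ^ 36 * M := by rw [h, hM]; ring
  have hgo : ¬ 2 ∣ Nat.gcd 3 (q + 1) := by
    intro hd
    have : 2 ∣ 3 := dvd_trans hd (Nat.gcd_dvd_left 3 (q + 1))
    omega
  have hcop : Nat.Coprime (q ^ 36) (Nat.gcd 3 (q + 1)) := by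
    rw [hq, ← pow_mul]
    apply Nat.Coprime.pow_left
    rw [← hq]
    exact (Nat.Prime.coprime_iff_not_dvd Nat.prime_two).2 hgo
  have hdvd : q ^ 36 ∣ N := by
    have : q ^ 36 ∣ Nat.gcd 3 (q + 1) * N := ⟨M, h'⟩
    exact hcop.dvd_of_dvd_mul_left this
  obtain ⟨m, rfl⟩ := hdvd
  refine ⟨m, by rw [hq, ← pow_mul], ?_⟩
  intro hd
  apply hMo
  have h3 : q ^ 36 * (Nat.gcd 3 (q + 1) * m) = q ^ 36 * M := by rw [← h']; ring
  have h4 := Nat.eq_of_mul_eq_mul_left (by positivity) h3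
  rw [← h4]
  exact Dvd.dvd.mul_left hd _

/-- PIECE TWE6 -/
theorem good_twistedE6 (K : Type*) [Field K] [Fintype K] [CharP K 2] (q : ℕ) (hq : IsPrimePow q)
    (hK : Fintype.card K = q ^ 2) : Good (Lie.twistedE6 K q) := by
  classical
  obtain ⟨f, hf⟩ := Cfsg.Agent.Lead.Tw.exists_frob hq hK
  have hq1 : 1 < q := hq.one_lt
  -- `q = 2 ^ a`
  obtain ⟨n, -, hn⟩ := FiniteField.card K 2
  have hqd : q ∣ 2 ^ (n : ℕ) := by
    rw [← hn, hK]
    exact dvd_pow_self q (by norm_num)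
  obtain ⟨a, -, rfl⟩ := (Nat.dvd_prime_pow Nat.prime_two).1 hqd
  have ha : 1 ≤ a := by
    by_contra hcon
    have : a = 0 := by omega
    rw [this] at hq1
    norm_num at hq1
  have hcU := E6.card_U hq1 hK f hf
  have hcG := E6.card_group hq1 hK f hf
  obtain ⟨m, hm1, hm2⟩ := sylabtwe6_arith a _ ha hcG
  set G₁ : Subgroup (GL chevE6.Idx K) := twistedE6 K (2 ^ a) with hG₁
  set U₀ : Subgroup (GL chevE6.Idx K) := chevE6.posUnipotent K ⊓ G₁ with hU₀
  have hUG : U₀ ≤ G₁ := inf_le_right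
  set U : Subgroup ↥G₁ := U₀.subgroupOf G₁ with hU
  have hcard : Nat.card ↥U = 2 ^ (a * 36) := by
    rw [Nat.card_congr (Subgroup.subgroupOfEquivOfLe hUG).toEquiv, hcU, ← pow_mul]
  have : Finite ↥G₁ := inferInstance
  refine ⟨U, IsPGroup.of_card hcard, not_dvd_index_of_card U (a * 36) m hcard hm1 hm2, ?_⟩
  intro x hx
  have hxU : (x : GL chevE6.Idx K) ∈ U₀ := Subgroup.mem_subgroupOf.1 hx
  have h1 := Cfsg.Agent.Helper28.SqTw.twistedE6_posU_le_closure_invol hK f hf CharTwo.two_eq_zero hxU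
  obtain ⟨hx', hx''⟩ := sylabtwe6_mem_closure G₁ U₀ hUG x.1 h1
  set S₁ : Set ↥G₁ := {s : ↥G₁ | (s : GL chevE6.Idx K) ∈ U₀ ∧ s ^ 2 = 1} with hS₁
  have hx3 : x ∈ Subgroup.closure S₁ := hx''
  have hSU : Subgroup.closure S₁ ≤ U := by
    rw [Subgroup.closure_le]
    rintro s ⟨hs1, _⟩
    exact Subgroup.mem_subgroupOf.2 hs1
  have h2 := sq_mem_commutator_closure S₁
    (fun s hs => by rw [hs.2]; exact Subgroup.one_mem _) x hx3
  exact Subgroup.commutator_mono hSU hSU h2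

end Cfsg.Agent.Helper14.SylAb
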