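import Mathlib
import Cfsg.Prelude.Def_Blocks
import Cfsg.Agent.Lib.Helper24.CharQuotient
import Cfsg.Agent.Lib.Helper24.CharHom
import Cfsg.Agent.Lib.Helper24.Gagola
import Cfsg.Agent.Lib.Helper12.McKayGen
import Cfsg.Agent.Lib.Helper11.HSub4
import Cfsg.Agent.Lib.Helper19.SylowConj
import Cfsg.Agent.Lib.Helper1.Tate
import Cfsg.Agent.Lib.Helper1.TwoGenSylC
import Cfsg.Agent.Lib.Helper22.PResidual

/-!
# Extending characters of a subgroup and lifting its normal subgroups (helper21)

* `exists_normal_of_ext`: if every member of a set `S` of irreducible characters of `H ≤ G`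
  extends to `G`, then the common kernel of `S` is the intersection of `H` with a normal subgroup
  of `G`.
* `exists_irr_quotient_ne`: irreducible characters of `H ⧸ A` separate `H ∖ A`.
* `exists_normal_complement_normalizer`: a purely group theoretic consequence for `H = N_G(P)`:
  if `P'` and `P` are of the form `N_G(P) ∩ K` with `K ⊴ G` then `N_G(P)` has a normal complement
  (focal subgroup + Tate).
-/

set_option autoImplicit false

namespace Cfsg.Agent.Helper21.SylNormExt

open Cfsg Cfsg.Agent.Helper24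
open scoped commutatorElement

universe u

section Lift

variable {G : Type u} [Group G] [Finite G]

theorem exists_normal_of_ext (H : Subgroup G) (S : Set (IrrCharacter H))
    (hext : ∀ θ ∈ S, ∃ χ : IrrCharacter G, ∀ x : H, (χ : G → ℂ) x = (θ : H → ℂ) x) :
    ∃ K : Subgroup G, K.Normal ∧
      ∀ x : H, (x : G) ∈ K ↔ ∀ θ ∈ S, (θ : H → ℂ) x = (θ : H → ℂ) 1 := by
  classical
  choose ext hext' using hext
  refine ⟨⨅ θ : S, charKer (isCharacter_of_isIrrCharacter (ext θ.1 θ.2).2), ?_, ?_⟩
  · exact Subgroup.normal_iInf_normal (fun θ => charKer_normal _)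
  · intro x
    rw [Subgroup.mem_iInf]
    constructor
    · intro h θ hθ
      have h1 := h ⟨θ, hθ⟩
      rw [mem_charKer] at h1
      have h2 := hext' θ hθ x
      have h3 := hext' θ hθ 1
      rw [← h2, h1, ← h3]
      rfl
    · intro h θ
      rw [mem_charKer]
      have h2 := hext' θ.1 θ.2 x
      have h3 := hext' θ.1 θ.2 1
      rw [h2, h θ.1 θ.2, ← h3]
      rfl

/-- Irreducible characters of `H ⧸ A` separate the elements outside `A`. -/
theorem exists_irr_quotient_ne (A : Subgroup G) [A.Normal] {x : G} (hx : x ∉ A) :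
    ∃ ψ : IrrCharacter (G ⧸ A), (ψ : G ⧸ A → ℂ) (QuotientGroup.mk x) ≠ (ψ : G ⧸ A → ℂ) 1 := by
  by_contra hcon
  push Not at hcon
  have := eq_one_of_forall_irr_eq (G := G ⧸ A) (h := (QuotientGroup.mk x : G ⧸ A)) hcon
  rw [QuotientGroup.eq_one_iff] at this
  exact hx this

end Lift

section GroupTheory

variable {G : Type u} [Group G] [Finite G] {p : ℕ} [hp : Fact p.Prime]

theorem focal_aux (P : Sylow p G) (K0 KP : Subgroup G) [hK0 : K0.Normal] [hKP : KP.Normal]
    (h0 : ⁅(P : Subgroup G), (P : Subgroup G)⁆ ≤ K0)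
    (hP : ∀ x ∈ Subgroup.normalizer ((P : Subgroup G) : Set G), x ∈ KP → x ∈ (P : Subgroup G))
    (hPK : (P : Subgroup G) ≤ KP)
    {x u : G} (hx : x ∈ (P : Subgroup G)) (hu : u ∈ KP) (hy : u * x * u⁻¹ ∈ (P : Subgroup G)) :
    x * (u * x * u⁻¹)⁻¹ ∈ K0 := by
  set y := u * x * u⁻¹ with hy_def
  let C : Subgroup G :=
    { carrier := {g | g * y * g⁻¹ * y⁻¹ ∈ K0}
      one_mem' := by simp
      mul_mem' := by
        intro g h hg hh
        simp only [Set.mem_setOf_eq] at hg hh ⊢
        have e : g * h * y * (g * h)⁻¹ * y⁻¹ = (g * (h * y * h⁻¹ * y⁻¹) * g⁻¹) * (g * y * g⁻¹ * y⁻¹) := by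
          group
        rw [e]
        exact K0.mul_mem (hK0.conj_mem _ hh g) hg
      inv_mem' := by
        intro g hg
        simp only [Set.mem_setOf_eq] at hg ⊢
        have e : g⁻¹ * y * g⁻¹⁻¹ * y⁻¹ = g⁻¹ * (g * y * g⁻¹ * y⁻¹)⁻¹ * g⁻¹⁻¹ := by group
        rw [e]
        exact hK0.conj_mem _ (K0.inv_mem hg) g⁻¹ }
  have hCmem : ∀ g : G, g ∈ C ↔ g * y * g⁻¹ * y⁻¹ ∈ K0 := fun g => Iff.rfl
  -- `P ≤ C`
  have hPC : (P : Subgroup G) ≤ C := by
    intro a ha
    rw [hCmem]
    apply h0
    have : a * y * a⁻¹ * y⁻¹ = ⁅a, y⁆ := by rw [commutatorElement_def]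
    rw [this]
    exact Subgroup.commutator_mem_commutator ha hy
  -- the conjugate Sylow subgroup
  let Q : Sylow p G := u • P
  have hQcoe : (Q : Subgroup G) = (P : Subgroup G).map (MulAut.conj u).toMonoidHom :=
    Cfsg.Agent.Helper19.sylow_smul_coe P u
  have hQC : (Q : Subgroup G) ≤ C := by
    intro b hb
    rw [hQcoe] at hb
    obtain ⟨a, ha, rfl⟩ := hb
    rw [hCmem]
    have e : (MulAut.conj u).toMonoidHom a * y * ((MulAut.conj u).toMonoidHom a)⁻¹ * y⁻¹
        = u * ⁅a, x⁆ * u⁻¹ := by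
      simp only [MulEquiv.toMonoidHom_eq_coe, MonoidHom.coe_coe, MulAut.conj_apply, hy_def,
        commutatorElement_def]
      group
    rw [e]
    exact hK0.conj_mem _ (h0 (Subgroup.commutator_mem_commutator ha hx)) u
  have hQK : (Q : Subgroup G) ≤ KP := by
    intro b hb
    rw [hQcoe] at hb
    obtain ⟨a, ha, rfl⟩ := hb
    simp only [MulEquiv.toMonoidHom_eq_coe, MonoidHom.coe_coe, MulAut.conj_apply]
    exact hKP.conj_mem _ (hPK ha) u
  obtain ⟨k, hk, hkQ⟩ := Cfsg.Agent.Helper19.exists_mem_conj_eq_of_le Q P (C ⊓ KP)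
    (le_inf hQC hQK) (le_inf hPC hPK)
  -- `k * u` normalizes `P`
  have hku : k * u ∈ Subgroup.normalizer ((P : Subgroup G) : Set G) := by
    have hmem : ∀ z ∈ (P : Subgroup G), (k * u) * z * (k * u)⁻¹ ∈ (P : Subgroup G) := by
      intro z hz
      have h1 : (MulAut.conj u).toMonoidHom z ∈ (Q : Subgroup G) := by
        rw [hQcoe]
        exact Subgroup.mem_map_of_mem _ hz
      have h2 : (MulAut.conj k).toMonoidHom ((MulAut.conj u).toMonoidHom z) ∈
          (Q : Subgroup G).map (MulAut.conj k).toMonoidHom := Subgroup.mem_map_of_mem _ h1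
      rw [hkQ] at h2
      have e : (k * u) * z * (k * u)⁻¹ =
          (MulAut.conj k).toMonoidHom ((MulAut.conj u).toMonoidHom z) := by
        simp only [MulEquiv.toMonoidHom_eq_coe, MonoidHom.coe_coe, MulAut.conj_apply]
        group
      rw [e]
      exact h2
    rw [Subgroup.mem_normalizer_iff]
    intro z
    constructor
    · intro hz
      exact hmem z hz
    · intro hz
      -- finite: conjugation is injective on P with image in P hence onto
      have hinj : Function.Injective (fun z : (P : Subgroup G) =>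
          (⟨(k * u) * z * (k * u)⁻¹, hmem z z.2⟩ : (P : Subgroup G))) := by
        intro a b hab
        have := congrArg Subtype.val hab
        simp only [mul_left_inj, mul_right_inj] at this
        exact Subtype.ext this
      have hsurj := Finite.surjective_of_injective hinj
      obtain ⟨w, hw⟩ := hsurj ⟨_, hz⟩
      have := congrArg Subtype.val hw
      simp only [mul_left_inj, mul_right_inj] at this
      rw [← this]
      exact w.2
  have ha : k * u ∈ (P : Subgroup G) := hP _ hku (KP.mul_mem hk.2 hu)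
  have hkC : k * y * k⁻¹ * y⁻¹ ∈ K0 := (hCmem k).mp hk.1
  have h1 : x * (k * u) * x⁻¹ * (k * u)⁻¹ ∈ K0 := by
    apply h0
    have : x * (k * u) * x⁻¹ * (k * u)⁻¹ = ⁅x, k * u⁆ := by rw [commutatorElement_def]
    rw [this]
    exact Subgroup.commutator_mem_commutator hx ha
  have e : x * y⁻¹ = (x * (k * u) * x⁻¹ * (k * u)⁻¹) * (k * y * k⁻¹ * y⁻¹) := by
    rw [hy_def]
    group
  rw [e]
  exact K0.mul_mem h1 hkC

theorem exists_normal_complement_normalizer (P : Sylow p G) (K0 KP : Subgroup G)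
    [hK0 : K0.Normal] [hKP : KP.Normal]
    (h0 : ∀ x ∈ Subgroup.normalizer ((P : Subgroup G) : Set G),
      x ∈ K0 ↔ x ∈ ⁅(P : Subgroup G), (P : Subgroup G)⁆)
    (hP : ∀ x ∈ Subgroup.normalizer ((P : Subgroup G) : Set G), x ∈ KP ↔ x ∈ (P : Subgroup G)) :
    ∃ K : Subgroup G, K.Normal ∧ K ⊔ Subgroup.normalizer ((P : Subgroup G) : Set G) = ⊤ ∧
      K ⊓ Subgroup.normalizer ((P : Subgroup G) : Set G) = ⊥ := by
  have hpp : p.Prime := hp.out
  have hPN : (P : Subgroup G) ≤ Subgroup.normalizer ((P : Subgroup G) : Set G) :=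
    Subgroup.le_normalizer
  have hPK : (P : Subgroup G) ≤ KP := fun x hx => (hP x (hPN hx)).mpr hx
  have hcommP : ⁅(P : Subgroup G), (P : Subgroup G)⁆ ≤ (P : Subgroup G) := by
    rw [Subgroup.commutator_le]
    intro a ha b hb
    rw [commutatorElement_def]
    exact (P : Subgroup G).mul_mem ((P : Subgroup G).mul_mem ((P : Subgroup G).mul_mem ha hb)
      ((P : Subgroup G).inv_mem ha)) ((P : Subgroup G).inv_mem hb)
  have hcomm0 : ⁅(P : Subgroup G), (P : Subgroup G)⁆ ≤ K0 :=
    fun x hx => (h0 x (hPN (hcommP hx))).mpr hx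
  -- work inside `KP`
  let PX : Sylow p KP := P.subtype hPK
  have hPXcoe : (PX : Subgroup KP) = (P : Subgroup G).subgroupOf KP := Sylow.coe_subtype P hPK
  have hfoc : ∀ x ∈ (PX : Subgroup KP), ∀ u : KP, u * x * u⁻¹ ∈ (PX : Subgroup KP) →
      x * (u * x * u⁻¹)⁻¹ ∈ (frattini PX).map (PX : Subgroup KP).subtype := by
    intro x hx u hux
    apply Cfsg.Agent.Helper1.TwoGenSyl.commutator_le_map_frattini PX
    rw [hPXcoe] at hx hux ⊢
    rw [Subgroup.mem_subgroupOf] at hx hux
    have hk0 : (x : G) * ((u : G) * (x : G) * (u : G)⁻¹)⁻¹ ∈ K0 :=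
      focal_aux P K0 KP hcomm0 (fun z hz hzK => (hP z hz).mp hzK) hPK hx u.2 (by simpa using hux)
    have hinP : (x : G) * ((u : G) * (x : G) * (u : G)⁻¹)⁻¹ ∈ (P : Subgroup G) :=
      (P : Subgroup G).mul_mem hx ((P : Subgroup G).inv_mem (by simpa using hux))
    have hc : (x : G) * ((u : G) * (x : G) * (u : G)⁻¹)⁻¹ ∈ ⁅(P : Subgroup G), (P : Subgroup G)⁆ :=
      (h0 _ (hPN hinP)).mp hk0
    have hmapc : (⁅(P : Subgroup G).subgroupOf KP, (P : Subgroup G).subgroupOf KP⁆).map KP.subtype
        = ⁅(P : Subgroup G), (P : Subgroup G)⁆ := by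
      rw [Subgroup.map_commutator, Subgroup.subgroupOf_map_subtype, inf_of_le_left hPK]
    rw [← hmapc] at hc
    obtain ⟨w, hw, hwe⟩ := hc
    have : w = x * (u * x * u⁻¹)⁻¹ := by
      apply Subtype.ext
      rw [← Subgroup.coe_subtype]
      rw [hwe]
      simp
    rw [← this]
    exact hw
  have h4 : ¬ p ∣ Nat.card (Cfsg.pResidual p KP) :=
    Cfsg.Agent.Helper11.HSub.not_dvd_card_pResidual_of_focal PX hfoc
  set K : Subgroup G := (Cfsg.pResidual p KP).map KP.subtype with hKdef
  haveI hKn : K.Normal := Cfsg.Agent.Helper1.map_pResidual_normal KP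
  have hKle : K ≤ KP := Subgroup.map_subtype_le _
  have hcardK : Nat.card K = Nat.card (Cfsg.pResidual p KP) := by
    rw [hKdef, Subgroup.card_map_of_injective (Subgroup.subtype_injective KP)]
  have hsup : (P : Subgroup G) ⊔ K = KP := by
    have h1 := Cfsg.Agent.Helper22.sylow_sup_pResidual_eq_top PX
    have h2 := congrArg (Subgroup.map KP.subtype) h1
    rw [Subgroup.map_sup, hPXcoe, Subgroup.subgroupOf_map_subtype, inf_of_le_left hPK,
      ← MonoidHom.range_eq_map, Subgroup.range_subtype] at h2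
    exact h2
  have hdisj : K ⊓ (P : Subgroup G) = ⊥ := by
    have hcop : (Nat.card K).Coprime (Nat.card (P : Subgroup G)) := by
      obtain ⟨n, hn⟩ := P.2.exists_card_eq
      rw [hn, hcardK]
      apply Nat.Coprime.pow_right
      exact ((Nat.Prime.coprime_iff_not_dvd hpp).mpr h4).symm
    exact (Subgroup.disjoint_of_coprime_natCard hcop).eq_bot  -- placeholder
  refine ⟨K, hKn, ?_, ?_⟩
  · have hfr := Sylow.normalizer_sup_eq_top' (N := KP) P hPK
    have hfr' : Subgroup.normalizer ((P : Subgroup G) : Set G) ⊔ KP = ⊤ := hfr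
    rw [← hsup] at hfr'
    rw [sup_comm]
    apply top_le_iff.mp
    rw [← hfr']
    apply sup_le
    · exact le_sup_left
    · apply sup_le
      · exact le_trans hPN le_sup_left
      · exact le_sup_right
  · rw [eq_bot_iff]
    intro k hk
    have hkK : k ∈ K := hk.1
    have hkN : k ∈ Subgroup.normalizer ((P : Subgroup G) : Set G) := hk.2
    have hkP : k ∈ (P : Subgroup G) := (hP k hkN).mp (hKle hkK)
    have : k ∈ K ⊓ (P : Subgroup G) := ⟨hkK, hkP⟩
    rw [hdisj] at this
    exact this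

end GroupTheory

end Cfsg.Agent.Helper21.SylNormExt
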