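import Mathlib
import Cfsg.Agent.Lib.Helper21.SylowSym

/-!
# Sylow 2-subgroups of alternating groups of degree at least 6 are self-normalizing
-/

set_option autoImplicit false

namespace Cfsg.Agent.Helper21.SylowAlt

open Equiv Equiv.Perm Cfsg.Agent.Helper21.SylowSym

universe u

section setup

variable {α : Type u} [Fintype α] [DecidableEq α]

/-- distinct swaps of a `2`-group commute -/
theorem commute_of_mem_Tr {T : Subgroup (Perm α)} (hT : IsPGroup 2 T) {σ τ : Perm α}
    (hσ : σ ∈ Tr T) (hτ : τ ∈ Tr T) : σ * τ = τ * σ := by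
  by_cases h : σ = τ
  · rw [h]
  · have hd : Perm.Disjoint σ τ := by
      intro x
      by_contra hx
      push Not at hx
      exact h (eq_of_moves hT hσ hτ x hx.1 hx.2)
    exact hd.commute.eq

theorem mem_centralizer_of_mem_Tr {T : Subgroup (Perm α)} (hT : IsPGroup 2 T) {τ : Perm α}
    (hτ : τ ∈ Tr T) : τ ∈ Subgroup.centralizer (Tr T) := by
  rw [Subgroup.mem_centralizer_iff]
  intro σ hσ
  exact commute_of_mem_Tr hT hσ hτ

/-- the data: a Sylow `2`-subgroup `T` of the symmetric group and `S' = T ∩ Alt` -/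
structure Data (α : Type u) [Fintype α] [DecidableEq α] where
  T : Sylow 2 (Perm α)
  three : 3 ≤ Nat.card ↥(Tr (T : Subgroup (Perm α)))

variable (D : Data α)

/-- the even part of `T` -/
def Data.S' : Subgroup (Perm α) := (D.T : Subgroup (Perm α)) ⊓ alternatingGroup α

theorem Data.mem_S' {s : Perm α} : s ∈ D.S' ↔ s ∈ (D.T : Subgroup (Perm α)) ∧ sign s = 1 := by
  unfold Data.S'
  rw [Subgroup.mem_inf, mem_alternatingGroup]

/-- a third swap, avoiding a given swap and fixing a given point -/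
theorem Data.exists_third (a : α) (τ : Perm α) :
    ∃ σ ∈ Tr (D.T : Subgroup (Perm α)), σ ≠ τ ∧ σ a = a := by
  classical
  haveI : Fintype ↥(Tr (D.T : Subgroup (Perm α))) := Fintype.ofFinite _
  have h3 : 2 < Fintype.card ↥(Tr (D.T : Subgroup (Perm α))) := by
    have := D.three
    rw [Nat.card_eq_fintype_card] at this
    omega
  obtain ⟨σ₁, σ₂, σ₃, h12, h13, h23⟩ := Fintype.two_lt_card_iff.mp h3
  by_contra hcon
  push Not at hcon
  have hb : ∀ σ : ↥(Tr (D.T : Subgroup (Perm α))), σ.1 = τ ∨ σ.1 a ≠ a := fun σ => by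
    by_cases h : σ.1 = τ
    · exact Or.inl h
    · exact Or.inr (hcon σ.1 σ.2 h)
  have hmov : ∀ σ σ' : ↥(Tr (D.T : Subgroup (Perm α))), σ.1 a ≠ a → σ'.1 a ≠ a → σ = σ' :=
    fun σ σ' h h' => Subtype.ext (eq_of_moves D.T.isPGroup' σ.2 σ'.2 a h h')
  have heq : ∀ σ σ' : ↥(Tr (D.T : Subgroup (Perm α))), σ.1 = τ → σ'.1 = τ → σ = σ' :=
    fun σ σ' h h' => Subtype.ext (h.trans h'.symm)
  rcases hb σ₁ with h1 | h1 <;> rcases hb σ₂ with h2 | h2 <;> rcases hb σ₃ with h3 | h3
  · exact h12 (heq _ _ h1 h2)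
  · exact h12 (heq _ _ h1 h2)
  · exact h13 (heq _ _ h1 h3)
  · exact h23 (hmov _ _ h2 h3)
  · exact h23 (heq _ _ h2 h3)
  · exact h13 (hmov _ _ h1 h3)
  · exact h12 (hmov _ _ h1 h2)
  · exact h12 (hmov _ _ h1 h2)

/-- separation: if `b` is moved by a swap of `T` but `swap a b ∉ T`, some even element of `T`
fixes `a` and moves `b` -/
theorem Data.exists_sep {a b : α} (hab : a ≠ b) (hb : b ∉ U (D.T : Subgroup (Perm α)))
    (hnot : swap a b ∉ (D.T : Subgroup (Perm α))) :
    ∃ s ∈ D.S', s a = a ∧ s b ≠ b := by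
  unfold U at hb
  simp only [Set.mem_ofPred_eq, not_forall] at hb
  obtain ⟨τ, hτ, hτb⟩ := hb
  -- `τ` fixes `a`
  have hτa : τ a = a := by
    by_contra h
    rcases swap_moves hτ.1 hτb h with h1 | h1
    · exact hab h1
    · -- τ = swap b a
      obtain ⟨c, d, hcd, rfl⟩ := hτ.1
      apply hnot
      have hbcd : b = c ∨ b = d := by
        by_contra h'
        push Not at h'
        exact hτb (swap_apply_of_ne_of_ne h'.1 h'.2)
      rcases hbcd with rfl | rfl
      · rw [swap_apply_left] at h1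
        rw [h1, swap_comm]
        exact hτ.2
      · rw [swap_apply_right] at h1
        rw [h1]
        exact hτ.2
  obtain ⟨σ, hσ, hστ, hσa⟩ := D.exists_third a τ
  have hσb : σ b = b := by
    by_contra h
    exact hστ (eq_of_moves D.T.isPGroup' hσ hτ b h hτb)
  refine ⟨τ * σ, ?_, ?_, ?_⟩
  · rw [D.mem_S']
    refine ⟨Subgroup.mul_mem _ hτ.2 hσ.2, ?_⟩
    rw [Perm.sign_mul, hτ.1.sign_eq, hσ.1.sign_eq]
    decide
  · rw [Perm.mul_apply, hσa, hτa]
  · rw [Perm.mul_apply, hσb]
    exact hτb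

/-- the swaps of `T` are detected by the point stabilizers of `S'` -/
theorem Data.swap_mem_iff {a b : α} (hab : a ≠ b) :
    swap a b ∈ (D.T : Subgroup (Perm α)) ↔ ∀ s ∈ D.S', s a = a ↔ s b = b := by
  constructor
  · intro h s hs
    have hsT : s ∈ (D.T : Subgroup (Perm α)) := ((D.mem_S').mp hs).1
    have hconj : swap (s a) (s b) ∈ (D.T : Subgroup (Perm α)) := by
      rw [swap_apply_apply]
      exact Subgroup.mul_mem _ (Subgroup.mul_mem _ hsT h) (Subgroup.inv_mem _ hsT)
    constructor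
    · intro hsa
      rw [hsa] at hconj
      have hne : a ≠ s b := fun e => hab (s.injective (hsa.trans e))
      exact (swap_eq_of_mem D.T.isPGroup' hab hne h hconj).symm
    · intro hsb
      rw [hsb, swap_comm] at hconj
      have h' : swap b a ∈ (D.T : Subgroup (Perm α)) := by rwa [swap_comm]
      have hne : b ≠ s a := fun e => hab.symm (s.injective (hsb.trans e))
      exact (swap_eq_of_mem D.T.isPGroup' hab.symm hne h' hconj).symm
  · intro h
    by_contra hnot
    by_cases hb : b ∈ U (D.T : Subgroup (Perm α))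
    · have ha : a ∉ U (D.T : Subgroup (Perm α)) := fun ha => hab (subsingleton_U D.T ha hb)
      have hnot' : swap b a ∉ (D.T : Subgroup (Perm α)) := by rwa [swap_comm]
      obtain ⟨s, hs, hsb, hsa⟩ := D.exists_sep hab.symm ha hnot'
      exact hsa ((h s hs).mpr hsb)
    · obtain ⟨s, hs, hsa, hsb⟩ := D.exists_sep hab hb hnot
      exact hsb ((h s hs).mp hsa)

/-- conjugation by an element normalizing `S'` preserves the swaps of `T` -/
theorem Data.conj_mem_Tr {y : Perm α} (hy : ∀ s ∈ D.S', y⁻¹ * s * y ∈ D.S') {τ : Perm α}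
    (hτ : τ ∈ Tr (D.T : Subgroup (Perm α))) : y * τ * y⁻¹ ∈ Tr (D.T : Subgroup (Perm α)) := by
  obtain ⟨⟨a, b, hab, rfl⟩, hT⟩ := hτ
  rw [← swap_apply_apply]
  have hne : y a ≠ y b := fun h => hab (y.injective h)
  refine ⟨⟨_, _, hne, rfl⟩, ?_⟩
  rw [D.swap_mem_iff hne]
  intro s hs
  have h1 := (D.swap_mem_iff hab).mp hT _ (hy s hs)
  simp only [Perm.mul_apply] at h1
  constructor
  · intro h
    have h2 : y⁻¹ (s (y a)) = a := by rw [h]; simp
    have h3 := h1.mp h2
    have h4 := congrArg y h3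
    simpa using h4
  · intro h
    have h2 : y⁻¹ (s (y b)) = b := by rw [h]; simp
    have h3 := h1.mpr h2
    have h4 := congrArg y h3
    simpa using h4

theorem Data.mem_normalizer_Tr {y : Perm α}
    (hy : y ∈ Subgroup.normalizer (D.S' : Set (Perm α))) :
    y ∈ Subgroup.normalizer (Tr (D.T : Subgroup (Perm α))) := by
  rw [Subgroup.mem_set_normalizer_iff]
  intro τ
  constructor
  · intro hτ
    apply D.conj_mem_Tr _ hτ
    intro s hs
    exact (Subgroup.mem_normalizer_iff''.mp hy s).mp hs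
  · intro hτ
    have h1 : y⁻¹ * (y * τ * y⁻¹) * y⁻¹⁻¹ ∈ Tr (D.T : Subgroup (Perm α)) := by
      apply D.conj_mem_Tr _ hτ
      intro s hs
      have := (Subgroup.mem_normalizer_iff.mp hy s).mp hs
      simpa using this
    have e : y⁻¹ * (y * τ * y⁻¹) * y⁻¹⁻¹ = τ := by group
    rwa [e] at h1

theorem Data.exists_even (t : ↥(D.T : Subgroup (Perm α))) :
    ∃ s : ↥(D.T : Subgroup (Perm α)), s.1 ∈ D.S' ∧
      phiT (D.T : Subgroup (Perm α)) s = phiT (D.T : Subgroup (Perm α)) t := by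
  have hne : Nonempty ↥(Tr (D.T : Subgroup (Perm α))) := by
    have := D.three
    by_contra h
    rw [not_nonempty_iff] at h
    rw [Nat.card_of_isEmpty] at this
    omega
  obtain ⟨τ₀⟩ := hne
  rcases Int.units_eq_one_or (sign t.1) with h | h
  · exact ⟨t, (D.mem_S').mpr ⟨t.2, h⟩, rfl⟩
  · refine ⟨t * ⟨τ₀.1, τ₀.2.2⟩, ?_, ?_⟩
    · rw [D.mem_S']
      refine ⟨Subgroup.mul_mem _ t.2 τ₀.2.2, ?_⟩
      simp only [Subgroup.coe_mul]
      rw [Perm.sign_mul, h, τ₀.2.1.sign_eq]
      decide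
    · rw [map_mul]
      have : phiT (D.T : Subgroup (Perm α)) ⟨τ₀.1, τ₀.2.2⟩ = 1 := by
        rw [phiT_eq_one_iff]
        exact mem_centralizer_of_mem_Tr D.T.isPGroup' τ₀.2
      rw [this, mul_one]

/-- the normalizer of `S'` in the symmetric group lies in `T` -/
theorem Data.normalizer_S'_le {y : Perm α}
    (hy : y ∈ Subgroup.normalizer (D.S' : Set (Perm α))) :
    y ∈ (D.T : Subgroup (Perm α)) := by
  classical
  have hyM := D.mem_normalizer_Tr hy
  apply mem_of_phi_mem_range D.T ⟨y, hyM⟩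
  haveI : Fintype ↥(Tr (D.T : Subgroup (Perm α))) := Fintype.ofFinite _
  set Tbar : Sylow 2 (Perm ↥(Tr (D.T : Subgroup (Perm α)))) :=
    Sylow.ofCard (phiT (D.T : Subgroup (Perm α))).range (card_range_phiT D.T) with hTbar
  have hcoe : (Tbar : Subgroup (Perm ↥(Tr (D.T : Subgroup (Perm α))))) =
      (phiT (D.T : Subgroup (Perm α))).range := Sylow.coe_ofCard _ _
  have hN := normalizer_le_aux _ ↥(Tr (D.T : Subgroup (Perm α))) rfl Tbar
  rw [← hcoe]
  apply hN
  have key : ∀ w ∈ Subgroup.normalizer (D.S' : Set (Perm α)),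
      ∀ hw : w ∈ Subgroup.normalizer (Tr (D.T : Subgroup (Perm α))),
      ∀ z ∈ (phiT (D.T : Subgroup (Perm α))).range,
      phi (D.T : Subgroup (Perm α)) ⟨w, hw⟩ * z * (phi (D.T : Subgroup (Perm α)) ⟨w, hw⟩)⁻¹ ∈
        (phiT (D.T : Subgroup (Perm α))).range := by
    rintro w hwN hw _ ⟨t, rfl⟩
    obtain ⟨s, hsS, hst⟩ := D.exists_even t
    rw [← hst]
    have hmem : w * s.1 * w⁻¹ ∈ D.S' := (Subgroup.mem_normalizer_iff.mp hwN s.1).mp hsS
    have hmemT : w * s.1 * w⁻¹ ∈ (D.T : Subgroup (Perm α)) := ((D.mem_S').mp hmem).1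
    refine ⟨⟨w * s.1 * w⁻¹, hmemT⟩, ?_⟩
    unfold phiT
    simp only [MonoidHom.comp_apply]
    rw [← map_inv, ← map_mul, ← map_mul]
    rfl
  rw [hcoe, Subgroup.mem_normalizer_iff]
  intro z
  constructor
  · exact key y hy hyM z
  · intro hz
    have hyinv : y⁻¹ ∈ Subgroup.normalizer (Tr (D.T : Subgroup (Perm α))) := inv_mem hyM
    have := key y⁻¹ (inv_mem hy) hyinv _ hz
    have e : (⟨y⁻¹, hyinv⟩ : ↥(Subgroup.normalizer (Tr (D.T : Subgroup (Perm α))))) =
        (⟨y, hyM⟩ : ↥(Subgroup.normalizer (Tr (D.T : Subgroup (Perm α)))))⁻¹ := rfl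
    rw [e, map_inv] at this
    simpa [mul_assoc] using this

end setup

section main

variable {α : Type u} [Fintype α] [DecidableEq α]

/-- the even part of a Sylow `2`-subgroup of the symmetric group containing a Sylow
`2`-subgroup `S` of the alternating group is `S` -/
theorem inf_alternating_eq_map (S : Sylow 2 ↥(alternatingGroup α)) (T : Sylow 2 (Perm α))
    (hT : (S : Subgroup ↥(alternatingGroup α)).map (alternatingGroup α).subtype ≤
      (T : Subgroup (Perm α))) :
    (T : Subgroup (Perm α)) ⊓ alternatingGroup α =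
      (S : Subgroup ↥(alternatingGroup α)).map (alternatingGroup α).subtype := by
  apply le_antisymm
  · intro g hg
    have hgA : g ∈ alternatingGroup α := (Subgroup.mem_inf.mp hg).2
    set Q : Subgroup ↥(alternatingGroup α) :=
      ((T : Subgroup (Perm α)) ⊓ alternatingGroup α).subgroupOf (alternatingGroup α) with hQ
    have hQ2 : IsPGroup 2 Q := by
      have h1 : IsPGroup 2 ↥((T : Subgroup (Perm α)) ⊓ alternatingGroup α) :=
        T.isPGroup'.to_le inf_le_left
      exact h1.comap_subtype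
    have hSQ : (S : Subgroup ↥(alternatingGroup α)) ≤ Q := by
      intro s hs
      rw [hQ, Subgroup.mem_subgroupOf]
      exact Subgroup.mem_inf.mpr ⟨hT ⟨s, hs, rfl⟩, s.2⟩
    have hQS := S.is_maximal' hQ2 hSQ
    have hgQ : (⟨g, hgA⟩ : ↥(alternatingGroup α)) ∈ Q := by
      rw [hQ, Subgroup.mem_subgroupOf]
      exact hg
    rw [hQS] at hgQ
    exact ⟨⟨g, hgA⟩, hgQ, rfl⟩
  · apply le_inf hT
    rintro _ ⟨s, _, rfl⟩
    exact s.2

/-- **Sylow `2`-subgroups of an alternating group of degree at least `6` are self-normalizing.** -/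
theorem normalizer_sylow_two_alternating (h6 : 6 ≤ Fintype.card α)
    (S : Sylow 2 ↥(alternatingGroup α)) :
    Subgroup.normalizer ((S : Subgroup ↥(alternatingGroup α)) : Set ↥(alternatingGroup α)) ≤
      (S : Subgroup ↥(alternatingGroup α)) := by
  set S₀ : Subgroup (Perm α) :=
    (S : Subgroup ↥(alternatingGroup α)).map (alternatingGroup α).subtype with hS₀
  have hS₀2 : IsPGroup 2 S₀ := S.isPGroup'.map _
  obtain ⟨T, hT⟩ := hS₀2.exists_le_sylow
  have hthree : 3 ≤ Nat.card ↥(Tr (T : Subgroup (Perm α))) := by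
    obtain ⟨_, hb2⟩ := card_bounds T
    omega
  let D : Data α := ⟨T, hthree⟩
  have hS₀A : S₀ ≤ alternatingGroup α := by
    rintro _ ⟨s, _, rfl⟩
    exact s.2
  have hDS : D.S' = S₀ := by
    apply le_antisymm
    · intro g hg
      have hgA : g ∈ alternatingGroup α := (Subgroup.mem_inf.mp hg).2
      set Q : Subgroup ↥(alternatingGroup α) := D.S'.subgroupOf (alternatingGroup α) with hQ
      have hQ2 : IsPGroup 2 Q := by
        have h1 : IsPGroup 2 D.S' := T.isPGroup'.to_le inf_le_left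
        exact h1.comap_subtype
      have hSQ : (S : Subgroup ↥(alternatingGroup α)) ≤ Q := by
        intro s hs
        rw [hQ, Subgroup.mem_subgroupOf]
        exact Subgroup.mem_inf.mpr ⟨hT ⟨s, hs, rfl⟩, s.2⟩
      have hQS := S.is_maximal' hQ2 hSQ
      have hgQ : (⟨g, hgA⟩ : ↥(alternatingGroup α)) ∈ Q := by
        rw [hQ, Subgroup.mem_subgroupOf]
        exact hg
      rw [hQS] at hgQ
      exact ⟨⟨g, hgA⟩, hgQ, rfl⟩
    · exact le_inf hT hS₀A
  intro x hx
  have hxN : x.1 ∈ Subgroup.normalizer (D.S' : Set (Perm α)) := by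
    rw [hDS, Subgroup.mem_normalizer_iff]
    intro h
    constructor
    · rintro ⟨s, hs, rfl⟩
      exact ⟨x * s * x⁻¹, (Subgroup.mem_normalizer_iff.mp hx s).mp hs, rfl⟩
    · rintro ⟨s', hs', hs'eq⟩
      refine ⟨x⁻¹ * s' * x, (Subgroup.mem_normalizer_iff''.mp hx s').mp hs', ?_⟩
      simp only [Subgroup.subtype_apply, Subgroup.coe_mul, Subgroup.coe_inv] at hs'eq ⊢
      rw [hs'eq]
      group
  have hxT := D.normalizer_S'_le hxN
  have hxS' : x.1 ∈ D.S' := Subgroup.mem_inf.mpr ⟨hxT, x.2⟩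
  rw [hDS] at hxS'
  obtain ⟨s, hs, hsx⟩ := hxS'
  have : s = x := Subtype.ext hsx
  rwa [← this]

end main

end Cfsg.Agent.Helper21.SylowAlt
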