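import Mathlib
import Cfsg.Agent.Lib.Helper21.SylowAlt
import Cfsg.Agent.Lib.Helper19.Conj

/-!
# Overgroups of a Sylow 2-subgroup in the alternating group of degree 5
-/

set_option autoImplicit false

namespace Cfsg.Agent.Helper21.SylowAlt5

open Equiv Equiv.Perm Cfsg.Agent.Helper21.SylowSym Cfsg.Agent.Helper21.SylowAlt

universe u

variable {α : Type u} [Fintype α] [DecidableEq α]

/-- an even permutation of five points fixing three distinct points is trivial -/
theorem eq_one_of_three_fixed (h5 : Fintype.card α = 5) {s : Perm α} (hs : sign s = 1)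
    {a b c : α} (hab : a ≠ b) (hac : a ≠ c) (hbc : b ≠ c) (ha : s a = a) (hb : s b = b)
    (hc : s c = c) : s = 1 := by
  have hsub : s.support ⊆ Finset.univ \ {a, b, c} := by
    intro x hx
    rw [mem_support] at hx
    simp only [Finset.mem_sdiff, Finset.mem_univ, Finset.mem_insert, Finset.mem_singleton,
      true_and, not_or]
    refine ⟨?_, ?_, ?_⟩ <;> rintro rfl <;> exact hx ‹_›
  have h3 : ({a, b, c} : Finset α).card = 3 := Finset.card_eq_three.mpr ⟨a, b, c, hab, hac, hbc, rfl⟩
  have hcard : (Finset.univ \ ({a, b, c} : Finset α)).card = 2 := by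
    rw [Finset.card_sdiff_of_subset (Finset.subset_univ _), Finset.card_univ, h5, h3]
  have hle := Finset.card_le_card hsub
  rw [hcard] at hle
  have hne1 := card_support_ne_one s
  rcases Nat.lt_or_ge s.support.card 2 with hlt | hge
  · apply card_support_le_one.mp
    omega
  · have h2 : s.support.card = 2 := le_antisymm hle hge
    have hswap := card_support_eq_two.mp h2
    rw [hswap.sign_eq] at hs
    exact absurd hs (by decide)

section facts

variable (h5 : Fintype.card α = 5) (T : Sylow 2 (Perm α))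

include h5 in
theorem card_Tr_eq_two : Nat.card ↥(Tr (T : Subgroup (Perm α))) = 2 := by
  obtain ⟨h1, h2⟩ := card_bounds T
  omega

include h5 in
theorem exists_fixed : ∃ u : α, ∀ t ∈ (T : Subgroup (Perm α)), t u = u := by
  haveI : Fact (Nat.Prime 2) := ⟨Nat.prime_two⟩
  have hnd : ¬ 2 ∣ Nat.card α := by
    rw [Nat.card_eq_fintype_card, h5]
    decide
  obtain ⟨u, hu⟩ := T.isPGroup'.nonempty_fixed_point_of_prime_not_dvd_card α hnd
  refine ⟨u, fun t ht => ?_⟩
  exact hu ⟨t, ht⟩

variable {T} {u : α} (hu : ∀ t ∈ (T : Subgroup (Perm α)), t u = u)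

include hu in
theorem mem_U_of_fixed : u ∈ U (T : Subgroup (Perm α)) := fun τ hτ => hu τ hτ.2

include h5 hu in
theorem exists_swaps {x : α} (hx : x ≠ u) :
    ∃ τ₁ ∈ Tr (T : Subgroup (Perm α)), ∃ τ₂ ∈ Tr (T : Subgroup (Perm α)),
      τ₁ ≠ τ₂ ∧ τ₁ x ≠ x := by
  have hxU : x ∉ U (T : Subgroup (Perm α)) := fun h =>
    hx (subsingleton_U T h (mem_U_of_fixed hu))
  unfold U at hxU
  simp only [Set.mem_ofPred_eq, not_forall] at hxU
  obtain ⟨τ₁, hτ₁, hτ₁x⟩ := hxU
  haveI : Nontrivial ↥(Tr (T : Subgroup (Perm α))) := by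
    rw [← Finite.one_lt_card_iff_nontrivial, card_Tr_eq_two h5 T]
    norm_num
  obtain ⟨τ₂, hτ₂⟩ := exists_ne (⟨τ₁, hτ₁⟩ : ↥(Tr (T : Subgroup (Perm α))))
  exact ⟨τ₁, hτ₁, τ₂.1, τ₂.2, fun h => hτ₂ (Subtype.ext h.symm), hτ₁x⟩

include h5 hu in
theorem exists_moving {x : α} (hx : x ≠ u) :
    ∃ s ∈ (T : Subgroup (Perm α)) ⊓ alternatingGroup α, s x ≠ x := by
  obtain ⟨τ₁, hτ₁, τ₂, hτ₂, hne, hτ₁x⟩ := exists_swaps h5 hu hx
  have hτ₂x : τ₂ x = x := by
    by_contra h
    exact hne (eq_of_moves T.isPGroup' hτ₁ hτ₂ x hτ₁x h)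
  refine ⟨τ₁ * τ₂, Subgroup.mem_inf.mpr ⟨Subgroup.mul_mem _ hτ₁.2 hτ₂.2, ?_⟩, ?_⟩
  · rw [mem_alternatingGroup, Perm.sign_mul, hτ₁.1.sign_eq, hτ₂.1.sign_eq]
    decide
  · rw [Perm.mul_apply, hτ₂x]
    exact hτ₁x

include h5 hu in
theorem normalizer_fixes {y : Perm α}
    (hy : y ∈ Subgroup.normalizer
      (((T : Subgroup (Perm α)) ⊓ alternatingGroup α : Subgroup (Perm α)) : Set (Perm α))) :
    y u = u := by
  by_contra hne
  obtain ⟨s, hs, hsx⟩ := exists_moving h5 hu hne
  have h1 : y⁻¹ * s * y ∈ (T : Subgroup (Perm α)) ⊓ alternatingGroup α :=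
    (Subgroup.mem_normalizer_iff''.mp hy s).mp hs
  have h2 := hu _ (Subgroup.mem_inf.mp h1).1
  simp only [Perm.mul_apply] at h2
  apply hsx
  have h3 := congrArg y h2
  simpa using h3

include h5 hu in
theorem semiregular {s : Perm α} (hs : s ∈ (T : Subgroup (Perm α)) ⊓ alternatingGroup α)
    {x : α} (hx : x ≠ u) (hsx : s x = x) : s = 1 := by
  obtain ⟨hsT, hsA⟩ := Subgroup.mem_inf.mp hs
  obtain ⟨τ₁, hτ₁, τ₂, hτ₂, hne, hτ₁x⟩ := exists_swaps h5 hu hx
  have hconj : s * τ₁ * s⁻¹ ∈ Tr (T : Subgroup (Perm α)) :=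
    (conj_mem_Tr (Subgroup.le_normalizer hsT) τ₁).mp hτ₁
  have hmov : (s * τ₁ * s⁻¹) x ≠ x := by
    simp only [Perm.mul_apply]
    have e : s⁻¹ x = x := by
      rw [Perm.inv_eq_iff_eq, hsx]
    rw [e]
    intro h
    apply hτ₁x
    have := congrArg (fun z => s⁻¹ z) h
    simpa [e] using this
  have heq : s * τ₁ * s⁻¹ = τ₁ := eq_of_moves T.isPGroup' hconj hτ₁ x hmov hτ₁x
  have hcomm : s * τ₁ = τ₁ * s := by
    calc s * τ₁ = (s * τ₁ * s⁻¹) * s := by group
      _ = τ₁ * s := by rw [heq]
  have hsx' : s (τ₁ x) = τ₁ x := by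
    have := congrArg (fun f : Perm α => f x) hcomm
    simp only [Perm.mul_apply] at this
    rw [this, hsx]
  have hτ₁u : τ₁ u = u := hu τ₁ hτ₁.2
  have hx'u : τ₁ x ≠ u := by
    intro h
    have := congrArg τ₁ h
    rw [isSwap_apply_apply hτ₁.1, hτ₁u] at this
    exact hx this
  exact eq_one_of_three_fixed h5 (mem_alternatingGroup.mp hsA) hx (fun h => hτ₁x h.symm)
    hx'u.symm hsx (hu s hsT) hsx'

end facts

section counting

variable (h5 : Fintype.card α = 5)

include h5 in
theorem card_alt : Nat.card ↥(alternatingGroup α) = 60 := by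
  haveI : Nontrivial α := Fintype.one_lt_card_iff_nontrivial.mp (by omega)
  rw [nat_card_alternatingGroup, Nat.card_eq_fintype_card, h5]
  rfl

include h5 in
theorem card_stab (u : α) :
    Nat.card ↥(MulAction.stabilizer ↥(alternatingGroup α) u) = 12 := by
  have horb : MulAction.orbit ↥(alternatingGroup α) u = Set.univ := by
    ext v
    simp only [Set.mem_univ, iff_true]
    by_cases hvu : v = u
    · subst hvu
      exact MulAction.mem_orbit_self _
    · have hlt : ({u, v} : Finset α).card < (Finset.univ : Finset α).card := by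
        rw [Finset.card_univ, h5]
        exact lt_of_le_of_lt (Finset.card_le_two) (by norm_num)
      obtain ⟨w, _, hw⟩ := Finset.exists_mem_notMem_of_card_lt_card hlt
      simp only [Finset.mem_insert, Finset.mem_singleton, not_or] at hw
      obtain ⟨hwu, hwv⟩ := hw
      have hmem : swap u v * swap v w ∈ alternatingGroup α := by
        rw [mem_alternatingGroup, Perm.sign_mul, sign_swap (Ne.symm hvu),
          sign_swap (Ne.symm hwv)]
        decide
      refine ⟨⟨swap u v * swap v w, hmem⟩, ?_⟩
      show (swap u v * swap v w) u = v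
      rw [Perm.mul_apply, swap_apply_of_ne_of_ne (Ne.symm hvu) (Ne.symm hwu), swap_apply_left]
  have hidx := MulAction.index_stabilizer ↥(alternatingGroup α) u
  rw [horb, Set.ncard_univ, Nat.card_eq_fintype_card, h5] at hidx
  have := Subgroup.card_mul_index (MulAction.stabilizer ↥(alternatingGroup α) u)
  rw [hidx, card_alt h5] at this
  omega

include h5 in
theorem index_ne_three (K : Subgroup ↥(alternatingGroup α)) : K.index ≠ 3 := by
  intro h3
  haveI := alternatingGroup.isSimpleGroup (α := α) (by rw [Nat.card_eq_fintype_card]; omega)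
  rcases IsSimpleGroup.eq_bot_or_eq_top_of_normal K.normalCore inferInstance with h | h
  · have hinj : Function.Injective
        (MulAction.toPermHom ↥(alternatingGroup α) (↥(alternatingGroup α) ⧸ K)) := by
      rw [← MonoidHom.ker_eq_bot_iff, ← Subgroup.normalCore_eq_ker, h]
    have hle := Nat.card_le_card_of_injective _ hinj
    have hq : Nat.card (↥(alternatingGroup α) ⧸ K) = 3 := h3
    rw [card_alt h5, Nat.card_perm, hq] at hle
    norm_num [Nat.factorial] at hle
  · have : K = ⊤ := top_le_iff.mp (h ▸ Subgroup.normalCore_le K)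
    rw [this, Subgroup.index_top] at h3
    omega

end counting

section main

open Cfsg.Agent.Helper19

theorem factorization_sixty : (60 : ℕ).factorization 2 = 2 := by
  apply le_antisymm
  · by_contra hlt
    push Not at hlt
    have : 2 ^ 3 ∣ 60 := (Nat.prime_two.pow_dvd_iff_le_factorization (by norm_num)).mpr hlt
    norm_num at this
  · exact (Nat.prime_two.pow_dvd_iff_le_factorization (by norm_num)).mp (by norm_num)

/-- normalizing elements of a subgroup of the alternating group normalize its image in the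
symmetric group -/
theorem coe_mem_normalizer_map {S : Subgroup ↥(alternatingGroup α)} {x : ↥(alternatingGroup α)}
    (hx : x ∈ Subgroup.normalizer (S : Set ↥(alternatingGroup α))) :
    x.1 ∈ Subgroup.normalizer
      ((S.map (alternatingGroup α).subtype : Subgroup (Perm α)) : Set (Perm α)) := by
  rw [Subgroup.mem_normalizer_iff]
  intro h
  constructor
  · rintro ⟨s, hs, rfl⟩
    exact ⟨x * s * x⁻¹, (Subgroup.mem_normalizer_iff.mp hx s).mp hs, rfl⟩
  · rintro ⟨s', hs', hs'eq⟩
    refine ⟨x⁻¹ * s' * x, (Subgroup.mem_normalizer_iff''.mp hx s').mp hs', ?_⟩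
    simp only [Subgroup.subtype_apply, Subgroup.coe_mul, Subgroup.coe_inv] at hs'eq ⊢
    rw [hs'eq]
    group

variable (h5 : Fintype.card α = 5)

include h5 in
/-- in the alternating group of degree `5`, the normalizer of a Sylow `2`-subgroup normalizes
every subgroup of odd index containing it -/
theorem map_conj_eq_of_card_five (H : Subgroup ↥(alternatingGroup α)) (hH : Odd H.index)
    (S : Sylow 2 ↥(alternatingGroup α)) (hSH : (S : Subgroup ↥(alternatingGroup α)) ≤ H)
    (g : ↥(alternatingGroup α))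
    (hg : g ∈ Subgroup.normalizer ((S : Subgroup ↥(alternatingGroup α)) :
      Set ↥(alternatingGroup α))) :
    H.map (MulAut.conj g).toMonoidHom = H := by
  haveI : Fact (Nat.Prime 2) := ⟨Nat.prime_two⟩
  have hG := card_alt h5
  have hmul := Subgroup.card_mul_index H
  rw [hG] at hmul
  have hS4 : Nat.card ↥(S : Subgroup ↥(alternatingGroup α)) = 4 := by
    rw [S.card_eq_multiplicity, hG, factorization_sixty]
    norm_num
  obtain ⟨T, hT⟩ := (S.isPGroup'.map (alternatingGroup α).subtype).exists_le_sylow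
  have hTA := inf_alternating_eq_map S T hT
  obtain ⟨u, hu⟩ := exists_fixed h5 T
  have hgu : g.1 u = u := normalizer_fixes h5 hu (by rw [hTA]; exact coe_mem_normalizer_map hg)
  obtain ⟨k, hk⟩ := hH
  have hidx : H.index = 1 ∨ H.index = 3 ∨ H.index = 5 ∨ H.index = 15 := by
    rw [hk] at hmul ⊢
    have hk29 : k ≤ 29 := by
      by_contra hcon
      push Not at hcon
      have h0 : Nat.card ↥H ≠ 0 := Nat.card_pos.ne'
      have : 1 ≤ Nat.card ↥H := Nat.one_le_iff_ne_zero.mpr h0
      nlinarith
    interval_cases k <;> omega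
  rcases hidx with h | h | h | h
  · have htop : H = ⊤ := Subgroup.index_eq_one.mp h
    exact map_conj_eq_self_of_mem H g (htop ▸ Subgroup.mem_top g)
  · exact absurd h (index_ne_three h5 H)
  · have hc : Nat.card ↥H = 12 := by rw [h] at hmul; omega
    have hfix : ∀ h ∈ H, h.1 u = u := by
      by_contra hcon
      push Not at hcon
      obtain ⟨h0, hh0, hv⟩ := hcon
      let f : ↥(S : Subgroup ↥(alternatingGroup α)) → α := fun s => s.1.1 (h0.1 u)
      have hf : Function.Injective f := by
        intro s s' hss'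
        have hss'' : s.1.1 (h0.1 u) = s'.1.1 (h0.1 u) := hss'
        have h1 : ((s⁻¹ * s').1.1 : Perm α) (h0.1 u) = h0.1 u := by
          simp only [Subgroup.coe_mul, Subgroup.coe_inv, Perm.mul_apply]
          rw [← hss'']
          simp
        have hmem : ((s⁻¹ * s').1.1 : Perm α) ∈
            (T : Subgroup (Perm α)) ⊓ alternatingGroup α := by
          rw [hTA]
          exact ⟨(s⁻¹ * s').1, (s⁻¹ * s').2, rfl⟩
        have h2 := semiregular h5 hu hmem hv h1
        have h3 : s⁻¹ * s' = 1 := by
          apply Subtype.ext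
          apply Subtype.ext
          exact h2
        exact inv_mul_eq_one.mp h3
      have hrange : Set.range f ⊆ MulAction.orbit ↥H u := by
        rintro _ ⟨s, rfl⟩
        exact ⟨⟨s.1, hSH s.2⟩ * ⟨h0, hh0⟩, rfl⟩
      have hu_not : u ∉ Set.range f := by
        rintro ⟨s, hs⟩
        have hsu : s.1.1 u = u := hu _ (hT ⟨s.1, s.2, rfl⟩)
        apply hv
        have hs' : s.1.1 (h0.1 u) = u := hs
        exact s.1.1.injective (hs'.trans hsu.symm)
      have hcard_range : (Set.range f).ncard = 4 := by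
        rw [← Set.image_univ, Set.ncard_image_of_injective _ hf, Set.ncard_univ, hS4]
      have hins : insert u (Set.range f) ⊆ MulAction.orbit ↥H u :=
        Set.insert_subset (MulAction.mem_orbit_self u) hrange
      have h5le : 5 ≤ (MulAction.orbit ↥H u).ncard := by
        calc 5 = (insert u (Set.range f)).ncard := by
              rw [Set.ncard_insert_of_notMem hu_not, hcard_range]
          _ ≤ _ := Set.ncard_le_ncard hins (Set.toFinite _)
      have hle5 : (MulAction.orbit ↥H u).ncard ≤ 5 := by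
        calc _ ≤ (Set.univ : Set α).ncard :=
              Set.ncard_le_ncard (Set.subset_univ _) (Set.toFinite _)
          _ = 5 := by rw [Set.ncard_univ, Nat.card_eq_fintype_card, h5]
      have h5eq : (MulAction.orbit ↥H u).ncard = 5 := le_antisymm hle5 h5le
      have hidx := MulAction.index_stabilizer ↥H u
      rw [h5eq] at hidx
      have hdvd : 5 ∣ Nat.card ↥H := hidx ▸ Subgroup.index_dvd_card _
      rw [hc] at hdvd
      omega
    have hle : H ≤ MulAction.stabilizer ↥(alternatingGroup α) u := fun h hh => hfix h hh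
    have heq : H = MulAction.stabilizer ↥(alternatingGroup α) u :=
      Subgroup.eq_of_le_of_card_ge hle (by rw [card_stab h5 u, hc])
    apply map_conj_eq_self_of_mem
    rw [heq]
    exact hgu
  · have hc : Nat.card ↥H = 4 := by rw [h] at hmul; omega
    have heq : (S : Subgroup ↥(alternatingGroup α)) = H :=
      Subgroup.eq_of_le_of_card_ge hSH (by rw [hc, hS4])
    rw [← heq]
    exact (mem_normalizer_iff_map_conj _ g).mp hg

end main

end Cfsg.Agent.Helper21.SylowAlt5
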