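import Mathlib
import Cfsg.Agent.Lib.Helper26.TIDefs2

/-!
# S1786 piece TI-BRALG (core): the bridge from the group configuration `Cfg8` to the algebra statement
`alg_field_of_inverse_additive` (taken here as the hypothesis `hALG`), with the two "inverse maps are additive"
statements (`Cfg8.invAdd` for the configuration and for the configuration with `A`, `U` exchanged) as hypotheses.
-/

set_option autoImplicit false
set_option linter.style.haveILetI false

namespace Cfsg.Agent.Helper26.TI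

universe u

variable {G : Type u} [Group G]

/-- elements of a conjugate of `V` commute and square to one -/
theorem ti_bralg_base_cj {V : Subgroup G} (hB : Base V) (k : G) :
    (∀ x ∈ cj k V, ∀ y ∈ cj k V, x * y = y * x) ∧ (∀ x ∈ cj k V, x * x = 1) := by
  constructor
  · intro x hx y hy
    obtain ⟨v, hv, rfl⟩ := mem_cj.1 hx
    obtain ⟨w, hw, rfl⟩ := mem_cj.1 hy
    have := hB.comm v hv w hw
    calc k * v * k⁻¹ * (k * w * k⁻¹) = k * (v * w) * k⁻¹ := by group
      _ = k * (w * v) * k⁻¹ := by rw [this]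
      _ = _ := by group
  · intro x hx
    obtain ⟨v, hv, rfl⟩ := mem_cj.1 hx
    have := hB.sq v hv
    calc k * v * k⁻¹ * (k * v * k⁻¹) = k * (v * v) * k⁻¹ := by group
      _ = 1 := by rw [this]; group

theorem ti_bralg_comm_mul_left {V P : Subgroup G} (L : Loc V P) {x y z : G} (hx : x ∈ P)
    (hy : y ∈ P) (hz : z ∈ P) :
    (x * y) * z * (x * y)⁻¹ * z⁻¹ = (x * z * x⁻¹ * z⁻¹) * (y * z * y⁻¹ * z⁻¹) := by
  have hc := L.comm y hy z hz
  have h1 := L.cent x hx _ hc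
  have h2 : (x * y) * z * (x * y)⁻¹ * z⁻¹ = x * (y * z * y⁻¹ * z⁻¹) * z * x⁻¹ * z⁻¹ := by group
  rw [h2, h1]
  have hd := L.comm x hx z hz
  have h3 := L.base.comm _ hc _ hd
  calc (y * z * y⁻¹ * z⁻¹) * x * z * x⁻¹ * z⁻¹
      = (y * z * y⁻¹ * z⁻¹) * (x * z * x⁻¹ * z⁻¹) := by group
    _ = _ := h3

theorem ti_bralg_comm_mul_right {V P : Subgroup G} (L : Loc V P) {x y z : G} (hx : x ∈ P)
    (hy : y ∈ P) (hz : z ∈ P) :
    x * (y * z) * x⁻¹ * (y * z)⁻¹ = (x * y * x⁻¹ * y⁻¹) * (x * z * x⁻¹ * z⁻¹) := by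
  have hc := L.comm x hx z hz
  have h1 := L.cent y⁻¹ (P.inv_mem hy) _ hc
  have h2 : x * (y * z) * x⁻¹ * (y * z)⁻¹ = x * y * x⁻¹ * ((x * z * x⁻¹ * z⁻¹) * y⁻¹) := by group
  rw [h2, ← h1]; group

theorem ti_bralg_comm_symm {V P : Subgroup G} (L : Loc V P) {x y : G} (hx : x ∈ P) (hy : y ∈ P) :
    y * x * y⁻¹ * x⁻¹ = x * y * x⁻¹ * y⁻¹ := by
  have hc := L.comm x hx y hy
  have h1 := L.base.sq _ hc
  have h2 : y * x * y⁻¹ * x⁻¹ = (x * y * x⁻¹ * y⁻¹)⁻¹ := by group
  rw [h2]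
  exact inv_eq_of_mul_eq_one_left h1

theorem ti_bralg_core [Finite G] {V P A PA U U' : Subgroup G} (h : Cfg8 V P A PA U U')
    (hALG : ∀ (U₀ A₀ V₀ : Type u) [AddCommGroup U₀] [AddCommGroup A₀] [AddCommGroup V₀] [Finite V₀]
      [Nontrivial V₀], Nat.card U₀ = Nat.card V₀ → Nat.card A₀ = Nat.card V₀ →
      (∀ v : V₀, v + v = 0) →
      ∀ (β : U₀ →+ A₀ →+ V₀), (∀ u a, β u a = 0 → u = 0 ∨ a = 0) →
      (∀ u₁ u₂ : U₀, u₁ ≠ 0 → u₂ ≠ 0 →
        (∀ a₁ a₂ : A₀, β u₁ a₁ = β u₂ a₂ → a₁ + a₂ = 0) ∨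
        (∃ u₃ : U₀, ∀ a₁ a₂ : A₀, β u₁ a₁ = β u₂ a₂ → β u₃ (a₁ + a₂) = β u₁ a₁)) →
      (∀ a₁ a₂ : A₀, a₁ ≠ 0 → a₂ ≠ 0 →
        (∀ u₁ u₂ : U₀, β u₁ a₁ = β u₂ a₂ → u₁ + u₂ = 0) ∨
        (∃ a₃ : A₀, ∀ u₁ u₂ : U₀, β u₁ a₁ = β u₂ a₂ → β (u₁ + u₂) a₃ = β u₁ a₁)) →
      ∃ (F : Type) (_ : Field F) (_ : Fintype F) (eU : U₀ ≃+ F) (eA : A₀ ≃+ F) (eV : V₀ ≃+ F),
        ∀ u a, eV (β u a) = eU u * eA a)
    (hinvA : ∀ u₁ ∈ U, u₁ ≠ 1 → ∀ u₂ ∈ U, u₂ ≠ 1 →
      (∀ a₁ ∈ A, ∀ a₂ ∈ A, u₁ * a₁ * u₁⁻¹ * a₁⁻¹ = u₂ * a₂ * u₂⁻¹ * a₂⁻¹ → a₁ * a₂ = 1) ∨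
      (∃ u₃ ∈ U, ∀ a₁ ∈ A, ∀ a₂ ∈ A, u₁ * a₁ * u₁⁻¹ * a₁⁻¹ = u₂ * a₂ * u₂⁻¹ * a₂⁻¹ →
        u₃ * (a₁ * a₂) * u₃⁻¹ * (a₁ * a₂)⁻¹ = u₁ * a₁ * u₁⁻¹ * a₁⁻¹))
    (hinvU : ∀ a₁ ∈ A, a₁ ≠ 1 → ∀ a₂ ∈ A, a₂ ≠ 1 →
      (∀ u₁ ∈ U, ∀ u₂ ∈ U, a₁ * u₁ * a₁⁻¹ * u₁⁻¹ = a₂ * u₂ * a₂⁻¹ * u₂⁻¹ → u₁ * u₂ = 1) ∨
      (∃ a₃ ∈ A, ∀ u₁ ∈ U, ∀ u₂ ∈ U, a₁ * u₁ * a₁⁻¹ * u₁⁻¹ = a₂ * u₂ * a₂⁻¹ * u₂⁻¹ →
        a₃ * (u₁ * u₂) * a₃⁻¹ * (u₁ * u₂)⁻¹ = a₁ * u₁ * a₁⁻¹ * u₁⁻¹)) :
    ∃ (F : Type) (_ : Field F) (_ : Fintype F) (eU : ↥U ≃* Multiplicative F)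
      (eA : ↥A ≃* Multiplicative F) (eV : ↥V ≃* Multiplicative F), ∀ (u : ↥U) (a : ↥A) (v : ↥V),
        (u : G) * (a : G) * (u : G)⁻¹ * (a : G)⁻¹ = (v : G) →
          Multiplicative.toAdd (eV v) = Multiplicative.toAdd (eU u) * Multiplicative.toAdd (eA a) := by
  classical
  have L := h.left.loc
  have hUP := h.left.U_le
  have hAP := h.left.le
  obtain ⟨g, hAg, -⟩ := h.left.conj
  obtain ⟨k, hUk⟩ := h.left.conjU
  have hVc := L.base.comm
  have hVs := L.base.sq
  obtain ⟨hAc, hAs⟩ : (∀ x ∈ A, ∀ y ∈ A, x * y = y * x) ∧ (∀ x ∈ A, x * x = 1) := by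
    rw [hAg]; exact ti_bralg_base_cj L.base g
  obtain ⟨hUc, hUs⟩ : (∀ x ∈ U, ∀ y ∈ U, x * y = y * x) ∧ (∀ x ∈ U, x * x = 1) := by
    rw [hUk]; exact ti_bralg_base_cj L.base k
  letI iU : AddCommGroup (Additive ↥U) :=
    { (inferInstance : AddGroup (Additive ↥U)) with
      add_comm := fun a b => by
        show Additive.ofMul (Additive.toMul a * Additive.toMul b) =
          Additive.ofMul (Additive.toMul b * Additive.toMul a)
        congr 1
        exact Subtype.ext (hUc _ (Additive.toMul a).2 _ (Additive.toMul b).2) }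
  letI iA : AddCommGroup (Additive ↥A) :=
    { (inferInstance : AddGroup (Additive ↥A)) with
      add_comm := fun a b => by
        show Additive.ofMul (Additive.toMul a * Additive.toMul b) =
          Additive.ofMul (Additive.toMul b * Additive.toMul a)
        congr 1
        exact Subtype.ext (hAc _ (Additive.toMul a).2 _ (Additive.toMul b).2) }
  letI iV : AddCommGroup (Additive ↥V) :=
    { (inferInstance : AddGroup (Additive ↥V)) with
      add_comm := fun a b => by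
        show Additive.ofMul (Additive.toMul a * Additive.toMul b) =
          Additive.ofMul (Additive.toMul b * Additive.toMul a)
        congr 1
        exact Subtype.ext (hVc _ (Additive.toMul a).2 _ (Additive.toMul b).2) }
  -- the commutator as an element of `V`
  let c : ↥U → ↥A → ↥V := fun x a =>
    ⟨(x : G) * (a : G) * (x : G)⁻¹ * (a : G)⁻¹, L.comm _ (hUP x.2) _ (hAP a.2)⟩
  have hc_left : ∀ (x y : ↥U) (a : ↥A), c (x * y) a = c x a * c y a := by
    intro x y a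
    apply Subtype.ext
    exact ti_bralg_comm_mul_left L (hUP x.2) (hUP y.2) (hAP a.2)
  have hc_right : ∀ (x : ↥U) (a b : ↥A), c x (a * b) = c x a * c x b := by
    intro x a b
    apply Subtype.ext
    exact ti_bralg_comm_mul_right L (hUP x.2) (hAP a.2) (hAP b.2)
  let β : Additive ↥U →+ Additive ↥A →+ Additive ↥V :=
    AddMonoidHom.mk' (fun x => AddMonoidHom.mk'
      (fun a => Additive.ofMul (c (Additive.toMul x) (Additive.toMul a)))
      (fun a b => by
        show Additive.ofMul (c (Additive.toMul x) (Additive.toMul a * Additive.toMul b)) = _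
        rw [hc_right]; rfl))
      (fun x y => by
        refine AddMonoidHom.ext fun a => ?_
        show Additive.ofMul (c (Additive.toMul x * Additive.toMul y) (Additive.toMul a)) =
          Additive.ofMul (c (Additive.toMul x) (Additive.toMul a)) +
            Additive.ofMul (c (Additive.toMul y) (Additive.toMul a))
        rw [hc_left]; rfl)
  have hβ : ∀ (x : ↥U) (a : ↥A), β (Additive.ofMul x) (Additive.ofMul a) = Additive.ofMul (c x a) :=
    fun x a => rfl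
  -- nontriviality of `V`
  have hV1 : ∃ v ∈ V, v ≠ 1 := by
    by_contra hcon
    push Not at hcon
    have hVbot : V = ⊥ := by
      rw [eq_bot_iff]; intro v hv; rw [Subgroup.mem_bot]; exact hcon v hv
    apply h.left.ne
    rw [hAg, hVbot, cj_bot]
  haveI : Nontrivial (Additive ↥V) := by
    obtain ⟨v, hv, hv1⟩ := hV1
    refine ⟨⟨Additive.ofMul ⟨v, hv⟩, 0, ?_⟩⟩
    intro h0
    apply hv1
    have : (⟨v, hv⟩ : ↥V) = 1 := h0
    exact congrArg Subtype.val this
  have hcardU : Nat.card (Additive ↥U) = Nat.card (Additive ↥V) := by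
    rw [Nat.card_congr Additive.toMul, Nat.card_congr (Additive.toMul (α := ↥V)), hUk, card_cj]
  have hcardA : Nat.card (Additive ↥A) = Nat.card (Additive ↥V) := by
    rw [Nat.card_congr Additive.toMul, Nat.card_congr (Additive.toMul (α := ↥V)), hAg, card_cj]
  have h2 : ∀ v : Additive ↥V, v + v = 0 := by
    intro v
    show Additive.ofMul (Additive.toMul v * Additive.toMul v) = Additive.ofMul 1
    congr 1
    exact Subtype.ext (hVs _ (Additive.toMul v).2)
  have hnd : ∀ x a, β x a = 0 → x = 0 ∨ a = 0 := by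
    intro x a hxa
    by_contra hcon
    push Not at hcon
    obtain ⟨hx0, ha0⟩ := hcon
    have hx1 : ((Additive.toMul x : ↥U) : G) ≠ 1 := by
      intro h1
      apply hx0
      have : (Additive.toMul x : ↥U) = 1 := Subtype.ext h1
      exact this
    have ha1 : ((Additive.toMul a : ↥A) : G) ≠ 1 := by
      intro h1
      apply ha0
      have : (Additive.toMul a : ↥A) = 1 := Subtype.ext h1
      exact this
    have hne := h.left.U_nc _ (Additive.toMul x).2 hx1 _ (Additive.toMul a).2 ha1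
    apply hne
    have h3 : c (Additive.toMul x) (Additive.toMul a) = 1 := hxa
    have h4 := congrArg Subtype.val h3
    simp only [c, Subgroup.coe_one] at h4
    calc ((Additive.toMul x : ↥U) : G) * ((Additive.toMul a : ↥A) : G)
        = (((Additive.toMul x : ↥U) : G) * ((Additive.toMul a : ↥A) : G) *
            ((Additive.toMul x : ↥U) : G)⁻¹ * ((Additive.toMul a : ↥A) : G)⁻¹) *
            (((Additive.toMul a : ↥A) : G) * ((Additive.toMul x : ↥U) : G)) := by group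
      _ = _ := by rw [h4, one_mul]
  have hA' : ∀ x₁ x₂ : Additive ↥U, x₁ ≠ 0 → x₂ ≠ 0 →
      (∀ a₁ a₂ : Additive ↥A, β x₁ a₁ = β x₂ a₂ → a₁ + a₂ = 0) ∨
      (∃ x₃ : Additive ↥U, ∀ a₁ a₂ : Additive ↥A, β x₁ a₁ = β x₂ a₂ →
        β x₃ (a₁ + a₂) = β x₁ a₁) := by
    intro x₁ x₂ hx₁ hx₂
    have hx₁' : ((Additive.toMul x₁ : ↥U) : G) ≠ 1 := by
      intro h1; apply hx₁
      have : (Additive.toMul x₁ : ↥U) = 1 := Subtype.ext h1
      exact this
    have hx₂' : ((Additive.toMul x₂ : ↥U) : G) ≠ 1 := by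
      intro h1; apply hx₂
      have : (Additive.toMul x₂ : ↥U) = 1 := Subtype.ext h1
      exact this
    rcases hinvA _ (Additive.toMul x₁).2 hx₁' _ (Additive.toMul x₂).2 hx₂' with h1 | ⟨u₃, hu₃, h3⟩
    · left
      intro a₁ a₂ hb
      have hb' : c (Additive.toMul x₁) (Additive.toMul a₁) = c (Additive.toMul x₂) (Additive.toMul a₂) := hb
      have := h1 _ (Additive.toMul a₁).2 _ (Additive.toMul a₂).2 (congrArg Subtype.val hb')
      show Additive.ofMul (Additive.toMul a₁ * Additive.toMul a₂) = Additive.ofMul 1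
      congr 1
      exact Subtype.ext this
    · right
      refine ⟨Additive.ofMul ⟨u₃, hu₃⟩, ?_⟩
      intro a₁ a₂ hb
      have hb' : c (Additive.toMul x₁) (Additive.toMul a₁) = c (Additive.toMul x₂) (Additive.toMul a₂) := hb
      have := h3 _ (Additive.toMul a₁).2 _ (Additive.toMul a₂).2 (congrArg Subtype.val hb')
      show Additive.ofMul (c ⟨u₃, hu₃⟩ (Additive.toMul a₁ * Additive.toMul a₂)) =
        Additive.ofMul (c (Additive.toMul x₁) (Additive.toMul a₁))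
      congr 1
      exact Subtype.ext this
  have hU' : ∀ a₁ a₂ : Additive ↥A, a₁ ≠ 0 → a₂ ≠ 0 →
      (∀ x₁ x₂ : Additive ↥U, β x₁ a₁ = β x₂ a₂ → x₁ + x₂ = 0) ∨
      (∃ a₃ : Additive ↥A, ∀ x₁ x₂ : Additive ↥U, β x₁ a₁ = β x₂ a₂ →
        β (x₁ + x₂) a₃ = β x₁ a₁) := by
    intro a₁ a₂ ha₁ ha₂
    have ha₁' : ((Additive.toMul a₁ : ↥A) : G) ≠ 1 := by
      intro h1; apply ha₁
      have : (Additive.toMul a₁ : ↥A) = 1 := Subtype.ext h1
      exact this
    have ha₂' : ((Additive.toMul a₂ : ↥A) : G) ≠ 1 := by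
      intro h1; apply ha₂
      have : (Additive.toMul a₂ : ↥A) = 1 := Subtype.ext h1
      exact this
    have hsym : ∀ (x : ↥U) (a : ↥A), (a : G) * (x : G) * (a : G)⁻¹ * (x : G)⁻¹ = ((c x a : ↥V) : G) :=
      fun x a => ti_bralg_comm_symm L (hUP x.2) (hAP a.2)
    rcases hinvU _ (Additive.toMul a₁).2 ha₁' _ (Additive.toMul a₂).2 ha₂' with h1 | ⟨a₃, ha₃, h3⟩
    · left
      intro x₁ x₂ hb
      have hb' : c (Additive.toMul x₁) (Additive.toMul a₁) = c (Additive.toMul x₂) (Additive.toMul a₂) := hb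
      have := h1 _ (Additive.toMul x₁).2 _ (Additive.toMul x₂).2
        (by rw [hsym, hsym, hb'])
      show Additive.ofMul (Additive.toMul x₁ * Additive.toMul x₂) = Additive.ofMul 1
      congr 1
      exact Subtype.ext this
    · right
      refine ⟨Additive.ofMul ⟨a₃, ha₃⟩, ?_⟩
      intro x₁ x₂ hb
      have hb' : c (Additive.toMul x₁) (Additive.toMul a₁) = c (Additive.toMul x₂) (Additive.toMul a₂) := hb
      have := h3 _ (Additive.toMul x₁).2 _ (Additive.toMul x₂).2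
        (by rw [hsym, hsym, hb'])
      show Additive.ofMul (c (Additive.toMul x₁ * Additive.toMul x₂) ⟨a₃, ha₃⟩) =
        Additive.ofMul (c (Additive.toMul x₁) (Additive.toMul a₁))
      congr 1
      apply Subtype.ext
      rw [← hsym (Additive.toMul x₁) (Additive.toMul a₁), ← this]
      exact (hsym (Additive.toMul x₁ * Additive.toMul x₂) ⟨a₃, ha₃⟩).symm
  obtain ⟨F, iF, iFt, eU₀, eA₀, eV₀, hmul⟩ :=
    hALG (Additive ↥U) (Additive ↥A) (Additive ↥V) hcardU hcardA h2 β hnd hA' hU'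
  refine ⟨F, iF, iFt,
    { toFun := fun x => Multiplicative.ofAdd (eU₀ (Additive.ofMul x))
      invFun := fun f => Additive.toMul (eU₀.symm (Multiplicative.toAdd f))
      left_inv := fun x => by simp
      right_inv := fun f => by simp
      map_mul' := fun x y => by
        have : (Additive.ofMul (x * y) : Additive ↥U) = Additive.ofMul x + Additive.ofMul y := rfl
        rw [this, map_add]; rfl },
    { toFun := fun x => Multiplicative.ofAdd (eA₀ (Additive.ofMul x))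
      invFun := fun f => Additive.toMul (eA₀.symm (Multiplicative.toAdd f))
      left_inv := fun x => by simp
      right_inv := fun f => by simp
      map_mul' := fun x y => by
        have : (Additive.ofMul (x * y) : Additive ↥A) = Additive.ofMul x + Additive.ofMul y := rfl
        rw [this, map_add]; rfl },
    { toFun := fun x => Multiplicative.ofAdd (eV₀ (Additive.ofMul x))
      invFun := fun f => Additive.toMul (eV₀.symm (Multiplicative.toAdd f))
      left_inv := fun x => by simp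
      right_inv := fun f => by simp
      map_mul' := fun x y => by
        have : (Additive.ofMul (x * y) : Additive ↥V) = Additive.ofMul x + Additive.ofMul y := rfl
        rw [this, map_add]; rfl }, ?_⟩
  intro x a v hxav
  have hv : v = c x a := Subtype.ext hxav.symm
  show eV₀ (Additive.ofMul v) = eU₀ (Additive.ofMul x) * eA₀ (Additive.ofMul a)
  rw [hv, ← hβ, hmul]

end Cfsg.Agent.Helper26.TI
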