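import Mathlib
import Cfsg.Agent.Lib.Helper26.TIDefs2
import Cfsg.Agent.Lib.Helper21.TIBRALGCore
import Cfsg.Agent.Lib.Helper5.TIALGCore
import Cfsg.Agent.Lib.Helper23.TIALGLALT
import Cfsg.Agent.Lib.Helper1.TIINVADD
import Cfsg.Agent.Lib.Helper22.TIPHI1
import Cfsg.Agent.Lib.Helper4.TISYMCore
import Cfsg.Agent.Lib.Helper8.TIG5Bridge

/-!
# S1786 piece TI-BRALG: `Cfg8.field` (exact skeleton name and signature)
`ti_bralg_core` + the algebra theorem (`alg_field_core` with `alg_left_alt`) + `Cfg8.invAdd` for the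
configuration and for the configuration with `A`, `U` exchanged (`Cfg1.swapAU`, `tisym_cfg8_core`, `Cfg1.goalB`).
-/

set_option autoImplicit false

namespace Cfsg.Agent.Helper26.TI

variable {G : Type*} [Group G]

section Bridge
variable {V P A PA U U' : Subgroup G}

/-- TI-BRALG: the field from the algebra theorem. -/
theorem Cfg8.field [Finite G] (h : Cfg8 V P A PA U U') :
    ∃ (F : Type) (_ : Field F) (_ : Fintype F) (eU : ↥U ≃* Multiplicative F) (eA : ↥A ≃* Multiplicative F)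
      (eV : ↥V ≃* Multiplicative F), ∀ (u : ↥U) (a : ↥A) (v : ↥V),
        (u : G) * (a : G) * (u : G)⁻¹ * (a : G)⁻¹ = (v : G) →
          Multiplicative.toAdd (eV v) = Multiplicative.toAdd (eU u) * Multiplicative.toAdd (eA a) := by
  obtain ⟨PU, hsw⟩ := h.left.swapAU
  obtain ⟨U'', h8'⟩ := tisym_cfg8_core hsw hsw.goalB (fun hC => hC.exists_cfg1)
  exact ti_bralg_core h
    (fun U₀ A₀ V₀ _ _ _ _ _ hUV hAV h2 β hnd hA hU =>
      alg_field_core (fun h2' hnz hL => alg_left_alt h2' hnz hL) hUV hAV h2 β hnd hA hU)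
    (fun u₁ h1 h11 u₂ h2 h21 => h.invAdd h1 h11 h2 h21)
    (fun a₁ h1 h11 a₂ h2 h21 => h8'.invAdd h1 h11 h2 h21)
end Bridge

end Cfsg.Agent.Helper26.TI
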