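import Mathlib
import Cfsg.Agent.Lib.Helper26.TIDefs2
import Cfsg.Agent.Lib.Helper9.FrattiniElem
import Cfsg.Agent.S0012

/-!
# S1786 piece TI-QSTRUCT (core): `Phi(Q) = Z(Q) = [Q,Q] = V` for a subgroup `Q` with `Loc V Q`,
given two subgroups `A, U ≤ Q` such that the commutators `u a u⁻¹ a⁻¹` (`u ∈ U`) cover `V` for some `a ∈ A`.
-/

set_option autoImplicit false

namespace Cfsg.Agent.Helper26.TI

open scoped commutatorElement

variable {G : Type*} [Group G]

theorem ti_qstruct_center {V Q : Subgroup G} (hL : Loc V Q) :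
    (Subgroup.center ↥Q).map Q.subtype = V := by
  apply le_antisymm
  · rintro _ ⟨x, hx, rfl⟩
    apply hL.center _ x.2
    intro y hy
    have := (Subgroup.mem_center_iff.mp hx) ⟨y, hy⟩
    have h2 := congrArg Subtype.val this
    simpa using h2.symm
  · intro v hv
    refine ⟨⟨v, hL.V_le hv⟩, ?_, rfl⟩
    rw [SetLike.mem_coe, Subgroup.mem_center_iff]
    intro y
    apply Subtype.ext
    simpa using hL.cent y.1 y.2 v hv

theorem ti_qstruct_comm_le {V Q : Subgroup G} (hL : Loc V Q) :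
    (commutator ↥Q).map Q.subtype ≤ V := by
  rw [commutator_eq_closure, MonoidHom.map_closure, Subgroup.closure_le]
  rintro _ ⟨_, ⟨x, y, rfl⟩, rfl⟩
  have := hL.comm x.1 x.2 y.1 y.2
  simpa [commutatorElement_def] using this

theorem ti_qstruct_le_comm {V Q A U : Subgroup G} (hA : A ≤ Q) (hU : U ≤ Q)
    (hA1 : ∃ a ∈ A, a ≠ 1)
    (hsurj : ∀ a ∈ A, a ≠ 1 → ∀ v ∈ V, ∃ u ∈ U, u * a * u⁻¹ * a⁻¹ = v) :
    V ≤ (commutator ↥Q).map Q.subtype := by
  obtain ⟨a, ha, ha1⟩ := hA1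
  intro v hv
  obtain ⟨u, hu, huv⟩ := hsurj a ha ha1 v hv
  refine ⟨⁅(⟨u, hU hu⟩ : ↥Q), (⟨a, hA ha⟩ : ↥Q)⁆, ?_, ?_⟩
  · exact Subgroup.commutator_mem_commutator (Subgroup.mem_top _) (Subgroup.mem_top _)
  · simpa [commutatorElement_def] using huv

theorem ti_qstruct_frattini_le [Finite G] {V Q : Subgroup G} (hL : Loc V Q) :
    (frattini ↥Q).map Q.subtype ≤ V := by
  have : Fact (Nat.Prime 2) := ⟨Nat.prime_two⟩
  have hN : (V.subgroupOf Q).Normal := by
    constructor
    intro n hn g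
    rw [Subgroup.mem_subgroupOf] at hn ⊢
    have h1 := hL.cent g.1 g.2 n.1 hn
    have : ((g * n * g⁻¹ : ↥Q) : G) = n.1 := by
      simp only [Subgroup.coe_mul, Subgroup.coe_inv]
      rw [h1]; group
    rw [this]; exact hn
  have hker := Cfsg.Agent.Helper9.frattini_le_ker_of_elementary (p := 2)
    (QuotientGroup.mk' (V.subgroupOf Q)) ?_ ?_
  · rintro _ ⟨x, hx, rfl⟩
    have := hker hx
    rw [QuotientGroup.ker_mk', Subgroup.mem_subgroupOf] at this
    exact this
  · intro a b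
    induction a using QuotientGroup.induction_on with
    | H x =>
      induction b using QuotientGroup.induction_on with
      | H y =>
        rw [← QuotientGroup.mk_mul, ← QuotientGroup.mk_mul, QuotientGroup.eq,
          Subgroup.mem_subgroupOf]
        have h1 := hL.comm _ (Q.inv_mem x.2) _ (Q.inv_mem y.2)
        have : (((x * y)⁻¹ * (y * x) : ↥Q) : G) = y.1⁻¹ * x.1⁻¹ * (y.1⁻¹)⁻¹ * (x.1⁻¹)⁻¹ := by
          simp only [Subgroup.coe_mul, Subgroup.coe_inv]; group
        rw [this]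
        exact hL.comm _ (Q.inv_mem y.2) _ (Q.inv_mem x.2)
  · intro a
    induction a using QuotientGroup.induction_on with
    | H x =>
      rw [← QuotientGroup.mk_pow, QuotientGroup.eq_one_iff, Subgroup.mem_subgroupOf]
      have := hL.sq x.1 x.2
      simpa [pow_two] using this

theorem ti_qstruct_core [Finite G] {V Q A U : Subgroup G} (hL : Loc V Q) (hA : A ≤ Q) (hU : U ≤ Q)
    (hA1 : ∃ a ∈ A, a ≠ 1)
    (hsurj : ∀ a ∈ A, a ≠ 1 → ∀ v ∈ V, ∃ u ∈ U, u * a * u⁻¹ * a⁻¹ = v) :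
    (frattini ↥Q).map Q.subtype = V ∧ (Subgroup.center ↥Q).map Q.subtype = V ∧
      (commutator ↥Q).map Q.subtype = V := by
  have : Fact (Nat.Prime 2) := ⟨Nat.prime_two⟩
  have hc : (commutator ↥Q).map Q.subtype = V :=
    le_antisymm (ti_qstruct_comm_le hL) (ti_qstruct_le_comm hA hU hA1 hsurj)
  refine ⟨le_antisymm (ti_qstruct_frattini_le hL) ?_, ti_qstruct_center hL, hc⟩
  have hQ2 : IsPGroup 2 ↥Q := hL.pgrp
  have h12 := (Cfsg.Agent.S0012.result 2 hQ2).1
  calc V = (commutator ↥Q).map Q.subtype := hc.symm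
    _ ≤ (frattini ↥Q).map Q.subtype := Subgroup.map_mono h12

/-- a conjugate of `V` different from `V` has a nontrivial element. -/
theorem ti_qstruct_exists_ne_one {V A : Subgroup G} (hconj : ∃ g : G, A = cj g V) (hne : A ≠ V) :
    ∃ a ∈ A, a ≠ 1 := by
  by_contra hcon
  push Not at hcon
  obtain ⟨g, rfl⟩ := hconj
  apply hne
  have hbot : cj g V = ⊥ := by
    rw [eq_bot_iff]; intro a ha; rw [Subgroup.mem_bot]; exact hcon a ha
  have hV : V = ⊥ := by
    have h1 := cj_inv_cj g V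
    rw [hbot, cj_bot] at h1
    exact h1.symm
  rw [hbot, hV]

end Cfsg.Agent.Helper26.TI
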