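import Mathlib

/-!
# Groups all of whose 2-elements are 2-central (helper21)

If every 2-element of a finite group is centralized by some Sylow 2-subgroup, then the Sylow
2-subgroups are abelian (Camina--Herzog).  Elementary proof:

* a real 2-element is an involution, so involutions of a 2-subgroup commute;
* the involutions of a Sylow 2-subgroup are central in it (Sylow conjugacy in `⟨A, B⟩`);
* a second-centre argument.
-/

set_option autoImplicit false

namespace Cfsg.Agent.Helper21.TwoCentral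

open Subgroup

variable {G : Type*} [Group G]

/-- every 2-element is centralized by a Sylow 2-subgroup -/
def Hyp (G : Type*) [Group G] : Prop :=
  ∀ x : G, (∃ k : ℕ, orderOf x = 2 ^ k) →
    ∃ Q : Sylow 2 G, (Q : Subgroup G) ≤ centralizer ({x} : Set G)

/-- a subgroup containing a Sylow 2-subgroup contains every element normalizing it
whose `2^j`-th power lies in it -/
theorem mem_of_normalizer [Finite G] (C : Subgroup G) (Q : Sylow 2 G)
    (hQ : (Q : Subgroup G) ≤ C) (g : G) (hn : g ∈ normalizer (C : Set G)) (j : ℕ)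
    (hj : g ^ (2 ^ j) ∈ C) : g ∈ C := by
  have : Fact (Nat.Prime 2) := ⟨Nat.prime_two⟩
  have hCN : C ≤ normalizer (C : Set G) := le_normalizer
  let gq : ↥(normalizer (C : Set G)) ⧸ C.subgroupOf (normalizer (C : Set G)) :=
    QuotientGroup.mk ⟨g, hn⟩
  have h1 : gq ^ (2 ^ j) = 1 := by
    rw [← QuotientGroup.mk_pow, QuotientGroup.eq_one_iff, mem_subgroupOf]
    simpa using hj
  have h2 : orderOf gq ∣ 2 ^ j := orderOf_dvd_of_pow_eq_one h1
  have h3 : orderOf gq ∣ C.relIndex (normalizer (C : Set G)) := orderOf_dvd_natCard gq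
  have h5 : C.relIndex (normalizer (C : Set G)) ∣ (Q : Subgroup G).index :=
    (relIndex_dvd_index_of_le hCN).trans (index_dvd_of_le hQ)
  have h6 : ¬ 2 ∣ (Q : Subgroup G).index := Q.not_dvd_index
  have hcop : Nat.Coprime (2 ^ j) (Q : Subgroup G).index :=
    Nat.Coprime.pow_left _ ((Nat.Prime.coprime_iff_not_dvd Nat.prime_two).mpr h6)
  have h7 : orderOf gq = 1 :=
    Nat.Coprime.eq_one_of_dvd (Nat.Coprime.coprime_dvd_left h2 hcop) (h3.trans h5)
  rw [orderOf_eq_one_iff, QuotientGroup.eq_one_iff, mem_subgroupOf] at h7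
  exact h7

theorem two_elt_of_mem {R : Subgroup G} (hR : IsPGroup 2 R) {x : G} (hx : x ∈ R) :
    ∃ k : ℕ, orderOf x = 2 ^ k := by
  obtain ⟨k, hk⟩ := hR ⟨x, hx⟩
  have h1 : x ^ (2 ^ k) = 1 := by simpa using congrArg Subtype.val hk
  obtain ⟨j, _, hj⟩ := (Nat.dvd_prime_pow Nat.prime_two).mp (orderOf_dvd_of_pow_eq_one h1)
  exact ⟨j, hj⟩

theorem pow_eq_one_of_mem {R : Subgroup G} (hR : IsPGroup 2 R) {x : G} (hx : x ∈ R) :
    ∃ k : ℕ, x ^ (2 ^ k) = 1 := by
  obtain ⟨k, hk⟩ := hR ⟨x, hx⟩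
  exact ⟨k, by simpa using congrArg Subtype.val hk⟩

/-- if `g x g⁻¹ = x⁻¹` then `g` normalizes the centralizer of `x` -/
theorem mem_normalizer_of_inverts {g x : G} (h : g * x * g⁻¹ = x⁻¹) :
    g ∈ normalizer ((centralizer ({x} : Set G) : Subgroup G) : Set G) := by
  rw [mem_normalizer_iff]
  intro c
  rw [mem_centralizer_singleton_iff, mem_centralizer_singleton_iff]
  change Commute c x ↔ Commute (g * c * g⁻¹) x
  have e1 : Commute (g * c * g⁻¹) x ↔ Commute (g * c * g⁻¹) x⁻¹ := Commute.inv_right_iff.symm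
  rw [e1, ← h, Commute.conj_iff]

/-- involutions of a 2-subgroup commute -/
theorem comm_of_inv [Finite G] (hH : Hyp G) {R : Subgroup G} (hR : IsPGroup 2 R) {a b : G}
    (ha : a ∈ R) (hb : b ∈ R) (ha2 : a * a = 1) (hb2 : b * b = 1) : a * b = b * a := by
  obtain ⟨Q, hQ⟩ := hH (a * b) (two_elt_of_mem hR (R.mul_mem ha hb))
  have hainv : a⁻¹ = a := inv_eq_of_mul_eq_one_left ha2
  have hbinv : b⁻¹ = b := inv_eq_of_mul_eq_one_left hb2
  have hinv : a * (a * b) * a⁻¹ = (a * b)⁻¹ := by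
    rw [mul_inv_rev, hainv, hbinv, ← mul_assoc, ha2, one_mul]
  have hmem := mem_of_normalizer _ Q hQ a (mem_normalizer_of_inverts hinv) 1
    (by simp [pow_two, ha2])
  rw [mem_centralizer_singleton_iff] at hmem
  -- hmem : a * (a * b) = a * b * a
  rw [← mul_assoc, ha2, one_mul] at hmem
  -- hmem : b = a * b * a
  calc a * b = a * (a * b * a) := by rw [← hmem]
    _ = (a * a) * b * a := by group
    _ = b * a := by rw [ha2, one_mul]

/-- the set of elements of order at most two of a subgroup -/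
def Inv (R : Subgroup G) : Set G := {t | t ∈ R ∧ t * t = 1}

theorem smul_mem_iff {p : ℕ} (g t : G) (Q : Sylow p G) :
    t ∈ ((g • Q : Sylow p G) : Subgroup G) ↔ g⁻¹ * t * g ∈ (Q : Subgroup G) := by
  rw [Sylow.coe_subgroup_smul, Subgroup.mem_pointwise_smul_iff_inv_smul_mem, MulAut.smul_def,
    MulAut.conj_inv_apply]

theorem ncard_inv [Finite G] (Q R : Sylow 2 G) :
    (Inv (R : Subgroup G)).ncard = (Inv (Q : Subgroup G)).ncard := by
  have : Fact (Nat.Prime 2) := ⟨Nat.prime_two⟩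
  obtain ⟨g, hg⟩ := MulAction.exists_smul_eq G Q R
  have him : Inv (R : Subgroup G) = (fun t => g * t * g⁻¹) '' Inv (Q : Subgroup G) := by
    ext t
    constructor
    · rintro ⟨ht, ht2⟩
      refine ⟨g⁻¹ * t * g, ⟨?_, ?_⟩, ?_⟩
      · rw [← hg, smul_mem_iff] at ht
        exact ht
      · calc g⁻¹ * t * g * (g⁻¹ * t * g) = g⁻¹ * (t * t) * g := by group
          _ = 1 := by rw [ht2]; group
      · change g * (g⁻¹ * t * g) * g⁻¹ = t
        group
    · rintro ⟨t', ⟨ht', ht'2⟩, rfl⟩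
      refine ⟨?_, ?_⟩
      · rw [← hg, smul_mem_iff]
        have : g⁻¹ * (g * t' * g⁻¹) * g = t' := by group
        rw [this]
        exact ht'
      · calc g * t' * g⁻¹ * (g * t' * g⁻¹) = g * (t' * t') * g⁻¹ := by group
          _ = 1 := by rw [ht'2]; group
  rw [him]
  apply Set.ncard_image_of_injective
  intro t₁ t₂ h
  simpa using h

theorem inv_eq_of_subset [Finite G] (Q R : Sylow 2 G)
    (h : Inv (Q : Subgroup G) ⊆ (R : Subgroup G)) :
    Inv (R : Subgroup G) = Inv (Q : Subgroup G) := by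
  have hsub : Inv (Q : Subgroup G) ⊆ Inv (R : Subgroup G) := fun t ht => ⟨h ht, ht.2⟩
  exact (Set.eq_of_subset_of_ncard_le hsub (ncard_inv Q R).le (Set.toFinite _)).symm

/-- Sylow conjugacy inside a subgroup `K`, stated in `G` -/
theorem exists_conj_le [Finite G] {p : ℕ} [Fact p.Prime] (K A B : Subgroup G)
    (hA : IsPGroup p A) (hB : IsPGroup p B) (hAK : A ≤ K) (hBK : B ≤ K) :
    ∃ u ∈ K, ∃ P : Subgroup G, IsPGroup p P ∧ B ≤ P ∧ ∀ a ∈ A, u * a * u⁻¹ ∈ P := by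
  obtain ⟨PA, hPA⟩ := (hA.comap_subtype (K := K)).exists_le_sylow
  obtain ⟨PB, hPB⟩ := (hB.comap_subtype (K := K)).exists_le_sylow
  obtain ⟨u, hu⟩ := MulAction.exists_smul_eq ↥K PA PB
  refine ⟨u, u.2, (PB : Subgroup ↥K).map K.subtype, PB.2.map _, ?_, ?_⟩
  · intro b hb
    exact ⟨⟨b, hBK hb⟩, hPB (mem_subgroupOf.mpr hb), rfl⟩
  · intro a ha
    have h1 : (⟨a, hAK ha⟩ : ↥K) ∈ (PA : Subgroup ↥K) := hPA (mem_subgroupOf.mpr ha)
    have h2 : u * ⟨a, hAK ha⟩ * u⁻¹ ∈ (PB : Subgroup ↥K) := by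
      rw [← hu, smul_mem_iff]
      have : u⁻¹ * (u * ⟨a, hAK ha⟩ * u⁻¹) * u = ⟨a, hAK ha⟩ := by group
      rw [this]
      exact h1
    exact ⟨_, h2, rfl⟩

/-- a `2`-subgroup of a subgroup `K` containing a Sylow `2`-subgroup of `G` lies in a Sylow
`2`-subgroup of `G` contained in `K` -/
theorem exists_sylow_in [Finite G] (K D : Subgroup G) (Q₁ : Sylow 2 G)
    (hQ₁ : (Q₁ : Subgroup G) ≤ K) (hD : IsPGroup 2 D) (hDK : D ≤ K) :
    ∃ Q : Sylow 2 G, (Q : Subgroup G) ≤ K ∧ D ≤ (Q : Subgroup G) := by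
  have : Fact (Nat.Prime 2) := ⟨Nat.prime_two⟩
  obtain ⟨u, huK, P, hP, hQP, hconj⟩ := exists_conj_le K D (Q₁ : Subgroup G) hD Q₁.2 hDK hQ₁
  have hPQ : P = (Q₁ : Subgroup G) := Q₁.is_maximal' hP hQP
  refine ⟨u⁻¹ • Q₁, ?_, ?_⟩
  · intro t ht
    rw [smul_mem_iff, inv_inv] at ht
    have h1 : u * t * u⁻¹ ∈ K := hQ₁ ht
    have : t = u⁻¹ * (u * t * u⁻¹) * u := by group
    rw [this]
    exact K.mul_mem (K.mul_mem (K.inv_mem huK) h1) huK
  · intro d hd
    rw [smul_mem_iff, inv_inv, ← hPQ]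
    exact hconj d hd

/-- the key step: if `s²` centralizes the involutions of the Sylow `2`-subgroup `S ∋ s`,
so does `s` -/
theorem step4_core [Finite G] (hH : Hyp G) (S : Sylow 2 G) {s : G}
    (hs : s ∈ (S : Subgroup G))
    (hs2 : ∀ a ∈ Inv (S : Subgroup G), a * (s * s) = (s * s) * a) :
    ∀ a ∈ Inv (S : Subgroup G), a * s = s * a := by
  have : Fact (Nat.Prime 2) := ⟨Nat.prime_two⟩
  obtain ⟨Q₁, hQ₁⟩ := hH s (two_elt_of_mem S.2 hs)
  obtain ⟨Q, hQK, hDQ⟩ := exists_sylow_in (centralizer ({s} : Set G))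
    ((S : Subgroup G) ⊓ centralizer ({s} : Set G)) Q₁ hQ₁ (S.2.to_le inf_le_left) inf_le_right
  set A := Inv (S : Subgroup G) with hA
  set B := Inv (Q : Subgroup G) with hB
  set Y := closure (A ∪ B) with hY
  have hconjA : ∀ a ∈ A, s⁻¹ * a * s ∈ A := by
    intro a ha
    refine ⟨(S : Subgroup G).mul_mem ((S : Subgroup G).mul_mem ((S : Subgroup G).inv_mem hs) ha.1) hs, ?_⟩
    calc s⁻¹ * a * s * (s⁻¹ * a * s) = s⁻¹ * (a * a) * s := by group
      _ = 1 := by rw [ha.2]; group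
  have hcommA : ∀ a ∈ A, ∀ a' ∈ A, a * a' = a' * a :=
    fun a ha a' ha' => comm_of_inv hH S.2 ha.1 ha'.1 ha.2 ha'.2
  have hcommB : ∀ b ∈ B, ∀ b' ∈ B, b * b' = b' * b :=
    fun b hb b' hb' => comm_of_inv hH Q.2 hb.1 hb'.1 hb.2 hb'.2
  have hBs : ∀ b ∈ B, s⁻¹ * b * s = b := by
    intro b hb
    have h1 := hQK hb.1
    rw [mem_centralizer_singleton_iff] at h1
    rw [mul_assoc, h1, ← mul_assoc, inv_mul_cancel, one_mul]
  have hw : ∀ a ∈ A, a⁻¹ * (s⁻¹ * a * s) ∈ A ∧ a⁻¹ * (s⁻¹ * a * s) ∈ B := by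
    intro a ha
    have hainv : a⁻¹ = a := inv_eq_of_mul_eq_one_left ha.2
    have ha' := hconjA a ha
    have hc := hcommA a ha _ ha'
    have hwA : a⁻¹ * (s⁻¹ * a * s) ∈ A := by
      rw [hainv]
      refine ⟨(S : Subgroup G).mul_mem ha.1 ha'.1, ?_⟩
      calc a * (s⁻¹ * a * s) * (a * (s⁻¹ * a * s))
          = a * ((s⁻¹ * a * s) * a) * (s⁻¹ * a * s) := by group
        _ = a * (a * (s⁻¹ * a * s)) * (s⁻¹ * a * s) := by rw [← hc]
        _ = (a * a) * ((s⁻¹ * a * s) * (s⁻¹ * a * s)) := by group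
        _ = 1 := by rw [ha.2, ha'.2, one_mul]
    refine ⟨hwA, ?_, hwA.2⟩
    apply hDQ
    rw [Subgroup.mem_inf]
    refine ⟨hwA.1, ?_⟩
    rw [mem_centralizer_singleton_iff, hainv]
    have h2 := hs2 a ha
    calc a * (s⁻¹ * a * s) * s = a * (s⁻¹ * (a * (s * s))) := by group
      _ = a * (s⁻¹ * ((s * s) * a)) := by rw [h2]
      _ = s * (s⁻¹ * (a * (s * a))) := by group
      _ = s * (s⁻¹ * a * s * a) := by group
      _ = s * (a * (s⁻¹ * a * s)) := by rw [← hc]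
  have hwcent : ∀ a ∈ A, a⁻¹ * (s⁻¹ * a * s) ∈ centralizer (Y : Set G) := by
    intro a ha
    obtain ⟨hwA, hwB⟩ := hw a ha
    rw [mem_centralizer_iff]
    intro y hy
    have hle : Y ≤ centralizer ({a⁻¹ * (s⁻¹ * a * s)} : Set G) := by
      rw [hY, closure_le]
      rintro g (hg | hg)
      · rw [SetLike.mem_coe, mem_centralizer_singleton_iff]
        exact hcommA g hg _ hwA
      · rw [SetLike.mem_coe, mem_centralizer_singleton_iff]
        exact hcommB g hg _ hwB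
    have h1 := hle hy
    rw [mem_centralizer_singleton_iff] at h1
    exact h1
  have hstar : ∀ y ∈ Y, y⁻¹ * (s⁻¹ * y * s) ∈ centralizer (Y : Set G) := by
    intro y hy
    induction hy using closure_induction with
    | mem g hg =>
      rcases hg with hg | hg
      · exact hwcent g hg
      · rw [hBs g hg, inv_mul_cancel]
        exact one_mem _
    | one => simp
    | mul y y' hy hy' ihy ihy' =>
      have hc : y'⁻¹ * (y⁻¹ * (s⁻¹ * y * s)) = (y⁻¹ * (s⁻¹ * y * s)) * y'⁻¹ := by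
        rw [mem_centralizer_iff] at ihy
        exact ihy _ (inv_mem hy')
      have h1 : (y * y')⁻¹ * (s⁻¹ * (y * y') * s)
          = (y⁻¹ * (s⁻¹ * y * s)) * (y'⁻¹ * (s⁻¹ * y' * s)) := by
        calc (y * y')⁻¹ * (s⁻¹ * (y * y') * s)
            = (y'⁻¹ * (y⁻¹ * (s⁻¹ * y * s))) * (s⁻¹ * y' * s) := by group
          _ = ((y⁻¹ * (s⁻¹ * y * s)) * y'⁻¹) * (s⁻¹ * y' * s) := by rw [hc]
          _ = _ := by group
      rw [h1]
      exact mul_mem ihy ihy'
    | inv y hy ihy =>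
      have hc : y * (y⁻¹ * (s⁻¹ * y * s)) = (y⁻¹ * (s⁻¹ * y * s)) * y := by
        rw [mem_centralizer_iff] at ihy
        exact ihy _ hy
      have hct : Commute y (s⁻¹ * y * s) := by
        change y * (s⁻¹ * y * s) = (s⁻¹ * y * s) * y
        calc y * (s⁻¹ * y * s) = y * (y * (y⁻¹ * (s⁻¹ * y * s))) := by group
          _ = y * ((y⁻¹ * (s⁻¹ * y * s)) * y) := by rw [hc]
          _ = (s⁻¹ * y * s) * y := by group
      have h1 : (y⁻¹)⁻¹ * (s⁻¹ * y⁻¹ * s) = (y⁻¹ * (s⁻¹ * y * s))⁻¹ := by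
        have h2 : (y⁻¹ * (s⁻¹ * y * s))⁻¹ = (s⁻¹ * y * s)⁻¹ * y := by group
        have h3 : (y⁻¹)⁻¹ * (s⁻¹ * y⁻¹ * s) = y * (s⁻¹ * y * s)⁻¹ := by group
        rw [h2, h3]
        exact hct.inv_right.eq
      rw [h1]
      exact inv_mem ihy
  have hYA : A ⊆ Y := fun a ha => subset_closure (Or.inl ha)
  have hYB : B ⊆ Y := fun b hb => subset_closure (Or.inr hb)
  obtain ⟨u, huY, P, hP, hBP, hconj⟩ := exists_conj_le Y ((S : Subgroup G) ⊓ Y)
    ((Q : Subgroup G) ⊓ Y) (S.2.to_le inf_le_left) (Q.2.to_le inf_le_left)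
    inf_le_right inf_le_right
  obtain ⟨R, hPR⟩ := hP.exists_le_sylow
  have hBR : B ⊆ (R : Subgroup G) := fun b hb => hPR (hBP ⟨hb.1, hYB hb⟩)
  have hRB : Inv (R : Subgroup G) = B := inv_eq_of_subset Q R hBR
  intro a ha
  have ht : u * a * u⁻¹ ∈ B := by
    rw [← hRB]
    refine ⟨hPR (hconj a ⟨ha.1, hYA ha⟩), ?_⟩
    calc u * a * u⁻¹ * (u * a * u⁻¹) = u * (a * a) * u⁻¹ := by group
      _ = 1 := by rw [ha.2]; group
  have hts := hBs _ ht
  have hz := hstar u huY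
  rw [mem_centralizer_iff] at hz
  have hza := hz a (hYA ha)
  have hfix : s⁻¹ * a * s = a := by
    have hsu : s⁻¹ * u * s = u * (u⁻¹ * (s⁻¹ * u * s)) := by group
    calc s⁻¹ * a * s
        = (s⁻¹ * u * s)⁻¹ * (s⁻¹ * (u * a * u⁻¹) * s) * (s⁻¹ * u * s) := by group
      _ = (s⁻¹ * u * s)⁻¹ * (u * a * u⁻¹) * (s⁻¹ * u * s) := by rw [hts]
      _ = (u⁻¹ * (s⁻¹ * u * s))⁻¹ * (a * (u⁻¹ * (s⁻¹ * u * s))) := by group
      _ = (u⁻¹ * (s⁻¹ * u * s))⁻¹ * ((u⁻¹ * (s⁻¹ * u * s)) * a) := by rw [hza]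
      _ = a := by group
  calc a * s = s * (s⁻¹ * a * s) := by group
    _ = s * a := by rw [hfix]

/-- the involutions of a Sylow `2`-subgroup are central in it -/
theorem inv_central [Finite G] (hH : Hyp G) (S : Sylow 2 G) :
    ∀ s ∈ (S : Subgroup G), ∀ a ∈ Inv (S : Subgroup G), a * s = s * a := by
  have key : ∀ n : ℕ, ∀ s ∈ (S : Subgroup G), orderOf s = n →
      ∀ a ∈ Inv (S : Subgroup G), a * s = s * a := by
    intro n
    induction n using Nat.strong_induction_on with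
    | _ n ih =>
      intro s hs hn
      apply step4_core hH S hs
      by_cases h1 : s = 1
      · subst h1
        intro a _
        simp
      · obtain ⟨k, hk⟩ := two_elt_of_mem S.2 hs
        have hk0 : k ≠ 0 := by
          rintro rfl
          rw [pow_zero, orderOf_eq_one_iff] at hk
          exact h1 hk
        have hlt : orderOf (s * s) < n := by
          rw [← pow_two, orderOf_pow_of_dvd (by norm_num) (by rw [hk]; exact dvd_pow_self 2 hk0),
            ← hn]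
          exact Nat.div_lt_self (orderOf_pos s) (by norm_num)
        exact ih _ hlt (s * s) ((S : Subgroup G).mul_mem hs hs) rfl
  intro s hs
  exact key _ s hs rfl

/-- Sylow `2`-subgroups are abelian -/
theorem sylow_comm [Finite G] (hH : Hyp G) (S : Sylow 2 G) :
    ∀ x y : ↥(S : Subgroup G), x * y = y * x := by
  have : Fact (Nat.Prime 2) := ⟨Nat.prime_two⟩
  by_contra hne
  push_neg at hne
  obtain ⟨x₀, y₀, hxy⟩ := hne
  haveI : Nontrivial (↥(S : Subgroup G) ⧸ center ↥(S : Subgroup G)) := by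
    refine ⟨⟨(x₀ : ↥(S : Subgroup G) ⧸ center ↥(S : Subgroup G)), 1, ?_⟩⟩
    intro h
    rw [QuotientGroup.eq_one_iff, mem_center_iff] at h
    exact hxy (h y₀).symm
  have hPq : IsPGroup 2 (↥(S : Subgroup G) ⧸ center ↥(S : Subgroup G)) := S.2.to_quotient _
  haveI := hPq.center_nontrivial
  obtain ⟨⟨xb, hxb⟩, hxb1⟩ :=
    exists_ne (1 : center (↥(S : Subgroup G) ⧸ center ↥(S : Subgroup G)))
  obtain ⟨x, rfl⟩ := QuotientGroup.mk_surjective xb
  have hxZ : x ∉ center ↥(S : Subgroup G) := by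
    intro h
    apply hxb1
    apply Subtype.ext
    exact (QuotientGroup.eq_one_iff x).mpr h
  rw [mem_center_iff] at hxb
  have hc : ∀ t : ↥(S : Subgroup G), x⁻¹ * t⁻¹ * x * t ∈ center ↥(S : Subgroup G) := by
    intro t
    have h1 := hxb (QuotientGroup.mk t)
    rw [← QuotientGroup.eq_one_iff]
    simp only [QuotientGroup.mk_mul, QuotientGroup.mk_inv]
    rw [mul_assoc, ← h1]
    group
  -- the commutator map is multiplicative in powers
  have hpow : ∀ (t : ↥(S : Subgroup G)) (k : ℕ),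
      x⁻¹ * (t ^ k)⁻¹ * x * t ^ k = (x⁻¹ * t⁻¹ * x * t) ^ k := by
    intro t k
    induction k with
    | zero => simp
    | succ k ih =>
      have hcen := hc (t ^ k)
      rw [mem_center_iff] at hcen
      have h2 := hcen t
      rw [pow_succ (x⁻¹ * t⁻¹ * x * t), ← ih]
      calc x⁻¹ * (t ^ (k + 1))⁻¹ * x * t ^ (k + 1)
          = x⁻¹ * t⁻¹ * x * ((x⁻¹ * (t ^ k)⁻¹ * x * t ^ k) * t) := by
            rw [pow_succ]; group
        _ = x⁻¹ * t⁻¹ * x * (t * (x⁻¹ * (t ^ k)⁻¹ * x * t ^ k)) := by rw [h2]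
        _ = _ := by
          have h3 := hcen (x⁻¹ * t⁻¹ * x * t)
          rw [← mul_assoc (x⁻¹ * t⁻¹ * x), h3]
  -- some commutator is nontrivial
  have hex : ∃ t₁ : ↥(S : Subgroup G), x⁻¹ * t₁⁻¹ * x * t₁ ≠ 1 := by
    by_contra hall
    push_neg at hall
    apply hxZ
    rw [mem_center_iff]
    intro t
    have h1 := hall t
    calc t * x = t * x * (x⁻¹ * t⁻¹ * x * t) := by rw [h1, mul_one]
      _ = x * t := by group
  obtain ⟨t₁, ht₁⟩ := hex
  obtain ⟨j, hj⟩ := two_elt_of_mem S.2 (x⁻¹ * t₁⁻¹ * x * t₁).2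
  have hord : orderOf (x⁻¹ * t₁⁻¹ * x * t₁) = 2 ^ j := by
    rw [← hj]
    exact (Subgroup.orderOf_coe _).symm
  have hj0 : j ≠ 0 := by
    rintro rfl
    rw [pow_zero, orderOf_eq_one_iff] at hord
    exact ht₁ hord
  obtain ⟨i, rfl⟩ := Nat.exists_eq_succ_of_ne_zero hj0
  set t₀ := t₁ ^ (2 ^ i) with ht₀
  set c₀ := x⁻¹ * t₀⁻¹ * x * t₀ with hc₀
  have hc₀pow : c₀ = (x⁻¹ * t₁⁻¹ * x * t₁) ^ (2 ^ i) := hpow t₁ (2 ^ i)
  have hc₀ne : c₀ ≠ 1 := by
    rw [hc₀pow]
    apply pow_ne_one_of_lt_orderOf (by positivity)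
    rw [hord]
    exact Nat.pow_lt_pow_right (by norm_num) (Nat.lt_succ_self i)
  have hc₀sq : c₀ * c₀ = 1 := by
    rw [hc₀pow, ← pow_add, ← two_mul, ← pow_succ', ← hord]
    exact pow_orderOf_eq_one _
  have hc₀Z := hc t₀
  rw [← hc₀, mem_center_iff] at hc₀Z
  -- pass to `G`
  have f1 : ((t₀ : ↥(S : Subgroup G)) : G)⁻¹ * (x : G) * (t₀ : G) = (x : G) * (c₀ : G) := by
    have : t₀⁻¹ * x * t₀ = x * c₀ := by rw [hc₀]; group
    simpa using congrArg Subtype.val this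
  have f2 : (c₀ : G) * (c₀ : G) = 1 := by simpa using congrArg Subtype.val hc₀sq
  have f2' : (c₀ : G) ≠ 1 := fun h => hc₀ne (Subtype.ext h)
  have f3x : (x : G) * (c₀ : G) = (c₀ : G) * (x : G) := by
    simpa using congrArg Subtype.val (hc₀Z x)
  have f3t : (t₀ : G) * (c₀ : G) = (c₀ : G) * (t₀ : G) := by
    simpa using congrArg Subtype.val (hc₀Z t₀)
  obtain ⟨Q₁, hQ₁⟩ := hH (x : G) (two_elt_of_mem S.2 x.2)
  have hDK : zpowers (c₀ : G) ≤ centralizer ({(x : G)} : Set G) := by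
    rw [zpowers_le, mem_centralizer_singleton_iff]
    exact f3x.symm
  obtain ⟨Q', hQ'K, hDQ'⟩ := exists_sylow_in (centralizer ({(x : G)} : Set G))
    (zpowers (c₀ : G)) Q₁ hQ₁ (S.2.to_le (zpowers_le.mpr c₀.2)) hDK
  have hc₀Q' : (c₀ : G) ∈ (Q' : Subgroup G) := hDQ' (mem_zpowers _)
  have hcentQ' := inv_central hH Q'
  have hQ'C : (Q' : Subgroup G) ≤
      centralizer ({(x : G)} : Set G) ⊓ centralizer ({(c₀ : G)} : Set G) := by
    intro q hq
    rw [Subgroup.mem_inf]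
    refine ⟨hQ'K hq, ?_⟩
    rw [mem_centralizer_singleton_iff]
    exact (hcentQ' q hq (c₀ : G) ⟨hc₀Q', f2⟩).symm
  have hnorm : (t₀ : G) ∈ normalizer
      ((centralizer ({(x : G)} : Set G) ⊓ centralizer ({(c₀ : G)} : Set G) : Subgroup G) :
        Set G) := by
    rw [mem_normalizer_iff]
    intro h
    rw [Subgroup.mem_inf, Subgroup.mem_inf, mem_centralizer_singleton_iff,
      mem_centralizer_singleton_iff, mem_centralizer_singleton_iff,
      mem_centralizer_singleton_iff]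
    have hc₀inv : (c₀ : G)⁻¹ = (c₀ : G) := inv_eq_of_mul_eq_one_left f2
    have e1 : (x : G) = (t₀ : G) * ((x : G) * (c₀ : G)) * (t₀ : G)⁻¹ := by
      rw [← f1]; group
    have e2 : (c₀ : G) = (t₀ : G) * (c₀ : G) * (t₀ : G)⁻¹ := by
      rw [f3t]; group
    change (Commute h (x : G) ∧ Commute h (c₀ : G)) ↔
      (Commute ((t₀ : G) * h * (t₀ : G)⁻¹) (x : G) ∧ Commute ((t₀ : G) * h * (t₀ : G)⁻¹) (c₀ : G))
    have e3 : Commute ((t₀ : G) * h * (t₀ : G)⁻¹) (x : G) ↔ Commute h ((x : G) * (c₀ : G)) := by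
      conv_lhs => rw [e1]
      exact Commute.conj_iff _
    have e4 : Commute ((t₀ : G) * h * (t₀ : G)⁻¹) (c₀ : G) ↔ Commute h (c₀ : G) := by
      conv_lhs => rw [e2]
      exact Commute.conj_iff _
    rw [e3, e4]
    constructor
    · rintro ⟨h1, h2⟩
      exact ⟨h1.mul_right h2, h2⟩
    · rintro ⟨h1, h2⟩
      refine ⟨?_, h2⟩
      have h3 : Commute h ((x : G) * (c₀ : G) * (c₀ : G)⁻¹) := h1.mul_right h2.inv_right
      rwa [mul_inv_cancel_right] at h3
  obtain ⟨m, hm⟩ := pow_eq_one_of_mem S.2 t₀.2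
  have hmem := mem_of_normalizer _ Q' hQ'C (t₀ : G) hnorm m (by rw [hm]; exact one_mem _)
  rw [Subgroup.mem_inf, mem_centralizer_singleton_iff] at hmem
  have h5 : (t₀ : G)⁻¹ * (x : G) * (t₀ : G) = (x : G) := by
    rw [mul_assoc, ← hmem.1, ← mul_assoc, inv_mul_cancel, one_mul]
  rw [f1] at h5
  exact f2' (mul_eq_left.mp h5)

theorem commutative_of_hyp [Finite G] (hH : Hyp G) (P : Sylow 2 G) :
    IsMulCommutative (P : Subgroup G) :=
  isMulCommutative_iff.mpr (sylow_comm hH P)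

theorem hyp_of_commutative [Finite G] (P : Sylow 2 G) (hP : IsMulCommutative (P : Subgroup G)) :
    Hyp G := by
  have : Fact (Nat.Prime 2) := ⟨Nat.prime_two⟩
  rintro x ⟨k, hk⟩
  have hz : IsPGroup 2 (zpowers x) := by
    apply IsPGroup.of_card (n := k)
    rw [Nat.card_zpowers, hk]
  obtain ⟨Q, hQ⟩ := hz.exists_le_sylow
  obtain ⟨g, hg⟩ := MulAction.exists_smul_eq G P Q
  refine ⟨Q, ?_⟩
  intro t ht
  rw [mem_centralizer_singleton_iff]
  have hx : x ∈ (Q : Subgroup G) := hQ (mem_zpowers x)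
  rw [← hg, smul_mem_iff] at ht hx
  have hcomm := isMulCommutative_iff.mp hP ⟨_, ht⟩ ⟨_, hx⟩
  have h1 : g⁻¹ * t * g * (g⁻¹ * x * g) = g⁻¹ * x * g * (g⁻¹ * t * g) := by
    simpa using congrArg Subtype.val hcomm
  calc t * x = g * (g⁻¹ * t * g * (g⁻¹ * x * g)) * g⁻¹ := by group
    _ = g * (g⁻¹ * x * g * (g⁻¹ * t * g)) * g⁻¹ := by rw [h1]
    _ = x * t := by group

/-- Camina--Herzog -/
theorem main [Finite G] (P : Sylow 2 G) :
    IsMulCommutative (P : Subgroup G) ↔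
      ∀ x : G, (∃ k : ℕ, orderOf x = 2 ^ k) →
        ∃ Q : Sylow 2 G, (Q : Subgroup G) ≤ centralizer ({x} : Set G) :=
  ⟨hyp_of_commutative P, fun h => commutative_of_hyp h P⟩

end Cfsg.Agent.Helper21.TwoCentral
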