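import Mathlib
import Cfsg.Agent.Lib.Helper1.CoprimeProd
import Cfsg.Agent.Lib.Helper22.CyclicChain

/-!
# An elementary abelian group of order eight acting on an odd `p`-group (helper21)

Tools for statement S4412: Brauer-Wielandt for a four-group acting on an invariant
subgroup of fixed points, cyclic `p`-subgroups with an involutory automorphism, and the
structure of `P` when three pairwise commuting involutory automorphisms have
prescribed fixed points.
-/

set_option autoImplicit false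

namespace Cfsg.Agent.Helper21.TwoCube

open Cfsg.Agent.Helper1.CoprimeProd

universe u

section BW

variable {P : Type u} [Group P]

theorem apply_mem_fixSub_iff (s u : MulAut P) (hc : s * u = u * s) (n : P) :
    u n ∈ fixSub s ↔ n ∈ fixSub s := by
  have hcn : s (u n) = u (s n) := by
    have := congrArg (fun f : MulAut P => f n) hc
    simpa only [MulAut.mul_apply] using this
  simp only [mem_fixSub]
  constructor
  · intro h
    apply u.injective
    rw [← hcn, h]
  · intro h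
    rw [hcn, h]

/-- Brauer-Wielandt for a four-group `⟨u, v⟩` acting on the fixed points of `s`. -/
theorem bw2 [Finite P] (hodd : ¬ 2 ∣ Nat.card P) (s u v : MulAut P)
    (hsu : s * u = u * s) (hsv : s * v = v * s) (huv : u * v = v * u)
    (hu : u ^ 2 = 1) (hv : v ^ 2 = 1) :
    Nat.card (fixSub s) * Nat.card (fixSub s ⊓ fixSub u ⊓ fixSub v : Subgroup P) ^ 2 =
      Nat.card (fixSub s ⊓ fixSub u : Subgroup P) * Nat.card (fixSub s ⊓ fixSub v : Subgroup P) *
        Nat.card (fixSub s ⊓ fixSub (u * v) : Subgroup P) := by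
  set W := fixSub s with hWdef
  have huW : ∀ n, u n ∈ W ↔ n ∈ W := apply_mem_fixSub_iff s u hsu
  have hvW : ∀ n, v n ∈ W ↔ n ∈ W := apply_mem_fixSub_iff s v hsv
  set γ := res u W huW with hγdef
  set δ := res v W hvW with hδdef
  haveI : Fact (Nat.Prime 2) := ⟨Nat.prime_two⟩
  have hWcard : ¬ 2 ∣ Nat.card W := fun h => hodd (h.trans (Subgroup.card_subgroup_dvd_card W))
  have hcγδ : γ * δ = δ * γ := by
    ext w
    simp only [MulAut.mul_apply, hγdef, hδdef, coe_res_apply]
    rw [← MulAut.mul_apply, ← MulAut.mul_apply, huv]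
  have hγp : γ ^ 2 = 1 := by
    ext w
    rw [hγdef, coe_res_pow_apply, hu]
    simp
  have hδp : δ ^ 2 = 1 := by
    ext w
    rw [hδdef, coe_res_pow_apply, hv]
    simp
  have h := bw_aut 2 hWcard γ δ hcγδ hγp hδp
  have e1 : Nat.card (fixSub γ ⊓ fixSub δ : Subgroup W) =
      Nat.card (W ⊓ fixSub u ⊓ fixSub v : Subgroup P) := by
    apply Nat.card_congr
    refine ⟨fun w => ⟨w.1.1, ?_⟩, fun n => ⟨⟨n.1, ?_⟩, ?_⟩, ?_, ?_⟩
    · obtain ⟨h1, h2⟩ := Subgroup.mem_inf.mp w.2
      rw [mem_fixSub] at h1 h2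
      refine Subgroup.mem_inf.mpr ⟨Subgroup.mem_inf.mpr ⟨w.1.2, ?_⟩, ?_⟩
      · rw [mem_fixSub]
        have := congrArg Subtype.val h1
        simpa [hγdef] using this
      · rw [mem_fixSub]
        have := congrArg Subtype.val h2
        simpa [hδdef] using this
    · exact (Subgroup.mem_inf.mp (Subgroup.mem_inf.mp n.2).1).1
    · obtain ⟨h12, h3⟩ := Subgroup.mem_inf.mp n.2
      obtain ⟨_, h2⟩ := Subgroup.mem_inf.mp h12
      rw [mem_fixSub] at h2 h3
      refine Subgroup.mem_inf.mpr ⟨?_, ?_⟩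
      · rw [mem_fixSub]; apply Subtype.ext; simpa [hγdef] using h2
      · rw [mem_fixSub]; apply Subtype.ext; simpa [hδdef] using h3
    · intro w; rfl
    · intro n; rfl
  have e2 : Nat.card (fixSub (γ * δ)) = Nat.card (W ⊓ fixSub (u * v) : Subgroup P) := by
    rw [card_fixSub_of_coe W (γ * δ) (u * v) (by
      intro w
      rw [MulAut.mul_apply, MulAut.mul_apply, hγdef, coe_res_apply, hδdef, coe_res_apply]),
      inf_comm]
  have e3 : Nat.card (fixSub δ) = Nat.card (W ⊓ fixSub v : Subgroup P) := by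
    rw [hδdef, card_fixSub_res v W hvW, inf_comm]
  have e4 : Nat.card (fixSub γ) = Nat.card (W ⊓ fixSub u : Subgroup P) := by
    rw [hγdef, card_fixSub_res u W huW, inf_comm]
  rw [Finset.prod_range_succ, Finset.prod_range_succ, Finset.prod_range_zero, one_mul, pow_zero,
    mul_one, pow_one, e1, e2, e3, e4] at h
  rw [h]
  ring

theorem fix_mul {a b : MulAut P} {x : P} (ha : a x = x) (hb : b x = x) : (a * b) x = x := by
  rw [MulAut.mul_apply, hb, ha]

theorem fix_of_mul_left {a b : MulAut P} {x : P} (ha : a x = x) (hab : (a * b) x = x) :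
    b x = x := by
  rw [MulAut.mul_apply] at hab
  exact a.injective (hab.trans ha.symm)

theorem fix_of_mul_right {a b : MulAut P} {x : P} (hb : b x = x) (hab : (a * b) x = x) :
    a x = x := by
  rw [MulAut.mul_apply, hb] at hab
  exact hab

/-- If `C_W(v)` and `C_W(uv)` lie in `C_W(u)` then `W = C_W(u)` (here `W = C_P(s)`). -/
theorem bwc [Finite P] (hodd : ¬ 2 ∣ Nat.card P) (s u v : MulAut P)
    (hsu : s * u = u * s) (hsv : s * v = v * s) (huv : u * v = v * u)
    (hu : u ^ 2 = 1) (hv : v ^ 2 = 1)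
    (h1 : fixSub s ⊓ fixSub v ≤ fixSub u) (h2 : fixSub s ⊓ fixSub (u * v) ≤ fixSub u) :
    fixSub s ≤ fixSub u := by
  have h := bw2 hodd s u v hsu hsv huv hu hv
  have e1 : fixSub s ⊓ fixSub v = fixSub s ⊓ fixSub u ⊓ fixSub v := by
    apply le_antisymm
    · exact le_inf (le_inf inf_le_left h1) inf_le_right
    · exact le_inf (inf_le_left.trans inf_le_left) inf_le_right
  have e2 : fixSub s ⊓ fixSub (u * v) = fixSub s ⊓ fixSub u ⊓ fixSub v := by
    apply le_antisymm
    · refine le_inf (le_inf inf_le_left h2) ?_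
      intro x hx
      have hxu := h2 hx
      obtain ⟨_, hx2⟩ := Subgroup.mem_inf.mp hx
      exact fix_of_mul_left hxu hx2
    · refine le_inf (inf_le_left.trans inf_le_left) ?_
      intro x hx
      obtain ⟨hx1, hx3⟩ := Subgroup.mem_inf.mp hx
      obtain ⟨_, hx2⟩ := Subgroup.mem_inf.mp hx1
      exact fix_mul hx2 hx3
  rw [e1, e2] at h
  have hN : 0 < Nat.card (fixSub s ⊓ fixSub u ⊓ fixSub v : Subgroup P) := Nat.card_pos
  have h3 : Nat.card (fixSub s) = Nat.card (fixSub s ⊓ fixSub u : Subgroup P) := by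
    have h' : Nat.card (fixSub s) *
        Nat.card (fixSub s ⊓ fixSub u ⊓ fixSub v : Subgroup P) ^ 2 =
        Nat.card (fixSub s ⊓ fixSub u : Subgroup P) *
          Nat.card (fixSub s ⊓ fixSub u ⊓ fixSub v : Subgroup P) ^ 2 := by
      rw [h]; ring
    exact Nat.eq_of_mul_eq_mul_right (by positivity) h'
  have h4 : fixSub s ⊓ fixSub u = fixSub s := Subgroup.eq_of_le_of_card_ge inf_le_left h3.le
  rw [← h4]; exact inf_le_right

/-- Faithfulness: some hyperplane avoiding `t` has more fixed points than `C_P(t)` allows. -/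
theorem eq_one_of_le [Finite P] (hodd : ¬ 2 ∣ Nat.card P) (t a b : MulAut P)
    (hta : t * a = a * t) (htb : t * b = b * t) (hab : a * b = b * a)
    (ht : t ^ 2 = 1) (ha : a ^ 2 = 1) (hb : b ^ 2 = 1)
    (h1 : fixSub a ⊓ fixSub b ≤ fixSub t) (h2 : fixSub a ⊓ fixSub (t * b) ≤ fixSub t)
    (h3 : fixSub b ⊓ fixSub (t * a) ≤ fixSub t)
    (h4 : fixSub (a * b) ⊓ fixSub (t * a) ≤ fixSub t) : t = 1 := by
  have hA : fixSub a ≤ fixSub t := bwc hodd a t b hta.symm hab htb ht hb h1 h2
  have hTA : fixSub (t * a) ≤ fixSub t := by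
    refine bwc hodd (t * a) t b ?_ ?_ htb ht hb ?_ ?_
    · rw [mul_assoc, ← hta]
    · rw [mul_assoc, hab, ← mul_assoc, htb, mul_assoc]
    · rw [inf_comm]; exact h3
    · intro x hx
      obtain ⟨hx1, hx2⟩ := Subgroup.mem_inf.mp hx
      apply h4
      refine Subgroup.mem_inf.mpr ⟨?_, hx1⟩
      have e : a * b = (t * a) * (t * b) := by
        rw [hta, mul_assoc, ← mul_assoc t t b, ← sq, ht, one_mul]
      rw [mem_fixSub, e]
      exact fix_mul hx1 hx2
  have hT : fixSub (1 : MulAut P) ≤ fixSub t := by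
    refine bwc hodd 1 t a (by simp) (by simp) hta ht ha ?_ ?_
    · exact inf_le_right.trans hA
    · exact inf_le_right.trans hTA
  ext x
  have := hT (show x ∈ fixSub 1 by simp [mem_fixSub])
  simpa [mem_fixSub] using this

end BW

section Cyc

variable {P : Type u} [Group P]

theorem eq_one_of_mul_self {p : ℕ} (hp : p.Prime) (hp2 : p ≠ 2) (hP : IsPGroup p P) {x : P}
    (hx : x * x = 1) : x = 1 := by
  obtain ⟨k, hk⟩ := hP x
  have h1 : orderOf x ∣ 2 := orderOf_dvd_of_pow_eq_one (by rw [sq]; exact hx)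
  have h2 : orderOf x ∣ p ^ k := orderOf_dvd_of_pow_eq_one hk
  have hcop : Nat.Coprime 2 (p ^ k) :=
    Nat.Coprime.pow_right k ((Nat.coprime_primes Nat.prime_two hp).mpr (Ne.symm hp2))
  have h3 : orderOf x ∣ 1 := by
    have := Nat.dvd_gcd h1 h2
    rwa [hcop] at this
  exact orderOf_eq_one_iff.mp (Nat.dvd_one.mp h3)

theorem cyc_comparable [Finite P] {p : ℕ} (hp : p.Prime) (hP : IsPGroup p P) (g : P)
    (A B : Subgroup P) (hA : A ≤ Subgroup.zpowers g) (hB : B ≤ Subgroup.zpowers g) :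
    A ≤ B ∨ B ≤ A := by
  haveI : Fact p.Prime := ⟨hp⟩
  exact Cfsg.Agent.Helper22.le_or_le_of_le_isCyclic_of_isPGroup (Subgroup.zpowers g)
    (hP.to_subgroup _) A B hA hB

/-- An involutory automorphism of a cyclic `p`-subgroup (`p` odd) either fixes it pointwise or
has no nontrivial fixed point in it. -/
theorem cyc_invol [Finite P] {p : ℕ} (hp : p.Prime) (hp2 : p ≠ 2) (hP : IsPGroup p P) (g : P)
    (c : MulAut P) (hc : c ^ 2 = 1)
    (hinv : ∀ x ∈ Subgroup.zpowers g, c x ∈ Subgroup.zpowers g) :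
    Subgroup.zpowers g ≤ fixSub c ∨ Subgroup.zpowers g ⊓ fixSub c = ⊥ := by
  set R := Subgroup.zpowers g with hR
  have hcomm : ∀ x ∈ R, ∀ y ∈ R, x * y = y * x := by
    intro x hx y hy
    obtain ⟨i, rfl⟩ := Subgroup.mem_zpowers_iff.mp hx
    obtain ⟨j, rfl⟩ := Subgroup.mem_zpowers_iff.mp hy
    rw [← zpow_add, ← zpow_add, add_comm]
  have hcc : ∀ x, c (c x) = x := by
    intro x
    have := congrArg (fun f : MulAut P => f x) hc
    simpa [sq, MulAut.mul_apply] using this
  let Inv : Subgroup P :=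
    { carrier := {x | x ∈ R ∧ c x = x⁻¹}
      one_mem' := ⟨R.one_mem, by simp⟩
      mul_mem' := by
        rintro x y ⟨hx, hx'⟩ ⟨hy, hy'⟩
        refine ⟨R.mul_mem hx hy, ?_⟩
        rw [map_mul, hx', hy', mul_inv_rev, hcomm _ (R.inv_mem hx) _ (R.inv_mem hy)]
      inv_mem' := by
        rintro x ⟨hx, hx'⟩
        exact ⟨R.inv_mem hx, by rw [map_inv, hx']⟩ }
  rcases cyc_comparable hp hP g Inv (R ⊓ fixSub c) (fun x hx => hx.1) inf_le_left with h | h
  · left
    intro y hy
    have hz : y⁻¹ * c y ∈ Inv := by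
      refine ⟨R.mul_mem (R.inv_mem hy) (hinv y hy), ?_⟩
      rw [map_mul, map_inv, hcc, mul_inv_rev, inv_inv]
    have hz2 := h hz
    have h3 : c (y⁻¹ * c y) = y⁻¹ * c y := (Subgroup.mem_inf.mp hz2).2
    have h4 : (y⁻¹ * c y) * (y⁻¹ * c y) = 1 := by
      have h5 : c (y⁻¹ * c y) = (y⁻¹ * c y)⁻¹ := hz.2
      rw [h3] at h5
      exact mul_eq_one_iff_eq_inv.mpr h5
    have h5 := eq_one_of_mul_self hp hp2 hP h4
    rw [mem_fixSub]
    exact (inv_mul_eq_one.mp h5).symm
  · right
    rw [eq_bot_iff]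
    intro x hx
    have hx' := h hx
    have h3 : c x = x := (Subgroup.mem_inf.mp hx).2
    have h4 : c x = x⁻¹ := hx'.2
    rw [Subgroup.mem_bot]
    apply eq_one_of_mul_self hp hp2 hP
    rw [h3] at h4
    exact mul_eq_one_iff_eq_inv.mpr h4

end Cyc

section Rank

/-- a commutative `p`-group containing an independent triple is not two-generated -/
theorem not_two_gen {P : Type*} [CommGroup P] [Finite P] {p : ℕ} (hp : p.Prime)
    (hP : IsPGroup p P) (A B C : Subgroup P) (hA : A ≠ ⊥) (hB : B ≠ ⊥) (hC : C ≠ ⊥)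
    (hinj : ∀ x ∈ A, ∀ y ∈ B, ∀ z ∈ C, x * y * z = 1 → x = 1 ∧ y = 1 ∧ z = 1) :
    ¬ ∃ a b : P, Subgroup.closure {a, b} = ⊤ := by
  have : Fact p.Prime := ⟨hp⟩
  -- elements of order p
  have key : ∀ S : Subgroup P, S ≠ ⊥ → ∃ u ∈ S, orderOf u = p := by
    intro S hS
    have hdvd : p ∣ Nat.card S := by
      rcases (hP.to_subgroup S).card_eq_or_dvd with h | h
      · exact absurd (Subgroup.card_eq_one.mp h) hS
      · exact h
    obtain ⟨u, hu⟩ := exists_prime_orderOf_dvd_card' p hdvd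
    exact ⟨u.1, u.2, by rw [← hu, Subgroup.orderOf_coe]⟩
  obtain ⟨u, huA, hu⟩ := key A hA
  obtain ⟨v, hvB, hv⟩ := key B hB
  obtain ⟨w, hwC, hw⟩ := key C hC
  let π : P →* P := powMonoidHom p
  -- lower bound
  have hlow : p * p * p ≤ Nat.card π.ker := by
    let f : ↥(Subgroup.zpowers u) × ↥(Subgroup.zpowers v) × ↥(Subgroup.zpowers w) → π.ker :=
      fun t => ⟨(t.1 : P) * (t.2.1 : P) * (t.2.2 : P), by
        rw [MonoidHom.mem_ker, powMonoidHom_apply, mul_pow, mul_pow]
        have h1 : ∀ (g : P) (x : ↥(Subgroup.zpowers g)), orderOf g = p → (x : P) ^ p = 1 := by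
          intro g x hg
          obtain ⟨i, hi⟩ := Subgroup.mem_zpowers_iff.mp x.2
          rw [← hi, ← zpow_natCast, ← zpow_mul, mul_comm, zpow_mul, zpow_natCast, ← hg,
            pow_orderOf_eq_one, one_zpow]
        rw [h1 u t.1 hu, h1 v t.2.1 hv, h1 w t.2.2 hw]; simp⟩
    have hf : Function.Injective f := by
      rintro ⟨x, y, z⟩ ⟨x', y', z'⟩ h
      have h' : (x : P) * y * z = x' * y' * z' := congrArg Subtype.val h
      have h1 : ((x : P) * (x' : P)⁻¹) * ((y : P) * (y' : P)⁻¹) * ((z : P) * (z' : P)⁻¹) = 1 := by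
        have : ((x : P) * (x' : P)⁻¹) * ((y : P) * (y' : P)⁻¹) * ((z : P) * (z' : P)⁻¹) =
            ((x : P) * y * z) * ((x' : P) * y' * z')⁻¹ := by
          simp only [mul_inv_rev]
          ac_rfl
        rw [this, h', mul_inv_cancel]
      have hzA : Subgroup.zpowers u ≤ A := Subgroup.zpowers_le.mpr huA
      have hzB : Subgroup.zpowers v ≤ B := Subgroup.zpowers_le.mpr hvB
      have hzC : Subgroup.zpowers w ≤ C := Subgroup.zpowers_le.mpr hwC
      obtain ⟨e1, e2, e3⟩ := hinj _ (A.mul_mem (hzA x.2) (A.inv_mem (hzA x'.2)))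
        _ (B.mul_mem (hzB y.2) (B.inv_mem (hzB y'.2)))
        _ (C.mul_mem (hzC z.2) (C.inv_mem (hzC z'.2))) h1
      rw [mul_inv_eq_one] at e1 e2 e3
      simp only [Prod.mk.injEq]
      exact ⟨Subtype.ext e1, Subtype.ext e2, Subtype.ext e3⟩
    have := Nat.card_le_card_of_injective f hf
    rwa [Nat.card_prod, Nat.card_prod, Nat.card_zpowers, Nat.card_zpowers, Nat.card_zpowers, hu,
      hv, hw, ← mul_assoc] at this
  rintro ⟨a, b, hab⟩
  -- upper bound
  have hup : Nat.card P ≤ p * p * Nat.card π.range := by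
    let g : Fin p × Fin p × π.range → P := fun t => a ^ (t.1 : ℕ) * b ^ (t.2.1 : ℕ) * (t.2.2 : P)
    have hg : Function.Surjective g := by
      intro x
      have hx : x ∈ Subgroup.closure {a, b} := by rw [hab]; trivial
      obtain ⟨m, n, rfl⟩ := Subgroup.mem_closure_pair.mp hx
      have hp0 : (p : ℤ) ≠ 0 := by exact_mod_cast hp.ne_zero
      have hpp : (0 : ℤ) < p := by exact_mod_cast hp.pos
      have hm := Int.emod_add_mul_ediv m p
      have hn := Int.emod_add_mul_ediv n p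
      have hm0 := Int.emod_nonneg m hp0
      have hn0 := Int.emod_nonneg n hp0
      have hm1 := Int.emod_lt_of_pos m hpp
      have hn1 := Int.emod_lt_of_pos n hpp
      refine ⟨(⟨(m % p).toNat, by omega⟩, ⟨(n % p).toNat, by omega⟩,
        ⟨(a ^ (m / p) * b ^ (n / p)) ^ p, ⟨a ^ (m / p) * b ^ (n / p), rfl⟩⟩), ?_⟩
      simp only [g]
      rw [← zpow_natCast a, ← zpow_natCast b, Int.toNat_of_nonneg hm0, Int.toNat_of_nonneg hn0,
        mul_pow, ← zpow_natCast (a ^ (m / p)), ← zpow_natCast (b ^ (n / p)), ← zpow_mul,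
        ← zpow_mul]
      conv_rhs => rw [← hm, ← hn, zpow_add, zpow_add]
      rw [mul_comm (m / p) (p : ℤ), mul_comm (n / p) (p : ℤ)]
      exact mul_mul_mul_comm _ _ _ _
    have := Nat.card_le_card_of_surjective g hg
    rwa [Nat.card_prod, Nat.card_prod, Nat.card_fin, ← mul_assoc] at this
  have h1 : Nat.card π.ker * Nat.card π.range = Nat.card P := by
    rw [← Subgroup.index_ker, Subgroup.card_mul_index]
  have hr : 0 < Nat.card π.range := Nat.card_pos
  have h2 : Nat.card π.ker ≤ p * p := by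
    rw [← h1] at hup
    exact Nat.le_of_mul_le_mul_right hup hr
  have h3 : p * p * p ≤ p * p * 1 := by rw [mul_one]; exact hlow.trans h2
  have := Nat.le_of_mul_le_mul_left h3 (Nat.mul_pos hp.pos hp.pos)
  exact absurd hp.one_lt (by omega)

end Rank

section Struct

variable {P : Type u} [Group P]

/-- three pairwise commuting involutory automorphisms -/
structure Tri (a b c : MulAut P) : Prop where
  ab : a * b = b * a
  ac : a * c = c * a
  bc : b * c = c * b
  a2 : a ^ 2 = 1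
  b2 : b ^ 2 = 1
  c2 : c ^ 2 = 1

theorem Tri.acb {a b c : MulAut P} (h : Tri a b c) : Tri a c b :=
  ⟨h.ac, h.ab, h.bc.symm, h.a2, h.c2, h.b2⟩

theorem Tri.bca {a b c : MulAut P} (h : Tri a b c) : Tri b c a :=
  ⟨h.bc, h.ab.symm, h.ac.symm, h.b2, h.c2, h.a2⟩

theorem Tri.bac {a b c : MulAut P} (h : Tri a b c) : Tri b a c :=
  ⟨h.ab.symm, h.bc, h.ac, h.b2, h.a2, h.c2⟩

/-- two active hyperplanes through `a` make `C_P(a)` non-cyclic -/
theorem not_cyclic [Finite P] {p : ℕ} (hp : p.Prime) (hP : IsPGroup p P) (a b c : MulAut P)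
    (hB : ¬ fixSub a ⊓ fixSub c ≤ fixSub b) (hC : ¬ fixSub a ⊓ fixSub b ≤ fixSub c) :
    ¬ ∃ g : P, fixSub a = Subgroup.zpowers g := by
  rintro ⟨g, hg⟩
  rcases cyc_comparable hp hP g (fixSub a ⊓ fixSub c) (fixSub a ⊓ fixSub b)
    (hg ▸ inf_le_left) (hg ▸ inf_le_left) with h | h
  · exact hB (h.trans inf_le_right)
  · exact hC (h.trans inf_le_right)

/-- the pair `(a, b)` with cyclic `C_P(ab)` and active hyperplane `⟨a, b⟩` -/
theorem pair_cyclic [Finite P] {p : ℕ} (hp : p.Prime) (hp2 : p ≠ 2) (hP : IsPGroup p P)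
    (hodd : ¬ 2 ∣ Nat.card P) {a b c : MulAut P} (h : Tri a b c)
    (hC : ¬ fixSub a ⊓ fixSub b ≤ fixSub c) (g : P) (hg : fixSub (a * b) = Subgroup.zpowers g) :
    fixSub (a * b) ≤ fixSub a ∧ fixSub (a * b) ⊓ fixSub c = ⊥ := by
  have hA : fixSub a ⊓ fixSub b ≤ fixSub (a * b) := by
    intro x hx
    obtain ⟨h1, h2⟩ := Subgroup.mem_inf.mp hx
    exact fix_mul h1 h2
  have hi : fixSub (a * b) ⊓ fixSub c ≤ fixSub a := by
    rcases cyc_comparable hp hP g (fixSub a ⊓ fixSub b) (fixSub (a * b) ⊓ fixSub c)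
      (hg ▸ hA) (hg ▸ inf_le_left) with h' | h'
    · exact absurd (h'.trans inf_le_right) hC
    · exact h'.trans inf_le_left
  have hii : fixSub (a * b) ⊓ fixSub (a * c) ≤ fixSub a := by
    rcases cyc_comparable hp hP g (fixSub a ⊓ fixSub b) (fixSub (a * b) ⊓ fixSub (a * c))
      (hg ▸ hA) (hg ▸ inf_le_left) with h' | h'
    · exfalso
      apply hC
      intro x hx
      obtain ⟨h1, _⟩ := Subgroup.mem_inf.mp hx
      obtain ⟨_, h3⟩ := Subgroup.mem_inf.mp (h' hx)
      exact fix_of_mul_left h1 h3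
    · exact h'.trans inf_le_left
  have hiii : fixSub (a * b) ≤ fixSub a := by
    refine bwc hodd (a * b) a c ?_ ?_ h.ac h.a2 h.c2 hi hii
    · rw [mul_assoc, ← h.ab]
    · rw [mul_assoc, h.bc, ← mul_assoc, h.ac, mul_assoc]
  refine ⟨hiii, ?_⟩
  have hcab : (a * b) * c = c * (a * b) := by
    rw [mul_assoc, h.bc, ← mul_assoc, h.ac, mul_assoc]
  have hinv : ∀ x ∈ Subgroup.zpowers g, c x ∈ Subgroup.zpowers g := by
    intro x hx
    rw [← hg] at hx ⊢
    exact (apply_mem_fixSub_iff (a * b) c hcab x).mpr hx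
  rcases cyc_invol hp hp2 hP g c h.c2 hinv with h' | h'
  · exact absurd (hA.trans (hg ▸ h')) hC
  · rw [hg]; exact h'

theorem not_two_dvd_card [Finite P] {p : ℕ} (hp : p.Prime) (hp2 : p ≠ 2) (hP : IsPGroup p P) :
    ¬ 2 ∣ Nat.card P := by
  haveI : Fact p.Prime := ⟨hp⟩
  obtain ⟨n, hn⟩ := IsPGroup.iff_card.mp hP
  rw [hn]
  intro h
  have := (Nat.prime_dvd_prime_iff_eq Nat.prime_two hp).mp (Nat.prime_two.dvd_of_dvd_pow h)
  exact hp2 this.symm

/-- the structure of `P` once the three products have cyclic fixed points -/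
theorem struct_main [Finite P] {p : ℕ} (hp : p.Prime) (hp2 : p ≠ 2) (hP : IsPGroup p P)
    {a b c : MulAut P} (h : Tri a b c)
    (hA : ¬ fixSub b ⊓ fixSub c ≤ fixSub a) (hB : ¬ fixSub a ⊓ fixSub c ≤ fixSub b)
    (hC : ¬ fixSub a ⊓ fixSub b ≤ fixSub c) (g₁ g₂ g₃ : P)
    (hg₃ : fixSub (a * b) = Subgroup.zpowers g₃) (hg₂ : fixSub (a * c) = Subgroup.zpowers g₂)
    (hg₁ : fixSub (b * c) = Subgroup.zpowers g₁) :
    (∀ x y : P, x * y = y * x) ∧ Subgroup.closure {g₁, g₂, g₃} = ⊤ ∧
      (¬ ∃ u v : P, Subgroup.closure {u, v} = ⊤) ∧ fixSub (a * b * c) = ⊥ := by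
  have hodd := not_two_dvd_card hp hp2 hP
  obtain ⟨h3a, h3c⟩ := pair_cyclic hp hp2 hP hodd h hC g₃ hg₃
  obtain ⟨h2a, h2b⟩ := pair_cyclic hp hp2 hP hodd h.acb hB g₂ hg₂
  obtain ⟨h1b, h1a⟩ := pair_cyclic hp hp2 hP hodd h.bca hA g₁ hg₁
  have E1 : ∀ x, (a * b) x = x → c x = x → x = 1 := by
    intro x hx1 hx2
    have : x ∈ fixSub (a * b) ⊓ fixSub c := Subgroup.mem_inf.mpr ⟨hx1, hx2⟩
    rw [h3c] at this
    exact Subgroup.mem_bot.mp this
  have E2 : ∀ x, (a * c) x = x → b x = x → x = 1 := by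
    intro x hx1 hx2
    have : x ∈ fixSub (a * c) ⊓ fixSub b := Subgroup.mem_inf.mpr ⟨hx1, hx2⟩
    rw [h2b] at this
    exact Subgroup.mem_bot.mp this
  have E3 : ∀ x, (b * c) x = x → a x = x → x = 1 := by
    intro x hx1 hx2
    have : x ∈ fixSub (b * c) ⊓ fixSub a := Subgroup.mem_inf.mpr ⟨hx1, hx2⟩
    rw [h1a] at this
    exact Subgroup.mem_bot.mp this
  have E0 : ∀ x, a x = x → b x = x → c x = x → x = 1 := fun x ha hb hc =>
    E1 x (fix_mul ha hb) hc
  -- the product of the three fixes nothing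
  have hm : fixSub (a * b * c) = ⊥ := by
    have hle : fixSub (a * b * c) ≤ fixSub a := by
      refine bwc hodd (a * b * c) a b ?_ ?_ h.ab h.a2 h.b2 ?_ ?_
      · exact (((Commute.refl a).mul_left (show Commute b a from h.ab.symm)).mul_left
          (show Commute c a from h.ac.symm)).eq
      · exact (((show Commute a b from h.ab).mul_left (Commute.refl b)).mul_left
          (show Commute c b from h.bc.symm)).eq
      · intro x hx
        obtain ⟨hx1, hx2⟩ := Subgroup.mem_inf.mp hx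
        have e : a * b * c = (a * c) * b := by rw [mul_assoc, h.bc, ← mul_assoc]
        rw [mem_fixSub, e] at hx1
        rw [E2 x (fix_of_mul_right hx2 hx1) hx2]
        exact Subgroup.one_mem _
      · intro x hx
        obtain ⟨hx1, hx2⟩ := Subgroup.mem_inf.mp hx
        rw [E1 x hx2 (fix_of_mul_left hx2 hx1)]
        exact Subgroup.one_mem _
    rw [eq_bot_iff]
    intro x hx
    have hxa := hle hx
    rw [mem_fixSub, mul_assoc] at hx
    exact Subgroup.mem_bot.mpr (E3 x (fix_of_mul_left hxa hx) hxa)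
  -- commutativity
  have hcomm : ∀ x y : P, x * y = y * x := by
    have hsq : (a * b * c) ^ 2 = 1 := by
      have hab : Commute a b := h.ab
      have habc : Commute (a * b) c :=
        (show Commute a c from h.ac).mul_left (show Commute b c from h.bc)
      rw [habc.mul_pow, hab.mul_pow, h.a2, h.b2, h.c2]
      simp
    have hfpf : MonoidHom.FixedPointFree (a * b * c).toMonoidHom := by
      intro x hx
      have : x ∈ fixSub (a * b * c) := hx
      rw [hm] at this
      exact Subgroup.mem_bot.mp this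
    have hinv : Function.Involutive (a * b * c).toMonoidHom := by
      intro x
      have := congrArg (fun f : MulAut P => f x) hsq
      simpa [sq, MulAut.mul_apply] using this
    intro x y
    exact hfpf.commute_all_of_involutive hinv x y
  -- cardinalities
  have hFI : fixSub a ⊓ fixSub b ⊓ fixSub c = ⊥ := by
    rw [eq_bot_iff]
    intro x hx
    obtain ⟨hx12, hx3⟩ := Subgroup.mem_inf.mp hx
    obtain ⟨hx1, hx2⟩ := Subgroup.mem_inf.mp hx12
    exact Subgroup.mem_bot.mpr (E0 x hx1 hx2 hx3)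
  have hFI' : fixSub b ⊓ fixSub a ⊓ fixSub c = ⊥ := by rw [inf_comm (fixSub b)]; exact hFI
  have hQC : fixSub (a * b) = fixSub a ⊓ fixSub b := by
    apply le_antisymm
    · intro x hx
      exact Subgroup.mem_inf.mpr ⟨h3a hx, fix_of_mul_left (h3a hx) hx⟩
    · intro x hx
      obtain ⟨hx1, hx2⟩ := Subgroup.mem_inf.mp hx
      exact fix_mul hx1 hx2
  have bw1 := bw2 hodd 1 a b (by simp) (by simp) h.ab h.a2 h.b2
  simp only [fixSub_one, top_inf_eq, Subgroup.card_top] at bw1
  have bw2' := bw2 hodd a b c h.ab h.ac h.bc h.b2 h.c2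
  rw [hFI, inf_comm (fixSub a) (fixSub (b * c)), h1a, Subgroup.card_bot] at bw2'
  have bw3 := bw2 hodd b a c h.ab.symm h.bc h.ac h.a2 h.c2
  rw [hFI', inf_comm (fixSub b) (fixSub (a * c)), h2b, Subgroup.card_bot,
    inf_comm (fixSub b) (fixSub a)] at bw3
  rw [hQC] at bw1
  have hcard : Nat.card P = Nat.card (fixSub b ⊓ fixSub c : Subgroup P) *
      Nat.card (fixSub a ⊓ fixSub c : Subgroup P) * Nat.card (fixSub a ⊓ fixSub b : Subgroup P) := by
    have hpos : 0 < Nat.card (fixSub a ⊓ fixSub b : Subgroup P) ^ 2 := by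
      have : 0 < Nat.card (fixSub a ⊓ fixSub b : Subgroup P) := Nat.card_pos
      positivity
    apply Nat.eq_of_mul_eq_mul_right hpos
    rw [bw1]
    simp only [one_pow, mul_one] at bw2' bw3
    rw [bw2', bw3]
    ring
  -- the product map
  let f : ↥(fixSub b ⊓ fixSub c : Subgroup P) × ↥(fixSub a ⊓ fixSub c : Subgroup P) ×
      ↥(fixSub a ⊓ fixSub b : Subgroup P) → P := fun t => (t.1 : P) * (t.2.1 : P) * (t.2.2 : P)
  have hf : Function.Injective f := by
    rintro ⟨x, y, z⟩ ⟨x', y', z'⟩ hxyz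
    have h' : (x : P) * y * z = x' * y' * z' := hxyz
    obtain ⟨hxb, hxc⟩ := Subgroup.mem_inf.mp x.2
    obtain ⟨hxb', hxc'⟩ := Subgroup.mem_inf.mp x'.2
    obtain ⟨hya, hyc⟩ := Subgroup.mem_inf.mp y.2
    obtain ⟨hya', hyc'⟩ := Subgroup.mem_inf.mp y'.2
    obtain ⟨hza, hzb⟩ := Subgroup.mem_inf.mp z.2
    obtain ⟨hza', hzb'⟩ := Subgroup.mem_inf.mp z'.2
    rw [mem_fixSub] at hxb hxc hxb' hxc' hya hyc hya' hyc' hza hzb hza' hzb'
    have hz : (z' : P) * (z : P)⁻¹ = 1 := by
      have e : (z' : P) * (z : P)⁻¹ = ((x' : P) * y')⁻¹ * (x * y) := by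
        rw [eq_inv_mul_iff_mul_eq, ← mul_assoc]
        exact (eq_mul_inv_of_mul_eq h').symm
      apply E0
      · rw [map_mul, map_inv, hza, hza']
      · rw [map_mul, map_inv, hzb, hzb']
      · rw [e, map_mul, map_inv, map_mul, map_mul, hxc, hxc', hyc, hyc']
    have hz' : (z' : P) = z := mul_inv_eq_one.mp hz
    rw [hz'] at h'
    have h'' : (x : P) * y = x' * y' := mul_right_cancel h'
    have hy : (y' : P) * (y : P)⁻¹ = 1 := by
      have e : (y' : P) * (y : P)⁻¹ = (x' : P)⁻¹ * x := by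
        rw [eq_inv_mul_iff_mul_eq, ← mul_assoc]
        exact (eq_mul_inv_of_mul_eq h'').symm
      apply E0
      · rw [map_mul, map_inv, hya, hya']
      · rw [e, map_mul, map_inv, hxb, hxb']
      · rw [map_mul, map_inv, hyc, hyc']
    have hy' : (y' : P) = y := mul_inv_eq_one.mp hy
    rw [hy'] at h''
    have hx' : (x : P) = x' := mul_right_cancel h''
    simp only [Prod.mk.injEq]
    exact ⟨Subtype.ext hx', Subtype.ext hy'.symm, Subtype.ext hz'.symm⟩
  have hbij : Function.Bijective f := by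
    apply hf.bijective_of_nat_card_le
    rw [Nat.card_prod, Nat.card_prod, hcard, mul_assoc]
  refine ⟨hcomm, ?_, ?_, hm⟩
  · rw [eq_top_iff]
    intro w _
    obtain ⟨⟨x, y, z⟩, rfl⟩ := hbij.2 w
    have hx : (x : P) ∈ Subgroup.zpowers g₁ := by
      rw [← hg₁]
      obtain ⟨hxb, hxc⟩ := Subgroup.mem_inf.mp x.2
      exact fix_mul hxb hxc
    have hy : (y : P) ∈ Subgroup.zpowers g₂ := by
      rw [← hg₂]
      obtain ⟨hya, hyc⟩ := Subgroup.mem_inf.mp y.2
      exact fix_mul hya hyc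
    have hz : (z : P) ∈ Subgroup.zpowers g₃ := by
      rw [← hg₃]
      obtain ⟨hza, hzb⟩ := Subgroup.mem_inf.mp z.2
      exact fix_mul hza hzb
    have l1 : Subgroup.zpowers g₁ ≤ Subgroup.closure {g₁, g₂, g₃} :=
      Subgroup.zpowers_le.mpr (Subgroup.subset_closure (by simp))
    have l2 : Subgroup.zpowers g₂ ≤ Subgroup.closure {g₁, g₂, g₃} :=
      Subgroup.zpowers_le.mpr (Subgroup.subset_closure (by simp))
    have l3 : Subgroup.zpowers g₃ ≤ Subgroup.closure {g₁, g₂, g₃} :=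
      Subgroup.zpowers_le.mpr (Subgroup.subset_closure (by simp))
    exact Subgroup.mul_mem _ (Subgroup.mul_mem _ (l1 hx) (l2 hy)) (l3 hz)
  · let _ : CommGroup P := { (inferInstance : Group P) with mul_comm := hcomm }
    have hne : ∀ (S T : Subgroup P), ¬ S ≤ T → S ≠ ⊥ := by
      intro S T hST hS
      exact hST (hS ▸ bot_le)
    refine not_two_gen hp hP (fixSub b ⊓ fixSub c) (fixSub a ⊓ fixSub c) (fixSub a ⊓ fixSub b)
      (hne _ _ hA) (hne _ _ hB) (hne _ _ hC) ?_
    intro x hx y hy z hz hxyz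
    have := @hf (⟨x, hx⟩, ⟨y, hy⟩, ⟨z, hz⟩) (1, 1, 1) (by simpa [f] using hxyz)
    simp only [Prod.mk.injEq] at this
    exact ⟨congrArg Subtype.val this.1, congrArg Subtype.val this.2.1,
      congrArg Subtype.val this.2.2⟩

end Struct

section Coord

/-- coordinates for an elementary abelian group of order eight -/
abbrev V3 := Fin 3 → ZMod 2

/-- `(x, y, z)` is a basis -/
def Indep (x y z : V3) : Prop :=
  x ≠ 0 ∧ y ≠ 0 ∧ y ≠ x ∧ z ≠ 0 ∧ z ≠ x ∧ z ≠ y ∧ z ≠ x + y

instance (x y z : V3) : Decidable (Indep x y z) := by unfold Indep; infer_instance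

/-- `v` lies in the span of `x, y` -/
def InSpan (v x y : V3) : Prop := v = 0 ∨ v = x ∨ v = y ∨ v = x + y

instance (v x y : V3) : Decidable (InSpan v x y) := by unfold InSpan; infer_instance

theorem add_self_v3 : ∀ u : V3, u + u = 0 := by decide

theorem indep_moves : ∀ t a b : V3, Indep t a b →
    Indep t a (a + b) ∧ Indep (a + t) a b ∧ Indep (t + b) a (a + b) ∧
      Indep t (b + a) b ∧ Indep (b + t) a b ∧ Indep (b + t) (b + a) b := by decide

theorem char_two_id : ∀ t a b : V3, a + b = t + b + (a + t) := by decide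

theorem indep_ne : ∀ x y z : V3, Indep x y z →
    x ≠ 0 ∧ y ≠ 0 ∧ z ≠ 0 ∧ x ≠ y ∧ x ≠ z ∧ y ≠ z ∧ x + y ≠ 0 ∧ x + z ≠ 0 ∧ y + z ≠ 0 := by
  decide

/-- `v` lies in the span of `x, y, z` -/
def InSpan3 (v x y z : V3) : Prop :=
  v = 0 ∨ v = x ∨ v = y ∨ v = z ∨ v = x + y ∨ v = x + z ∨ v = y + z ∨ v = x + y + z

instance (v x y z : V3) : Decidable (InSpan3 v x y z) := by unfold InSpan3; infer_instance

set_option maxRecDepth 100000 in
theorem indep_span : ∀ x y z v : V3, Indep x y z → InSpan3 v x y z := by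
  decide

theorem exists_coord {P : Type*} [Group P] (I : Subgroup (MulAut P))
    (hc : IsMulCommutative I) (h2 : ∀ a ∈ I, a ^ 2 = 1) (hI8 : Nat.card ↥I = 8) :
    ∃ τ : V3 → MulAut P, (∀ u v, τ (u + v) = τ u * τ v) ∧ Function.Injective τ ∧
      ∀ T, T ∈ I ↔ ∃ v, τ v = T := by
  let _ : CommGroup I := { (inferInstance : Group I) with mul_comm := hc.is_comm.comm }
  have : Finite I := Nat.finite_of_card_ne_zero (by rw [hI8]; norm_num)
  let _ : Module (ZMod 2) (Additive I) := AddCommGroup.zmodModule (by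
    intro x
    induction x using Additive.rec with | _ x => ?_
    rw [← ofMul_pow]
    have : x ^ 2 = 1 := by
      apply Subtype.ext
      simpa using h2 x.1 x.2
    rw [this]; rfl)
  have hfr : Module.finrank (ZMod 2) (Additive I) = 3 := by
    have h := Module.natCard_eq_pow_finrank (K := ZMod 2) (V := Additive I)
    have h8 : Nat.card (Additive I) = 8 := hI8
    rw [h8, Nat.card_zmod] at h
    have : (2 : ℕ) ^ 3 = 2 ^ Module.finrank (ZMod 2) (Additive I) := by rw [← h]; norm_num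
    exact (Nat.pow_right_injective (le_refl 2) this).symm
  let bas := Module.finBasisOfFinrankEq (ZMod 2) (Additive I) hfr
  let e := bas.equivFun
  refine ⟨fun v => ((Additive.toMul (e.symm v) : I) : MulAut P), ?_, ?_, ?_⟩
  · intro u v
    simp only [map_add, toMul_add, Subgroup.coe_mul]
  · intro u v huv
    have h1 : Additive.toMul (e.symm u) = Additive.toMul (e.symm v) := Subtype.ext huv
    exact e.symm.injective (Additive.toMul.injective h1)
  · intro T
    constructor
    · intro hT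
      refine ⟨e (Additive.ofMul ⟨T, hT⟩), ?_⟩
      simp
    · rintro ⟨v, rfl⟩
      exact (Additive.toMul (e.symm v)).2

variable {P : Type u} [Group P] (τ : V3 → MulAut P)

/-- the common fixed points -/
def FI : Subgroup P := ⨅ v, fixSub (τ v)

/-- the hyperplane spanned by `x, y` has extra fixed points -/
def Act (x y : V3) : Prop := ¬ fixSub (τ x) ⊓ fixSub (τ y) ≤ FI τ

variable {τ} (hadd : ∀ u v, τ (u + v) = τ u * τ v)

include hadd

theorem tau_zero : τ 0 = 1 := by
  have := hadd 0 0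
  rw [add_zero] at this
  exact (mul_eq_left.mp this.symm)

theorem tau_comm (u v : V3) : τ u * τ v = τ v * τ u := by
  rw [← hadd, ← hadd, add_comm]

theorem tau_sq (u : V3) : τ u ^ 2 = 1 := by
  rw [sq, ← hadd, add_self_v3, tau_zero hadd]

theorem le_of_inSpan {v x y : V3} (h : InSpan v x y) :
    fixSub (τ x) ⊓ fixSub (τ y) ≤ fixSub (τ v) := by
  rcases h with rfl | rfl | rfl | rfl
  · rw [tau_zero hadd, fixSub_one]; exact le_top
  · exact inf_le_left
  · exact inf_le_right
  · intro w hw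
    obtain ⟨h1, h2⟩ := Subgroup.mem_inf.mp hw
    rw [hadd]
    exact fix_mul h1 h2

theorem act_of_inSpan {x y x' y' : V3} (hx : InSpan x' x y) (hy : InSpan y' x y)
    (h : Act τ x y) : Act τ x' y' := by
  intro h'
  exact h ((le_inf (le_of_inSpan hadd hx) (le_of_inSpan hadd hy)).trans h')

theorem act_cases [Finite P] (hodd : ¬ 2 ∣ Nat.card P) (hinj : Function.Injective τ)
    (t a b : V3) (ht : t ≠ 0) :
    Act τ a b ∨ Act τ a (t + b) ∨ Act τ b (t + a) ∨ Act τ (a + b) (t + a) := by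
  by_contra hcon
  simp only [not_or, Act, not_not] at hcon
  obtain ⟨h1, h2, h3, h4⟩ := hcon
  have hle : FI τ ≤ fixSub (τ t) := iInf_le _ t
  apply ht
  apply hinj
  rw [tau_zero hadd]
  apply eq_one_of_le hodd (τ t) (τ a) (τ b) (tau_comm hadd _ _) (tau_comm hadd _ _)
    (tau_comm hadd _ _) (tau_sq hadd _) (tau_sq hadd _) (tau_sq hadd _) (h1.trans hle)
  · rw [← hadd]; exact h2.trans hle
  · rw [← hadd]; exact h3.trans hle
  · rw [← hadd, ← hadd]; exact h4.trans hle

theorem exists_frame [Finite P] (hodd : ¬ 2 ∣ Nat.card P) (hinj : Function.Injective τ) :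
    ∃ e₁ e₂ e₃ : V3, Indep e₁ e₂ e₃ ∧ Act τ e₂ e₃ ∧ Act τ e₁ e₃ ∧ Act τ e₁ e₂ := by
  -- step 1
  have s1 : ∃ t a b : V3, Indep t a b ∧ Act τ a b := by
    rcases act_cases hadd hodd hinj ![1, 0, 0] ![0, 1, 0] ![0, 0, 1] (by decide) with h | h | h | h
    · exact ⟨![1, 0, 0], _, _, by decide, h⟩
    · exact ⟨![1, 0, 0], _, _, by decide, h⟩
    · exact ⟨![1, 0, 0], _, _, by decide, h⟩
    · exact ⟨![1, 0, 0], _, _, by decide, h⟩
  obtain ⟨t, a, b, hI, hab⟩ := s1
  -- step 2
  have s2 : ∃ s x c : V3, Indep s x c ∧ Act τ x c ∧ Act τ s c := by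
    obtain ⟨m1, m2, m3, -, -, -⟩ := indep_moves t a b hI
    have ha0 : a ≠ 0 := hI.2.1
    have hab' : Act τ a (a + b) :=
      act_of_inSpan hadd (Or.inr (Or.inl rfl)) (Or.inr (Or.inr (Or.inr rfl))) hab
    rcases act_cases hadd hodd hinj a t b ha0 with h | h | h | h
    · exact ⟨t, a, b, hI, hab, h⟩
    · exact ⟨t, a, a + b, m1, hab', h⟩
    · exact ⟨a + t, a, b, m2, hab,
        act_of_inSpan hadd (Or.inr (Or.inr (Or.inl rfl))) (Or.inr (Or.inl rfl)) h⟩
    · exact ⟨t + b, a, a + b, m3, hab',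
        act_of_inSpan hadd (Or.inr (Or.inl rfl))
          (Or.inr (Or.inr (Or.inr (char_two_id t a b)))) h⟩
  obtain ⟨s, x, c, hI', hxc, hsc⟩ := s2
  obtain ⟨-, -, -, m4, m5, m6⟩ := indep_moves s x c hI'
  have hc0 : c ≠ 0 := hI'.2.2.2.1
  have hxc' : Act τ (c + x) c :=
    act_of_inSpan hadd (Or.inr (Or.inr (Or.inr (add_comm c x)))) (Or.inr (Or.inr (Or.inl rfl))) hxc
  have hsc' : Act τ (c + s) c :=
    act_of_inSpan hadd (Or.inr (Or.inr (Or.inr (add_comm c s)))) (Or.inr (Or.inr (Or.inl rfl))) hsc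
  rcases act_cases hadd hodd hinj c s x hc0 with h | h | h | h
  · exact ⟨s, x, c, hI', hxc, hsc, h⟩
  · exact ⟨s, c + x, c, m4, hxc', hsc, h⟩
  · exact ⟨c + s, x, c, m5, hxc, hsc',
      act_of_inSpan hadd (Or.inr (Or.inr (Or.inl rfl))) (Or.inr (Or.inl rfl)) h⟩
  · exact ⟨c + s, c + x, c, m6, hxc', hsc',
      act_of_inSpan hadd (Or.inr (Or.inr (Or.inl rfl)))
        (Or.inr (Or.inr (Or.inr (char_two_id s c x)))) h⟩

theorem le_FI {x y z : V3} (h : Indep x y z) :
    fixSub (τ x) ⊓ fixSub (τ y) ⊓ fixSub (τ z) ≤ FI τ := by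
  apply le_iInf
  intro v
  have hxy : fixSub (τ x) ⊓ fixSub (τ y) ⊓ fixSub (τ z) ≤ fixSub (τ (x + y)) :=
    inf_le_left.trans (le_of_inSpan hadd (Or.inr (Or.inr (Or.inr rfl))))
  rcases indep_span x y z v h with rfl | rfl | rfl | rfl | rfl | rfl | rfl | rfl
  · rw [tau_zero hadd, fixSub_one]; exact le_top
  · exact inf_le_left.trans inf_le_left
  · exact inf_le_left.trans inf_le_right
  · exact inf_le_right
  · exact hxy
  · exact (le_inf (inf_le_left.trans inf_le_left) inf_le_right).trans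
      (le_of_inSpan hadd (Or.inr (Or.inr (Or.inr rfl))))
  · exact (le_inf (inf_le_left.trans inf_le_right) inf_le_right).trans
      (le_of_inSpan hadd (Or.inr (Or.inr (Or.inr rfl))))
  · exact (le_inf hxy inf_le_right).trans (le_of_inSpan hadd (Or.inr (Or.inr (Or.inr rfl))))

end Coord

section Final

variable {P : Type u} [Group P]

/-- bookkeeping: the broad elements, their closure and their products -/
theorem final (I I₀ : Subgroup (MulAut P)) (hI₀ : I₀ < I) (B : MulAut P → Prop)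
    {a b c : MulAut P} (h : Tri a b c)
    (henum : ∀ T ∈ I, T = 1 ∨ T = a ∨ T = b ∨ T = c ∨ T = a * b ∨ T = a * c ∨ T = b * c ∨
      T = a * b * c)
    (hab0 : a * b ∈ I₀) (hac0 : a * c ∈ I₀) (hbc0 : b * c ∈ I₀)
    (hBa : B a) (hBb : B b) (hBc : B c) (hB1 : ¬ B 1) (hBab : ¬ B (a * b)) (hBac : ¬ B (a * c))
    (hBbc : ¬ B (b * c)) (hBabc : ¬ B (a * b * c)) (hBI : ∀ T, B T → T ∈ I)
    (hne : a ≠ b ∧ a ≠ c ∧ b ≠ c) (hprod : ∀ T T', B T → B T' → T * T' ∈ I₀) :
    Nat.card {T // B T} = 3 ∧ Subgroup.closure {T | B T} = I ∧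
      (I₀ : Set (MulAut P)) = {S | ∃ T T', B T ∧ B T' ∧ S = T * T'} := by
  have sqa : a * a = 1 := by rw [← sq]; exact h.a2
  have sqb : b * b = 1 := by rw [← sq]; exact h.b2
  have sqc : c * c = 1 := by rw [← sq]; exact h.c2
  have hB_iff : ∀ T, B T ↔ T = a ∨ T = b ∨ T = c := by
    intro T
    constructor
    · intro hT
      rcases henum T (hBI T hT) with rfl | rfl | rfl | rfl | rfl | rfl | rfl | rfl
      · exact absurd hT hB1
      · exact Or.inl rfl
      · exact Or.inr (Or.inl rfl)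
      · exact Or.inr (Or.inr rfl)
      · exact absurd hT hBab
      · exact absurd hT hBac
      · exact absurd hT hBbc
      · exact absurd hT hBabc
    · rintro (rfl | rfl | rfl)
      · exact hBa
      · exact hBb
      · exact hBc
  have haI := hBI a hBa
  have hbI := hBI b hBb
  have hcI := hBI c hBc
  have hI_le : a ∈ I₀ → b ∈ I₀ → c ∈ I₀ → False := by
    intro h1 h2 h3
    apply hI₀.not_ge
    intro T hT
    rcases henum T hT with rfl | rfl | rfl | rfl | rfl | rfl | rfl | rfl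
    · exact I₀.one_mem
    · exact h1
    · exact h2
    · exact h3
    · exact I₀.mul_mem h1 h2
    · exact I₀.mul_mem h1 h3
    · exact I₀.mul_mem h2 h3
    · exact I₀.mul_mem (I₀.mul_mem h1 h2) h3
  have ha0 : a ∉ I₀ := by
    intro h1
    have hb : b ∈ I₀ := by
      have := I₀.mul_mem h1 hab0
      rwa [← mul_assoc, sqa, one_mul] at this
    have hc : c ∈ I₀ := by
      have := I₀.mul_mem h1 hac0
      rwa [← mul_assoc, sqa, one_mul] at this
    exact hI_le h1 hb hc
  have hb0 : b ∉ I₀ := by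
    intro h1
    have := I₀.mul_mem hab0 h1
    rw [mul_assoc, sqb, mul_one] at this
    exact ha0 this
  have hc0 : c ∉ I₀ := by
    intro h1
    have := I₀.mul_mem hac0 h1
    rw [mul_assoc, sqc, mul_one] at this
    exact ha0 this
  have habc0 : a * b * c ∉ I₀ := by
    intro h1
    have := I₀.mul_mem h1 hbc0
    have e : a * b * c * (b * c) = a := by
      have hbc2 : (b * c) * (b * c) = 1 := by
        rw [← sq, (show Commute b c from h.bc).mul_pow, h.b2, h.c2, one_mul]
      rw [mul_assoc a b c, mul_assoc a, hbc2, mul_one]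
    rw [e] at this
    exact ha0 this
  refine ⟨?_, ?_, ?_⟩
  · have hset : {T | B T} = ({a, b, c} : Set (MulAut P)) := by
      ext T
      simp only [Set.mem_ofPred_eq, Set.mem_insert_iff, Set.mem_singleton_iff]
      exact hB_iff T
    have h3 : ({a, b, c} : Set (MulAut P)).ncard = 3 :=
      Set.ncard_eq_three.mpr ⟨a, b, c, hne.1, hne.2.1, hne.2.2, rfl⟩
    have : Nat.card {T // B T} = Nat.card ↥{T | B T} := rfl
    rw [this, hset, Nat.card_coe_set_eq, h3]
  · apply le_antisymm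
    · rw [Subgroup.closure_le]
      intro T hT
      exact hBI T hT
    · intro T hT
      have ha' : a ∈ Subgroup.closure {T | B T} := Subgroup.subset_closure hBa
      have hb' : b ∈ Subgroup.closure {T | B T} := Subgroup.subset_closure hBb
      have hc' : c ∈ Subgroup.closure {T | B T} := Subgroup.subset_closure hBc
      rcases henum T hT with rfl | rfl | rfl | rfl | rfl | rfl | rfl | rfl
      · exact Subgroup.one_mem _
      · exact ha'
      · exact hb'
      · exact hc'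
      · exact Subgroup.mul_mem _ ha' hb'
      · exact Subgroup.mul_mem _ ha' hc'
      · exact Subgroup.mul_mem _ hb' hc'
      · exact Subgroup.mul_mem _ (Subgroup.mul_mem _ ha' hb') hc'
  · ext S
    simp only [SetLike.mem_coe, Set.mem_ofPred_eq]
    constructor
    · intro hS
      rcases henum S (hI₀.le hS) with rfl | rfl | rfl | rfl | rfl | rfl | rfl | rfl
      · exact ⟨a, a, hBa, hBa, sqa.symm⟩
      · exact absurd hS ha0
      · exact absurd hS hb0
      · exact absurd hS hc0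
      · exact ⟨a, b, hBa, hBb, rfl⟩
      · exact ⟨a, c, hBa, hBc, rfl⟩
      · exact ⟨b, c, hBb, hBc, rfl⟩
      · exact absurd hS habc0
    · rintro ⟨T, T', hT, hT', rfl⟩
      exact hprod T T' hT hT'

end Final

end Cfsg.Agent.Helper21.TwoCube
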